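import Cfsg.Agent.Lib.Clifford.AltSchur
import Mathlib.GroupTheory.PresentedGroup

/-!
# Tools for short presentations
-/

set_option autoImplicit false

namespace CfsgLib.Pres.Short

universe u

/-- A presentation from a list of relators and a bound on the groups satisfying them. -/
theorem presented {k : ℕ} {T : Type} [Group T] [Finite T] (t : Fin k → T)
    (hgen : Subgroup.closure (Set.range t) = ⊤)
    (L : List (FreeGroup (Fin k))) (hold : ∀ e ∈ L, FreeGroup.lift t e = 1)
    (hbound : ∀ (G : Type) [Group G] (π : FreeGroup (Fin k) →* G), Function.Surjective π →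
      (∀ e ∈ L, π e = 1) → ∀ φ : G →* T, (∀ w, φ (π w) = FreeGroup.lift t w) →
      Finite G ∧ Nat.card G ≤ Nat.card T) :
    ∃ rels : Finset (FreeGroup (Fin k)), rels.card ≤ L.length ∧
      ∃ e : PresentedGroup (↑rels : Set (FreeGroup (Fin k))) ≃* T,
        ∀ i, e (PresentedGroup.of i) = t i := by
  classical
  refine ⟨L.toFinset, List.toFinset_card_le _, ?_⟩
  set rels : Set (FreeGroup (Fin k)) := ↑L.toFinset with hrels
  have hrel : ∀ r ∈ rels, FreeGroup.lift t r = 1 := fun r hr =>
    hold r (List.mem_toFinset.1 hr)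
  let Φ : PresentedGroup rels →* T := PresentedGroup.toGroup hrel
  have hsurj : Function.Surjective Φ := by
    rw [← MonoidHom.range_eq_top, ← top_le_iff, ← hgen, Subgroup.closure_le]
    rintro _ ⟨i, rfl⟩
    exact ⟨PresentedGroup.of i, PresentedGroup.toGroup.of hrel⟩
  have hφ : Φ.comp (PresentedGroup.mk rels) = FreeGroup.lift t :=
    FreeGroup.ext_hom _ _ fun i => by
      rw [MonoidHom.comp_apply, FreeGroup.lift_apply_of]
      exact PresentedGroup.toGroup.of hrel
  obtain ⟨hfin, hcard⟩ := hbound (PresentedGroup rels) (PresentedGroup.mk rels)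
    (PresentedGroup.mk_surjective rels)
    (fun e he => PresentedGroup.one_of_mem (List.mem_toFinset.2 he)) Φ
    (fun w => congrArg (fun ψ : FreeGroup (Fin k) →* T => ψ w) hφ)
  exact ⟨MulEquiv.ofBijective Φ ((Nat.bijective_iff_surjective_and_card Φ).2
    ⟨hsurj, le_antisymm hcard (Nat.card_le_card_of_surjective _ hsurj)⟩),
    fun i => PresentedGroup.toGroup.of hrel⟩

/-- Moving a presentation to another generating tuple costs one relator per new generator. -/
theorem transfer {k l : ℕ} {T : Type} [Group T] (t : Fin k → T) (s : Fin l → T)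
    (hs : Subgroup.closure (Set.range s) = ⊤)
    (rels : Finset (FreeGroup (Fin k))) (e : PresentedGroup (↑rels : Set (FreeGroup (Fin k))) ≃* T)
    (he : ∀ i, e (PresentedGroup.of i) = t i) :
    ∃ rels' : Finset (FreeGroup (Fin l)), rels'.card ≤ rels.card + l ∧
      ∃ e' : PresentedGroup (↑rels' : Set (FreeGroup (Fin l))) ≃* T,
        ∀ j, e' (PresentedGroup.of j) = s j := by
  classical
  have hsur : Function.Surjective (FreeGroup.lift s : FreeGroup (Fin l) →* T) := by
    rw [← MonoidHom.range_eq_top, FreeGroup.range_lift_eq_closure, hs]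
  choose S hS using fun i => hsur (t i)
  let θ : FreeGroup (Fin k) →* FreeGroup (Fin l) := FreeGroup.lift S
  have he' : e.toMonoidHom.comp (PresentedGroup.mk (↑rels : Set (FreeGroup (Fin k)))) =
      FreeGroup.lift t :=
    FreeGroup.ext_hom _ _ fun i => by
      rw [MonoidHom.comp_apply, FreeGroup.lift_apply_of]
      exact he i
  have hθ : (FreeGroup.lift s).comp θ = FreeGroup.lift t :=
    FreeGroup.ext_hom _ _ fun i => by
      rw [MonoidHom.comp_apply, FreeGroup.lift_apply_of, FreeGroup.lift_apply_of, hS]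
  choose A hA using fun j => (e.toMonoidHom.comp
    (PresentedGroup.mk (↑rels : Set (FreeGroup (Fin k))))).range_eq_top.1
      (MonoidHom.range_eq_top.2 (e.surjective.comp (PresentedGroup.mk_surjective _))) |> fun h => h (s j)
  rw [he'] at hA
  let R' : Finset (FreeGroup (Fin l)) :=
    rels.image θ ∪ Finset.univ.image fun j => θ (A j) * (FreeGroup.of j)⁻¹
  refine ⟨R', ?_, ?_⟩
  · refine (Finset.card_union_le _ _).trans (Nat.add_le_add Finset.card_image_le ?_)
    exact Finset.card_image_le.trans (le_of_eq (Finset.card_fin l))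
  have hθ' : ∀ w, FreeGroup.lift s (θ w) = FreeGroup.lift t w := fun w =>
    congrArg (fun ψ : FreeGroup (Fin k) →* T => ψ w) hθ
  have hrel' : ∀ r ∈ (↑R' : Set (FreeGroup (Fin l))), FreeGroup.lift s r = 1 := by
    intro r hr
    rw [Finset.mem_coe, Finset.mem_union, Finset.mem_image, Finset.mem_image] at hr
    rcases hr with ⟨w, hw, rfl⟩ | ⟨j, -, rfl⟩
    · rw [hθ', ← he', MonoidHom.comp_apply, PresentedGroup.one_of_mem hw, map_one]
    · rw [map_mul, map_inv, hθ', hA, FreeGroup.lift_apply_of, mul_inv_cancel]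
  let Φ : PresentedGroup (↑R' : Set (FreeGroup (Fin l))) →* T := PresentedGroup.toGroup hrel'
  let S' : Fin k → PresentedGroup (↑R' : Set (FreeGroup (Fin l))) := fun i =>
    PresentedGroup.mk _ (S i)
  have hS' : ∀ w, FreeGroup.lift S' w = PresentedGroup.mk (↑R' : Set (FreeGroup (Fin l))) (θ w) :=
    fun w => congrArg (fun ψ : FreeGroup (Fin k) →* _ => ψ w)
      (show FreeGroup.lift S' = (PresentedGroup.mk _).comp θ from
        FreeGroup.ext_hom _ _ fun i => by
          rw [MonoidHom.comp_apply, FreeGroup.lift_apply_of, FreeGroup.lift_apply_of])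
  let Ψ : PresentedGroup (↑rels : Set (FreeGroup (Fin k))) →*
      PresentedGroup (↑R' : Set (FreeGroup (Fin l))) :=
    PresentedGroup.toGroup (f := S') fun r hr => by
      rw [hS']
      exact PresentedGroup.one_of_mem
        (Finset.mem_union_left _ (Finset.mem_image.2 ⟨r, hr, rfl⟩))
  let Χ : T →* PresentedGroup (↑R' : Set (FreeGroup (Fin l))) := Ψ.comp e.symm.toMonoidHom
  have hleft : Χ.comp Φ = MonoidHom.id _ := by
    refine PresentedGroup.ext fun j => ?_
    show Ψ (e.symm (Φ (PresentedGroup.of j))) = PresentedGroup.of j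
    rw [show Φ (PresentedGroup.of j) = s j from PresentedGroup.toGroup.of hrel', ← hA j, ← he']
    show Ψ (e.symm (e (PresentedGroup.mk _ (A j)))) = _
    rw [MulEquiv.symm_apply_apply]
    show FreeGroup.lift S' (A j) = _
    rw [hS']
    exact PresentedGroup.mk_eq_mk_of_mul_inv_mem
      (Finset.mem_union_right _ (Finset.mem_image.2 ⟨j, Finset.mem_univ _, rfl⟩))
  have hsurj : Function.Surjective Φ := by
    rw [← MonoidHom.range_eq_top, ← top_le_iff, ← hs, Subgroup.closure_le]
    rintro _ ⟨i, rfl⟩
    exact ⟨PresentedGroup.of i, PresentedGroup.toGroup.of hrel'⟩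
  exact ⟨MulEquiv.ofBijective Φ ⟨Function.LeftInverse.injective
    (g := Χ) (fun q => congrArg (fun ψ : _ →* _ => ψ q) hleft), hsurj⟩,
    fun j => PresentedGroup.toGroup.of hrel'⟩

/-- An extra trivial generator costs one relator. -/
theorem addOne {k : ℕ} {T : Type} [Group T] (t : Fin k → T)
    (rels : Finset (FreeGroup (Fin k))) (e : PresentedGroup (↑rels : Set (FreeGroup (Fin k))) ≃* T)
    (he : ∀ i, e (PresentedGroup.of i) = t i) :
    ∃ rels' : Finset (FreeGroup (Fin (k + 1))), rels'.card ≤ rels.card + 1 ∧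
      Nonempty (PresentedGroup (↑rels' : Set (FreeGroup (Fin (k + 1)))) ≃* T) := by
  classical
  let θ : FreeGroup (Fin k) →* FreeGroup (Fin (k + 1)) :=
    FreeGroup.lift fun i => FreeGroup.of i.castSucc
  let R' : Finset (FreeGroup (Fin (k + 1))) := insert (FreeGroup.of (Fin.last k)) (rels.image θ)
  refine ⟨R', (Finset.card_insert_le _ _).trans (Nat.add_le_add_right Finset.card_image_le 1), ?_⟩
  let f : Fin (k + 1) → PresentedGroup (↑rels : Set (FreeGroup (Fin k))) :=
    Fin.snoc (fun i => PresentedGroup.of i) 1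
  have hf : (FreeGroup.lift f).comp θ = PresentedGroup.mk (↑rels : Set (FreeGroup (Fin k))) :=
    FreeGroup.ext_hom _ _ fun i => by
      rw [MonoidHom.comp_apply, FreeGroup.lift_apply_of, FreeGroup.lift_apply_of]
      simp [f]
      rfl
  let Φ : PresentedGroup (↑R' : Set (FreeGroup (Fin (k + 1)))) →*
      PresentedGroup (↑rels : Set (FreeGroup (Fin k))) :=
    PresentedGroup.toGroup (f := f) fun r hr => by
      rw [Finset.mem_coe, Finset.mem_insert, Finset.mem_image] at hr
      rcases hr with rfl | ⟨w, hw, rfl⟩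
      · rw [FreeGroup.lift_apply_of]
        simp [f]
      · rw [← MonoidHom.comp_apply, hf]
        exact PresentedGroup.one_of_mem hw
  let S' : Fin k → PresentedGroup (↑R' : Set (FreeGroup (Fin (k + 1)))) := fun i =>
    PresentedGroup.of i.castSucc
  have hS' : FreeGroup.lift S' = (PresentedGroup.mk (↑R' : Set (FreeGroup (Fin (k + 1))))).comp θ :=
    FreeGroup.ext_hom _ _ fun i => by
      rw [MonoidHom.comp_apply, FreeGroup.lift_apply_of, FreeGroup.lift_apply_of]
      rfl
  let Ψ : PresentedGroup (↑rels : Set (FreeGroup (Fin k))) →*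
      PresentedGroup (↑R' : Set (FreeGroup (Fin (k + 1)))) :=
    PresentedGroup.toGroup (f := S') fun r hr => by
      rw [hS']
      exact PresentedGroup.one_of_mem (Finset.mem_insert_of_mem (Finset.mem_image.2 ⟨r, hr, rfl⟩))
  have h1 : Ψ.comp Φ = MonoidHom.id _ := by
    refine PresentedGroup.ext fun j => ?_
    show Ψ (Φ (PresentedGroup.of j)) = PresentedGroup.of j
    rw [show Φ (PresentedGroup.of j) = f j from PresentedGroup.toGroup.of _]
    induction j using Fin.lastCases with
    | last =>
      simp only [f, Fin.snoc_last, map_one]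
      exact (PresentedGroup.one_of_mem (Finset.mem_insert_self _ _)).symm
    | cast i =>
      simp only [f, Fin.snoc_castSucc]
      exact PresentedGroup.toGroup.of _
  have h2 : Φ.comp Ψ = MonoidHom.id _ := by
    refine PresentedGroup.ext fun i => ?_
    show Φ (Ψ (PresentedGroup.of i)) = PresentedGroup.of i
    rw [show Ψ (PresentedGroup.of i) = S' i from PresentedGroup.toGroup.of _]
    show Φ (PresentedGroup.of i.castSucc) = _
    rw [show Φ (PresentedGroup.of i.castSucc) = f i.castSucc from PresentedGroup.toGroup.of _]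
    simp [f]
  exact ⟨(MonoidHom.toMulEquiv Φ Ψ h1 h2).trans e⟩

/-! ### Carmichael's bound for arbitrary groups -/

theorem carmichael_finite {K : Type u} [Group K] : ∀ (m : ℕ) (x : Fin m → K),
    (∀ i, x i ^ 3 = 1) → (∀ i j, i ≠ j → (x i * x j) * (x i * x j) = 1) →
      Finite (Subgroup.closure (Set.range x)) := by
  intro m
  induction m with
  | zero =>
    intro x _ _
    rw [Set.range_eq_empty x, Subgroup.closure_empty]
    infer_instance
  | succ m ih =>
    intro x h3 h2
    classical
    set y := x (Fin.last m) with hy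
    set H := Subgroup.closure (Set.range fun i : Fin m => x i.castSucc) with hH
    have hHfin : Finite H := ih (fun i => x i.castSucc) (fun i => h3 _)
      (fun i j hij => h2 _ _ fun e => hij (Fin.castSucc_injective _ e))
    let r : Fin 3 ⊕ Fin m → K := Sum.elim (fun k => y ^ (k : ℕ)) (fun j => y ^ 2 * x j.castSucc)
    let S : Set K := Set.range fun p : H × (Fin 3 ⊕ Fin m) => (p.1 : K) * r p.2
    have hy3 : y ^ 3 = 1 := h3 _
    have hinv : ∀ i, (x i)⁻¹ = x i * x i := fun i => by
      rw [inv_eq_iff_mul_eq_one, ← mul_assoc, ← pow_two, ← pow_succ]; exact h3 i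
    have hflip : ∀ i j, i ≠ j → x i * x j = (x j)⁻¹ * (x i)⁻¹ := fun i j hij => by
      rw [← mul_inv_rev]; exact eq_inv_of_mul_eq_one_left (h2 i j hij)
    have hmemH : ∀ j : Fin m, x j.castSucc ∈ H := fun j => Subgroup.subset_closure ⟨j, rfl⟩
    have hne : ∀ j : Fin m, j.castSucc ≠ Fin.last m := fun j => (Fin.castSucc_lt_last j).ne
    have hyy : y⁻¹ = y * y := hinv _
    have e3 : ∀ j : Fin m, (x j.castSucc)⁻¹ = y * x j.castSucc * y := fun j => by
      refine inv_eq_of_mul_eq_one_right ?_
      have := h2 _ _ (hne j)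
      rw [← hy] at this
      simpa [mul_assoc] using this
    have e5 : ∀ j : Fin m, y * x j.castSucc = (x j.castSucc)⁻¹ * y⁻¹ := fun j =>
      hflip _ _ (hne j).symm
    have e2 : ∀ k : Fin m, x k.castSucc * y = y⁻¹ * (x k.castSucc)⁻¹ := fun k =>
      hflip _ _ (hne k)
    have key : ∀ (s : Fin 3 ⊕ Fin m) (i : Fin (m + 1)), ∃ h ∈ H, ∃ t, r s * x i = h * r t := by
      intro s i
      rcases Fin.eq_castSucc_or_eq_last i with ⟨k, rfl⟩ | rfl
      · rcases s with s | j
        · fin_cases s
          · refine ⟨x k.castSucc, hmemH k, .inl 0, ?_⟩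
            simp [r]
          · refine ⟨(x k.castSucc)⁻¹, inv_mem (hmemH k), .inl 2, ?_⟩
            simp only [r, Sum.elim_inl, Fin.isValue, pow_one]
            rw [hflip _ _ (hne k).symm, show x (Fin.last m) = y from rfl, hyy]
            simp [pow_two]
          · refine ⟨1, one_mem _, .inr k, ?_⟩
            simp [r]
        · by_cases hjk : j = k
          · subst hjk
            refine ⟨x j.castSucc, hmemH j, .inl 1, ?_⟩
            simp only [r, Sum.elim_inl, Sum.elim_inr, Fin.isValue, Fin.val_one, pow_one, pow_two,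
              mul_assoc]
            rw [← hinv j.castSucc, ← mul_assoc, ← hyy, e2]
          · refine ⟨x k.castSucc * (x j.castSucc)⁻¹, mul_mem (hmemH k) (inv_mem (hmemH j)),
              .inr j, ?_⟩
            have hjk' : j.castSucc ≠ k.castSucc := fun e => hjk (Fin.castSucc_injective _ e)
            have e4 : y⁻¹ * (x k.castSucc)⁻¹ * (x j.castSucc)⁻¹ =
                x k.castSucc * (y * (x j.castSucc)⁻¹) := by
              rw [← mul_assoc, e2]
            calc r (.inr j) * x k.castSucc = y⁻¹ * (x j.castSucc * x k.castSucc) := by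
                  simp only [r, Sum.elim_inr]; rw [hyy, pow_two]; simp [mul_assoc]
              _ = y⁻¹ * (x k.castSucc)⁻¹ * (x j.castSucc)⁻¹ := by
                  rw [hflip _ _ hjk', mul_assoc]
              _ = x k.castSucc * (y * (x j.castSucc)⁻¹) := e4
              _ = x k.castSucc * (x j.castSucc)⁻¹ * (y⁻¹ * x j.castSucc) := by
                  rw [mul_assoc]
                  congr 1
                  rw [← mul_assoc, ← e5, hinv, mul_assoc]
              _ = _ := by simp only [r, Sum.elim_inr]; rw [hyy, pow_two]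
      · rcases s with s | j
        · fin_cases s
          · exact ⟨1, one_mem _, .inl 1, by simp [r, hy]⟩
          · exact ⟨1, one_mem _, .inl 2, by simp [r, hy, pow_two]⟩
          · exact ⟨1, one_mem _, .inl 0, by
              simp only [r, Sum.elim_inl, Fin.isValue, one_mul]
              rw [← hy]
              simpa [← pow_succ] using hy3⟩
        · refine ⟨(x j.castSucc)⁻¹, inv_mem (hmemH j), .inr j, ?_⟩
          simp only [r, Sum.elim_inr]
          rw [show y ^ 2 = y⁻¹ by rw [hyy, pow_two]]
          show y⁻¹ * x j.castSucc * y = (x j.castSucc)⁻¹ * (y⁻¹ * x j.castSucc)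
          calc y⁻¹ * x j.castSucc * y = y⁻¹ * (x j.castSucc * y) := mul_assoc _ _ _
            _ = y * (x j.castSucc)⁻¹ := by
                rw [e2, ← mul_assoc, ← mul_inv_rev, ← hyy, inv_inv]
            _ = y * x j.castSucc * x j.castSucc := by rw [hinv, mul_assoc]
            _ = _ := by rw [e3]; group
    have hS : (↑(Subgroup.closure (Set.range x)) : Set K) ⊆ S := by
      intro g hg
      induction hg using Subgroup.closure_induction_right with
      | one => exact ⟨⟨1, .inl 0⟩, by simp [r]⟩
      | mul_right z hz w hw hwS =>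
        obtain ⟨i, rfl⟩ := hw
        obtain ⟨⟨h, s⟩, rfl⟩ := hwS
        obtain ⟨h', hh', t, e⟩ := key s i
        exact ⟨⟨h * ⟨h', hh'⟩, t⟩, by simp [mul_assoc, e]⟩
      | mul_inv_cancel z hz w hw hwS =>
        obtain ⟨i, rfl⟩ := hw
        obtain ⟨⟨h, s⟩, rfl⟩ := hwS
        obtain ⟨h', hh', t, e⟩ := key s i
        obtain ⟨h'', hh'', t', e'⟩ := key t i
        exact ⟨⟨h * ⟨h', hh'⟩ * ⟨h'', hh''⟩, t'⟩, by
          simp only [hinv, Subgroup.coe_mul, mul_assoc]
          rw [← e', ← mul_assoc h' (r t), ← e, mul_assoc]⟩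
    exact ((Set.finite_range _).subset hS).to_subtype

/-- Carmichael's bound, with finiteness. -/
theorem carmichael {K : Type u} [Group K] {ι : Type*} [Fintype ι] (X : ι → K)
    (h3 : ∀ i, X i ^ 3 = 1) (h2 : ∀ i j, i ≠ j → (X i * X j) * (X i * X j) = 1) :
    Finite (Subgroup.closure (Set.range X)) ∧
      2 * Nat.card (Subgroup.closure (Set.range X)) ≤ (Fintype.card ι + 2).factorial := by
  let e := (Fintype.equivFin ι).symm
  have hr : Set.range X = Set.range (X ∘ e) := by
    rw [Set.range_comp, e.surjective.range_eq, Set.image_univ]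
  rw [hr]
  have hfin : Finite (Subgroup.closure (Set.range (X ∘ e))) := carmichael_finite _ _
    (fun i => h3 _) (fun i j hij => h2 _ _ fun h => hij (e.injective h))
  refine ⟨hfin, ?_⟩
  let H := Subgroup.closure (Set.range (X ∘ e))
  let Y : Fin (Fintype.card ι) → H := fun i => ⟨X (e i), Subgroup.subset_closure ⟨i, rfl⟩⟩
  have hY : Subgroup.closure (Set.range Y) = ⊤ := by
    refine Subgroup.map_injective H.subtype_injective ?_
    rw [MonoidHom.map_closure, ← Set.range_comp, ← MonoidHom.range_eq_map, Subgroup.range_subtype]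
    rfl
  have hb := CfsgLib.Clifford.AltSchur.carmichael_bound _ Y (fun i => Subtype.ext (h3 _))
    (fun i j hij => Subtype.ext (h2 _ _ fun h => hij (e.injective h)))
  rw [hY, Subgroup.card_top] at hb
  exact hb

end CfsgLib.Pres.Short
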