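import Cfsg.Agent.Lib.Pres.SpFourModel
import Cfsg.Agent.Lib.Pres.ShortTools

/-!
# Short presentations of `Sp₄` and `PSp₄`
-/

set_option autoImplicit false

namespace CfsgLib.Pres

open Matrix
open scoped MatrixGroups
open CfsgLib.Classical (uElt uElt_val uElt_add)

/-- Dividing by a cyclic kernel costs one relator. -/
theorem quotientOne {k : ℕ} {T Q : Type*} [Group T] [Group Q] (rels : Finset (FreeGroup (Fin k)))
    (e : PresentedGroup (↑rels : Set (FreeGroup (Fin k))) ≃* T) (π : T →* Q) (hπ : Function.Surjective π) (z : T)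
    (hz : π.ker = Subgroup.zpowers z) :
    ∃ rels' : Finset (FreeGroup (Fin k)), rels'.card ≤ rels.card + 1 ∧
      Nonempty (PresentedGroup (↑rels' : Set (FreeGroup (Fin k))) ≃* Q) := by
  classical
  obtain ⟨w, hw⟩ := PresentedGroup.mk_surjective (↑rels : Set (FreeGroup (Fin k))) (e.symm z)
  refine ⟨insert w rels, Finset.card_insert_le _ _, ?_⟩
  let f : Fin k → Q := fun i => π (e (PresentedGroup.of i))
  have hf : ∀ r, FreeGroup.lift f r = π (e (PresentedGroup.mk (↑rels : Set (FreeGroup (Fin k))) r)) := fun r =>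
    congrArg (fun ψ : FreeGroup (Fin k) →* Q => ψ r)
      (show FreeGroup.lift f = (π.comp e.toMonoidHom).comp (PresentedGroup.mk _) from
        FreeGroup.ext_hom _ _ fun i => by rw [FreeGroup.lift_apply_of]; rfl)
  have hz1 : π z = 1 := by
    rw [← MonoidHom.mem_ker, hz]
    exact Subgroup.mem_zpowers z
  let Φ : PresentedGroup (↑(insert w rels) : Set (FreeGroup (Fin k))) →* Q :=
    PresentedGroup.toGroup (f := f) fun r hr => by
      rw [Finset.mem_coe, Finset.mem_insert] at hr
      rw [hf]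
      rcases hr with rfl | hr
      · rw [hw, MulEquiv.apply_symm_apply, hz1]
      · rw [PresentedGroup.one_of_mem hr, map_one, map_one]
  have hΦ : ∀ r, Φ (PresentedGroup.mk _ r) = π (e (PresentedGroup.mk (↑rels : Set (FreeGroup (Fin k))) r)) :=
    fun r => (show Φ (PresentedGroup.mk _ r) = FreeGroup.lift f r from rfl).trans (hf r)
  refine ⟨MulEquiv.ofBijective Φ ⟨(injective_iff_map_eq_one Φ).2 fun g hg => ?_, fun q => ?_⟩⟩
  · obtain ⟨r, rfl⟩ := PresentedGroup.mk_surjective _ g
    rw [hΦ, ← MonoidHom.mem_ker, hz] at hg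
    obtain ⟨j, hj⟩ := hg
    have hj' : PresentedGroup.mk (↑rels : Set (FreeGroup (Fin k))) r =
        PresentedGroup.mk (↑rels : Set (FreeGroup (Fin k))) (w ^ j) := by
      refine e.injective ?_
      rw [← hj, map_zpow, hw, map_zpow, MulEquiv.apply_symm_apply]
    let Ψ : PresentedGroup (↑rels : Set (FreeGroup (Fin k))) →*
        PresentedGroup (↑(insert w rels) : Set (FreeGroup (Fin k))) :=
      PresentedGroup.toGroup (f := fun i => PresentedGroup.of i) fun r hr => by
        rw [show FreeGroup.lift (fun i => PresentedGroup.of i) r =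
          PresentedGroup.mk (↑(insert w rels) : Set (FreeGroup (Fin k))) r from
          congrArg (fun ψ : FreeGroup (Fin k) →* _ => ψ r)
            (FreeGroup.ext_hom _ _ fun i => by rw [FreeGroup.lift_apply_of]; rfl)]
        exact PresentedGroup.one_of_mem (Finset.mem_insert_of_mem hr)
    have hΨ : ∀ r, Ψ (PresentedGroup.mk _ r) = PresentedGroup.mk (↑(insert w rels) : Set (FreeGroup (Fin k))) r :=
      fun r => congrArg (fun ψ : FreeGroup (Fin k) →* _ => ψ r)
        (show Ψ.comp (PresentedGroup.mk _) = PresentedGroup.mk _ from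
          FreeGroup.ext_hom _ _ fun i => by simp only [Ψ, MonoidHom.comp_apply]; exact PresentedGroup.toGroup.of _)
    have := congrArg Ψ hj'
    rw [hΨ, hΨ, map_zpow, PresentedGroup.one_of_mem (Finset.mem_insert_self w rels), _root_.one_zpow] at this
    exact this
  · obtain ⟨t, rfl⟩ := hπ q
    obtain ⟨r, hr⟩ := PresentedGroup.mk_surjective (↑rels : Set (FreeGroup (Fin k))) (e.symm t)
    exact ⟨PresentedGroup.mk _ r, by rw [hΦ, hr, MulEquiv.apply_symm_apply]⟩

namespace SpFour

/-- Words in six letters. -/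
abbrev W6 := FreeGroup (Fin 6)

/-- The first three letters. -/
def inA : W3 →* W6 := FreeGroup.map (Fin.castAdd 3)

/-- The last three letters. -/
def inB : W3 →* W6 := FreeGroup.map (Fin.natAdd 3)

/-- `Sp₄` has six generators and thirty-one relators. -/
theorem sp_four_pres (F : Type*) [Field F] [Fintype F] :
    ∃ rels : Finset W6, rels.card ≤ 31 ∧
      Nonempty (PresentedGroup (↑rels : Set W6) ≃* Matrix.symplecticGroup (Fin 2) F) := by
  classical
  obtain ⟨rels₂, hr₂, ⟨e⟩⟩ := (presentations F).1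
  obtain ⟨ω, hω⟩ := IsCyclic.exists_generator (α := Fˣ)
  let g : Fin 3 → SL(2, F) := fun i => e (PresentedGroup.of i)
  have hlift : ∀ w, FreeGroup.lift g w = e (PresentedGroup.mk _ w) := fun w =>
    congrArg (fun ψ : W3 →* SL(2, F) => ψ w)
      (show FreeGroup.lift g = e.toMonoidHom.comp (PresentedGroup.mk _) from
        FreeGroup.ext_hom _ _ fun i => by rw [FreeGroup.lift_apply_of]; rfl)
  have hrels₂ : ∀ r ∈ rels₂, FreeGroup.lift g r = 1 := fun r hr => by
    rw [hlift, PresentedGroup.one_of_mem hr, map_one]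
  choose wd hwd using fun M : SL(2, F) =>
    PresentedGroup.mk_surjective (↑rels₂ : Set W3) (e.symm M)
  have hwd' : ∀ M, FreeGroup.lift g (wd M) = M := fun M => by rw [hlift, hwd, MulEquiv.apply_symm_apply]
  have hgen : Subgroup.closure (Set.range g) = ⊤ := by
    rw [← FreeGroup.range_lift_eq_closure, MonoidHom.range_eq_top]
    exact fun M => ⟨wd M, hwd' M⟩
  -- words
  let Xa : F → W6 := fun t => inA (wd (uElt t))
  let Xb : F → W6 := fun t => inB (wd (uElt t))
  let WA : W6 := inA (wd (wElt F))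
  let WB : W6 := inB (wd (wElt F))
  let PW : F → W6 := fun t => WB * Xa (-t) * WB⁻¹
  let RW : F → W6 := fun t => WA * Xb t * WA⁻¹
  let few : List (W6 × W6) :=
    [(WA * WB * WA * WB, WB * WA * WB * WA), (WA * PW 1 * WA⁻¹, PW (-1)), (WB * RW 1 * WB⁻¹, RW 1),
      (Xa 1 * RW 1, RW 1 * Xa 1), (Xb 1 * RW 1, RW 1 * Xb 1), (Xa 1 * PW 1, RW 2 * PW 1 * Xa 1),
      (Xa 1 * Xb 1, PW 1 * RW 1 * Xb 1 * Xa 1)]
  let torA : List (W6 × W6) := List.ofFn fun i : Fin 3 =>
    (inA (wd (dElt ω)) * inB (FreeGroup.of i) * (inA (wd (dElt ω)))⁻¹, inB (wd (dConj (ω ^ 2)⁻¹ (g i))))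
  let torB : List (W6 × W6) := List.ofFn fun i : Fin 3 =>
    (inB (wd (dElt ω)) * inA (FreeGroup.of i) * (inB (wd (dElt ω)))⁻¹, inA (wd (dConj ω⁻¹ (g i))))
  let eqs : List (W6 × W6) := few ++ torA ++ torB
  let rels : Finset W6 := rels₂.image inA ∪ rels₂.image inB ∪ (eqs.map fun p => p.1 * p.2⁻¹).toFinset
  refine ⟨rels, ?_, ?_⟩
  · refine (Finset.card_union_le _ _).trans ?_
    refine (Nat.add_le_add ((Finset.card_union_le _ _).trans
      (Nat.add_le_add (Finset.card_image_le.trans hr₂) (Finset.card_image_le.trans hr₂)))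
      (List.toFinset_card_le _)).trans (le_of_eq ?_)
    simp [eqs, few, torA, torB]
  -- the generators of the model
  let t : Fin 6 → Matrix.symplecticGroup (Fin 2) F := Fin.append (fun i => φA (g i)) fun i => φB (g i)
  have htA : ∀ w, FreeGroup.lift t (inA w) = φA (FreeGroup.lift g w) := fun w =>
    congrArg (fun ψ : W3 →* Matrix.symplecticGroup (Fin 2) F => ψ w)
      (show (FreeGroup.lift t).comp inA = φA.comp (FreeGroup.lift g) from FreeGroup.ext_hom _ _ fun i => by
        rw [MonoidHom.comp_apply, MonoidHom.comp_apply, inA, FreeGroup.map.of, FreeGroup.lift_apply_of,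
          FreeGroup.lift_apply_of]
        exact Fin.append_left _ _ i)
  have htB : ∀ w, FreeGroup.lift t (inB w) = φB (FreeGroup.lift g w) := fun w =>
    congrArg (fun ψ : W3 →* Matrix.symplecticGroup (Fin 2) F => ψ w)
      (show (FreeGroup.lift t).comp inB = φB.comp (FreeGroup.lift g) from FreeGroup.ext_hom _ _ fun i => by
        rw [MonoidHom.comp_apply, MonoidHom.comp_apply, inB, FreeGroup.map.of, FreeGroup.lift_apply_of,
          FreeGroup.lift_apply_of]
        exact Fin.append_right _ _ i)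
  have hold : ∀ r ∈ rels, FreeGroup.lift t r = 1 := by
    intro r hr
    rw [Finset.mem_union, Finset.mem_union, Finset.mem_image, Finset.mem_image, List.mem_toFinset, List.mem_map] at hr
    rcases hr with (⟨r, hr, rfl⟩ | ⟨r, hr, rfl⟩) | ⟨p, hp, rfl⟩
    · rw [htA, hrels₂ r hr, map_one]
    · rw [htB, hrels₂ r hr, map_one]
    rw [map_mul, map_inv, mul_inv_eq_one]
    have mf := model_few (F := F)
    simp only [eqs, few, torA, torB, List.mem_append, List.mem_cons, List.not_mem_nil, or_false, List.mem_ofFn] at hp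
    rcases hp with ((rfl | rfl | rfl | rfl | rfl | rfl | rfl) | ⟨i, rfl⟩) | ⟨i, rfl⟩
    all_goals simp only [PW, RW, Xa, Xb, WA, WB, map_mul, map_inv, htA, htB, hwd', FreeGroup.lift_apply_of]
    · exact mf.braid
    · exact mf.waP
    · exact mf.wbR
    · exact mf.cAR
    · exact mf.cBR
    · exact mf.cAP
    · exact mf.cAB
    · exact model_ha_b ω (g i)
    · exact model_hb_a ω (g i)
  let Φ : PresentedGroup (↑rels : Set W6) →* Matrix.symplecticGroup (Fin 2) F := PresentedGroup.toGroup hold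
  have hsurj : Function.Surjective Φ := by
    rw [← MonoidHom.range_eq_top, ← top_le_iff, ← closure_ranges, Subgroup.closure_le]
    rintro _ (⟨M, rfl⟩ | ⟨M, rfl⟩)
    · exact ⟨PresentedGroup.mk _ (inA (wd M)), by
        rw [show Φ (PresentedGroup.mk _ (inA (wd M))) = FreeGroup.lift t (inA (wd M)) from rfl, htA, hwd']⟩
    · exact ⟨PresentedGroup.mk _ (inB (wd M)), by
        rw [show Φ (PresentedGroup.mk _ (inB (wd M))) = FreeGroup.lift t (inB (wd M)) from rfl, htB, hwd']⟩
  -- the bound
  let π : W6 →* PresentedGroup (↑rels : Set W6) := PresentedGroup.mk _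
  have mkHom : ∀ ι : W3 →* W6, (∀ r ∈ rels₂, π (ι r) = 1) →
      ∃ φ : SL(2, F) →* PresentedGroup (↑rels : Set W6), ∀ w, φ (FreeGroup.lift g w) = π (ι w) := by
    intro ι hι
    let ψ : PresentedGroup (↑rels₂ : Set W3) →* PresentedGroup (↑rels : Set W6) :=
      PresentedGroup.toGroup (f := fun i => π (ι (FreeGroup.of i))) fun r hr => by
        rw [show FreeGroup.lift (fun i => π (ι (FreeGroup.of i))) r = π (ι r) from
          congrArg (fun χ : W3 →* _ => χ r)
            (show FreeGroup.lift _ = π.comp ι from FreeGroup.ext_hom _ _ fun i => by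
              rw [FreeGroup.lift_apply_of]; rfl)]
        exact hι r hr
    refine ⟨ψ.comp e.symm.toMonoidHom, fun w => ?_⟩
    show ψ (e.symm (FreeGroup.lift g w)) = _
    rw [hlift, MulEquiv.symm_apply_apply]
    exact congrArg (fun χ : W3 →* _ => χ w)
      (show ψ.comp (PresentedGroup.mk _) = π.comp ι from FreeGroup.ext_hom _ _ fun i => by
        simp only [ψ, MonoidHom.comp_apply]; exact PresentedGroup.toGroup.of _)
  have hone : ∀ r ∈ rels, π r = 1 := fun r hr => PresentedGroup.one_of_mem hr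
  obtain ⟨φa, hφa⟩ := mkHom inA fun r hr => hone _ (Finset.mem_union_left _ (Finset.mem_union_left _
    (Finset.mem_image.2 ⟨r, hr, rfl⟩)))
  obtain ⟨φb, hφb⟩ := mkHom inB fun r hr => hone _ (Finset.mem_union_left _ (Finset.mem_union_right _
    (Finset.mem_image.2 ⟨r, hr, rfl⟩)))
  have hA : ∀ M, π (inA (wd M)) = φa M := fun M => by rw [← hφa, hwd']
  have hB : ∀ M, π (inB (wd M)) = φb M := fun M => by rw [← hφb, hwd']
  have hA' : ∀ i, π (inA (FreeGroup.of i)) = φa (g i) := fun i => by rw [← hφa, FreeGroup.lift_apply_of]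
  have hB' : ∀ i, π (inB (FreeGroup.of i)) = φb (g i) := fun i => by rw [← hφb, FreeGroup.lift_apply_of]
  have heq : ∀ p ∈ eqs, π p.1 = π p.2 := fun p hp => by
    have := hone _ (Finset.mem_union_right _ (List.mem_toFinset.2 (List.mem_map.2 ⟨p, hp, rfl⟩)))
    rwa [map_mul, map_inv, mul_inv_eq_one] at this
  simp only [eqs, few, List.forall_mem_append, List.forall_mem_cons, List.not_mem_nil, IsEmpty.forall_iff,
    implies_true, and_true] at heq
  obtain ⟨⟨⟨q1, q2, q3, q4, q5, q6, q7⟩, qA⟩, qB⟩ := heq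
  simp only [PW, RW, Xa, Xb, WA, WB, map_mul, map_inv, hA, hB] at q1 q2 q3 q4 q5 q6 q7
  have hfew : Few φa φb := ⟨q1, q2, q3, q4, q5, q6, q7⟩
  have hta : ∀ (c : Fˣ) (M : SL(2, F)), φa (dElt c) * φb M * (φa (dElt c))⁻¹ = φb (dConj (c ^ 2)⁻¹ M) :=
    fun c M => by
      have h := torus_all φa φb g hgen ω hω ((powMonoidHom 2 : Fˣ →* Fˣ)⁻¹) (fun i => ?_) c M
      · exact h
      · have h1 := qA _ (List.mem_ofFn.2 ⟨i, rfl⟩)
        simp only [map_mul, map_inv, hA, hB, hB'] at h1
        exact h1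
  have htb : ∀ (c : Fˣ) (M : SL(2, F)), φb (dElt c) * φa M * (φb (dElt c))⁻¹ = φa (dConj c⁻¹ M) :=
    fun c M => by
      have h := torus_all φb φa g hgen ω hω ((MonoidHom.id Fˣ)⁻¹) (fun i => ?_) c M
      · exact h
      · have h1 := qB _ (List.mem_ofFn.2 ⟨i, rfl⟩)
        simp only [map_mul, map_inv, hA, hB, hA'] at h1
        exact h1
  have hgenP : Subgroup.closure ((φa.range : Set (PresentedGroup (↑rels : Set W6))) ∪ φb.range) = ⊤ := by
    rw [← top_le_iff, ← PresentedGroup.closure_range_of (↑rels : Set W6), Subgroup.closure_le]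
    rintro _ ⟨i, rfl⟩
    induction i using Fin.addCases (m := 3) (n := 3) with
    | left i => exact Subgroup.subset_closure (Or.inl ⟨g i, by rw [← hA', inA, FreeGroup.map.of]; rfl⟩)
    | right i => exact Subgroup.subset_closure (Or.inr ⟨g i, by rw [← hB', inB, FreeGroup.map.of]; rfl⟩)
  obtain ⟨hfin, hcard⟩ := bound φa φb (rels_of_few hta htb hfew) hgenP
  rw [← card_sp_four] at hcard
  exact ⟨MulEquiv.ofBijective Φ ((Nat.bijective_iff_surjective_and_card Φ).2
    ⟨hsurj, le_antisymm hcard (Nat.card_le_card_of_surjective _ hsurj)⟩)⟩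

/-- `PSp₄` costs one more relator. -/
theorem psp_four_pres (F : Type*) [Field F] [Fintype F] :
    ∃ rels : Finset W6, rels.card ≤ 32 ∧ Nonempty (PresentedGroup (↑rels : Set W6) ≃* Cfsg.PSp 2 F) := by
  obtain ⟨rels, hr, ⟨e⟩⟩ := sp_four_pres F
  obtain ⟨rels', hr', he⟩ := quotientOne rels e
    (QuotientGroup.mk' (Subgroup.center (Matrix.symplecticGroup (Fin 2) F))) (QuotientGroup.mk'_surjective _)
    (Geom.spNeg 2 F) (by
      rw [QuotientGroup.ker_mk']
      refine le_antisymm (fun A hA => ?_) (Subgroup.zpowers_le.2 Geom.spNeg_mem_center)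
      rcases Geom.spLin_center (by norm_num) hA with h | h
      · have : A = 1 := Subtype.ext (Matrix.toLin'.injective (LinearMap.ext fun v => by
          rw [Matrix.toLin'_apply, ← Geom.spLin_apply, h]; simp))
        rw [this]; exact one_mem _
      · have : A = Geom.spNeg 2 F := Subtype.ext (Matrix.toLin'.injective (LinearMap.ext fun v => by
          rw [Matrix.toLin'_apply, Matrix.toLin'_apply, ← Geom.spLin_apply, ← Geom.spLin_apply, h, Geom.spLin_spNeg]))
        rw [this]; exact Subgroup.mem_zpowers _)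
  exact ⟨rels', by omega, he⟩

end SpFour

end CfsgLib.Pres
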