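import Cfsg.Agent.Lib.Pres.SpInduct
import Cfsg.Agent.Lib.Pres.SpFourPres

/-!
# The relations of `Sp_{2n}` in the symplectic group
-/

set_option autoImplicit false

namespace CfsgLib.Pres

open Matrix
open scoped MatrixGroups
open CfsgLib.Classical (uElt uElt_val uElt_add)

theorem SpFour.Rels.map {F G H : Type*} [Field F] [Group G] [Group H] {φa φb : SL(2, F) →* G}
    (h : SpFour.Rels φa φb) (f : G →* H) : SpFour.Rels (f.comp φa) (f.comp φb) where
  ha_b c M := by simpa only [MonoidHom.comp_apply, map_mul, map_inv] using congrArg f (h.ha_b c M)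
  hb_a c M := by simpa only [MonoidHom.comp_apply, map_mul, map_inv] using congrArg f (h.hb_a c M)
  braid := by simpa only [MonoidHom.comp_apply, map_mul, map_inv] using congrArg f h.braid
  waP t := by simpa only [MonoidHom.comp_apply, map_mul, map_inv, SpFour.P, SpFour.X] using congrArg f (h.waP t)
  wbR t := by simpa only [MonoidHom.comp_apply, map_mul, map_inv, SpFour.R, SpFour.X] using congrArg f (h.wbR t)
  cAR s t := by
    simpa only [MonoidHom.comp_apply, map_mul, map_inv, SpFour.R, SpFour.X, Commute, SemiconjBy] using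
      congrArg f (h.cAR s t)
  cBR s t := by
    simpa only [MonoidHom.comp_apply, map_mul, map_inv, SpFour.R, SpFour.X, Commute, SemiconjBy] using
      congrArg f (h.cBR s t)
  cPB s t := by
    simpa only [MonoidHom.comp_apply, map_mul, map_inv, SpFour.P, SpFour.X, Commute, SemiconjBy] using
      congrArg f (h.cPB s t)
  cPR s t := by
    simpa only [MonoidHom.comp_apply, map_mul, map_inv, SpFour.P, SpFour.R, SpFour.X, Commute, SemiconjBy] using
      congrArg f (h.cPR s t)
  cAP s t := by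
    simpa only [MonoidHom.comp_apply, map_mul, map_inv, SpFour.P, SpFour.R, SpFour.X] using congrArg f (h.cAP s t)
  cAB s t := by
    simpa only [MonoidHom.comp_apply, map_mul, map_inv, SpFour.P, SpFour.R, SpFour.X] using congrArg f (h.cAB s t)

theorem SpFour.model_rels {F : Type*} [Field F] [Fintype F] :
    SpFour.Rels (SpFour.φA (F := F)) SpFour.φB :=
  SpFour.rels_of_few SpFour.model_ha_b SpFour.model_hb_a SpFour.model_few

namespace SpN

variable {F : Type*} [Field F] {α ι : Type*} [Fintype α] [DecidableEq α] [Fintype ι] [DecidableEq ι]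

theorem extM_transpose (f : α ↪ ι) (M : Matrix α α F) : (extM f M)ᵀ = extM f Mᵀ := by
  show (1 + inc F f * (M - 1) * (inc F f)ᵀ)ᵀ = 1 + inc F f * (Mᵀ - 1) * (inc F f)ᵀ
  rw [Matrix.transpose_add, Matrix.transpose_one, Matrix.transpose_mul, Matrix.transpose_mul,
    Matrix.transpose_transpose, Matrix.transpose_sub, Matrix.transpose_one, Matrix.mul_assoc]

theorem extM_form (f : α ↪ ι) {j M : Matrix α α F} {J : Matrix ι ι F} (h1 : (inc F f)ᵀ * J = j * (inc F f)ᵀ)
    (h2 : J * inc F f = inc F f * j) (hM : M * j * Mᵀ = j) : extM f M * J * (extM f M)ᵀ = J := by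
  rw [extM_transpose]
  show (1 + inc F f * (M - 1) * (inc F f)ᵀ) * J * (1 + inc F f * (Mᵀ - 1) * (inc F f)ᵀ) = J
  have e1 : inc F f * (M - 1) * (inc F f)ᵀ * J = inc F f * ((M - 1) * j) * (inc F f)ᵀ := by
    rw [Matrix.mul_assoc, h1, ← Matrix.mul_assoc, Matrix.mul_assoc (inc F f) (M - 1) j]
  have e2 : J * (inc F f * (Mᵀ - 1) * (inc F f)ᵀ) = inc F f * (j * (Mᵀ - 1)) * (inc F f)ᵀ := by
    rw [← Matrix.mul_assoc, ← Matrix.mul_assoc, h2, Matrix.mul_assoc (inc F f) j (Mᵀ - 1)]
  have e3 : inc F f * ((M - 1) * j) * (inc F f)ᵀ * (inc F f * (Mᵀ - 1) * (inc F f)ᵀ) =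
      inc F f * ((M - 1) * j * (Mᵀ - 1)) * (inc F f)ᵀ := by
    rw [show inc F f * ((M - 1) * j) * (inc F f)ᵀ * (inc F f * (Mᵀ - 1) * (inc F f)ᵀ) =
      inc F f * ((M - 1) * j) * ((inc F f)ᵀ * inc F f) * (Mᵀ - 1) * (inc F f)ᵀ by simp only [Matrix.mul_assoc],
      inc_transpose_mul, Matrix.mul_one, Matrix.mul_assoc (inc F f) ((M - 1) * j)]
  have e4 : (M - 1) * j + j * (Mᵀ - 1) + (M - 1) * j * (Mᵀ - 1) = 0 := by
    have : (M - 1) * j + j * (Mᵀ - 1) + (M - 1) * j * (Mᵀ - 1) = M * j * Mᵀ - j := by noncomm_ring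
    rw [this, hM, sub_self]
  rw [add_mul (1 : Matrix ι ι F), one_mul, e1, mul_add, mul_one, add_mul, e2, e3, add_assoc,
    ← add_assoc (inc F f * ((M - 1) * j) * (inc F f)ᵀ), ← Matrix.add_mul, ← Matrix.mul_add, ← Matrix.add_mul,
    ← Matrix.mul_add, e4, Matrix.mul_zero, Matrix.zero_mul, add_zero]

theorem mul_extM (f : α ↪ ι) {A : Matrix ι ι F} (h1 : A * inc F f = inc F f) (h2 : (inc F f)ᵀ * A = (inc F f)ᵀ)
    (M : Matrix α α F) : A * extM f M = extM f M * A := by
  show A * (1 + inc F f * (M - 1) * (inc F f)ᵀ) = (1 + inc F f * (M - 1) * (inc F f)ᵀ) * A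
  rw [mul_add, add_mul, mul_one, one_mul, ← Matrix.mul_assoc, ← Matrix.mul_assoc, h1,
    Matrix.mul_assoc (inc F f * (M - 1)), h2]

/-- Two coordinates over a pair of indices. -/
abbrev twice (f : α ↪ ι) : α ⊕ α ↪ ι ⊕ ι := f.sumMap f

theorem extM_fromBlocks (f : α ↪ ι) (A B : Matrix α α F) :
    extM (twice f) (Matrix.fromBlocks A 0 0 B) = Matrix.fromBlocks (extM f A) 0 0 (extM f B) := by
  have hinc : inc F (twice f) = Matrix.fromBlocks (inc F f) 0 0 (inc F f) := by
    ext (i | i) (a | a) <;> simp [inc, twice]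
  show 1 + inc F (twice f) * (Matrix.fromBlocks A 0 0 B - 1) * (inc F (twice f))ᵀ = _
  rw [hinc, ← Matrix.fromBlocks_one, Matrix.fromBlocks_transpose, sub_eq_add_neg,
    show (-1 : Matrix (α ⊕ α) (α ⊕ α) F) = Matrix.fromBlocks (-1) 0 0 (-1) by
      rw [← Matrix.fromBlocks_one, Matrix.fromBlocks_neg, neg_zero],
    Matrix.fromBlocks_add, Matrix.fromBlocks_multiply, Matrix.fromBlocks_multiply,
    Matrix.fromBlocks_add]
  simp [extM, sub_eq_add_neg]

variable (F ι) in
/-- The symplectic group on `ι`. -/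
abbrev SpG := Matrix.symplecticGroup ι F

/-- `diag(A, A⁻ᵀ)`. -/
def levN : GL ι F →* SpG F ι where
  toFun A := ⟨Matrix.fromBlocks (A : Matrix ι ι F) 0 0 ((A⁻¹ : GL ι F) : Matrix ι ι F)ᵀ, by
    rw [SymplecticGroup.mem_iff, Matrix.J, Matrix.fromBlocks_transpose, Matrix.fromBlocks_multiply,
      Matrix.fromBlocks_multiply]
    simp [← Matrix.transpose_mul]⟩
  map_one' := Subtype.ext (by simp)
  map_mul' A B := Subtype.ext (by
    show Matrix.fromBlocks _ _ _ _ = Matrix.fromBlocks _ _ _ _ * Matrix.fromBlocks _ _ _ _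
    simp [Matrix.fromBlocks_multiply, Matrix.transpose_mul])

theorem levN_val (A : GL ι F) : ((levN A : SpG F ι) : Matrix (ι ⊕ ι) (ι ⊕ ι) F) =
    Matrix.fromBlocks (A : Matrix ι ι F) 0 0 ((A⁻¹ : GL ι F) : Matrix ι ι F)ᵀ := rfl

theorem twice_form (f : α ↪ ι) :
    (inc F (twice f))ᵀ * Matrix.J ι F = Matrix.J α F * (inc F (twice f))ᵀ ∧
      Matrix.J ι F * inc F (twice f) = inc F (twice f) * Matrix.J α F := by
  have hinc : inc F (twice f) = Matrix.fromBlocks (inc F f) 0 0 (inc F f) := by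
    ext (i | i) (a | a) <;> simp [inc, twice]
  rw [hinc, Matrix.J, Matrix.J, Matrix.fromBlocks_transpose]
  constructor <;> simp [Matrix.fromBlocks_multiply]

/-- A smaller symplectic group inside. -/
def spEmb (f : α ↪ ι) : SpG F α →* SpG F ι :=
  MonoidHom.mk' (fun A => ⟨extM (twice f) (A : Matrix (α ⊕ α) (α ⊕ α) F), by
    rw [SymplecticGroup.mem_iff]
    exact extM_form _ (twice_form f).1 (twice_form f).2 (SymplecticGroup.mem_iff.1 A.2)⟩)
    fun A B => Subtype.ext (map_mul (extM (twice f)) _ _)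

theorem spEmb_val (f : α ↪ ι) (A : SpG F α) :
    ((spEmb f A : SpG F ι) : Matrix (ι ⊕ ι) (ι ⊕ ι) F) = extM (twice f) (A : Matrix (α ⊕ α) (α ⊕ α) F) := rfl

/-- The coordinates of one hyperbolic pair. -/
def hypPair (o : ι) : Fin 2 ↪ ι ⊕ ι :=
  ⟨![Sum.inl o, Sum.inr o], by intro a b hab; fin_cases a <;> fin_cases b <;> simp_all⟩

theorem hypPair_zero (o : ι) : hypPair o 0 = Sum.inl o := rfl

theorem hypPair_one (o : ι) : hypPair o 1 = Sum.inr o := rfl

theorem hypPair_form (o : ι) :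
    (inc F (hypPair o))ᵀ * Matrix.J ι F = (!![0, -1; 1, 0] : Matrix (Fin 2) (Fin 2) F) * (inc F (hypPair o))ᵀ ∧
      Matrix.J ι F * inc F (hypPair o) = inc F (hypPair o) * (!![0, -1; 1, 0] : Matrix (Fin 2) (Fin 2) F) := by
  constructor
  · ext a (j | j) <;> fin_cases a <;>
      simp [inc, hypPair_zero, hypPair_one, Matrix.mul_apply, Fintype.sum_sum_type, Matrix.J, Fin.sum_univ_two, Matrix.one_apply, eq_comm] <;> split_ifs <;> simp
  · ext (i | i) a <;> fin_cases a <;>
      simp [inc, hypPair_zero, hypPair_one, Matrix.mul_apply, Fintype.sum_sum_type, Matrix.J, Fin.sum_univ_two, Matrix.one_apply, eq_comm] <;> split_ifs <;> simp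

/-- The long root `SL₂`. -/
def psiN (o : ι) : SL(2, F) →* SpG F ι :=
  MonoidHom.mk' (fun M => ⟨extM (hypPair o) (M : Matrix (Fin 2) (Fin 2) F), by
    rw [SymplecticGroup.mem_iff]
    refine extM_form _ (hypPair_form o).1 (hypPair_form o).2 ?_
    have h := M.2
    rw [Matrix.det_fin_two] at h
    ext i j
    fin_cases i <;> fin_cases j <;> simp [Matrix.mul_apply, Fin.sum_univ_two] <;>
      first | ring1 | linear_combination h | linear_combination -h⟩)
    fun A B => Subtype.ext (map_mul (extM (hypPair o)) _ _)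

theorem psiN_val (o : ι) (M : SL(2, F)) :
    ((psiN o M : SpG F ι) : Matrix (ι ⊕ ι) (ι ⊕ ι) F) = extM (hypPair o) (M : Matrix (Fin 2) (Fin 2) F) := rfl

/-- The Levi part. -/
def phiN : Matrix.SpecialLinearGroup ι F →* SpG F ι := levN.comp Matrix.SpecialLinearGroup.toGL

theorem spEmb_φB {o k : ι} (h : k ≠ o) (M : SL(2, F)) :
    spEmb (pairEmb h) (SpFour.φB M) = psiN o M := by
  refine Subtype.ext ?_
  rw [spEmb_val, psiN_val]
  have hb : ((SpFour.φB M : SpG F (Fin 2)) : Matrix (Fin 2 ⊕ Fin 2) (Fin 2 ⊕ Fin 2) F) =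
      extM (hypPair (1 : Fin 2)) (M : Matrix (Fin 2) (Fin 2) F) := by
    show SpFour.bMat _ = _
    ext (i | i) (j | j) <;> fin_cases i <;> fin_cases j <;>
      simp [SpFour.bMat, extM, inc, hypPair_zero, hypPair_one, Matrix.mul_apply, Fin.sum_univ_two, Matrix.one_apply]
  rw [hb, extM_extM]
  congr 2
  ext a
  fin_cases a <;> rfl

theorem spEmb_φA {o k : ι} (h : k ≠ o) (M : SL(2, F)) :
    spEmb (pairEmb h) (SpFour.φA M) = phiN (emb h M) := by
  refine Subtype.ext ?_
  rw [spEmb_val]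
  show extM (twice (pairEmb h)) (SpFour.aMat (M : Matrix (Fin 2) (Fin 2) F)) = _
  rw [SpFour.aMat, extM_fromBlocks]
  show _ = Matrix.fromBlocks (emb h M : Matrix ι ι F) 0 0
    (((Matrix.SpecialLinearGroup.toGL (emb h M))⁻¹ : GL ι F) : Matrix ι ι F)ᵀ
  rw [← map_inv, ← map_inv]
  show _ = Matrix.fromBlocks (emb h M : Matrix ι ι F) 0 0 (extM (pairEmb h) ((M⁻¹ : SL(2, F)) : Matrix (Fin 2) (Fin 2) F))ᵀ
  rw [extM_transpose, Matrix.SpecialLinearGroup.coe_inv, Matrix.adjugate_fin_two]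
  congr 2
  ext i j
  fin_cases i <;> fin_cases j <;> rfl

theorem psiN_dElt (o : ι) (c : Fˣ) : psiN o (dElt c) = levN (dg o c) := by
  refine Subtype.ext ?_
  rw [psiN_val, levN_val, show (((dg o c)⁻¹ : GL ι F) : Matrix ι ι F) = Matrix.diagonal (Function.update 1 o ((c⁻¹ : Fˣ) : F)) from rfl]
  ext (i | i) (j | j) <;>
    simp [extM, inc, hypPair_zero, hypPair_one, dElt, dg_val, Matrix.mul_apply, Fin.sum_univ_two, Matrix.one_apply,
      Matrix.diagonal_apply, Function.update_apply, -Matrix.coe_units_inv] <;>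
    by_cases hi : i = o <;> by_cases hj : j = o <;> by_cases hij : i = j <;> simp_all [eq_comm]

/-- The model satisfies the relations. -/
theorem spRels_model [Fintype F] (o : ι) : SpRels o (phiN (F := F) (ι := ι)) (psiN o) where
  comm B M hB := by
    refine Subtype.ext ?_
    show ((phiN B : SpG F ι) : Matrix (ι ⊕ ι) (ι ⊕ ι) F) * (psiN o M : SpG F ι) =
      ((psiN o M : SpG F ι) : Matrix (ι ⊕ ι) (ι ⊕ ι) F) * (phiN B : SpG F ι)
    rw [psiN_val]
    set A : GL ι F := Matrix.SpecialLinearGroup.toGL B with hA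
    show Matrix.fromBlocks (A : Matrix ι ι F) 0 0 ((A⁻¹ : GL ι F) : Matrix ι ι F)ᵀ * _ = _ *
      Matrix.fromBlocks (A : Matrix ι ι F) 0 0 ((A⁻¹ : GL ι F) : Matrix ι ι F)ᵀ
    have h1 : ∀ i, (A : Matrix ι ι F) i o = (1 : Matrix ι ι F) i o := fun i => by
      have := congrFun hB.1 i
      rw [Matrix.mulVec_single_one, Matrix.col_apply] at this
      rw [this, Matrix.one_apply, Pi.single_apply]
    have h2 : ∀ i, (A : Matrix ι ι F) o i = (1 : Matrix ι ι F) o i := fun i => by
      have := congrFun hB.2 i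
      rw [Matrix.single_one_vecMul, Matrix.row_apply] at this
      rw [this, Matrix.one_apply, Pi.single_apply]
      simp [eq_comm]
    have h3 : ∀ i, ((A⁻¹ : GL ι F) : Matrix ι ι F) i o = (1 : Matrix ι ι F) i o := fun i => by
      have := congrFun hB.inv.1 i
      rw [Matrix.mulVec_single_one, Matrix.col_apply] at this
      rw [this, Matrix.one_apply, Pi.single_apply]
    have h4 : ∀ i, ((A⁻¹ : GL ι F) : Matrix ι ι F) o i = (1 : Matrix ι ι F) o i := fun i => by
      have := congrFun hB.inv.2 i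
      rw [Matrix.single_one_vecMul, Matrix.row_apply] at this
      rw [this, Matrix.one_apply, Pi.single_apply]
      simp [eq_comm]
    refine mul_extM _ ?_ ?_ _
    · ext (i | i) a <;> fin_cases a <;>
        simp [inc, hypPair_zero, hypPair_one, Matrix.mul_apply, Fintype.sum_sum_type, h1, h4, -Matrix.coe_units_inv] <;>
        simp [Matrix.one_apply, eq_comm]
    · ext a (i | i) <;> fin_cases a <;>
        simp [inc, hypPair_zero, hypPair_one, Matrix.mul_apply, Fintype.sum_sum_type, h2, h3, -Matrix.coe_units_inv] <;>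
        simp [Matrix.one_apply, eq_comm]
  conjD c A B h := by
    show psiN o (dElt c) * levN _ * (psiN o (dElt c))⁻¹ = levN _
    rw [psiN_dElt, h, map_mul, map_mul, map_inv]
  pair k hk := by
    have e1 : (phiN (F := F) (ι := ι)).comp (emb hk) = (spEmb (pairEmb hk)).comp SpFour.φA :=
      MonoidHom.ext fun M => (spEmb_φA hk M).symm
    have e2 : psiN (F := F) o = (spEmb (pairEmb hk)).comp SpFour.φB :=
      MonoidHom.ext fun M => (spEmb_φB hk M).symm
    rw [e1, e2]
    exact SpFour.model_rels.map _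

/-- `φ` and `ψ` generate the symplectic group. -/
theorem closure_model [Fintype F] {n : ℕ} {o k : Fin n} (hk : k ≠ o) :
    Subgroup.closure (Set.range (phiN (F := F) (ι := Fin n)) ∪ Set.range (psiN o)) = ⊤ := by
  set H := Subgroup.closure (Set.range (phiN (F := F) (ι := Fin n)) ∪ Set.range (psiN o)) with hH
  have mp : ∀ M, psiN o M ∈ H := fun M => Subgroup.subset_closure (Or.inr ⟨M, rfl⟩)
  have ml : ∀ A : GL (Fin n) F, levN A ∈ H := fun A => by
    have h : levN A = phiN (slPart o A) * psiN o (dElt (Matrix.GeneralLinearGroup.det A)) := by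
      rw [psiN_dElt]
      show levN A = levN (Matrix.SpecialLinearGroup.toGL (slPart o A)) * levN _
      rw [← map_mul, slPart_toGL, inv_mul_cancel_right]
    rw [h]
    exact mul_mem (Subgroup.subset_closure (Or.inl ⟨_, rfl⟩)) (mp _)
  let R := spRels_model (F := F) o
  have hrootH : ∀ v t, rootL R v t ∈ H := fun v t => by
    rcases eq_or_ne v 0 with rfl | hv
    · rw [rootL_zero_vec]; exact one_mem _
    obtain ⟨A, rfl⟩ := exists_col o hv
    rw [← rootL_eq]
    have h1 : lam o R A ∈ H := by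
      rw [lam_apply]; exact mul_mem (Subgroup.subset_closure (Or.inl ⟨_, rfl⟩)) (mp _)
    exact mul_mem (mul_mem h1 (mp _)) (inv_mem h1)
  -- translations of the upper block
  have mup : ∀ S : Matrix (Fin n) (Fin n) F, Sᵀ = S → ∃ g ∈ H, ∀ x y : Fin n → F,
      ((g : SpG F (Fin n)) : Matrix (Fin n ⊕ Fin n) (Fin n ⊕ Fin n) F) *ᵥ Sum.elim x y = Sum.elim (x + S *ᵥ y) y := by
    intro S hS
    refine sym_induction (P := fun S => ∃ g ∈ H, ∀ x y : Fin n → F,
      ((g : SpG F (Fin n)) : Matrix (Fin n ⊕ Fin n) (Fin n ⊕ Fin n) F) *ᵥ Sum.elim x y = Sum.elim (x + S *ᵥ y) y) ?_ ?_ ?_ hS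
    · exact ⟨1, one_mem _, fun x y => by simp⟩
    · rintro A B ⟨g, hg, hga⟩ ⟨g', hg', hgb⟩
      refine ⟨g * g', mul_mem hg hg', fun x y => ?_⟩
      rw [Submonoid.coe_mul, ← Matrix.mulVec_mulVec, hgb, hga, Matrix.add_mulVec]
      congr 1
      abel
    · intro v t
      rcases eq_or_ne v 0 with rfl | hv
      · exact ⟨1, one_mem _, fun x y => by simp⟩
      obtain ⟨A, rfl⟩ := exists_col o hv
      refine ⟨levN A * psiN o (uElt t) * levN A⁻¹, mul_mem (mul_mem (ml A) (mp _)) (ml _), fun x y => ?_⟩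
      have hx : ∀ z w : Fin n → F, ((psiN o (uElt t) : SpG F (Fin n)) : Matrix (Fin n ⊕ Fin n) (Fin n ⊕ Fin n) F) *ᵥ Sum.elim z w =
          Sum.elim (z + (t * w o) • e F o) w := fun z w => by
        funext i
        rcases i with i | i <;> rcases eq_or_ne i o with rfl | hi <;>
          simp [psiN_val, extM, inc, hypPair_zero, hypPair_one, uElt_val, Matrix.mulVec, dotProduct, Matrix.mul_apply,
            Fintype.sum_sum_type, Matrix.one_apply, Finset.sum_add_distrib, add_mul, *]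
      rw [Submonoid.coe_mul, Submonoid.coe_mul, ← Matrix.mulVec_mulVec, ← Matrix.mulVec_mulVec, levN_val, levN_val,
        inv_inv, Matrix.fromBlocks_mulVec, Matrix.fromBlocks_mulVec, hx]
      simp only [Sum.elim_comp_inl, Sum.elim_comp_inr, Matrix.zero_mulVec, add_zero, zero_add, Matrix.mulVec_add,
        Matrix.mulVec_smul, Matrix.mulVec_mulVec, Units.mul_inv, Matrix.one_mulVec, Matrix.smul_mulVec,
        Matrix.vecMulVec_mulVec, ← Matrix.transpose_mul, Matrix.transpose_one]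
      rw [← single_one_dotProduct o ((A : Matrix (Fin n) (Fin n) F)ᵀ *ᵥ y), Matrix.dotProduct_mulVec,
        Matrix.vecMul_transpose]
      simp only [zero_mul, Matrix.zero_mul, Matrix.zero_mulVec, add_zero, zero_add, smul_zero, op_smul_eq_smul, smul_smul]
  -- every nonzero vector is reached
  have hreach : ∀ x y : Fin n → F, (x, y) ≠ 0 →
      ∃ g ∈ H, ((g : SpG F (Fin n)) : Matrix (Fin n ⊕ Fin n) (Fin n ⊕ Fin n) F) *ᵥ Sum.elim (e F o) 0 = Sum.elim x y := by
    intro x y hxy
    have hlev : ∀ (A : GL (Fin n) F) (z w : Fin n → F), ((levN A : SpG F (Fin n)) : Matrix (Fin n ⊕ Fin n) (Fin n ⊕ Fin n) F) *ᵥ Sum.elim z w =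
        Sum.elim ((A : Matrix (Fin n) (Fin n) F) *ᵥ z) (w ᵥ* ((A⁻¹ : GL (Fin n) F) : Matrix (Fin n) (Fin n) F)) :=
      fun A z w => by
        rw [levN_val, Matrix.fromBlocks_mulVec]
        simp [Matrix.mulVec_transpose]
    have hw : ((psiN o (wElt F)⁻¹ : SpG F (Fin n)) : Matrix (Fin n ⊕ Fin n) (Fin n ⊕ Fin n) F) *ᵥ Sum.elim (e F o) (0 : Fin n → F) = Sum.elim (0 : Fin n → F) (e F o) := by
      funext i
      rcases i with i | i <;> rcases eq_or_ne i o with rfl | hi <;>
        simp [psiN_val, extM, inc, hypPair_zero, hypPair_one, wElt_inv', -map_inv, -Matrix.SpecialLinearGroup.coe_inv, Matrix.mulVec, dotProduct, Matrix.mul_apply, Fin.sum_univ_two,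
          Fintype.sum_sum_type, Matrix.one_apply, Finset.sum_add_distrib, add_mul, Pi.single_apply, *]
    rcases eq_or_ne y 0 with rfl | hy
    · obtain ⟨A, hA⟩ := exists_col o (fun h : x = 0 => hxy (by rw [h]; rfl))
      exact ⟨levN A, ml A, by rw [hlev, hA, Matrix.zero_vecMul]⟩
    · obtain ⟨⟨S, A⟩, hS, hA, hSy⟩ := exists_data o hy x
      obtain ⟨g, hg, hgS⟩ := mup S hS
      refine ⟨g * levN A * psiN o (wElt F)⁻¹, mul_mem (mul_mem hg (ml A)) (mp _), ?_⟩
      rw [Submonoid.coe_mul, Submonoid.coe_mul, ← Matrix.mulVec_mulVec, ← Matrix.mulVec_mulVec, hw, hlev,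
        Matrix.mulVec_zero, hA, hgS, hSy, zero_add]
  refine top_le_iff.1 ?_
  rw [← Geom.closure_sympTransvection n, Subgroup.closure_le]
  rintro T ⟨v, c, hT⟩
  rcases eq_or_ne v 0 with rfl | hv
  · have : T = 1 := Subtype.ext (by rw [hT]; simp [Cfsg.sympTransvection])
    rw [this]
    exact one_mem _
  obtain ⟨g, hg, hgv⟩ := hreach (v ∘ Sum.inl) (v ∘ Sum.inr) (fun h => hv (funext fun i => by
    rcases i with i | i
    · exact congrFun (congrArg Prod.fst h) i
    · exact congrFun (congrArg Prod.snd h) i))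
  rw [Sum.elim_comp_inl_inr] at hgv
  have hu : ((psiN o (uElt c) : SpG F (Fin n)) : Matrix (Fin n ⊕ Fin n) (Fin n ⊕ Fin n) F) = Cfsg.sympTransvection n (Sum.elim (e F o) 0) c := by
    ext (i | i) (j | j) <;>
      simp [psiN_val, extM, inc, hypPair_zero, hypPair_one, uElt_val, Cfsg.sympTransvection, Matrix.J, Matrix.mul_apply,
        Matrix.fromBlocks_mulVec, Matrix.vecMulVec_apply, Pi.single_apply, Matrix.one_apply] <;>
      by_cases hi : i = o <;> by_cases hj : j = o <;> simp_all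
  have : T = g * psiN o (uElt c) * g⁻¹ := by
    rw [eq_mul_inv_iff_mul_eq]
    refine Subtype.ext (Matrix.toLin'.injective (LinearMap.ext fun x => ?_))
    simp only [Matrix.toLin'_apply, Submonoid.coe_mul]
    rw [← Matrix.mulVec_mulVec, ← Matrix.mulVec_mulVec, hT, hu, ← hgv, Geom.sympTransvection_mulVec,
      Geom.sympTransvection_mulVec]
    have hform : Geom.sympBilin n F ((g : Matrix (Fin n ⊕ Fin n) (Fin n ⊕ Fin n) F) *ᵥ x) ((g : Matrix (Fin n ⊕ Fin n) (Fin n ⊕ Fin n) F) *ᵥ Sum.elim (e F o) 0) =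
        Geom.sympBilin n F x (Sum.elim (e F o) 0) := by
      rw [Geom.sympBilin_apply, Geom.sympBilin_apply]
      exact (Geom.mem_symplecticGroup_iff_form _).1 g.2 _ _
    rw [hform, ← Matrix.mulVec_smul, ← Matrix.mulVec_add]
  rw [this]
  exact mul_mem (mul_mem hg (mp _)) (inv_mem hg)

/-- The order in the recursive form. -/
theorem card_sp [Fintype F] (n : ℕ) :
    Nat.card (SpG F (Fin (n + 1))) = spc (Fintype.card F) (n + 1) := by
  rw [← Nat.card_congr (Geom.spEquiv (n + 1) F).toEquiv,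
    Classical.card_formIsoms_alt (Geom.sympBilin (n + 1) F) Geom.sympBilin_self Geom.sympBilin_sep (n + 1)
      (by simp [two_mul])]
  generalize n + 1 = m
  induction m with
  | zero => simp [spc]
  | succ m ih =>
    rw [spc, ← ih, Finset.prod_range_succ, show (m + 1) ^ 2 = (2 * m + 1) + m ^ 2 by ring, pow_add,
      show 2 * (m + 1) = 2 * m + 2 by ring]
    ring

end SpN

end CfsgLib.Pres
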