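import Cfsg.Agent.Lib.Pres.SpFourRels
import Cfsg.Agent.Lib.Geom.Symp
import Cfsg.Agent.Lib.Geom.PSpInvol
import Cfsg.Agent.Lib.Classical.AltOrder

/-!
# The two rank-one subgroups of `Sp₄`
-/

set_option autoImplicit false

namespace CfsgLib.Pres.SpFour

open Matrix
open scoped MatrixGroups
open CfsgLib.Classical (uElt uElt_val uElt_add)

variable {F : Type*} [Field F]

local notation "Sp4" => Matrix.symplecticGroup (Fin 2) F

/-- The block matrix of the short root subgroup. -/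
def aMat (M : Matrix (Fin 2) (Fin 2) F) : Matrix (Fin 2 ⊕ Fin 2) (Fin 2 ⊕ Fin 2) F :=
  Matrix.fromBlocks M 0 0 !![M 1 1, -M 1 0; -M 0 1, M 0 0]

/-- The block matrix of the long root subgroup. -/
def bMat (M : Matrix (Fin 2) (Fin 2) F) : Matrix (Fin 2 ⊕ Fin 2) (Fin 2 ⊕ Fin 2) F :=
  Matrix.fromBlocks !![1, 0; 0, M 0 0] !![0, 0; 0, M 0 1] !![0, 0; 0, M 1 0] !![1, 0; 0, M 1 1]

theorem wElt_inv_val : (((wElt F)⁻¹ : SL(2, F)) : Matrix (Fin 2) (Fin 2) F) = !![0, -1; 1, 0] := by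
  rw [Matrix.SpecialLinearGroup.coe_inv]
  simp [wElt, Matrix.adjugate_fin_two]

theorem aMat_mul (M N : Matrix (Fin 2) (Fin 2) F) : aMat (M * N) = aMat M * aMat N := by
  ext i j
  rcases i with i | i <;> rcases j with j | j <;> fin_cases i <;> fin_cases j <;>
    simp [aMat, Matrix.mul_apply, Fintype.sum_sum_type, Fin.sum_univ_two] <;> ring

theorem bMat_mul (M N : Matrix (Fin 2) (Fin 2) F) : bMat (M * N) = bMat M * bMat N := by
  ext i j
  rcases i with i | i <;> rcases j with j | j <;> fin_cases i <;> fin_cases j <;>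
    simp [bMat, Matrix.mul_apply, Fintype.sum_sum_type, Fin.sum_univ_two]

theorem aMat_mem (M : SL(2, F)) : aMat (M : Matrix (Fin 2) (Fin 2) F) ∈ Sp4 := by
  have h := M.2
  rw [Matrix.det_fin_two] at h
  rw [SymplecticGroup.mem_iff]
  ext i j
  rcases i with i | i <;> rcases j with j | j <;> fin_cases i <;> fin_cases j <;>
    simp [aMat, Matrix.J, Matrix.mul_apply, Fintype.sum_sum_type, Fin.sum_univ_two] <;>
    first | ring1 | linear_combination h | linear_combination -h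

theorem bMat_mem (M : SL(2, F)) : bMat (M : Matrix (Fin 2) (Fin 2) F) ∈ Sp4 := by
  have h := M.2
  rw [Matrix.det_fin_two] at h
  rw [SymplecticGroup.mem_iff]
  ext i j
  rcases i with i | i <;> rcases j with j | j <;> fin_cases i <;> fin_cases j <;>
    simp [bMat, Matrix.J, Matrix.mul_apply, Fintype.sum_sum_type, Fin.sum_univ_two] <;>
    first | ring1 | linear_combination h | linear_combination -h

/-- The short root subgroup. -/
def φA : SL(2, F) →* Sp4 :=
  MonoidHom.mk' (fun M => ⟨aMat (M : Matrix (Fin 2) (Fin 2) F), aMat_mem M⟩) fun M N =>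
    Subtype.ext (by
      show aMat ((M * N : SL(2, F)) : Matrix (Fin 2) (Fin 2) F) = _
      rw [Matrix.SpecialLinearGroup.coe_mul, aMat_mul]
      rfl)

/-- The long root subgroup. -/
def φB : SL(2, F) →* Sp4 :=
  MonoidHom.mk' (fun M => ⟨bMat (M : Matrix (Fin 2) (Fin 2) F), bMat_mem M⟩) fun M N =>
    Subtype.ext (by
      show bMat ((M * N : SL(2, F)) : Matrix (Fin 2) (Fin 2) F) = _
      rw [Matrix.SpecialLinearGroup.coe_mul, bMat_mul]
      rfl)

theorem φA_val (M : SL(2, F)) :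
    ((φA M : Sp4) : Matrix (Fin 2 ⊕ Fin 2) (Fin 2 ⊕ Fin 2) F) = aMat (M : Matrix (Fin 2) (Fin 2) F) := rfl

theorem φB_val (M : SL(2, F)) :
    ((φB M : Sp4) : Matrix (Fin 2 ⊕ Fin 2) (Fin 2 ⊕ Fin 2) F) = bMat (M : Matrix (Fin 2) (Fin 2) F) := rfl

theorem sp_coe_mul (g h : Sp4) : ((g * h : Sp4) : Matrix (Fin 2 ⊕ Fin 2) (Fin 2 ⊕ Fin 2) F) =
    (g : Matrix (Fin 2 ⊕ Fin 2) (Fin 2 ⊕ Fin 2) F) * (h : Matrix (Fin 2 ⊕ Fin 2) (Fin 2 ⊕ Fin 2) F) := rfl

/-- The third root element. -/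
def pMat (t : F) : Matrix (Fin 2 ⊕ Fin 2) (Fin 2 ⊕ Fin 2) F :=
  Matrix.fromBlocks 1 !![0, t; t, 0] 0 1

/-- The highest root element. -/
def rMat (t : F) : Matrix (Fin 2 ⊕ Fin 2) (Fin 2 ⊕ Fin 2) F :=
  Matrix.fromBlocks 1 !![t, 0; 0, 0] 0 1

theorem pMat_mem (t : F) : pMat t ∈ Sp4 := by
  rw [SymplecticGroup.mem_iff]
  ext i j
  rcases i with i | i <;> rcases j with j | j <;> fin_cases i <;> fin_cases j <;>
    simp [pMat, Matrix.J, Matrix.mul_apply, Fintype.sum_sum_type, Fin.sum_univ_two]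

theorem rMat_mem (t : F) : rMat t ∈ Sp4 := by
  rw [SymplecticGroup.mem_iff]
  ext i j
  rcases i with i | i <;> rcases j with j | j <;> fin_cases i <;> fin_cases j <;>
    simp [rMat, Matrix.J, Matrix.mul_apply, Fintype.sum_sum_type, Fin.sum_univ_two]

theorem P_eq (t : F) : P (φA (F := F)) φB t = ⟨pMat t, pMat_mem t⟩ := by
  rw [P, mul_inv_eq_iff_eq_mul]
  refine Subtype.ext ?_
  simp only [sp_coe_mul, X, φA_val, φB_val]
  ext i j
  rcases i with i | i <;> rcases j with j | j <;> fin_cases i <;> fin_cases j <;>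
    simp [aMat, bMat, pMat, wElt, uElt_val, Matrix.mul_apply, Fintype.sum_sum_type, Fin.sum_univ_two]

theorem R_eq (t : F) : R (φA (F := F)) φB t = ⟨rMat t, rMat_mem t⟩ := by
  rw [R, mul_inv_eq_iff_eq_mul]
  refine Subtype.ext ?_
  simp only [sp_coe_mul, X, φA_val, φB_val]
  ext i j
  rcases i with i | i <;> rcases j with j | j <;> fin_cases i <;> fin_cases j <;>
    simp [aMat, bMat, rMat, wElt, uElt_val, Matrix.mul_apply, Fintype.sum_sum_type, Fin.sum_univ_two]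

theorem model_ha_b (c : Fˣ) (M : SL(2, F)) :
    φA (dElt c) * φB M * (φA (dElt c))⁻¹ = φB (dConj (c ^ 2)⁻¹ M) := by
  rw [mul_inv_eq_iff_eq_mul]
  refine Subtype.ext ?_
  simp only [sp_coe_mul, φA_val, φB_val, dConj_val]
  ext i j
  rcases i with i | i <;> rcases j with j | j <;> fin_cases i <;> fin_cases j <;>
    simp [aMat, bMat, dMat, dElt, Matrix.mul_apply, Fintype.sum_sum_type, Fin.sum_univ_two] <;>
    field_simp

theorem model_hb_a (c : Fˣ) (M : SL(2, F)) :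
    φB (dElt c) * φA M * (φB (dElt c))⁻¹ = φA (dConj c⁻¹ M) := by
  rw [mul_inv_eq_iff_eq_mul]
  refine Subtype.ext ?_
  simp only [sp_coe_mul, φA_val, φB_val, dConj_val]
  ext i j
  rcases i with i | i <;> rcases j with j | j <;> fin_cases i <;> fin_cases j <;>
    simp [aMat, bMat, dMat, dElt, Matrix.mul_apply, Fintype.sum_sum_type, Fin.sum_univ_two] <;>
    field_simp

theorem X_φA (t : F) : ((X φA t : Sp4) : Matrix (Fin 2 ⊕ Fin 2) (Fin 2 ⊕ Fin 2) F) =
    Matrix.fromBlocks !![1, t; 0, 1] 0 0 !![1, 0; -t, 1] := by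
  rw [X, φA_val, aMat, uElt_val]
  simp

theorem X_φB (t : F) : ((X φB t : Sp4) : Matrix (Fin 2 ⊕ Fin 2) (Fin 2 ⊕ Fin 2) F) =
    Matrix.fromBlocks 1 !![0, 0; 0, t] 0 1 := by
  rw [X, φB_val, bMat, uElt_val]
  simp only [Matrix.fromBlocks_inj]
  refine ⟨?_, ?_, ?_, ?_⟩ <;> ext i j <;> fin_cases i <;> fin_cases j <;> simp

theorem w_φA : ((φA (wElt F) : Sp4) : Matrix (Fin 2 ⊕ Fin 2) (Fin 2 ⊕ Fin 2) F) =
    Matrix.fromBlocks !![0, 1; -1, 0] 0 0 !![0, 1; -1, 0] := by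
  rw [φA_val, aMat, wElt]
  simp

theorem w_φB : ((φB (wElt F) : Sp4) : Matrix (Fin 2 ⊕ Fin 2) (Fin 2 ⊕ Fin 2) F) =
    Matrix.fromBlocks !![1, 0; 0, 0] !![0, 0; 0, 1] !![0, 0; 0, -1] !![1, 0; 0, 0] := by
  rw [φB_val, bMat, wElt]
  simp

set_option maxHeartbeats 1000000 in
theorem model_few : Few (φA (F := F)) φB := by
  refine ⟨?_, ?_, ?_, ?_, ?_, ?_, ?_⟩
  · refine Subtype.ext ?_
    simp only [sp_coe_mul, w_φA, w_φB, Matrix.fromBlocks_multiply]
    simp [Matrix.mul_fin_two]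
  · rw [mul_inv_eq_iff_eq_mul, P_eq, P_eq]
    refine Subtype.ext ?_
    simp only [sp_coe_mul, w_φA, pMat, Matrix.fromBlocks_multiply]
    simp [Matrix.mul_fin_two]
  · rw [mul_inv_eq_iff_eq_mul, R_eq]
    refine Subtype.ext ?_
    simp only [sp_coe_mul, w_φB, rMat, Matrix.fromBlocks_multiply]
    simp [Matrix.mul_fin_two, Matrix.one_fin_two]
    funext i; fin_cases i <;> rfl
  all_goals
    simp only [P_eq, R_eq]
    refine Subtype.ext ?_
    simp only [sp_coe_mul, X_φA, X_φB, pMat, rMat, Matrix.fromBlocks_multiply]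
    simp [Matrix.mul_fin_two, Matrix.one_fin_two, one_add_one_eq_two]
    try ring

/-- The two subgroups generate. -/
theorem closure_ranges [Fintype F] :
    Subgroup.closure (((φA (F := F)).range : Set Sp4) ∪ ((φB (F := F)).range : Set Sp4)) = ⊤ := by
  classical
  obtain ⟨H, hH⟩ : ∃ H, H = Subgroup.closure (((φA (F := F)).range : Set Sp4) ∪ ((φB (F := F)).range : Set Sp4)) := ⟨_, rfl⟩
  rw [← hH]
  have mA : ∀ M, φA M ∈ H := fun M => hH ▸ Subgroup.subset_closure (Or.inl ⟨M, rfl⟩)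
  have mB : ∀ M, φB M ∈ H := fun M => hH ▸ Subgroup.subset_closure (Or.inr ⟨M, rfl⟩)
  let act : Sp4 → (Fin 2 ⊕ Fin 2 → F) → (Fin 2 ⊕ Fin 2 → F) := fun g v =>
    (g : Matrix (Fin 2 ⊕ Fin 2) (Fin 2 ⊕ Fin 2) F) *ᵥ v
  have hact : ∀ g h v, act g (act h v) = act (g * h) v := fun g h v => by
    simp only [act, Matrix.mulVec_mulVec, sp_coe_mul]
  let e1 : Fin 2 ⊕ Fin 2 → F := Pi.single (Sum.inl 0) 1
  let O : Set (Fin 2 ⊕ Fin 2 → F) := {v | ∃ g ∈ H, act g e1 = v}
  have hO : ∀ g ∈ H, ∀ v, act g v ∈ O → v ∈ O := by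
    rintro g hg v ⟨k, hk, e⟩
    refine ⟨g⁻¹ * k, mul_mem (inv_mem hg) hk, ?_⟩
    rw [← hact, e, hact, inv_mul_cancel]
    simp [act]
  have vA : ∀ (M : SL(2, F)) v, act (φA M) v = Sum.elim
      ![M 0 0 * v (Sum.inl 0) + M 0 1 * v (Sum.inl 1), M 1 0 * v (Sum.inl 0) + M 1 1 * v (Sum.inl 1)]
      ![M 1 1 * v (Sum.inr 0) - M 1 0 * v (Sum.inr 1), -M 0 1 * v (Sum.inr 0) + M 0 0 * v (Sum.inr 1)] := by
    intro M v
    funext i
    rcases i with i | i <;> fin_cases i <;>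
      simp [act, φA_val, aMat, Matrix.mulVec, dotProduct, Fintype.sum_sum_type, Fin.sum_univ_two,
        sub_eq_add_neg]
  have vB : ∀ (M : SL(2, F)) v, act (φB M) v = Sum.elim
      ![v (Sum.inl 0), M 0 0 * v (Sum.inl 1) + M 0 1 * v (Sum.inr 1)]
      ![v (Sum.inr 0), M 1 0 * v (Sum.inl 1) + M 1 1 * v (Sum.inr 1)] := by
    intro M v
    funext i
    rcases i with i | i <;> fin_cases i <;>
      simp [act, φB_val, bMat, Matrix.mulVec, dotProduct, Fintype.sum_sum_type, Fin.sum_univ_two]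
  -- vectors `(a, 0 | 0, 0)`
  have h1 : ∀ a : F, a ≠ 0 → Sum.elim ![a, 0] ![0, 0] ∈ O := by
    intro a ha
    refine ⟨φA (dElt (Units.mk0 a ha)), mA _, ?_⟩
    rw [vA]
    simp [dElt, e1, Pi.single_apply]
  -- first coordinate nonzero, second zero
  have h2 : ∀ a b c : F, a ≠ 0 → Sum.elim ![a, 0] ![b, c] ∈ O := by
    intro a b c ha
    -- remove `c` through the conjugate root, then `b`
    have hc : ∀ b, Sum.elim ![a, 0] ![b, 0] ∈ O := by
      intro b
      refine hO (φA (wElt F) * φB (lElt (-(b / a))) * (φA (wElt F))⁻¹)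
        (mul_mem (mul_mem (mA _) (mB _)) (inv_mem (mA _))) _ ?_
      rw [← hact, ← hact, ← map_inv, vA, vB, vA]
      convert h1 a ha using 1
      funext i
      rcases i with i | i <;> fin_cases i <;>
        simp [wElt_inv_val, lElt_val] <;> simp [wElt] <;> (try field_simp) <;> ring
    refine hO (φB (wElt F) * φA (lElt (c / a)) * (φB (wElt F))⁻¹)
      (mul_mem (mul_mem (mB _) (mA _)) (inv_mem (mB _))) _ ?_
    rw [← hact, ← hact, ← map_inv, vB, vA, vB]
    convert hc b using 1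
    funext i
    rcases i with i | i <;> fin_cases i <;>
      simp [wElt_inv_val, lElt_val] <;> simp [wElt] <;> (try field_simp) <;> ring
  have h3 : ∀ v : Fin 2 ⊕ Fin 2 → F, v (Sum.inl 0) ≠ 0 → v ∈ O := by
    intro v hv
    refine hO (φA (lElt (-(v (Sum.inl 1) / v (Sum.inl 0))))) (mA _) v ?_
    rw [vA]
    convert h2 (v (Sum.inl 0)) (v (Sum.inr 0) - -(v (Sum.inl 1) / v (Sum.inl 0)) * v (Sum.inr 1))
      (v (Sum.inr 1)) hv using 1
    funext i
    rcases i with i | i <;> fin_cases i <;> simp [lElt_val] <;> field_simp <;> ring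
  have h4 : ∀ v : Fin 2 ⊕ Fin 2 → F, v (Sum.inl 1) ≠ 0 → v ∈ O := fun v hv =>
    hO (φA (wElt F)) (mA _) v (h3 _ (by rw [vA]; simpa [wElt] using hv))
  have h5 : ∀ v : Fin 2 ⊕ Fin 2 → F, v (Sum.inr 1) ≠ 0 → v ∈ O := fun v hv =>
    hO (φB (wElt F)) (mB _) v (h4 _ (by rw [vB]; simpa [wElt] using hv))
  have htrans : ∀ v : Fin 2 ⊕ Fin 2 → F, v ≠ 0 → v ∈ O := fun v hv => by
    by_cases e3 : v (Sum.inl 0) = 0; swap
    · exact h3 v e3
    by_cases e4 : v (Sum.inl 1) = 0; swap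
    · exact h4 v e4
    by_cases e5 : v (Sum.inr 1) = 0; swap
    · exact h5 v e5
    refine hO (φA (wElt F)) (mA _) v (h5 _ ?_)
    rw [vA]
    have e6 : v (Sum.inr 0) ≠ 0 := fun e6 => hv (funext fun i => by
      rcases i with i | i <;> fin_cases i <;> simpa)
    simpa [wElt] using e6
  -- every transvection
  refine top_le_iff.1 ?_
  rw [← Geom.closure_sympTransvection 2, Subgroup.closure_le]
  rintro T ⟨v, c, hT⟩
  rcases eq_or_ne v 0 with rfl | hv
  · have : T = 1 := Subtype.ext (by rw [hT]; simp [Cfsg.sympTransvection])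
    rw [this]
    exact one_mem _
  obtain ⟨g, hg, hgv⟩ := htrans v hv
  have hR : R (φA (F := F)) φB c ∈ H := mul_mem (mul_mem (mA _) (mB _)) (inv_mem (mA _))
  have : T = g * R φA φB c * g⁻¹ := by
    rw [eq_mul_inv_iff_mul_eq, R_eq]
    refine Subtype.ext (Matrix.toLin'.injective (LinearMap.ext fun x => ?_))
    simp only [Matrix.toLin'_apply, sp_coe_mul]
    rw [← Matrix.mulVec_mulVec, ← Matrix.mulVec_mulVec, hT, ← hgv, Geom.sympTransvection_mulVec]
    have hform : Geom.sympBilin 2 F ((g : Matrix _ _ F) *ᵥ x) ((g : Matrix _ _ F) *ᵥ e1) =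
        Geom.sympBilin 2 F x e1 := by
      rw [Geom.sympBilin_apply, Geom.sympBilin_apply]
      exact (Geom.mem_symplecticGroup_iff_form _).1 g.2 x e1
    rw [hform, ← Matrix.mulVec_smul, ← Matrix.mulVec_add]
    congr 1
    funext i
    rw [Geom.sympBilin_apply, Geom.sympForm_eq_sum]
    rcases i with i | i <;> fin_cases i <;>
      simp [e1, rMat, Pi.single_apply, Matrix.mulVec, dotProduct, Fintype.sum_sum_type, Fin.sum_univ_two]
  rw [this]
  exact mul_mem (mul_mem hg hR) (inv_mem hg)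

/-- The order of `Sp₄`. -/
theorem card_sp_four [Fintype F] :
    Nat.card Sp4 = (Fintype.card F ^ 4 - 1) * (Fintype.card F ^ 3 * Nat.card SL(2, F)) := by
  rw [← Nat.card_congr (Geom.spEquiv 2 F).toEquiv,
    Classical.card_formIsoms_alt (Geom.sympBilin 2 F) Geom.sympBilin_self Geom.sympBilin_sep 2
      (by simp), card_sl]
  simp only [Finset.prod_range_succ, Finset.prod_range_zero, one_mul, Nat.reducePow, Nat.reduceMul,
    Nat.reduceAdd, zero_add, mul_one]
  ring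

end CfsgLib.Pres.SpFour
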