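import Mathlib

set_option autoImplicit false

/-!
Root map and Bruhat bound for presentations of `SL_2(q)`.
-/

namespace CfsgLib.Pres

/-- A word in conjugates of `u` by powers of `h ^ b`. -/
def wd {G : Type*} [Group G] {n : ℕ} (h u : G) (b : ℕ) (c : Fin n → ℕ) : G :=
  (List.ofFn fun i : Fin n => (h ^ (b * (i : ℕ)) * u * (h ^ (b * (i : ℕ)))⁻¹) ^ c i).prod

theorem map_wd {G H : Type*} [Group G] [Group H] (f : G →* H) {n : ℕ} (h u : G) (b : ℕ) (c : Fin n → ℕ) :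
    f (wd h u b c) = wd (f h) (f u) b c := by
  rw [wd, wd, map_list_prod, List.map_ofFn]
  congr 1
  congr 1
  funext i
  simp only [Function.comp_apply, map_pow, map_mul, map_inv]

variable {F : Type*} [Field F] {p : ℕ} [Fact p.Prime] [Algebra (ZMod p) F]

/-- Natural-number coordinates. -/
noncomputable def coord {n : ℕ} (B : Module.Basis (Fin n) (ZMod p) F) (c : F) : Fin n → ℕ :=
  fun i => (B.repr c i).val

theorem sum_coord {n : ℕ} (B : Module.Basis (Fin n) (ZMod p) F) (c : F) : ∑ i, coord B c i • B i = c := by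
  conv_rhs => rw [← B.sum_repr c]
  refine Finset.sum_congr rfl fun i _ => ?_
  rw [coord, ← Nat.cast_smul_eq_nsmul (ZMod p), ZMod.natCast_zmod_val]

variable {G : Type*} [Group G]

theorem exists_root_map {n : ℕ} [NeZero n] (h u : G) (b : ℕ) (x θ : F) (B : Module.Basis (Fin n) (ZMod p) F)
    (hB : ∀ i : Fin n, B i = x ^ (i : ℕ)) (hu : u ^ p = 1)
    (hcomm : ∀ i j : Fin n, Commute (h ^ (b * (i : ℕ)) * u * (h ^ (b * (i : ℕ)))⁻¹)
      (h ^ (b * (j : ℕ)) * u * (h ^ (b * (j : ℕ)))⁻¹))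
    (hm : h ^ (b * n) * u * (h ^ (b * n))⁻¹ = wd h u b (coord B (x ^ n)))
    (hs : h * u * h⁻¹ = wd h u b (coord B θ)) :
    ∃ υ : F → G, (∀ c d, υ (c + d) = υ c * υ d) ∧ υ 1 = u ∧ (∀ c, h * υ c * h⁻¹ = υ (θ * c)) ∧
      (∀ c, υ c = wd h u b (coord B c)) := by
  classical
  set T : Fin n → G := fun i => h ^ (b * (i : ℕ)) * u * (h ^ (b * (i : ℕ)))⁻¹ with hT
  set K := Subgroup.closure (Set.range T) with hK
  have : IsMulCommutative K := Subgroup.isMulCommutative_closure (by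
    rintro _ ⟨i, rfl⟩ _ ⟨j, rfl⟩
    exact (hcomm i j).eq)
  let _ : CommGroup K := { (inferInstance : Group K) with mul_comm := fun a b => mul_comm' a b }
  let S : Fin n → K := fun i => ⟨T i, Subgroup.subset_closure ⟨i, rfl⟩⟩
  have hSp : ∀ i, S i ^ p = 1 := fun i => Subtype.ext (by
    show T i ^ p = 1
    rw [hT]
    simp only [conj_pow, hu, mul_one, mul_inv_cancel])
  let V : F → K := fun c => ∏ i, S i ^ coord B c i
  set υ : F → G := fun c => (V c : G) with hυ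
  have hwd : ∀ c, υ c = wd h u b (coord B c) := fun c => by
    show ((V c : K) : G) = _
    rw [show V c = (List.ofFn fun i => S i ^ coord B c i).prod from (List.prod_ofFn).symm]
    rw [← Subgroup.coe_subtype, map_list_prod, List.map_ofFn, wd]
    rfl
  have hadd : ∀ c d, υ (c + d) = υ c * υ d := fun c d => by
    show ((V (c + d) : K) : G) = (V c : G) * V d
    rw [← Subgroup.coe_mul]
    congr 1
    show ∏ i, S i ^ coord B (c + d) i = (∏ i, S i ^ coord B c i) * ∏ i, S i ^ coord B d i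
    rw [← Finset.prod_mul_distrib]
    refine Finset.prod_congr rfl fun i _ => ?_
    rw [← pow_add, coord, map_add, Finsupp.add_apply, ZMod.val_add]
    exact (pow_eq_pow_mod _ (hSp i)).symm
  have hzero : υ 0 = 1 := by
    have := hadd 0 0
    rwa [add_zero, left_eq_mul] at this
  have hbasis : ∀ i, υ (B i) = T i := fun i => by
    show ((V (B i) : K) : G) = T i
    have : V (B i) = S i := by
      refine (Finset.prod_eq_single i (fun j _ hj => ?_) fun hi => absurd (Finset.mem_univ i) hi).trans ?_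
      · rw [coord, B.repr_self, Finsupp.single_eq_of_ne hj, ZMod.val_zero, pow_zero]
      · rw [coord, B.repr_self, Finsupp.single_eq_same, ZMod.val_one, pow_one]
    rw [this]
  have ext_basis : ∀ (f g : F → G), (∀ c d, f (c + d) = f c * f d) → (∀ c d, g (c + d) = g c * g d) →
      (∀ i, f (B i) = g (B i)) → ∀ c, f c = g c := by
    intro f g hf hg hfg c
    have f0 : f 0 = g 0 := by
      have a := hf 0 0
      have c := hg 0 0
      rw [add_zero, left_eq_mul] at a c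
      rw [a, c]
    rw [← sum_coord B c]
    refine Finset.sum_induction _ (fun z => f z = g z) (fun a c ha hc => by rw [hf, hg, ha, hc]) f0 fun i _ => ?_
    induction coord B c i with
    | zero => rw [zero_smul]; exact f0
    | succ k ih => rw [succ_nsmul, hf, hg, ih, hfg]
  have hconj : ∀ (g : G) (k : F), (∀ i, g * T i * g⁻¹ = υ (k * B i)) → ∀ c, g * υ c * g⁻¹ = υ (k * c) := by
    intro g k hi
    refine ext_basis _ _ (fun c d => ?_) (fun c d => by rw [mul_add, hadd]) fun i => by rw [hbasis, hi]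
    rw [hadd]
    group
  have hxB : ∀ c, h ^ b * υ c * (h ^ b)⁻¹ = υ (x * c) := by
    refine hconj _ _ fun i => ?_
    have e : h ^ b * T i * (h ^ b)⁻¹ = h ^ (b * ((i : ℕ) + 1)) * u * (h ^ (b * ((i : ℕ) + 1)))⁻¹ := by
      rw [hT, mul_add, mul_one, pow_add, ← (Commute.pow_pow_self h b (b * (i : ℕ))).eq]
      group
    rw [e, hB, ← pow_succ']
    by_cases hi : (i : ℕ) + 1 < n
    · exact (show T ⟨(i : ℕ) + 1, hi⟩ = _ by rw [← hbasis, hB])
    · rw [show (i : ℕ) + 1 = n by omega, hm, hwd]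
  have hone : υ 1 = u := by
    have := hbasis 0
    rw [hB] at this
    simpa [hT] using this
  have hxpow : ∀ (i : ℕ) c, h ^ (b * i) * υ c * (h ^ (b * i))⁻¹ = υ (x ^ i * c) := by
    intro i
    induction i with
    | zero => intro c; simp
    | succ i ih =>
      intro c
      rw [mul_add, mul_one, pow_add,
        show h ^ (b * i) * h ^ b * υ c * (h ^ (b * i) * h ^ b)⁻¹ =
          h ^ (b * i) * (h ^ b * υ c * (h ^ b)⁻¹) * (h ^ (b * i))⁻¹ by group, hxB, ih, ← mul_assoc, pow_succ]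
  refine ⟨υ, hadd, hone, hconj h θ fun i => ?_, hwd⟩
  rw [hT, show h * (h ^ (b * (i : ℕ)) * u * (h ^ (b * (i : ℕ)))⁻¹) * h⁻¹ =
      h ^ (b * (i : ℕ)) * (h * u * h⁻¹) * (h ^ (b * (i : ℕ)))⁻¹ by
    rw [← mul_assoc, ← mul_assoc, (Commute.self_pow h (b * (i : ℕ))).eq]
    group, hs, ← hwd, hxpow, hB, mul_comm]

/-- The Bruhat bound. -/
theorem card_le_bruhat {F : Type*} [Field F] [Fintype F] (h u w : G) (ζ : Fˣ)
    (hζ : ∀ z : Fˣ, z ∈ Subgroup.zpowers ζ) (υ : F → G) (hadd : ∀ c d, υ (c + d) = υ c * υ d) (h1 : υ 1 = u)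
    (hσ : ∀ c, h * υ c * h⁻¹ = υ ((ζ : F) ^ 2 * c)) (hinv : w * h * w⁻¹ = h⁻¹)
    (hE1 : w * u * w⁻¹ = u⁻¹ * w * u⁻¹)
    (hdef : w * υ ((ζ : F)⁻¹) * w⁻¹ = (υ (ζ : F))⁻¹ * h * w * (υ (ζ : F))⁻¹)
    (hgen : Subgroup.closure ({u, h, w} : Set G) = ⊤) :
    Finite G ∧ Nat.card G ≤ Fintype.card F * (Fintype.card F ^ 2 - 1) ∧
      (w * w = 1 → (2 : F) ≠ 0 → 2 * Nat.card G ≤ Fintype.card F * (Fintype.card F ^ 2 - 1)) := by
  classical
  set q := Fintype.card F with hq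
  have hq2 : 2 ≤ q := Fintype.one_lt_card
  have hzero : υ 0 = 1 := by
    have := hadd 0 0
    rwa [add_zero, left_eq_mul] at this
  have hneg : ∀ c, υ (-c) = (υ c)⁻¹ := fun c =>
    eq_inv_of_mul_eq_one_right (by rw [← hadd, add_neg_cancel, hzero])
  have hζ0 : (ζ : F) ≠ 0 := ζ.ne_zero
  have hσpow : ∀ (i : ℕ) c, h ^ i * υ c = υ (((ζ : F) ^ 2) ^ i * c) * h ^ i := by
    intro i
    induction i with
    | zero => intro c; simp
    | succ i ih =>
      intro c
      rw [pow_succ, mul_assoc, show h * υ c = υ ((ζ : F) ^ 2 * c) * h by rw [← hσ, inv_mul_cancel_right],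
        ← mul_assoc, ih, pow_succ ((ζ : F) ^ 2), mul_assoc, mul_assoc]
  have hσback : ∀ (i : ℕ) c, ∃ d, υ c * h ^ i = h ^ i * υ d := fun i c =>
    ⟨(((ζ : F) ^ 2) ^ i)⁻¹ * c, by
      rw [hσpow, ← mul_assoc, mul_inv_cancel₀ (pow_ne_zero _ (pow_ne_zero _ hζ0)), one_mul]⟩
  -- the identities
  have hE : ∀ m : ℕ, w * υ (((ζ : F) ^ m)⁻¹) * w⁻¹ = υ (-(ζ : F) ^ m) * h ^ m * w * υ (-(ζ : F) ^ m) := by
    intro m
    induction m using Nat.twoStepInduction with
    | zero => simp only [pow_zero, inv_one, mul_one, h1, hneg]; exact hE1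
    | one => simp only [pow_one, hneg]; exact hdef
    | more m ih _ =>
      have e : υ (((ζ : F) ^ (m + 2))⁻¹) = h⁻¹ * υ (((ζ : F) ^ m)⁻¹) * h := by
        have := hσ (((ζ : F) ^ (m + 2))⁻¹)
        rw [show (ζ : F) ^ 2 * ((ζ : F) ^ (m + 2))⁻¹ = ((ζ : F) ^ m)⁻¹ by
          rw [pow_add]; field_simp] at this
        rw [← this]
        group
      have hwi : w * h⁻¹ * w⁻¹ = h := by
        rw [← conj_inv, hinv, inv_inv]
      have hup : h * υ (-(ζ : F) ^ m) * h⁻¹ = υ (-(ζ : F) ^ (m + 2)) := by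
        rw [hσ]; congr 1; ring
      have hwh : w * h⁻¹ = h * w := mul_inv_eq_iff_eq_mul.1 hwi
      calc w * υ (((ζ : F) ^ (m + 2))⁻¹) * w⁻¹
          = (w * h⁻¹ * w⁻¹) * (w * υ (((ζ : F) ^ m)⁻¹) * w⁻¹) * (w * h * w⁻¹) := by rw [e]; group
        _ = h * (υ (-(ζ : F) ^ m) * h ^ m * w * υ (-(ζ : F) ^ m)) * h⁻¹ := by rw [hwi, hinv, ih]
        _ = (h * υ (-(ζ : F) ^ m) * h⁻¹) * h * h ^ m * (w * h⁻¹) * (h * υ (-(ζ : F) ^ m) * h⁻¹) := by group
        _ = υ (-(ζ : F) ^ (m + 2)) * (h * h ^ m * h) * w * υ (-(ζ : F) ^ (m + 2)) := by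
            rw [hup, hwh]; simp only [mul_assoc]
        _ = _ := by rw [← pow_succ', ← pow_succ]
  have huniq : ∀ m m' : ℕ, (ζ : F) ^ m = (ζ : F) ^ m' → h ^ m = h ^ m' := fun m m' e => by
    have h3 := hE m
    rw [e, hE m'] at h3
    exact (mul_left_cancel (mul_right_cancel (mul_right_cancel h3))).symm
  have hζord : (ζ : F) ^ (q - 1) = 1 := FiniteField.pow_card_sub_one_eq_one _ hζ0
  have hhord : h ^ (q - 1) = 1 := by
    have := huniq (q - 1) 0 (by rw [hζord, pow_zero])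
    rwa [pow_zero] at this
  have hnat : ∀ a : F, a ≠ 0 → ∃ m : ℕ, (ζ : F) ^ m = a := by
    intro a ha
    obtain ⟨m, hm⟩ := (isOfFinOrder_of_finite ζ).mem_powers_iff_mem_zpowers.2 (hζ (Units.mk0 a ha))
    exact ⟨m, by rw [← Units.val_pow_eq_pow_val]; exact congrArg Units.val hm⟩
  have hEall : ∀ a : F, a ≠ 0 → ∃ (m : ℕ) (d : F), w * υ a * w⁻¹ = υ d * h ^ m * w * υ d := by
    intro a ha
    obtain ⟨m, hm⟩ := hnat a⁻¹ (inv_ne_zero ha)
    refine ⟨m, -(ζ : F) ^ m, ?_⟩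
    rw [← hE m, hm, inv_inv]
  have hww : ∀ m0 : ℕ, (ζ : F) ^ m0 = -1 → w * w = (h ^ m0)⁻¹ := by
    intro m0 hm0
    have e := hE m0
    rw [hm0, show (-1 : F)⁻¹ = -1 by rw [inv_neg, inv_one], neg_neg, h1, hneg, h1] at e
    have e1 : (w * u * w⁻¹)⁻¹ = w * u⁻¹ * w⁻¹ := by group
    rw [← e1, hE1] at e
    have e2 : h ^ m0 * w = w⁻¹ := by
      have : u * w⁻¹ * u = u * (h ^ m0 * w) * u := by
        rw [← mul_assoc, ← e]; group
      exact (mul_left_cancel (mul_right_cancel this)).symm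
    calc w * w = (h ^ m0)⁻¹ * (h ^ m0 * w) * w := by group
      _ = (h ^ m0)⁻¹ := by rw [e2]; group
  obtain ⟨m0, hm0⟩ := hnat (-1) (neg_ne_zero.2 one_ne_zero)
  have hw2 := hww m0 hm0
  have hwinv : w⁻¹ = h ^ m0 * w := inv_eq_of_mul_eq_one_left (by rw [mul_assoc, hw2, mul_inv_cancel])
  have hhinv : ∀ i : ℕ, (h ^ i)⁻¹ = h ^ ((q - 2) * i) := fun i => inv_eq_of_mul_eq_one_right (by
    rw [← pow_add, show i + (q - 2) * i = (q - 1) * i by
      rw [show q - 1 = (q - 2) + 1 by omega, add_mul, one_mul, add_comm], pow_mul, hhord, one_pow])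
  have hwh : ∀ i : ℕ, w * h ^ i = h ^ ((q - 2) * i) * w := fun i => by
    rw [← hhinv, ← inv_pow, ← hinv, conj_pow, inv_mul_cancel_right]
  -- the Bruhat set
  let X : Set G := {g | (∃ a, ∃ i : ℕ, g = υ a * h ^ i) ∨ ∃ a, ∃ i : ℕ, ∃ d, g = υ a * h ^ i * w * υ d}
  have hXu : ∀ c, ∀ g ∈ X, υ c * g ∈ X := by
    rintro c g (⟨a, i, rfl⟩ | ⟨a, i, d, rfl⟩)
    · exact Or.inl ⟨c + a, i, by rw [hadd, mul_assoc]⟩
    · exact Or.inr ⟨c + a, i, d, by rw [hadd]; simp only [mul_assoc]⟩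
  have hXh : ∀ j : ℕ, ∀ g ∈ X, h ^ j * g ∈ X := by
    rintro j g (⟨a, i, rfl⟩ | ⟨a, i, d, rfl⟩)
    · exact Or.inl ⟨((ζ : F) ^ 2) ^ j * a, j + i, by rw [← mul_assoc, hσpow, mul_assoc, ← pow_add]⟩
    · refine Or.inr ⟨((ζ : F) ^ 2) ^ j * a, j + i, d, ?_⟩
      rw [← mul_assoc, ← mul_assoc, ← mul_assoc, hσpow, mul_assoc _ (h ^ j), ← pow_add]
  have hXw : ∀ g ∈ X, w * g ∈ X := by
    rintro g (⟨a, i, rfl⟩ | ⟨a, i, d, rfl⟩)
    · obtain ⟨a', ha'⟩ := hσback i a
      exact Or.inr ⟨0, (q - 2) * i, a', by rw [ha', ← mul_assoc, hwh, hzero, one_mul]⟩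
    · by_cases ha : a = 0
      · refine Or.inl ⟨((ζ : F) ^ 2) ^ ((q - 2) * i + (q - 2) * m0) * d, (q - 2) * i + (q - 2) * m0, ?_⟩
        rw [ha, hzero, one_mul, ← hσpow, ← mul_assoc, ← mul_assoc, hwh, mul_assoc (h ^ ((q - 2) * i)), hw2, hhinv,
          pow_add]
      · obtain ⟨m, e, he⟩ := hEall a ha
        set j := (q - 2) * i + (q - 2) * m0
        obtain ⟨e', he'⟩ := hσback j e
        refine Or.inr ⟨e, m + (q - 2) * j, e' + d, ?_⟩
        have hwiw : w * (h ^ i * w) = h ^ j := by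
          rw [← mul_assoc, hwh, mul_assoc, hw2, hhinv, ← pow_add]
        calc w * (υ a * h ^ i * w * υ d) = (w * υ a * w⁻¹) * (w * (h ^ i * w)) * υ d := by group
          _ = υ e * h ^ m * w * (υ e * h ^ j) * υ d := by rw [he, hwiw]; simp only [mul_assoc]
          _ = υ e * h ^ m * (w * h ^ j) * (υ e' * υ d) := by rw [he']; simp only [mul_assoc]
          _ = _ := by rw [hwh, hadd, pow_add]; simp only [mul_assoc]
  have hX : ∀ g : G, g ∈ X := by
    intro g
    have hg : g ∈ Subgroup.closure ({u, h, w} : Set G) := hgen ▸ Subgroup.mem_top g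
    induction hg using Subgroup.closure_induction_left with
    | one => exact Or.inl ⟨0, 0, by rw [hzero, pow_zero, one_mul]⟩
    | mul_left z hz y _ ih =>
      rcases hz with rfl | rfl | rfl
      · rw [← h1]; exact hXu 1 y ih
      · simpa using hXh 1 y ih
      · exact hXw y ih
    | inv_mul_cancel z hz y _ ih =>
      rcases hz with rfl | rfl | rfl
      · rw [← h1, ← hneg]; exact hXu _ y ih
      · rw [← pow_one z, hhinv]; exact hXh _ y ih
      · rw [hwinv, mul_assoc]; exact hXh _ _ (hXw y ih)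
  have bound : ∀ N : ℕ, 0 < N → h ^ N = 1 → Finite G ∧ Nat.card G ≤ q * N * (q + 1) := by
    intro N hN hh
    let f : (F × Fin N) ⊕ (F × Fin N × F) → G :=
      Sum.elim (fun z => υ z.1 * h ^ (z.2 : ℕ)) fun z => υ z.1 * h ^ (z.2.1 : ℕ) * w * υ z.2.2
    have hf : Function.Surjective f := by
      intro g
      have hred : ∀ i : ℕ, h ^ i = h ^ (i % N) := fun i => pow_eq_pow_mod i hh
      rcases hX g with ⟨a, i, rfl⟩ | ⟨a, i, d, rfl⟩
      · exact ⟨Sum.inl (a, ⟨i % N, Nat.mod_lt _ hN⟩), by simp only [f, Sum.elim_inl, ← hred]⟩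
      · exact ⟨Sum.inr (a, ⟨i % N, Nat.mod_lt _ hN⟩, d), by simp only [f, Sum.elim_inr, ← hred]⟩
    refine ⟨Finite.of_surjective f hf, (Nat.card_le_card_of_surjective f hf).trans (le_of_eq ?_)⟩
    rw [Nat.card_sum, Nat.card_prod, Nat.card_prod, Nat.card_prod, Nat.card_fin, Nat.card_eq_fintype_card, ← hq]
    ring
  have key : q * (q - 1) * (q + 1) = q * (q ^ 2 - 1) := by
    rw [mul_assoc]
    congr 1
    rw [mul_comm, ← Nat.sq_sub_sq, one_pow]
  obtain ⟨hfin, hcard⟩ := bound (q - 1) (by omega) hhord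
  refine ⟨hfin, key ▸ hcard, fun hw h2 => ?_⟩
  have hodd : q % 2 = 1 := FiniteField.odd_card_of_char_ne_two fun e => h2 (by
    have := ringChar.Nat.cast_ringChar (R := F)
    rw [e] at this
    exact_mod_cast this)
  have hk : (ζ : F) ^ ((q - 1) / 2) = -1 := by
    have hsq : ((ζ : F) ^ ((q - 1) / 2)) * ((ζ : F) ^ ((q - 1) / 2)) = 1 := by
      rw [← pow_add, show (q - 1) / 2 + (q - 1) / 2 = q - 1 by omega, hζord]
    refine (mul_self_eq_one_iff.1 hsq).resolve_left fun e => ?_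
    have ho : orderOf ζ = q - 1 := by
      rw [orderOf_eq_card_of_forall_mem_zpowers hζ, Nat.card_units, Nat.card_eq_fintype_card, hq]
    have := Nat.le_of_dvd (by omega) (ho ▸ orderOf_dvd_of_pow_eq_one (Units.ext (by
      rw [Units.val_pow_eq_pow_val, e, Units.val_one]) : ζ ^ ((q - 1) / 2) = 1))
    omega
  have hh : h ^ ((q - 1) / 2) = 1 := inv_eq_one.1 ((hww _ hk).symm.trans hw)
  obtain ⟨-, hc⟩ := bound ((q - 1) / 2) (by omega) hh
  calc 2 * Nat.card G ≤ 2 * (q * ((q - 1) / 2) * (q + 1)) := by omega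
    _ = q * (2 * ((q - 1) / 2)) * (q + 1) := by ring
    _ = _ := by rw [show 2 * ((q - 1) / 2) = q - 1 by omega, key]

end CfsgLib.Pres
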