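import Mathlib

set_option autoImplicit false

/-!
A relation between three conjugates makes a lattice of conjugates commute pairwise.
-/

namespace CfsgLib.Pres

variable {G : Type*} [Group G]

/-- Conjugation by an integer power. -/
def cj (h : G) (m : ℤ) : G ≃* G := MulAut.conj (h ^ m)

theorem cj_add (h : G) (m n : ℤ) (z : G) : cj h m (cj h n z) = cj h (m + n) z := by
  simp only [cj, zpow_add, map_mul, MulAut.mul_apply]

theorem cj_zero (h : G) (z : G) : cj h 0 z = z := by
  simp [cj]

theorem commute_cj_iff (h u : G) (m n : ℤ) : Commute (cj h m u) (cj h n u) ↔ Commute u (cj h (n - m) u) := by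
  have e : cj h n u = cj h m (cj h (n - m) u) := by rw [cj_add, add_sub_cancel]
  rw [e]
  constructor
  · intro hc
    have := hc.map (cj h (-m)).toMonoidHom
    simp only [MulEquiv.coe_toMonoidHom, cj_add, neg_add_cancel, cj_zero] at this
    simpa [cj_add, sub_eq_neg_add] using this
  · intro hc
    exact hc.map (cj h m).toMonoidHom

theorem commute_cj_neg (h u : G) {m : ℤ} (hc : Commute u (cj h m u)) : Commute u (cj h (-m) u) := by
  have e : Commute (cj h 0 u) (cj h m u) := by rw [cj_zero]; exact hc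
  have := (commute_cj_iff h u m 0).1 e.symm
  rwa [zero_sub] at this

theorem commute_of_zpow {z x : G} {c p : ℕ} (hp : z ^ p = 1) (hcop : c.Coprime p) (hc : Commute x (z ^ c)) :
    Commute x z := by
  have hz : z ∈ Subgroup.zpowers (z ^ c) := by
    refine ⟨Nat.gcdA c p, ?_⟩
    have hb : ((1 : ℕ) : ℤ) = c * Nat.gcdA c p + p * Nat.gcdB c p := by
      have := Nat.gcd_eq_gcd_ab c p
      rwa [hcop.gcd_eq_one] at this
    calc (z ^ c) ^ Nat.gcdA c p = z ^ ((c : ℤ) * Nat.gcdA c p) := by rw [zpow_mul, zpow_natCast]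
      _ = z ^ ((c : ℤ) * Nat.gcdA c p + p * Nat.gcdB c p) := by
          rw [zpow_add, zpow_mul z (p : ℤ), zpow_natCast z p, hp, one_zpow, mul_one]
      _ = z := by rw [← hb, Nat.cast_one, zpow_one]
  obtain ⟨i, hi⟩ := hz
  rw [← hi]
  exact hc.zpow_right i

/-- If `u^{h^a} = u^c (u^{h^b})^d` with `u` and `u^{h^b}` commuting, all `u^{h^(ia+jb)}` commute. -/
theorem commute_lattice (h u : G) {p c d : ℕ} (hp : u ^ p = 1) (hc : c.Coprime p) (hd : d.Coprime p) (a b : ℤ)
    (h01 : Commute u (cj h b u)) (hsum : cj h a u = u ^ c * cj h b u ^ d) (i j : ℤ) :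
    Commute u (cj h (a * i + b * j) u) := by
  have hbp : cj h b u ^ p = 1 := by rw [← map_pow, hp, map_one]
  -- the three rules
  have hu_mem : ∀ z : G, Commute z (cj h a u) → Commute z (cj h b u) → Commute z u := by
    intro z h1 h2
    refine commute_of_zpow hp hc ?_
    have e : u ^ c = cj h a u * (cj h b u ^ d)⁻¹ := by rw [hsum, mul_inv_cancel_right]
    rw [e]
    exact h1.mul_right (h2.pow_right d).inv_right
  have hb_mem : ∀ z : G, Commute z (cj h a u) → Commute z u → Commute z (cj h b u) := by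
    intro z h1 h2
    refine commute_of_zpow hbp hd ?_
    have e : cj h b u ^ d = (u ^ c)⁻¹ * cj h a u := by rw [hsum, inv_mul_cancel_left]
    rw [e]
    exact (h2.pow_right c).inv_right.mul_right h1
  have ha_mem : ∀ z : G, Commute z (cj h b u) → Commute z u → Commute z (cj h a u) := by
    intro z h1 h2
    rw [hsum]
    exact (h2.pow_right c).mul_right (h1.pow_right d)
  let C : ℤ → ℤ → Prop := fun i j => Commute u (cj h (a * i + b * j) u)
  have sym : ∀ i j, C i j → C (-i) (-j) := fun i j e => by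
    have := commute_cj_neg h u e
    show Commute u (cj h (a * -i + b * -j) u)
    rwa [show a * -i + b * -j = -(a * i + b * j) by ring]
  have rA : ∀ i j, C (i - 1) j → C i (j - 1) → C i j := by
    intro i j e1 e2
    refine Commute.symm (hu_mem _ ?_ ?_)
    · refine ((commute_cj_iff h u a (a * i + b * j)).2 ?_).symm
      rwa [show a * i + b * j - a = a * (i - 1) + b * j by ring]
    · refine ((commute_cj_iff h u b (a * i + b * j)).2 ?_).symm
      rwa [show a * i + b * j - b = a * i + b * (j - 1) by ring]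
  have rB : ∀ i j, C i (j + 1) → C (i - 1) (j + 1) → C i j := by
    intro i j e1 e2
    have h' : Commute (cj h (a * i + b * j + b) u) (cj h b u) := by
      refine hb_mem _ ?_ ?_
      · refine ((commute_cj_iff h u a (a * i + b * j + b)).2 ?_).symm
        rwa [show a * i + b * j + b - a = a * (i - 1) + b * (j + 1) by ring]
      · have : Commute u (cj h (a * i + b * j + b) u) := by
          rwa [show a * i + b * j + b = a * i + b * (j + 1) by ring]
        exact this.symm
    have := (commute_cj_iff h u b (a * i + b * j + b)).1 h'.symm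
    rwa [show a * i + b * j + b - b = a * i + b * j by ring] at this
  have rC : ∀ i j, C (i + 1) j → C (i + 1) (j - 1) → C i j := by
    intro i j e1 e2
    have h' : Commute (cj h (a * i + b * j + a) u) (cj h a u) := by
      refine ha_mem _ ?_ ?_
      · refine ((commute_cj_iff h u b (a * i + b * j + a)).2 ?_).symm
        rwa [show a * i + b * j + a - b = a * (i + 1) + b * (j - 1) by ring]
      · have : Commute u (cj h (a * i + b * j + a) u) := by
          rwa [show a * i + b * j + a = a * (i + 1) + b * j by ring]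
        exact this.symm
    have := (commute_cj_iff h u a (a * i + b * j + a)).1 h'.symm
    rwa [show a * i + b * j + a - a = a * i + b * j by ring] at this
  have base : C 0 0 ∧ C 0 1 ∧ C 1 0 ∧ C 1 (-1) := by
    refine ⟨?_, ?_, ?_, ?_⟩
    · show Commute u (cj h (a * 0 + b * 0) u)
      rw [mul_zero, mul_zero, add_zero, cj_zero]
    · show Commute u (cj h (a * 0 + b * 1) u)
      rwa [mul_zero, zero_add, mul_one]
    · show Commute u (cj h (a * 1 + b * 0) u)
      rw [mul_zero, add_zero, mul_one]
      exact ha_mem u h01 (Commute.refl u)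
    · show Commute u (cj h (a * 1 + b * -1) u)
      rw [show a * 1 + b * -1 = a - b by ring]
      exact (commute_cj_iff h u b a).1 (ha_mem _ (Commute.refl _) h01.symm)
  suffices h : ∀ N : ℕ, ∀ i j : ℤ, i.natAbs ≤ N → j.natAbs ≤ N → (i + j).natAbs ≤ N → C i j by
    exact h (i.natAbs + j.natAbs) i j (by omega) (by omega) (by omega)
  intro N
  induction N with
  | zero =>
    intro i j hi hj _
    obtain rfl : i = 0 := by omega
    obtain rfl : j = 0 := by omega
    exact base.1
  | succ N ih =>
    rcases Nat.eq_zero_or_pos N with rfl | hN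
    · intro i j hi hj hij
      obtain ⟨b0, b1, b2, b3⟩ := base
      rcases (show (i = 0 ∧ j = 0) ∨ (i = 0 ∧ j = 1) ∨ (i = 1 ∧ j = 0) ∨ (i = 1 ∧ j = -1) ∨
          (i = -0 ∧ j = -1) ∨ (i = -1 ∧ j = -0) ∨ (i = -1 ∧ j = -(-1)) by omega) with
        ⟨rfl, rfl⟩ | ⟨rfl, rfl⟩ | ⟨rfl, rfl⟩ | ⟨rfl, rfl⟩ | ⟨rfl, rfl⟩ | ⟨rfl, rfl⟩ | ⟨rfl, rfl⟩
      exacts [b0, b1, b2, b3, sym 0 1 b1, sym 1 0 b2, sym 1 (-1) b3]
    have inner : ∀ i j : ℤ, i ≠ 0 → j ≠ 0 → i + j ≠ 0 → i.natAbs ≤ N + 1 → j.natAbs ≤ N + 1 →
        (i + j).natAbs ≤ N + 1 → C i j := by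
      intro i j hi0 hj0 hij0 hi hj hij
      rcases Int.lt_or_gt_of_ne hi0 with hi' | hi' <;> rcases Int.lt_or_gt_of_ne hj0 with hj' | hj' <;>
        rcases Int.lt_or_gt_of_ne hij0 with hij' | hij' <;>
        first
          | omega
          | exact rA i j (ih _ _ (by omega) (by omega) (by omega)) (ih _ _ (by omega) (by omega) (by omega))
          | exact rB i j (ih _ _ (by omega) (by omega) (by omega)) (ih _ _ (by omega) (by omega) (by omega))
          | exact rC i j (ih _ _ (by omega) (by omega) (by omega)) (ih _ _ (by omega) (by omega) (by omega))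
          | (have h' : C (-(-i)) (-(-j)) := sym _ _ (rA (-i) (-j) (ih _ _ (by omega) (by omega) (by omega))
              (ih _ _ (by omega) (by omega) (by omega)))
             rwa [neg_neg, neg_neg] at h')
          | (have h' : C (-(-i)) (-(-j)) := sym _ _ (rB (-i) (-j) (ih _ _ (by omega) (by omega) (by omega))
              (ih _ _ (by omega) (by omega) (by omega)))
             rwa [neg_neg, neg_neg] at h')
          | (have h' : C (-(-i)) (-(-j)) := sym _ _ (rC (-i) (-j) (ih _ _ (by omega) (by omega) (by omega))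
              (ih _ _ (by omega) (by omega) (by omega)))
             rwa [neg_neg, neg_neg] at h')
    have any' : ∀ i j : ℤ, i.natAbs ≤ N + 1 → j.natAbs ≤ N + 1 → (i + j).natAbs ≤ N + 1 →
        (i.natAbs ≤ N ∧ j.natAbs ≤ N ∧ (i + j).natAbs ≤ N) ∨ (i ≠ 0 ∧ j ≠ 0 ∧ i + j ≠ 0) → C i j := by
      intro i j hi hj hij h
      rcases h with ⟨a, b, c⟩ | ⟨a, b, c⟩
      · exact ih i j a b c
      · exact inner i j a b c hi hj hij
    intro i j hi hj hij
    by_cases hcase : (i.natAbs ≤ N ∧ j.natAbs ≤ N ∧ (i + j).natAbs ≤ N) ∨ (i ≠ 0 ∧ j ≠ 0 ∧ i + j ≠ 0)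
    · exact any' i j hi hj hij hcase
    rcases (show (i = (N + 1 : ℕ) ∧ j = 0) ∨ (i = 0 ∧ j = (N + 1 : ℕ)) ∨ (i = (N + 1 : ℕ) ∧ j = -(N + 1 : ℕ)) ∨
        (i = -(N + 1 : ℕ) ∧ j = -0) ∨ (i = -0 ∧ j = -(N + 1 : ℕ)) ∨ (i = -(N + 1 : ℕ) ∧ j = -(-(N + 1 : ℕ))) by omega) with
      ⟨rfl, rfl⟩ | ⟨rfl, rfl⟩ | ⟨rfl, rfl⟩ | ⟨rfl, rfl⟩ | ⟨rfl, rfl⟩ | ⟨rfl, rfl⟩
    all_goals first
      | exact rA _ _ (any' _ _ (by omega) (by omega) (by omega) (by omega))
          (any' _ _ (by omega) (by omega) (by omega) (by omega))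
      | exact rB _ _ (any' _ _ (by omega) (by omega) (by omega) (by omega))
          (any' _ _ (by omega) (by omega) (by omega) (by omega))
      | exact sym _ _ (rA _ _ (any' _ _ (by omega) (by omega) (by omega) (by omega))
          (any' _ _ (by omega) (by omega) (by omega) (by omega)))
      | exact sym _ _ (rB _ _ (any' _ _ (by omega) (by omega) (by omega) (by omega))
          (any' _ _ (by omega) (by omega) (by omega) (by omega)))

/-- In the same situation, the conjugates by multiples of `b` commute pairwise. -/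
theorem commute_powers (h u : G) {p c d : ℕ} (hp : u ^ p = 1) (hc : c.Coprime p) (hd : d.Coprime p) (a b : ℤ)
    (h01 : Commute u (cj h b u)) (hsum : cj h a u = u ^ c * cj h b u ^ d) (i j : ℤ) :
    Commute (cj h (b * i) u) (cj h (b * j) u) := by
  rw [commute_cj_iff]
  have := commute_lattice h u hp hc hd a b h01 hsum 0 (j - i)
  rwa [show a * 0 + b * (j - i) = b * j - b * i by ring] at this

end CfsgLib.Pres
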