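import Mathlib
import Cfsg.Agent.Lib.Pres.Lattice
import Cfsg.Agent.Lib.Pres.Bruhat
import Cfsg.Agent.Lib.Classical.SLTwoSylow
import Cfsg.Agent.Lib.Geom.RedundantPSL

set_option autoImplicit false

/-!
Short presentations of `SL_2(q)` and `PSL_2(q)`.
-/

namespace CfsgLib.Pres

open Matrix
open scoped MatrixGroups
open CfsgLib.Classical (uElt uElt_val uElt_add)
open CfsgLib.Geom.SL2Anti (pr)

theorem cj_nat {G : Type*} [Group G] (x y : G) (k : ℕ) : cj x (k : ℤ) y = x ^ k * y * (x ^ k)⁻¹ := by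
  rw [cj, zpow_natCast]
  rfl

/-- Words in three letters. -/
abbrev W3 := FreeGroup (Fin 3)

/-- The first letter. -/
abbrev lu : W3 := FreeGroup.of 0
/-- The second letter. -/
abbrev lh : W3 := FreeGroup.of 1
/-- The third letter. -/
abbrev lw : W3 := FreeGroup.of 2

theorem prod_ofFn_single {M : Type*} [Monoid M] : ∀ {n : ℕ} (f : Fin n → M) (i : Fin n),
    (∀ j, j ≠ i → f j = 1) → (List.ofFn f).prod = f i
  | 0, _, i, _ => i.elim0
  | n + 1, f, i, hf => by
    rw [List.ofFn_succ, List.prod_cons]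
    induction i using Fin.cases with
    | zero =>
      rw [List.prod_eq_one, mul_one]
      intro z hz
      obtain ⟨j, rfl⟩ := List.mem_ofFn.1 hz
      exact hf _ (Fin.succ_ne_zero j)
    | succ i =>
      rw [hf 0 (Fin.succ_ne_zero i).symm, one_mul]
      exact prod_ofFn_single (fun j => f j.succ) i fun j hj => hf _ fun e => hj (Fin.succ_inj.1 e)

/-- A presentation from a generating triple, a list of equations, and a bound on groups satisfying them. -/
theorem presented {T : Type*} [Group T] [Finite T] (t : Fin 3 → T) (hgen : Subgroup.closure (Set.range t) = ⊤)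
    (L : List (W3 × W3)) (hold : ∀ e ∈ L, FreeGroup.lift t e.1 = FreeGroup.lift t e.2)
    (hbound : ∀ (G : Type) [Group G] (π : W3 →* G), Function.Surjective π → (∀ e ∈ L, π e.1 = π e.2) →
      Finite G ∧ Nat.card G ≤ Nat.card T) :
    ∃ rels : Finset W3, rels.card ≤ L.length ∧ Nonempty (PresentedGroup (↑rels : Set W3) ≃* T) := by
  classical
  refine ⟨(L.map fun e => e.1 * e.2⁻¹).toFinset, (List.toFinset_card_le _).trans (le_of_eq (List.length_map _)), ?_⟩
  set rels : Set W3 := ↑((L.map fun e => e.1 * e.2⁻¹).toFinset) with hrels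
  have hrel : ∀ r ∈ rels, FreeGroup.lift t r = 1 := by
    intro r hr
    rw [hrels, Finset.mem_coe, List.mem_toFinset, List.mem_map] at hr
    obtain ⟨e, he, rfl⟩ := hr
    rw [map_mul, map_inv, hold e he, mul_inv_cancel]
  let Φ : PresentedGroup rels →* T := PresentedGroup.toGroup hrel
  have hsurj : Function.Surjective Φ := by
    rw [← MonoidHom.range_eq_top, ← top_le_iff, ← hgen, Subgroup.closure_le]
    rintro _ ⟨i, rfl⟩
    exact ⟨PresentedGroup.of i, PresentedGroup.toGroup.of hrel⟩
  obtain ⟨hfin, hcard⟩ := hbound (PresentedGroup rels) (PresentedGroup.mk rels) (PresentedGroup.mk_surjective rels)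
    fun e he => PresentedGroup.mk_eq_mk_of_mul_inv_mem (by
      rw [hrels, Finset.mem_coe, List.mem_toFinset, List.mem_map]
      exact ⟨e, he, rfl⟩)
  exact ⟨MulEquiv.ofBijective Φ ((Nat.bijective_iff_surjective_and_card Φ).2
    ⟨hsurj, le_antisymm hcard (Nat.card_le_card_of_surjective _ hsurj)⟩)⟩

variable {F : Type*} [Field F]

/-- The diagonal element. -/
def dElt (z : Fˣ) : SL(2, F) := ⟨!![(z : F), 0; 0, ((z⁻¹ : Fˣ) : F)], by simp [det_fin_two_of]⟩

/-- The Weyl element. -/
def wElt (F : Type*) [Field F] : SL(2, F) := ⟨!![0, 1; -1, 0], by simp [det_fin_two_of]⟩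

theorem uElt_zero : uElt (0 : F) = 1 := Matrix.SpecialLinearGroup.transvection_coeff_zero _

theorem uElt_neg (c : F) : uElt (-c) = (uElt c)⁻¹ :=
  eq_inv_of_mul_eq_one_right (by rw [← uElt_add, add_neg_cancel, uElt_zero])

theorem dElt_conj (z : Fˣ) (c : F) : dElt z * uElt c * (dElt z)⁻¹ = uElt ((z : F) ^ 2 * c) := by
  rw [mul_inv_eq_iff_eq_mul]
  refine Subtype.ext ?_
  rw [Matrix.SpecialLinearGroup.coe_mul, Matrix.SpecialLinearGroup.coe_mul, uElt_val, uElt_val]
  ext i j
  fin_cases i <;> fin_cases j <;> simp [dElt, Matrix.mul_apply, Fin.sum_univ_two]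
  field_simp

theorem wElt_dElt (z : Fˣ) : wElt F * dElt z * (wElt F)⁻¹ = (dElt z)⁻¹ := by
  rw [mul_inv_eq_iff_eq_mul]
  refine Subtype.ext ?_
  rw [Matrix.SpecialLinearGroup.coe_mul, Matrix.SpecialLinearGroup.coe_mul, Matrix.SpecialLinearGroup.coe_inv]
  ext i j
  fin_cases i <;> fin_cases j <;>
    simp [dElt, wElt, Matrix.adjugate_fin_two, Matrix.mul_apply, Fin.sum_univ_two]

theorem wElt_uElt_one : wElt F * uElt 1 * (wElt F)⁻¹ = (uElt 1)⁻¹ * wElt F * (uElt 1)⁻¹ := by
  rw [mul_inv_eq_iff_eq_mul, ← uElt_neg]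
  refine Subtype.ext ?_
  simp only [Matrix.SpecialLinearGroup.coe_mul, uElt_val]
  ext i j
  fin_cases i <;> fin_cases j <;> simp [wElt, Matrix.mul_apply, Fin.sum_univ_two, Matrix.vecMul, dotProduct]

theorem wElt_uElt_inv (z : Fˣ) : wElt F * uElt ((z : F)⁻¹) * (wElt F)⁻¹ =
    (uElt (z : F))⁻¹ * dElt z * wElt F * (uElt (z : F))⁻¹ := by
  rw [mul_inv_eq_iff_eq_mul, ← uElt_neg]
  refine Subtype.ext ?_
  simp only [Matrix.SpecialLinearGroup.coe_mul, uElt_val]
  ext i j
  fin_cases i <;> fin_cases j <;>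
    simp [wElt, dElt, Matrix.mul_apply, Fin.sum_univ_two, Matrix.vecMul, dotProduct] <;>
    first | ring1 | (field_simp; ring1)

theorem wElt_sq : wElt F * wElt F = -1 := by
  refine Subtype.ext ?_
  rw [Matrix.SpecialLinearGroup.coe_mul]
  ext i j
  fin_cases i <;> fin_cases j <;> simp [wElt, Matrix.mul_apply, Fin.sum_univ_two]

theorem dElt_pow (z : Fˣ) (k : ℕ) : dElt z ^ k = dElt (z ^ k) := by
  induction k with
  | zero =>
    rw [pow_zero, pow_zero]
    refine Subtype.ext ?_
    ext i j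
    fin_cases i <;> fin_cases j <;> simp [dElt]
  | succ k ih =>
    rw [pow_succ, ih, pow_succ]
    refine Subtype.ext ?_
    rw [Matrix.SpecialLinearGroup.coe_mul]
    ext i j
    fin_cases i <;> fin_cases j <;> simp [dElt, Matrix.mul_apply, Fin.sum_univ_two, mul_comm]

theorem uElt_pow (c : F) (k : ℕ) : uElt c ^ k = uElt (k • c) := by
  induction k with
  | zero => rw [pow_zero, zero_nsmul, uElt_zero]
  | succ k ih => rw [pow_succ, ih, succ_nsmul, uElt_add]

variable {p : ℕ} [Fact p.Prime] [Algebra (ZMod p) F]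

theorem coord_basis {n : ℕ} (B : Module.Basis (Fin n) (ZMod p) F) (i j : Fin n) :
    coord B (B i) j = if j = i then 1 else 0 := by
  rw [coord, B.repr_self]
  split_ifs with e
  · subst e; rw [Finsupp.single_eq_same, ZMod.val_one]
  · rw [Finsupp.single_eq_of_ne e, ZMod.val_zero]

theorem wd_basis {G : Type*} [Group G] {n : ℕ} (h u : G) (b : ℕ) (B : Module.Basis (Fin n) (ZMod p) F) (i : Fin n) :
    wd h u b (coord B (B i)) = h ^ (b * (i : ℕ)) * u * (h ^ (b * (i : ℕ)))⁻¹ := by
  rw [wd, prod_ofFn_single _ i fun j hj => by rw [coord_basis, if_neg hj, pow_zero], coord_basis, if_pos rfl,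
    pow_one]

/-- The standard generators satisfy the coordinate words. -/
theorem wd_std (z : Fˣ) {n : ℕ} (b : ℕ) (B : Module.Basis (Fin n) (ZMod p) F)
    (hB : ∀ i : Fin n, B i = (((z : F) ^ 2) ^ b) ^ (i : ℕ)) (c : F) :
    wd (dElt z) (uElt 1) b (coord B c) = uElt c := by
  let ν : Multiplicative F →* SL(2, F) := MonoidHom.mk' (fun c => uElt c.toAdd) fun a b => uElt_add _ _
  have hterm : ∀ i : Fin n, (dElt z ^ (b * (i : ℕ)) * uElt 1 * (dElt z ^ (b * (i : ℕ)))⁻¹) ^ coord B c i =
      ν (Multiplicative.ofAdd (coord B c i • B i)) := fun i => by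
    rw [dElt_pow, dElt_conj, uElt_pow, mul_one, hB]
    show uElt _ = uElt _
    congr 2
    rw [Units.val_pow_eq_pow_val, ← pow_mul, ← pow_mul, ← pow_mul, mul_comm 2 (b * (i : ℕ)), mul_assoc]
  rw [wd, show (fun i : Fin n => (dElt z ^ (b * (i : ℕ)) * uElt 1 * (dElt z ^ (b * (i : ℕ)))⁻¹) ^ coord B c i) =
      fun i => ν (Multiplicative.ofAdd (coord B c i • B i)) from funext hterm]
  rw [show (fun i : Fin n => ν (Multiplicative.ofAdd (coord B c i • B i))) =
      (⇑ν ∘ fun i => Multiplicative.ofAdd (coord B c i • B i)) from rfl, ← List.map_ofFn, ← map_list_prod,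
    List.prod_ofFn, ← ofAdd_sum, sum_coord]
  rfl

/-- The standard triple. -/
def std (z : Fˣ) : Fin 3 → SL(2, F) := ![uElt 1, dElt z, wElt F]

theorem closure_std [Fintype F] (z : Fˣ) {n : ℕ} (b : ℕ) (B : Module.Basis (Fin n) (ZMod p) F)
    (hB : ∀ i : Fin n, B i = (((z : F) ^ 2) ^ b) ^ (i : ℕ)) :
    Subgroup.closure (Set.range (std z)) = ⊤ := by
  set K := Subgroup.closure (Set.range (std z)) with hK
  have hmem : ∀ i, std z i ∈ K := fun i => Subgroup.subset_closure ⟨i, rfl⟩
  have hu : ∀ c, uElt c ∈ K := fun c => by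
    rw [← wd_std z b B hB c, wd]
    refine Subgroup.list_prod_mem _ fun g hg => ?_
    obtain ⟨i, rfl⟩ := List.mem_ofFn.1 hg
    exact K.pow_mem (K.mul_mem (K.mul_mem (K.pow_mem (hmem 1) _) (hmem 0)) (K.inv_mem (K.pow_mem (hmem 1) _))) _
  refine CfsgLib.Classical.sl_transvection_induction K ?_
  intro i j hij c
  fin_cases i <;> fin_cases j
  · exact absurd rfl hij
  · exact hu c
  · have e : Matrix.SpecialLinearGroup.transvection hij c = wElt F * uElt (-c) * (wElt F)⁻¹ := by
      rw [eq_mul_inv_iff_mul_eq]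
      refine Subtype.ext ?_
      rw [Matrix.SpecialLinearGroup.coe_mul, Matrix.SpecialLinearGroup.coe_mul, uElt_val,
        Matrix.SpecialLinearGroup.transvection_coe]
      ext a b
      fin_cases a <;> fin_cases b <;> simp [wElt, Matrix.mul_apply, Fin.sum_univ_two]
    rw [e]
    exact K.mul_mem (K.mul_mem (hmem 2) (hu _)) (K.inv_mem (hmem 2))
  · exact absurd rfl hij

theorem card_sl (F : Type*) [Field F] [Fintype F] :
    Nat.card SL(2, F) = Fintype.card F * (Fintype.card F ^ 2 - 1) := CfsgLib.Classical.card_sl_two_eq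

theorem two_mul_card_psl (F : Type*) [Field F] [Fintype F] (h2 : (2 : F) ≠ 0) :
    2 * Nat.card (ProjectiveSpecialLinearGroup (Fin 2) F) = Fintype.card F * (Fintype.card F ^ 2 - 1) := by
  have h := Geom.Moebius.card_psl_two_gcd (F := F)
  have hodd : Odd (Fintype.card F) := Nat.odd_iff.2 (FiniteField.odd_card_of_char_ne_two fun e => h2 (by
    have := ringChar.Nat.cast_ringChar (R := F)
    rw [e] at this
    exact_mod_cast this))
  rw [Geom.Moebius.gcd_two_of_odd hodd] at h
  rw [h, ← Nat.sq_sub_sq, one_pow]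

/-- The six basic equations in odd characteristic. -/
noncomputable def baseEqs (p : ℕ) [Fact p.Prime] [Algebra (ZMod p) F] {n : ℕ} (z : Fˣ) (b : ℕ)
    (B : Module.Basis (Fin n) (ZMod p) F) : List (W3 × W3) :=
  [(lu ^ p, 1),
   (lh ^ (b * n) * lu * (lh ^ (b * n))⁻¹, wd lh lu b (coord B ((((z : F) ^ 2) ^ b) ^ n))),
   (lh * lu * lh⁻¹, wd lh lu b (coord B ((z : F) ^ 2))),
   (lw * lu * lw⁻¹, lu⁻¹ * lw * lu⁻¹),
   (lw * wd lh lu b (coord B ((z : F)⁻¹)) * lw⁻¹,
     (wd lh lu b (coord B (z : F)))⁻¹ * lh * lw * (wd lh lu b (coord B (z : F)))⁻¹),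
   (lw * lh * lw⁻¹, lh⁻¹)]

theorem base_hold [CharP F p] {n : ℕ} (z : Fˣ) (b : ℕ) (B : Module.Basis (Fin n) (ZMod p) F)
    (hB : ∀ i : Fin n, B i = (((z : F) ^ 2) ^ b) ^ (i : ℕ)) {e : W3 × W3} (he : e ∈ baseEqs p z b B) :
    FreeGroup.lift (std z) e.1 = FreeGroup.lift (std z) e.2 := by
  simp only [baseEqs, List.mem_cons, List.not_mem_nil, or_false] at he
  rcases he with rfl | rfl | rfl | rfl | rfl | rfl <;>
    simp only [map_mul, map_inv, map_pow, map_one, map_wd, FreeGroup.lift_apply_of, std, Matrix.cons_val_zero,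
      Matrix.cons_val_one, Matrix.cons_val, wd_std z b B hB]
  · rw [uElt_pow, nsmul_one, CharP.cast_eq_zero, uElt_zero]
  · rw [dElt_pow, dElt_conj, mul_one]
    congr 1
    rw [Units.val_pow_eq_pow_val, ← pow_mul, ← pow_mul, ← pow_mul]
    ring_nf
  · rw [dElt_conj, mul_one]
  · exact wElt_uElt_one
  · exact wElt_uElt_inv z
  · exact wElt_dElt z

theorem closure_images {G : Type*} [Group G] (π : W3 →* G) (hπ : Function.Surjective π) :
    Subgroup.closure ({π lu, π lh, π lw} : Set G) = ⊤ := by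
  rw [← top_le_iff, ← MonoidHom.range_eq_top.2 hπ, MonoidHom.range_eq_map, ← FreeGroup.closure_range_of,
    MonoidHom.map_closure, Subgroup.closure_le]
  rintro _ ⟨_, ⟨i, rfl⟩, rfl⟩
  fin_cases i
  exacts [Subgroup.subset_closure (by simp [lu]), Subgroup.subset_closure (by simp [lh]),
    Subgroup.subset_closure (by simp [lw])]

/-- Presentations in odd characteristic, given equations forcing commutativity. -/
theorem odd_present [Fintype F] [CharP F p] {n : ℕ} [NeZero n] (z : Fˣ) (hz : ∀ y : Fˣ, y ∈ Subgroup.zpowers z)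
    (h2 : (2 : F) ≠ 0) (b : ℕ) (B : Module.Basis (Fin n) (ZMod p) F)
    (hB : ∀ i : Fin n, B i = (((z : F) ^ 2) ^ b) ^ (i : ℕ)) (extra : List (W3 × W3))
    (hextra : ∀ e ∈ extra, FreeGroup.lift (std z) e.1 = FreeGroup.lift (std z) e.2)
    (hcomm : ∀ (G : Type) [Group G] (π : W3 →* G), (∀ e ∈ extra, π e.1 = π e.2) → π lu ^ p = 1 →
      ∀ i j : Fin n, Commute (π lh ^ (b * (i : ℕ)) * π lu * (π lh ^ (b * (i : ℕ)))⁻¹)
        (π lh ^ (b * (j : ℕ)) * π lu * (π lh ^ (b * (j : ℕ)))⁻¹))
    (hlen : extra.length ≤ 2) :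
    (∃ rels : Finset W3, rels.card ≤ 9 ∧ Nonempty (PresentedGroup (↑rels : Set W3) ≃* SL(2, F))) ∧
      ∃ rels : Finset W3, rels.card ≤ 9 ∧
        Nonempty (PresentedGroup (↑rels : Set W3) ≃* ProjectiveSpecialLinearGroup (Fin 2) F) := by
  have hlenb : (baseEqs p z b B).length = 6 := rfl
  have common : ∀ (G : Type) [Group G] (π : W3 →* G), Function.Surjective π →
      (∀ e ∈ baseEqs p z b B ++ extra, π e.1 = π e.2) →
      Finite G ∧ Nat.card G ≤ Fintype.card F * (Fintype.card F ^ 2 - 1) ∧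
        (π lw * π lw = 1 → (2 : F) ≠ 0 → 2 * Nat.card G ≤ Fintype.card F * (Fintype.card F ^ 2 - 1)) := by
    intro G _ π hπ hL
    have hb : ∀ e ∈ baseEqs p z b B, π e.1 = π e.2 := fun e he => hL e (List.mem_append_left _ he)
    simp only [baseEqs, List.forall_mem_cons, map_mul, map_inv, map_pow, map_one, map_wd] at hb
    obtain ⟨hu, hm, hs, hE1, hdef, hinv, -⟩ := hb
    obtain ⟨υ, hadd, h1, hσ, hwd⟩ := exists_root_map (π lh) (π lu) b (((z : F) ^ 2) ^ b) ((z : F) ^ 2) B hB hu
      (hcomm G π (fun e he => hL e (List.mem_append_right _ he)) hu) hm hs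
    rw [← hwd, ← hwd] at hdef
    exact card_le_bruhat (π lh) (π lu) (π lw) z hz υ hadd h1 hσ hinv hE1 hdef (closure_images π hπ) |> id
  have hold : ∀ e ∈ baseEqs p z b B ++ extra, FreeGroup.lift (std z) e.1 = FreeGroup.lift (std z) e.2 := fun e he => by
    rcases List.mem_append.1 he with he | he
    · exact base_hold z b B hB he
    · exact hextra e he
  refine ⟨?_, ?_⟩
  · obtain ⟨rels, hc, he⟩ := presented (std z) (closure_std z b B hB) _ hold fun G _ π hπ hL => by
      obtain ⟨hf, hle, -⟩ := common G π hπ hL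
      exact ⟨hf, hle.trans (card_sl F).ge⟩
    exact ⟨rels, hc.trans (by rw [List.length_append, hlenb]; omega), he⟩
  · obtain ⟨rels, hc, he⟩ := presented (T := ProjectiveSpecialLinearGroup (Fin 2) F) (fun i => pr (std z i))
      (by
        rw [show Set.range (fun i => (pr (std z i) : ProjectiveSpecialLinearGroup (Fin 2) F)) =
            pr '' Set.range (std z) from (Set.range_comp pr (std z)), ← MonoidHom.map_closure, closure_std z b B hB,
          Subgroup.map_top_of_surjective _ Geom.SL2Anti.pr_surjective])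
      ((lw * lw, (1 : W3)) :: (baseEqs p z b B ++ extra))
      (by
        have hl : ∀ r, FreeGroup.lift (fun i => pr (std z i)) r = pr (FreeGroup.lift (std z) r) := fun r => by
          have : FreeGroup.lift (fun i => pr (std z i)) = (pr (F := F)).comp (FreeGroup.lift (std z)) := by
            refine FreeGroup.ext_hom _ _ fun i => ?_
            simp
          rw [this]
          rfl
        intro e he
        rw [hl, hl]
        rcases List.mem_cons.1 he with rfl | he
        · simp only [map_mul, map_one, FreeGroup.lift_apply_of, std, Matrix.cons_val]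
          rw [← map_mul, wElt_sq, Geom.SL2Anti.pr_neg h2, map_one]
        · rw [hold e he])
      fun G _ π hπ hL => by
        obtain ⟨hf, -, hle⟩ := common G π hπ fun e he => hL e (List.mem_cons_of_mem _ he)
        have hw : π lw * π lw = 1 := by
          have := hL _ (List.mem_cons_self ..)
          rwa [map_mul, map_one] at this
        have := hle hw h2
        have := two_mul_card_psl F h2
        exact ⟨hf, by omega⟩
    exact ⟨rels, hc.trans (by rw [List.length_cons, List.length_append, hlenb]; omega), he⟩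

/-- The five equations in characteristic two. -/
noncomputable def evenEqs [Algebra (ZMod 2) F] {n : ℕ} (z : Fˣ) (a : ℕ) (B : Module.Basis (Fin n) (ZMod 2) F) :
    List (W3 × W3) :=
  [(lu * lu, 1),
   (lh ^ n * lu * (lh ^ n)⁻¹, wd lh lu 1 (coord B ((((z : F) ^ 2) ^ 1) ^ n))),
   (lu * lw * lu, lw * lu * lw),
   (lh, wd lh lu 1 (coord B (z : F)) * lw * wd lh lu 1 (coord B ((z : F)⁻¹)) * lw * wd lh lu 1 (coord B (z : F)) * lw)] ++
  if n = 1 then [] else [(lh ^ a * lu * (lh ^ a)⁻¹, lu * (lh * lu * lh⁻¹))]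

/-- The five relations present `SL_2(2^n)`. -/
theorem even_present [Fintype F] [CharP F 2] [Algebra (ZMod 2) F] {n : ℕ} [NeZero n] (z : Fˣ)
    (hz : ∀ y : Fˣ, y ∈ Subgroup.zpowers z) (a : ℕ) (ha : n ≠ 1 → ((z : F) ^ 2) ^ a = 1 + (z : F) ^ 2)
    (B : Module.Basis (Fin n) (ZMod 2) F) (hB : ∀ i : Fin n, B i = (((z : F) ^ 2) ^ 1) ^ (i : ℕ)) :
    ∃ rels : Finset W3, rels.card ≤ 5 ∧ Nonempty (PresentedGroup (↑rels : Set W3) ≃* SL(2, F)) := by
  have h2 : (2 : F) = 0 := by exact_mod_cast CharP.cast_eq_zero F 2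
  have huu : ∀ c : F, uElt c * uElt c = 1 := fun c => by
    rw [← uElt_add, ← two_mul, h2, zero_mul, uElt_zero]
  have hww : wElt F * wElt F = 1 := by
    rw [wElt_sq]
    refine Subtype.ext (Matrix.ext fun i j => ?_)
    rw [Matrix.SpecialLinearGroup.coe_neg, Matrix.neg_apply]
    linear_combination -((1 : Matrix (Fin 2) (Fin 2) F) i j) * h2
  obtain ⟨rels, hc, he⟩ := presented (std z) (closure_std z 1 B hB) (evenEqs z a B) (by
    intro e he
    simp only [evenEqs, List.mem_append, List.mem_cons, List.not_mem_nil, or_false] at he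
    rcases he with (rfl | rfl | rfl | rfl) | he
    · simp only [map_mul, map_one, FreeGroup.lift_apply_of, std, Matrix.cons_val_zero]
      exact huu 1
    · simp only [map_mul, map_inv, map_pow, map_wd, FreeGroup.lift_apply_of, std, Matrix.cons_val_zero,
        Matrix.cons_val_one, Matrix.cons_val, wd_std z 1 B hB]
      rw [dElt_pow, dElt_conj, mul_one]
      congr 1
      rw [Units.val_pow_eq_pow_val, pow_one, ← pow_mul, ← pow_mul, mul_comm]
    · simp only [map_mul, FreeGroup.lift_apply_of, std, Matrix.cons_val_zero, Matrix.cons_val]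
      have e := wElt_uElt_one (F := F)
      rw [inv_eq_of_mul_eq_one_right hww, inv_eq_of_mul_eq_one_right (huu 1)] at e
      exact e.symm
    · simp only [map_mul, map_wd, FreeGroup.lift_apply_of, std, Matrix.cons_val_zero, Matrix.cons_val_one,
        Matrix.cons_val, wd_std z 1 B hB]
      have e := wElt_uElt_inv z
      rw [inv_eq_of_mul_eq_one_right hww, inv_eq_of_mul_eq_one_right (huu _)] at e
      calc dElt z = (uElt (z : F) * uElt (z : F)) * dElt z * (wElt F * wElt F) := by rw [huu, hww, one_mul, mul_one]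
        _ = uElt (z : F) * ((uElt (z : F) * dElt z * wElt F * uElt (z : F)) * uElt (z : F) * wElt F) := by
            simp only [mul_assoc]
            rw [← mul_assoc (uElt (z : F)) (uElt (z : F)) (wElt F), huu, one_mul]
        _ = _ := by rw [← e]; simp only [mul_assoc]
    · split_ifs at he with hn
      · simp at he
      · rw [List.mem_singleton] at he
        subst he
        simp only [map_mul, map_inv, map_pow, FreeGroup.lift_apply_of, std, Matrix.cons_val_zero,
          Matrix.cons_val_one]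
        rw [dElt_pow, dElt_conj, dElt_conj, mul_one, mul_one, ← uElt_add, Units.val_pow_eq_pow_val, ← pow_mul,
          mul_comm, pow_mul, ha hn])
    fun G _ π hπ hL => by
      simp only [evenEqs, List.cons_append, List.nil_append, List.forall_mem_cons, map_mul, map_inv, map_pow,
        map_one, map_wd] at hL
      obtain ⟨hu2, hm, hbr, hh, hrest⟩ := hL
      set u := π lu
      set h := π lh
      set w := π lw
      have hu : u ^ 2 = 1 := by rw [sq]; exact hu2
      have hcomm : ∀ i j : Fin n, Commute (h ^ (1 * (i : ℕ)) * u * (h ^ (1 * (i : ℕ)))⁻¹)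
          (h ^ (1 * (j : ℕ)) * u * (h ^ (1 * (j : ℕ)))⁻¹) := by
        intro i j
        by_cases hn : n = 1
        · subst hn; rw [Subsingleton.elim i j]
        rw [if_neg hn] at hrest
        have hsum := hrest _ (List.mem_singleton_self _)
        simp only [map_mul, map_inv, map_pow] at hsum
        set v := h * u * h⁻¹ with hv
        have hvv : v * v = 1 := by
          rw [hv, show h * u * h⁻¹ * (h * u * h⁻¹) = h * (u * u) * h⁻¹ by group, hu2]; group
        have huv : u * v = v * u := by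
          have hsq : (u * v) * (u * v) = 1 := by
            rw [← hsum, show h ^ a * u * (h ^ a)⁻¹ * (h ^ a * u * (h ^ a)⁻¹) = h ^ a * (u * u) * (h ^ a)⁻¹ by group,
              hu2]; group
          have := eq_inv_of_mul_eq_one_left hsq
          rw [_root_.mul_inv_rev, inv_eq_of_mul_eq_one_right hvv, inv_eq_of_mul_eq_one_right hu2] at this
          exact this
        have e1 : cj h ((1 : ℕ) : ℤ) u = v := by rw [cj_nat, pow_one]
        have e2 : cj h ((a : ℕ) : ℤ) u = u * v := by rw [cj_nat]; exact hsum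
        have := commute_powers h u (p := 2) (c := 1) (d := 1) hu (Nat.coprime_one_left 2) (Nat.coprime_one_left 2)
          ((a : ℕ) : ℤ) ((1 : ℕ) : ℤ) (by rw [e1]; exact huv) (by rw [e2, e1, pow_one, pow_one]) (i : ℕ) (j : ℕ)
        rw [← Nat.cast_mul, ← Nat.cast_mul, cj_nat, cj_nat] at this
        exact this
      have hs : h * u * h⁻¹ = wd h u 1 (coord B ((z : F) ^ 2)) := by
        by_cases hn : n = 1
        · subst hn
          simpa using hm
        · have : 1 < n := by have := NeZero.ne n; omega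
          have e := wd_basis h u 1 B ⟨1, this⟩
          rw [hB] at e
          simpa using e.symm
      have hm' : h ^ (1 * n) * u * (h ^ (1 * n))⁻¹ = wd h u 1 (coord B ((((z : F) ^ 2) ^ 1) ^ n)) := by
        rwa [one_mul]
      obtain ⟨υ, hadd, h1, hσ, hwd⟩ := exists_root_map h u 1 (((z : F) ^ 2) ^ 1) ((z : F) ^ 2) B hB hu hcomm hm' hs
      have hw2 : w * w = 1 := by
        have hconj : w = (u * w) * u * (u * w)⁻¹ := by
          rw [show u * w * u * (u * w)⁻¹ = (u * w * u) * w⁻¹ * u⁻¹ by group, hbr]; group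
        rw [hconj, show u * w * u * (u * w)⁻¹ * (u * w * u * (u * w)⁻¹) = u * w * (u * u) * (u * w)⁻¹ by group, hu2]
        group
      have hwi : w⁻¹ = w := inv_eq_of_mul_eq_one_right hw2
      have hui : u⁻¹ = u := inv_eq_of_mul_eq_one_right hu2
      have hυ2 : ∀ c, υ c * υ c = 1 := fun c => by
        have h0 : υ (0 : F) = 1 := by
          have := hadd 0 0
          rwa [add_zero, left_eq_mul] at this
        rw [← hadd, ← two_mul, h2, zero_mul, h0]
      rw [← hwd, ← hwd] at hh
      set A := υ (z : F)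
      set C := υ ((z : F)⁻¹)
      have hA : A⁻¹ = A := inv_eq_of_mul_eq_one_right (hυ2 _)
      have hC : C⁻¹ = C := inv_eq_of_mul_eq_one_right (hυ2 _)
      have hinv : w * h * w⁻¹ = h⁻¹ := by
        rw [hh]
        simp only [_root_.mul_inv_rev, hwi, hA, hC, mul_assoc, hw2, mul_one]
      have hdef : w * C * w⁻¹ = A⁻¹ * h * w * A⁻¹ := by
        rw [hA, hwi, hh, show A * (A * w * C * w * A * w) * w * A = (A * A) * w * C * w * A * (w * w) * A by group,
          hυ2, hw2, one_mul, mul_one, mul_assoc (w * C * w) A A, hυ2, mul_one]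
      obtain ⟨hf, hle, -⟩ := card_le_bruhat h u w z hz υ hadd h1 hσ hinv (by rw [hwi, hui]; exact hbr.symm) hdef
        (closure_images π hπ)
      exact ⟨hf, hle.trans (card_sl F).ge⟩
  refine ⟨rels, hc.trans ?_, he⟩
  unfold evenEqs
  split_ifs <;> simp

/-- Elements moved by the relevant Frobenius powers generate the field. -/
theorem exists_power_basis [Fintype F] (x : F) {n : ℕ} (hn : Fintype.card F = p ^ n)
    (hx : ∀ d, 0 < d → 2 * d ≤ n → x ^ p ^ d ≠ x) :
    ∃ B : Module.Basis (Fin n) (ZMod p) F, ∀ i : Fin n, B i = x ^ (i : ℕ) := by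
  have hp := (Fact.out : p.Prime)
  have : Module.Finite (ZMod p) F := Module.Finite.of_finite
  have hfr : Module.finrank (ZMod p) F = n := by
    have := Module.card_eq_pow_finrank (K := ZMod p) (V := F)
    rw [hn, ZMod.card] at this
    exact (Nat.pow_right_injective hp.two_le this).symm
  have hint : IsIntegral (ZMod p) x := IsIntegral.of_finite _ x
  set m := (minpoly (ZMod p) x).natDegree with hm
  have hmn : m = n := by
    have hdvd : m ∣ n := hfr ▸ minpoly.degree_dvd hint
    have hm0 : 0 < m := minpoly.natDegree_pos hint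
    obtain ⟨k, hk⟩ := hdvd
    by_contra hne
    have hk2 : 2 ≤ k := by
      rcases k with _ | _ | k
      · exfalso; have := Fintype.one_lt_card (α := F); rw [hn, hk, mul_zero, pow_zero] at this; omega
      · exact absurd (by rw [hk, zero_add, mul_one]) hne
      · omega
    refine hx m hm0 (by rw [hk, mul_comm 2 m]; exact Nat.mul_le_mul_left m hk2) ?_
    let K := IntermediateField.adjoin (ZMod p) ({x} : Set F)
    have hKc : Nat.card K = p ^ m := by
      have : Fintype K := Fintype.ofFinite K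
      rw [Nat.card_eq_fintype_card, Module.card_eq_pow_finrank (K := ZMod p), ZMod.card,
        IntermediateField.adjoin.finrank hint]
    have : Fintype K := Fintype.ofFinite K
    have h := FiniteField.pow_card (⟨x, IntermediateField.mem_adjoin_simple_self _ x⟩ : K)
    rw [← Nat.card_eq_fintype_card, hKc] at h
    exact congrArg Subtype.val h
  have hli : LinearIndependent (ZMod p) fun i : Fin n => x ^ (i : ℕ) :=
    hmn ▸ linearIndependent_pow (K := ZMod p) x
  have hn0 : 0 < n := hmn ▸ minpoly.natDegree_pos hint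
  have : Nonempty (Fin n) := ⟨⟨0, hn0⟩⟩
  exact ⟨basisOfLinearIndependentOfCardEqFinrank hli (by rw [Fintype.card_fin, hfr]), fun i => by
    rw [coe_basisOfLinearIndependentOfCardEqFinrank]⟩

omit [Algebra (ZMod p) F] in
theorem sq_gen_moved [Fintype F] (z : Fˣ) (hz : ∀ y : Fˣ, y ∈ Subgroup.zpowers z) {n d : ℕ}
    (hn : Fintype.card F = p ^ n) (hd : 0 < d) (hdn : d < n) : ((z : F) ^ 2) ^ p ^ d ≠ (z : F) ^ 2 := by
  intro e
  have hp := (Fact.out : p.Prime).two_le
  have h1 : 2 ≤ p ^ d := hp.trans (Nat.le_self_pow hd.ne' p)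
  have h2 : 2 * p ^ d ≤ p ^ n := calc
    2 * p ^ d ≤ p * p ^ d := Nat.mul_le_mul_right _ hp
    _ = p ^ (d + 1) := by ring
    _ ≤ p ^ n := Nat.pow_le_pow_right (by omega) hdn
  have ho : orderOf z = p ^ n - 1 := by
    rw [orderOf_eq_card_of_forall_mem_zpowers hz, Nat.card_units, Nat.card_eq_fintype_card, hn]
  have e' : z ^ (2 * (p ^ d - 1)) = 1 := Units.ext (by
    rw [Units.val_pow_eq_pow_val, Units.val_one, pow_mul]
    refine mul_right_cancel₀ (pow_ne_zero 2 z.ne_zero) ?_
    rw [← pow_succ, Nat.sub_add_cancel (by omega), e, one_mul])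
  have := Nat.le_of_dvd (by omega) (ho ▸ orderOf_dvd_of_pow_eq_one e')
  omega

omit [Algebra (ZMod p) F] in
/-- A square `x` outside proper subfields with `x + 1` a square. -/
theorem exists_triangle [Fintype F] (hp2 : p ≠ 2) (h2 : (2 : F) ≠ 0) {n : ℕ} (hn : Fintype.card F = p ^ n)
    (hn3 : 3 ≤ n) :
    ∃ s r : F, s ≠ 0 ∧ r ≠ 0 ∧ r * r = s * s + 1 ∧ ∀ d, 0 < d → 2 * d ≤ n → (s * s) ^ p ^ d ≠ s * s := by
  classical
  have hp := (Fact.out : p.Prime).two_le
  set e := n / 2 with he
  let g : F → F := fun t => ((t - t⁻¹) / 2) * ((t - t⁻¹) / 2)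
  set U : Finset F := Finset.univ.filter fun t => t ≠ 0 with hU
  set bad : Finset F := (Finset.Icc 1 e).biUnion fun d => Finset.univ.filter fun y : F => y ^ p ^ d = y with hbad
  have hbadc : ∀ d, 0 < d → (Finset.univ.filter fun y : F => y ^ p ^ d = y).card ≤ p ^ d := by
    intro d hd
    have h1 : 1 < p ^ d := Nat.one_lt_pow hd.ne' (by omega)
    refine le_trans (Polynomial.card_le_degree_of_subset_roots (p := Polynomial.X ^ p ^ d - Polynomial.X) ?_)
      (FiniteField.X_pow_card_sub_X_natDegree_eq F h1).le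
    intro y hy
    rw [Polynomial.mem_roots (FiniteField.X_pow_card_sub_X_ne_zero F h1)]
    have : y ^ p ^ d = y := (Finset.mem_filter.1 (Finset.mem_def.2 hy)).2
    simp [this]
  have hsum : ∀ m : ℕ, ∑ d ∈ Finset.Icc 1 m, p ^ d + 2 ≤ 2 * p ^ m := by
    intro m
    induction m with
    | zero => simp
    | succ m ih =>
      rw [Finset.sum_Icc_succ_top (by omega)]
      have : 2 * p ^ m ≤ p ^ (m + 1) := by rw [pow_succ']; exact Nat.mul_le_mul_right _ hp
      omega
  have hbadle : bad.card + 2 ≤ 2 * p ^ e := by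
    have h1 : bad.card ≤ ∑ d ∈ Finset.Icc 1 e, p ^ d :=
      Finset.card_biUnion_le.trans (Finset.sum_le_sum fun d hd => hbadc d (Finset.mem_Icc.1 hd).1)
    have := hsum e
    omega
  have himg : U.card ≤ 4 * (U.image g).card := by
    refine Finset.card_le_mul_card_image U 4 fun v _ => ?_
    let P : Polynomial F := (Polynomial.X ^ 2 - 1) ^ 2 - Polynomial.C (4 * v) * Polynomial.X ^ 2
    have hP : P.coeff 0 = 1 := by simp [P, Polynomial.coeff_zero_eq_eval_zero]
    have hP0 : P ≠ 0 := fun e => by rw [e] at hP; simp at hP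
    have hdeg : P.natDegree ≤ 4 := by simp only [P]; compute_degree
    refine le_trans (Polynomial.card_le_degree_of_subset_roots (p := P) ?_) hdeg
    intro t ht
    rw [Polynomial.mem_roots hP0]
    obtain ⟨htU, hv⟩ := Finset.mem_filter.1 (Finset.mem_def.2 ht)
    have ht0 : t ≠ 0 := (Finset.mem_filter.1 htU).2
    have hv' : v = ((t - t⁻¹) / 2) * ((t - t⁻¹) / 2) := hv.symm
    simp only [P, Polynomial.IsRoot, Polynomial.eval_sub, Polynomial.eval_pow, Polynomial.eval_X, Polynomial.eval_one,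
      Polynomial.eval_mul, Polynomial.eval_C]
    rw [hv']
    field_simp
    ring
  have hUc : U.card = Fintype.card F - 1 := by
    rw [hU, Finset.filter_ne' Finset.univ (0 : F), Finset.card_erase_of_mem (Finset.mem_univ _), Finset.card_univ]
  obtain ⟨v, hv, hvb⟩ : ∃ v ∈ U.image g, v ∉ bad := by
    refine Finset.exists_mem_notMem_of_card_lt_card ?_
    have h9 : 9 * p ^ e ≤ p ^ n := by
      calc 9 * p ^ e = 3 ^ 2 * p ^ e := by norm_num
        _ ≤ p ^ 2 * p ^ e := Nat.mul_le_mul_right _ (Nat.pow_le_pow_left (by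
            rcases eq_or_lt_of_le hp with h | h
            · exact absurd h.symm hp2
            · omega) 2)
        _ = p ^ (2 + e) := (pow_add p 2 e).symm
        _ ≤ p ^ n := Nat.pow_le_pow_right (by omega) (by omega)
    have : 1 ≤ p ^ e := Nat.one_le_pow _ _ (by omega)
    omega
  obtain ⟨t, ht, rfl⟩ := Finset.mem_image.1 hv
  have ht0 : t ≠ 0 := (Finset.mem_filter.1 ht).2
  have hnb : ∀ d, 0 < d → 2 * d ≤ n → g t ^ p ^ d ≠ g t := fun d hd hd' hh =>
    hvb (Finset.mem_biUnion.2 ⟨d, Finset.mem_Icc.2 ⟨hd, by omega⟩, Finset.mem_filter.2 ⟨Finset.mem_univ _, hh⟩⟩)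
  refine ⟨(t - t⁻¹) / 2, (t + t⁻¹) / 2, ?_, ?_, ?_, hnb⟩
  · intro h0
    refine hnb 1 one_pos (by omega) ?_
    show (((t - t⁻¹) / 2) * ((t - t⁻¹) / 2)) ^ p ^ 1 = _
    rw [h0, mul_zero, zero_pow (pow_ne_zero _ (by omega))]
    simp [g, h0]
  · intro h0
    have hm1 : g t = -1 := by
      have : g t + 1 = ((t + t⁻¹) / 2) * ((t + t⁻¹) / 2) := by
        simp only [g]; field_simp; ring
      rw [h0, mul_zero] at this
      exact eq_neg_of_add_eq_zero_left this
    refine hnb 1 one_pos (by omega) ?_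
    rw [hm1, pow_one]
    exact ((Fact.out : p.Prime).odd_of_ne_two hp2).neg_one_pow
  · field_simp
    ring

omit [Algebra (ZMod p) F] in
theorem exists_exponent [Fintype F] (z : Fˣ) (hz : ∀ y : Fˣ, y ∈ Subgroup.zpowers z) {s : F} (hs : s ≠ 0) :
    ∃ b : ℕ, ((z : F) ^ 2) ^ b = s * s := by
  obtain ⟨j, hj⟩ := (isOfFinOrder_of_finite z).mem_powers_iff_mem_zpowers.2 (hz (Units.mk0 s hs))
  have hj' : (z : F) ^ j = s := by rw [← Units.val_pow_eq_pow_val]; exact congrArg Units.val hj
  exact ⟨j, by rw [← pow_mul, mul_comm, pow_mul, hj', sq]⟩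

/-- `SL_2(q)` and `PSL_2(q)` have short presentations. -/
theorem presentations (F : Type*) [Field F] [Fintype F] :
    (∃ rels : Finset W3, rels.card ≤ 9 ∧ Nonempty (PresentedGroup (↑rels : Set W3) ≃* SL(2, F))) ∧
    (∃ rels : Finset W3, rels.card ≤ 9 ∧
      Nonempty (PresentedGroup (↑rels : Set W3) ≃* ProjectiveSpecialLinearGroup (Fin 2) F)) ∧
    (CharP F 2 → ∃ rels : Finset W3, rels.card ≤ 5 ∧
      Nonempty (PresentedGroup (↑rels : Set W3) ≃* ProjectiveSpecialLinearGroup (Fin 2) F)) := by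
  classical
  obtain ⟨p, hchar⟩ := CharP.exists F
  obtain ⟨⟨n, hn0⟩, hprime, hn⟩ := FiniteField.card F p
  have := Fact.mk hprime
  have : NeZero n := ⟨hn0.ne'⟩
  replace hn : Fintype.card F = p ^ n := hn
  let _ : Algebra (ZMod p) F := ZMod.algebra F p
  obtain ⟨z, hz⟩ := IsCyclic.exists_generator (α := Fˣ)
  rcases eq_or_ne p 2 with rfl | hp2
  · have h2 : (2 : F) = 0 := by exact_mod_cast CharP.cast_eq_zero F 2
    obtain ⟨B, hB⟩ := exists_power_basis (p := 2) ((z : F) ^ 2) hn
      fun d hd hdn => sq_gen_moved z hz hn hd (by omega)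
    obtain ⟨a, ha⟩ : ∃ a : ℕ, n ≠ 1 → ((z : F) ^ 2) ^ a = 1 + (z : F) ^ 2 := by
      by_cases h0 : (1 : F) + (z : F) = 0
      · refine ⟨0, fun hn1 => absurd ?_ (sq_gen_moved z hz hn one_pos (by have := hn0; omega : 1 < n))⟩
        rw [show (z : F) = -1 by linear_combination h0]
        simp
      · obtain ⟨b, hb⟩ := exists_exponent z hz h0
        exact ⟨b, fun _ => by rw [hb]; linear_combination (z : F) * h2⟩
    obtain ⟨rels, hc, ⟨e⟩⟩ := even_present z hz a ha B (fun i => by rw [pow_one]; exact hB i)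
    have hb : Function.Bijective (pr : SL(2, F) → ProjectiveSpecialLinearGroup (Fin 2) F) := by
      refine ⟨(injective_iff_map_eq_one (pr : SL(2, F) →* _)).2 fun X h => ?_, Geom.SL2Anti.pr_surjective⟩
      obtain ⟨r, hr, e⟩ := Matrix.SpecialLinearGroup.mem_center_iff.1 (Geom.SL2Anti.pr_eq_one.1 h)
      have hr1 : r = 1 := by
        rw [Fintype.card_fin, sq] at hr
        rcases mul_self_eq_one_iff.1 hr with h | h
        · exact h
        · rw [h]; linear_combination -h2
      exact Subtype.ext (by rw [← e, hr1, map_one, Matrix.SpecialLinearGroup.coe_one])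
    have hP := (⟨e.trans (MulEquiv.ofBijective pr hb)⟩ :
      Nonempty (PresentedGroup (↑rels : Set W3) ≃* ProjectiveSpecialLinearGroup (Fin 2) F))
    exact ⟨⟨rels, hc.trans (by norm_num), ⟨e⟩⟩, ⟨rels, hc.trans (by norm_num), hP⟩, fun _ => ⟨rels, hc, hP⟩⟩
  · have h2 : (2 : F) ≠ 0 := fun e => hp2 ((Nat.prime_dvd_prime_iff_eq hprime Nat.prime_two).1
      ((CharP.cast_eq_zero_iff F p 2).1 (by exact_mod_cast e)))
    have hno : ¬ CharP F 2 := fun h => hp2 (CharP.eq F hchar h)
    suffices h : (∃ rels : Finset W3, rels.card ≤ 9 ∧ Nonempty (PresentedGroup (↑rels : Set W3) ≃* SL(2, F))) ∧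
        ∃ rels : Finset W3, rels.card ≤ 9 ∧
          Nonempty (PresentedGroup (↑rels : Set W3) ≃* ProjectiveSpecialLinearGroup (Fin 2) F) from
      ⟨h.1, h.2, fun h' => absurd h' hno⟩
    have hcj : ∀ (G : Type) [Group G] (x y : G) (k : ℕ), cj x (k : ℤ) y = x ^ k * y * (x ^ k)⁻¹ :=
      fun G _ x y k => cj_nat x y k
    rcases le_or_gt n 2 with hn2 | hn2
    · obtain ⟨B, hB⟩ := exists_power_basis (p := p) ((z : F) ^ 2) hn
        fun d hd hdn => sq_gen_moved z hz hn hd (by omega)
      refine odd_present z hz h2 1 B (fun i => by rw [pow_one]; exact hB i)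
        [(lu * (lh * lu * lh⁻¹), (lh * lu * lh⁻¹) * lu)] ?_ ?_ (by simp)
      · intro e he
        rw [List.mem_singleton] at he
        subst he
        simp only [map_mul, map_inv, FreeGroup.lift_apply_of, std, Matrix.cons_val_zero, Matrix.cons_val_one]
        rw [dElt_conj, ← uElt_add, ← uElt_add, add_comm]
      · intro G _ π hE _ i j
        have hc := hE _ (List.mem_singleton_self _)
        simp only [map_mul, map_inv] at hc
        have hi : (i : ℕ) = 0 ∨ (i : ℕ) = 1 := by omega
        have hj : (j : ℕ) = 0 ∨ (j : ℕ) = 1 := by omega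
        rcases hi with hi | hi <;> rcases hj with hj | hj <;> simp only [hi, hj, mul_zero, mul_one, pow_zero, pow_one, inv_one, one_mul]
        exacts [Commute.refl _, hc, (show Commute _ _ from hc).symm, Commute.refl _]
    · obtain ⟨s, r, hs, hr, hrs, hmoved⟩ := exists_triangle (p := p) hp2 h2 hn (by omega)
      obtain ⟨b, hb⟩ := exists_exponent z hz hs
      obtain ⟨a, ha⟩ := exists_exponent z hz hr
      obtain ⟨B, hB⟩ := exists_power_basis (p := p) (((z : F) ^ 2) ^ b) hn (fun d hd hdn => by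
        rw [hb]; exact hmoved d hd hdn)
      refine odd_present z hz h2 b B hB
        [(lu * (lh ^ b * lu * (lh ^ b)⁻¹), (lh ^ b * lu * (lh ^ b)⁻¹) * lu),
         (lh ^ a * lu * (lh ^ a)⁻¹, lu * (lh ^ b * lu * (lh ^ b)⁻¹))] ?_ ?_ (by simp)
      · intro e he
        simp only [List.mem_cons, List.not_mem_nil, or_false] at he
        rcases he with rfl | rfl <;>
          simp only [map_mul, map_inv, map_pow, FreeGroup.lift_apply_of, std, Matrix.cons_val_zero,
            Matrix.cons_val_one, dElt_pow, dElt_conj, mul_one, ← uElt_add]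
        · rw [add_comm]
        · congr 1
          have ea : (((z ^ a : Fˣ)) : F) ^ 2 = r * r := by
            rw [Units.val_pow_eq_pow_val, ← pow_mul, mul_comm, pow_mul, ha]
          have eb : (((z ^ b : Fˣ)) : F) ^ 2 = s * s := by
            rw [Units.val_pow_eq_pow_val, ← pow_mul, mul_comm, pow_mul, hb]
          rw [ea, eb, hrs, add_comm]
      · intro G _ π hE hu i j
        simp only [List.forall_mem_cons, map_mul, map_inv, map_pow] at hE
        obtain ⟨hc, hsum, -⟩ := hE
        have := commute_powers (π lh) (π lu) (p := p) (c := 1) (d := 1) hu (Nat.coprime_one_left p)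
          (Nat.coprime_one_left p) (a : ℤ) (b : ℤ) (by rw [hcj]; exact hc)
          (by rw [hcj, hcj, pow_one, pow_one]; exact hsum) ((i : ℕ) : ℤ) ((j : ℕ) : ℤ)
        rw [← Nat.cast_mul, ← Nat.cast_mul, hcj, hcj] at this
        exact this

end CfsgLib.Pres
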