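import Cfsg.Agent.Lib.Pres.ShortTools
import Mathlib.FieldTheory.Finite.Basic
import Mathlib.Tactic

/-!
# Four relations for the alternating group of degree `p + 2`

`a` plays a translation of `ZMod p`, `b` multiplication by a primitive root `r` times the exchange
of the two extra points, `x` the `3`-cycle through `0` and the two extra points.
-/

set_option autoImplicit false

namespace CfsgLib.Pres.Short

universe u

/-- The four relations. -/
structure AGL (G : Type u) [Group G] (p r : ℕ) (a b x : G) : Prop where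
  prime : p.Prime
  three : 3 ≤ p
  even : Even r
  ne_zero : (r : ZMod p) ≠ 0
  prim : ∀ i : ZMod p, i ≠ 0 → ∃ s : ℕ, i = (r : ZMod p) ^ s
  rel_conj : b * a * b⁻¹ = a ^ r
  rel_pow : a ^ p = b ^ (p - 1) * x ^ 3
  rel_inv : b * x * b⁻¹ = x⁻¹
  rel_pair : (x * (a * x * a⁻¹)) * (x * (a * x * a⁻¹)) = 1
  word : b ∈ Subgroup.closure (Set.range fun n : ℕ => a ^ n * x * (a ^ n)⁻¹)

variable {G : Type u} [Group G] {p r : ℕ} {a b x : G} (h : AGL G p r a b x)
include h

theorem AGL.mem_closure : b ∈ Subgroup.closure ({a, x} : Set G) := by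
  refine (Subgroup.closure_le _).2 ?_ h.word
  rintro _ ⟨n, rfl⟩
  have ha : a ∈ Subgroup.closure ({a, x} : Set G) := Subgroup.subset_closure (Or.inl rfl)
  exact mul_mem (mul_mem (pow_mem ha n) (Subgroup.subset_closure (Or.inr rfl)))
    (inv_mem (pow_mem ha n))

theorem AGL.even_pred : Even (p - 1) :=
  Nat.Odd.sub_odd (h.prime.odd_of_ne_two (by have := h.three; omega)) odd_one

theorem AGL.b_sq_comm : Commute (b ^ 2) x := by
  have h1 : b * (b * x * b⁻¹) * b⁻¹ = x := by
    rw [h.rel_inv]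
    calc b * x⁻¹ * b⁻¹ = (b * x * b⁻¹)⁻¹ := by group
      _ = x := by rw [h.rel_inv, inv_inv]
  rw [sq]
  show b * b * x = x * (b * b)
  calc b * b * x = b * (b * x * b⁻¹) * b⁻¹ * (b * b) := by group
    _ = x * (b * b) := by rw [h1]

theorem AGL.z_comm : Commute (a ^ p) x := by
  obtain ⟨e, he⟩ := h.even_pred
  rw [h.rel_pow, he, ← two_mul, pow_mul]
  exact ((h.b_sq_comm).pow_left e).mul_left (Commute.pow_self x 3)

theorem AGL.z_central {g : G} (hg : g ∈ Subgroup.closure ({a, x} : Set G)) :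
    Commute (a ^ p) g := by
  induction hg using Subgroup.closure_induction with
  | mem w hw =>
    rcases hw with rfl | rfl
    · exact Commute.pow_self _ _
    · exact h.z_comm
  | one => exact Commute.one_right _
  | mul _ _ _ _ h1 h2 => exact h1.mul_right h2
  | inv _ _ h1 => exact h1.inv_right

theorem AGL.conj_b_pow (s : ℕ) : b ^ s * a * (b ^ s)⁻¹ = a ^ r ^ s := by
  induction s with
  | zero => simp
  | succ s ih =>
    calc b ^ (s + 1) * a * (b ^ (s + 1))⁻¹ = b * (b ^ s * a * (b ^ s)⁻¹) * b⁻¹ := by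
          rw [pow_succ']; group
      _ = (b * a * b⁻¹) ^ r ^ s := by rw [ih, conj_pow]
      _ = a ^ r ^ (s + 1) := by rw [h.rel_conj, ← pow_mul, pow_succ']

theorem AGL.cube_comm : Commute a (x ^ 3) := by
  have : Fact p.Prime := ⟨h.prime⟩
  obtain ⟨k, hk⟩ : ∃ k, r ^ (p - 1) = 1 + p * k := by
    have h1 : ((r ^ (p - 1) : ℕ) : ZMod p) = 1 := by
      rw [Nat.cast_pow]; exact ZMod.pow_card_sub_one_eq_one h.ne_zero
    have h2 : r ^ (p - 1) % p = 1 := by
      rw [← ZMod.val_natCast, h1, ZMod.val_one]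
    exact ⟨r ^ (p - 1) / p, by have := Nat.mod_add_div (r ^ (p - 1)) p; omega⟩
  obtain ⟨z, hz⟩ : ∃ z, z = a ^ p := ⟨_, rfl⟩
  obtain ⟨y, hy⟩ : ∃ y, y = x ^ 3 := ⟨_, rfl⟩
  rw [← hy]
  have hza : Commute z a := hz ▸ Commute.pow_self a p
  have hzx : Commute z x := hz ▸ h.z_comm
  have hzy : Commute z y := hy ▸ hzx.pow_right 3
  have hB : b ^ (p - 1) = z * y⁻¹ := by rw [hz, h.rel_pow, hy, mul_inv_cancel_right]
  have hay : a * y * a⁻¹ = y * z ^ k := by
    have h1 := h.conj_b_pow (p - 1)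
    rw [hB, hk, pow_add, pow_one, pow_mul, ← hz] at h1
    have h2 : y⁻¹ * a * y = a * z ^ k := by
      rw [← h1]
      calc y⁻¹ * a * y = y⁻¹ * (z * a * z⁻¹) * y := by rw [hza.eq, mul_inv_cancel_right]
        _ = z * y⁻¹ * a * (z * y⁻¹)⁻¹ := by
          rw [mul_inv_rev, inv_inv, ← mul_assoc, ← mul_assoc, ← hzy.inv_right.eq]
          simp only [mul_assoc]
          rw [hzy.inv_left.eq]
    calc a * y * a⁻¹ = y * (y⁻¹ * a * y) * a⁻¹ := by group
      _ = y * (a * z ^ k) * a⁻¹ := by rw [h2]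
      _ = y * z ^ k := by rw [← (hza.pow_left k).eq]; group
  have hn : ∀ n : ℕ, a ^ n * y * (a ^ n)⁻¹ = y * z ^ (k * n) := by
    intro n
    induction n with
    | zero => simp
    | succ n ih =>
      calc a ^ (n + 1) * y * (a ^ (n + 1))⁻¹ = a * (a ^ n * y * (a ^ n)⁻¹) * a⁻¹ := by
            rw [pow_succ']; group
        _ = (a * y * a⁻¹) * (a * z ^ (k * n) * a⁻¹) := by rw [ih]; group
        _ = y * z ^ k * z ^ (k * n) := by
          rw [hay, ← (hza.pow_left (k * n)).eq, mul_inv_cancel_right]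
        _ = _ := by rw [mul_assoc, ← pow_add, mul_add, mul_one, add_comm (k * n)]
  have hp : (z ^ k) ^ p = 1 := by
    have h1 := hn p
    rw [← hz, hzy.eq, mul_inv_cancel_right] at h1
    rw [← pow_mul]
    exact mul_eq_left.1 h1.symm
  have hbz : b * z * b⁻¹ = z ^ r := by
    rw [hz, ← conj_pow, h.rel_conj, ← pow_mul, ← pow_mul, mul_comm]
  have hby : b * y * b⁻¹ = y⁻¹ := by rw [hy, ← conj_pow, h.rel_inv, inv_pow]
  have hr2 : (z ^ k) ^ (2 * r) = 1 := by
    have h1 : b * (a * y * a⁻¹) * b⁻¹ = (b * y * b⁻¹) * (b * z * b⁻¹) ^ k := by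
      rw [hay, conj_pow]; group
    have h2 : b * (a * y * a⁻¹) * b⁻¹ = (b * a * b⁻¹) * (b * y * b⁻¹) * (b * a * b⁻¹)⁻¹ := by
      group
    rw [hbz, hby] at h1
    rw [hby, h.rel_conj, show a ^ r * y⁻¹ * (a ^ r)⁻¹ = (a ^ r * y * (a ^ r)⁻¹)⁻¹ by group,
      hn r, mul_inv_rev, h1] at h2
    have h3 : Commute y⁻¹ (z ^ (r * k)) := (hzy.inv_right.pow_left _).symm
    rw [← pow_mul, h3.eq, mul_comm k r, mul_left_inj] at h2
    rw [← pow_mul, show k * (2 * r) = r * k + r * k by ring, pow_add]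
    conv_lhs => arg 1; rw [h2]
    exact inv_mul_cancel _
  have hk1 : z ^ k = 1 := by
    have h1 := pow_gcd_eq_one.2 ⟨hp, hr2⟩
    have hco : Nat.Coprime p (2 * r) := (h.prime.coprime_iff_not_dvd).2 fun hd => by
      rcases (Nat.Prime.dvd_mul h.prime).1 hd with hd | hd
      · have := Nat.le_of_dvd (by norm_num) hd; have := h.three; omega
      · exact h.ne_zero ((ZMod.natCast_eq_zero_iff _ _).2 hd)
    rwa [Nat.coprime_iff_gcd_eq_one.1 hco, pow_one] at h1
  show a * y = y * a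
  rw [hk1, mul_one] at hay
  calc a * y = a * y * a⁻¹ * a := by group
    _ = y * a := by rw [hay]

/-- The cube of `x` is central in `⟨a, x⟩`. -/
theorem AGL.cube_central {g : G} (hg : g ∈ Subgroup.closure ({a, x} : Set G)) :
    Commute (x ^ 3) g := by
  induction hg using Subgroup.closure_induction with
  | mem w hw =>
    rcases hw with rfl | rfl
    · exact h.cube_comm.symm
    · exact Commute.pow_self _ _
  | one => exact Commute.one_right _
  | mul _ _ _ _ h1 h2 => exact h1.mul_right h2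
  | inv _ _ h1 => exact h1.inv_right

theorem AGL.cube_sq : x ^ 3 * x ^ 3 = 1 := by
  have h1 : b * x ^ 3 * b⁻¹ = (x ^ 3)⁻¹ := by rw [← conj_pow, h.rel_inv, inv_pow]
  rw [← (h.cube_central h.mem_closure).eq, mul_inv_cancel_right] at h1
  nth_rewrite 1 [h1]
  exact inv_mul_cancel _

/-- `2 |⟨a, x⟩| ≤ (p + 2)!`. -/
theorem AGL.bound : Finite (Subgroup.closure ({a, x} : Set G)) ∧
    2 * Nat.card (Subgroup.closure ({a, x} : Set G)) ≤ (p + 2).factorial := by
  classical
  have : Fact p.Prime := ⟨h.prime⟩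
  obtain ⟨J, hJ⟩ : ∃ J, J = Subgroup.closure ({a, x} : Set G) := ⟨_, rfl⟩
  have haJ : a ∈ J := hJ ▸ Subgroup.subset_closure (Or.inl rfl)
  have hxJ : x ∈ J := hJ ▸ Subgroup.subset_closure (Or.inr rfl)
  obtain ⟨y, hy⟩ : ∃ y, y = x ^ 3 := ⟨_, rfl⟩
  have hyc : ∀ g ∈ J, Commute y g := fun g hg => hy ▸ h.cube_central (hJ ▸ hg)
  have hy2 : y * y = 1 := hy ▸ h.cube_sq
  let Y : ℕ → G := fun n => a ^ n * x * (a ^ n)⁻¹
  have hYJ : ∀ n, Y n ∈ J := fun n =>
    mul_mem (mul_mem (pow_mem haJ n) hxJ) (inv_mem (pow_mem haJ n))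
  have hper : ∀ n, Y n = Y (n % p) := fun n => by
    show a ^ n * x * (a ^ n)⁻¹ = _
    have hc : Commute ((a ^ p) ^ (n / p)) x := h.z_comm.pow_left _
    conv_lhs => rw [← Nat.mod_add_div n p, pow_add, pow_mul]
    calc a ^ (n % p) * (a ^ p) ^ (n / p) * x * (a ^ (n % p) * (a ^ p) ^ (n / p))⁻¹
        = a ^ (n % p) * ((a ^ p) ^ (n / p) * x * ((a ^ p) ^ (n / p))⁻¹) * (a ^ (n % p))⁻¹ := by
          group
      _ = _ := by rw [hc.eq, mul_inv_cancel_right]
  have hb : ∀ n, b * Y n * b⁻¹ = (Y (r * n))⁻¹ := fun n => by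
    calc b * (a ^ n * x * (a ^ n)⁻¹) * b⁻¹
        = (b * a * b⁻¹) ^ n * (b * x * b⁻¹) * ((b * a * b⁻¹) ^ n)⁻¹ := by rw [conj_pow]; group
      _ = _ := by rw [h.rel_conj, h.rel_inv, ← pow_mul]; show _ = (a ^ (r * n) * x * _)⁻¹; group
  -- the relation between any two of the `Y n`
  let R : ℕ → ℕ → Prop := fun i j => Y i * Y j * (Y i * Y j) = 1
  have hsymm : ∀ i j, R i j → R j i := fun i j hij => by
    show Y j * Y i * (Y j * Y i) = 1
    calc Y j * Y i * (Y j * Y i) = (Y i)⁻¹ * (Y i * Y j * (Y i * Y j)) * Y i := by group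
      _ = 1 := by rw [hij]; group
  have hshift : ∀ i j n, R i j → R (i + n) (j + n) := fun i j n hij => by
    have e : ∀ m, Y (m + n) = a ^ n * Y m * (a ^ n)⁻¹ := fun m => by
      show a ^ (m + n) * x * (a ^ (m + n))⁻¹ = _
      rw [add_comm, pow_add]
      show _ = a ^ n * (a ^ m * x * (a ^ m)⁻¹) * (a ^ n)⁻¹
      group
    show Y (i + n) * Y (j + n) * (Y (i + n) * Y (j + n)) = 1
    rw [e, e]
    calc _ = a ^ n * (Y i * Y j * (Y i * Y j)) * (a ^ n)⁻¹ := by group
      _ = 1 := by rw [hij]; group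
  have hmul : ∀ i j, R i j → R (r * i) (r * j) := fun i j hij => by
    refine hsymm _ _ ?_
    show Y (r * j) * Y (r * i) * (Y (r * j) * Y (r * i)) = 1
    have e : b * (Y i * Y j * (Y i * Y j)) * b⁻¹ =
        (b * Y i * b⁻¹) * (b * Y j * b⁻¹) * ((b * Y i * b⁻¹) * (b * Y j * b⁻¹)) := by group
    rw [hij, mul_one, mul_inv_cancel, hb, hb, ← mul_inv_rev, ← mul_inv_rev, eq_comm,
      inv_eq_one] at e
    exact e
  have hR : ∀ i j : ℕ, i % p ≠ j % p → R i j := by
    intro i j hij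
    have hd : ((j : ZMod p) - i) ≠ 0 := sub_ne_zero.2 fun e =>
      hij ((ZMod.natCast_eq_natCast_iff' _ _ _).1 e.symm)
    obtain ⟨s, hs⟩ := h.prim _ hd
    have h1 : R 0 (r ^ s) := by
      clear hs
      induction s with
      | zero =>
        show Y 0 * Y 1 * (Y 0 * Y 1) = 1
        simpa [Y] using h.rel_pair
      | succ s ih =>
        have := hmul _ _ ih
        rwa [mul_zero, ← pow_succ'] at this
    have h2 := hshift _ _ i h1
    rw [zero_add] at h2
    have e : (r ^ s + i) % p = j % p := by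
      refine (ZMod.natCast_eq_natCast_iff' _ _ _).1 ?_
      rw [Nat.cast_add, Nat.cast_pow, ← hs, sub_add_cancel]
    show Y i * Y j * (Y i * Y j) = 1
    rw [hper j, ← e, ← hper]
    exact h2
  let X : ZMod p → G := fun i => Y i.val * y
  have hX3 : ∀ i, X i ^ 3 = 1 := fun i => by
    show (Y i.val * y) ^ 3 = 1
    rw [(hyc _ (hYJ _)).symm.mul_pow]
    show (a ^ i.val * x * (a ^ i.val)⁻¹) ^ 3 * y ^ 3 = 1
    rw [conj_pow, ← hy, ← (hyc _ (pow_mem haJ _)).eq, mul_inv_cancel_right, ← pow_succ',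
      show (3 + 1) = 2 * 2 by norm_num, pow_mul, sq y, hy2, one_pow]
  have hX2 : ∀ i j, i ≠ j → X i * X j * (X i * X j) = 1 := fun i j hij => by
    have h1 := hR i.val j.val fun e => hij (by
      rw [Nat.mod_eq_of_lt i.val_lt, Nat.mod_eq_of_lt j.val_lt] at e
      exact ZMod.val_injective p e)
    have e : X i * X j = Y i.val * Y j.val := by
      show Y i.val * y * (Y j.val * y) = _
      rw [← mul_assoc, mul_assoc (Y i.val) y, (hyc _ (hYJ _)).eq]
      simp only [mul_assoc]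
      rw [hy2, mul_one]
    rw [e]
    exact h1
  obtain ⟨hfin, hcard⟩ := carmichael X hX3 hX2
  rw [ZMod.card] at hcard
  obtain ⟨N, hN⟩ : ∃ N, N = Subgroup.closure (Set.range X) := ⟨_, rfl⟩
  have hmemN : ∀ n, Y n * y ∈ N := fun n => by
    rw [hN]
    refine Subgroup.subset_closure ⟨(n : ZMod p), ?_⟩
    show Y (n : ZMod p).val * y = _
    rw [ZMod.val_natCast, ← hper]
  -- elements that differ from `N` by a power of `y`
  let L : Subgroup G :=
    { carrier := {g | g ∈ J ∧ (g ∈ N ∨ g * y ∈ N)}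
      one_mem' := ⟨one_mem _, Or.inl (one_mem _)⟩
      mul_mem' := by
        rintro g g' ⟨hg, hg1⟩ ⟨hg', hg1'⟩
        refine ⟨mul_mem hg hg', ?_⟩
        rcases hg1 with h1 | h1 <;> rcases hg1' with h2 | h2
        · exact Or.inl (mul_mem h1 h2)
        · exact Or.inr (by rw [mul_assoc]; exact mul_mem h1 h2)
        · refine Or.inr ?_
          rw [mul_assoc, ← (hyc g' hg').eq, ← mul_assoc]
          exact mul_mem h1 h2
        · refine Or.inl ?_
          have := mul_mem h1 h2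
          rwa [mul_assoc g, ← mul_assoc y, (hyc g' hg').eq, mul_assoc g', hy2, mul_one] at this
      inv_mem' := by
        rintro g ⟨hg, hg1⟩
        refine ⟨inv_mem hg, ?_⟩
        rcases hg1 with h1 | h1
        · exact Or.inl (inv_mem h1)
        · refine Or.inr ?_
          have := inv_mem h1
          rwa [mul_inv_rev, inv_eq_of_mul_eq_one_right hy2, (hyc _ (inv_mem hg)).eq] at this }
  have hbL : b ∈ L := by
    refine (Subgroup.closure_le L).2 ?_ h.word
    rintro _ ⟨n, rfl⟩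
    exact ⟨hYJ n, Or.inr (hmemN n)⟩
  have haN : ∀ g ∈ N, a * g * a⁻¹ ∈ N := by
    intro g hg
    have hle : N ≤ N.comap (MulAut.conj a).toMonoidHom := by
      conv_lhs => rw [hN]
      rw [Subgroup.closure_le]
      rintro _ ⟨i, rfl⟩
      show a * (Y i.val * y) * a⁻¹ ∈ N
      have := hmemN (i.val + 1)
      convert this using 1
      calc a * (Y i.val * y) * a⁻¹ = a * Y i.val * a⁻¹ * (a * y * a⁻¹) := by group
        _ = Y (i.val + 1) * y := by
          rw [(hyc a haJ).symm.eq, mul_inv_cancel_right]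
          congr 1
          show a * (a ^ i.val * x * (a ^ i.val)⁻¹) * a⁻¹ = a ^ (i.val + 1) * x * _
          rw [pow_succ']; group
    exact hle hg
  have hNJ : N ≤ J := by
    rw [hN, Subgroup.closure_le]
    rintro _ ⟨i, rfl⟩
    exact mul_mem (hYJ _) (hy ▸ pow_mem hxJ 3)
  have hr1 : a ^ (r - 1) ∈ N := by
    have hr : 1 ≤ r := Nat.pos_of_ne_zero fun e => h.ne_zero (by rw [e]; simp)
    have e : a ^ (r - 1) = b * a * b⁻¹ * a⁻¹ := by
      rw [h.rel_conj]
      nth_rewrite 2 [show r = r - 1 + 1 by omega]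
      rw [pow_succ, mul_inv_cancel_right]
    rw [e]
    rcases hbL.2 with h1 | h1
    · have := mul_mem h1 (haN _ (inv_mem h1))
      convert this using 1
      group
    · have := mul_mem h1 (haN _ (inv_mem h1))
      convert this using 1
      calc b * a * b⁻¹ * a⁻¹ = b * (y * a * y⁻¹) * b⁻¹ * a⁻¹ := by
            rw [(hyc a haJ).eq, mul_inv_cancel_right]
        _ = b * y * (a * (b * y)⁻¹ * a⁻¹) := by group
  have hb2 : b ^ 2 ∈ N := by
    rcases hbL.2 with h1 | h1
    · exact pow_mem h1 2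
    · have := mul_mem h1 h1
      rwa [mul_assoc b, ← mul_assoc y, (hyc b hbL.1).eq, mul_assoc b, hy2, mul_one, ← sq] at this
  have hp2 : a ^ (p * 2) ∈ N := by
    obtain ⟨e, he⟩ := h.even_pred
    have hc : Commute (b ^ (p - 1)) (x ^ 3) := (hy ▸ hyc _ (pow_mem hbL.1 (p - 1))).symm
    rw [pow_mul, h.rel_pow, hc.mul_pow, sq (x ^ 3), h.cube_sq, mul_one, ← pow_mul,
      mul_comm (p - 1) 2, pow_mul]
    exact pow_mem hb2 _
  have haN' : a ∈ N := by
    have hco : Nat.Coprime (r - 1) (p * 2) := by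
      refine Nat.Coprime.mul_right ?_ ?_
      · refine (h.prime.coprime_iff_not_dvd.2 fun hd => ?_).symm
        have hr : (r : ZMod p) = 1 := by
          have h0 : ((r - 1 : ℕ) : ZMod p) = 0 := (ZMod.natCast_eq_zero_iff _ _).2 hd
          rwa [Nat.cast_sub (Nat.pos_of_ne_zero fun e => h.ne_zero (by rw [e]; simp)),
            Nat.cast_one, sub_eq_zero] at h0
        have h2 : (2 : ZMod p) ≠ 0 := fun e => by
          have := (ZMod.natCast_eq_zero_iff 2 p).1 (by exact_mod_cast e)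
          have := Nat.le_of_dvd (by norm_num) this
          have := h.three
          omega
        obtain ⟨s, hs⟩ := h.prim 2 h2
        rw [hr, one_pow] at hs
        exact one_ne_zero (α := ZMod p) (by linear_combination hs)
      · obtain ⟨e, he⟩ := h.even
        refine Nat.coprime_two_right.2 ?_
        have : 1 ≤ r := Nat.pos_of_ne_zero fun e' => h.ne_zero (by rw [e']; simp)
        exact ⟨e - 1, by omega⟩
    obtain ⟨u, v, huv⟩ : ∃ u v : ℤ, u * (r - 1 : ℕ) + v * (p * 2 : ℕ) = 1 :=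
      ⟨(r - 1).gcdA (p * 2), (r - 1).gcdB (p * 2), by
        have := Nat.gcd_eq_gcd_ab (r - 1) (p * 2)
        rw [hco.gcd_eq_one] at this
        push_cast at this ⊢
        linarith⟩
    have := mul_mem (Subgroup.zpow_mem N hr1 u) (Subgroup.zpow_mem N hp2 v)
    rwa [← zpow_natCast a (r - 1), ← zpow_natCast a (p * 2), ← zpow_mul, ← zpow_mul, ← zpow_add,
      mul_comm _ u, mul_comm _ v, huv, zpow_one] at this
  have hyN : y ∈ N := by
    obtain ⟨e, he⟩ := h.even_pred
    have := mul_mem (inv_mem (pow_mem hb2 e)) (pow_mem haN' p)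
    rwa [h.rel_pow, ← pow_mul, two_mul, ← he, ← hy, inv_mul_cancel_left] at this
  have hxN : x ∈ N := by
    have := mul_mem (hmemN 0) hyN
    simpa [Y, mul_assoc, hy2] using this
  have hJN : J = N := le_antisymm (by
    rw [hJ, Subgroup.closure_le]
    rintro g (rfl | rfl)
    · exact haN'
    · exact hxN) hNJ
  rw [← hJ, hJN, hN]
  exact ⟨hfin, hcard⟩

end CfsgLib.Pres.Short
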