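import Cfsg.Agent.Lib.Pres.GlueAlt

/-!
# A passenger in the `AGL` relations

The relation `a ^ p = b ^ (p - 1)` may carry an element `Q` that commutes with `x`, and
`(x · a x a⁻¹)² = x ^ 3` makes `x ^ 3` central.
-/

set_option autoImplicit false

namespace CfsgLib.Pres.Short

open Equiv

universe u

variable {G : Type u} [Group G] {p r : ℕ} {a b d Q : G}

/-- With the pair relation twisted by `d ^ 6`, this element is central and of order at most two. -/
theorem twist_central (hp : p.Prime) (hr0 : (r : ZMod p) ≠ 0)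
    (hprim : ∀ i : ZMod p, i ≠ 0 → ∃ s : ℕ, i = (r : ZMod p) ^ s)
    (hgen : Subgroup.closure ({a, d} : Set G) = ⊤)
    (hb : b ∈ Subgroup.closure ({a, d ^ 2} : Set G))
    (rel_conj : b * a * b⁻¹ = a ^ r) (hz : Commute (a ^ p) (d ^ 2))
    (rel_inv : b * d ^ 2 * b⁻¹ = (d ^ 2)⁻¹)
    (rel_pair : (d ^ 2 * (a * d ^ 2 * a⁻¹)) * (d ^ 2 * (a * d ^ 2 * a⁻¹)) = (d ^ 2) ^ 3) :
    (∀ g : G, Commute ((d ^ 2) ^ 3) g) ∧ (d ^ 2) ^ 3 * (d ^ 2) ^ 3 = 1 := by
  have : Fact p.Prime := ⟨hp⟩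
  obtain ⟨x, hx⟩ : ∃ x, x = d ^ 2 := ⟨_, rfl⟩
  rw [← hx] at hb hz rel_inv rel_pair ⊢
  obtain ⟨Y, hY⟩ : ∃ Y : ℕ → G, ∀ n, Y n = a ^ n * x * (a ^ n)⁻¹ := ⟨_, fun _ => rfl⟩
  have hY0 : Y 0 = x := by rw [hY]; simp
  have hY1 : Y 1 = a * x * a⁻¹ := by rw [hY, pow_one]
  have hper : ∀ n k, Y (n + p * k) = Y n := fun n k => by
    rw [hY, hY, pow_add, pow_mul]
    have hc : Commute ((a ^ p) ^ k) x := hz.pow_left _
    calc a ^ n * (a ^ p) ^ k * x * (a ^ n * (a ^ p) ^ k)⁻¹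
        = a ^ n * ((a ^ p) ^ k * x * ((a ^ p) ^ k)⁻¹) * (a ^ n)⁻¹ := by group
      _ = _ := by rw [hc.eq, mul_inv_cancel_right]
  have hb' : ∀ n, b * Y n * b⁻¹ = (Y (r * n))⁻¹ := fun n => by
    calc b * Y n * b⁻¹ = (b * a * b⁻¹) ^ n * (b * x * b⁻¹) * ((b * a * b⁻¹) ^ n)⁻¹ := by
          rw [hY, conj_pow]; group
      _ = _ := by rw [rel_conj, rel_inv, ← pow_mul, hY]; group
  have hR : ∀ n : ℕ, (n : ZMod p) ≠ 0 → Y 0 * Y n * (Y 0 * Y n) = x ^ 3 := by
    intro n hn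
    obtain ⟨s, hs⟩ := hprim _ hn
    have h1 : Y 0 * Y (r ^ s) * (Y 0 * Y (r ^ s)) = x ^ 3 := by
      clear hs
      induction s with
      | zero => rw [pow_zero, hY0, hY1]; exact rel_pair
      | succ s ih =>
        have e : b * (Y 0 * Y (r ^ s) * (Y 0 * Y (r ^ s))) * b⁻¹ =
            (b * Y 0 * b⁻¹) * (b * Y (r ^ s) * b⁻¹) * ((b * Y 0 * b⁻¹) * (b * Y (r ^ s) * b⁻¹)) := by
          group
        rw [ih, hb', hb', mul_zero, ← pow_succ', ← conj_pow, rel_inv, inv_pow] at e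
        have e2 : Y (r ^ (s + 1)) * Y 0 * (Y (r ^ (s + 1)) * Y 0) = x ^ 3 := by
          rw [← inv_inj, e]; group
        calc Y 0 * Y (r ^ (s + 1)) * (Y 0 * Y (r ^ (s + 1)))
            = Y 0 * (Y (r ^ (s + 1)) * Y 0 * (Y (r ^ (s + 1)) * Y 0)) * (Y 0)⁻¹ := by group
          _ = x * x ^ 3 * x⁻¹ := by rw [e2, hY0]
          _ = x ^ 3 := by group
    obtain ⟨k, l, hkl⟩ : ∃ k l, n + p * k = r ^ s + p * l := by
      have hmod : n % p = r ^ s % p :=
        (ZMod.natCast_eq_natCast_iff' _ _ _).1 (by rw [Nat.cast_pow]; exact hs)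
      refine ⟨r ^ s / p, n / p, ?_⟩
      have e1 := Nat.mod_add_div n p
      have e2 := Nat.mod_add_div (r ^ s) p
      omega
    rw [← hper n k, hkl, hper]
    exact h1
  have hp1 : ((p - 1 : ℕ) : ZMod p) ≠ 0 := fun e => by
    have := Nat.le_of_dvd (by have := hp.two_le; omega) ((ZMod.natCast_eq_zero_iff _ _).1 e)
    have := hp.two_le
    omega
  have hay : a * x ^ 3 * a⁻¹ = x ^ 3 := by
    have h1 := hR _ hp1
    have e1 : ∀ n, a * Y n * a⁻¹ = Y (n + 1) := fun n => by rw [hY, hY, pow_succ']; group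
    have e0 : a * Y (p - 1) * a⁻¹ = Y 0 := by
      rw [e1, Nat.sub_add_cancel hp.pos]
      have h := hper 0 1
      rwa [Nat.zero_add, mul_one] at h
    have h2 : a * (Y 0 * Y (p - 1) * (Y 0 * Y (p - 1))) * a⁻¹ = Y 1 * Y 0 * (Y 1 * Y 0) := by
      calc a * (Y 0 * Y (p - 1) * (Y 0 * Y (p - 1))) * a⁻¹
          = (a * Y 0 * a⁻¹) * (a * Y (p - 1) * a⁻¹) * ((a * Y 0 * a⁻¹) * (a * Y (p - 1) * a⁻¹)) := by
            group
        _ = _ := by rw [e1, e0]
    rw [h1] at h2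
    have h3 := hR 1 (by rw [Nat.cast_one]; exact one_ne_zero)
    rw [h2]
    calc Y 1 * Y 0 * (Y 1 * Y 0) = (Y 0)⁻¹ * (Y 0 * Y 1 * (Y 0 * Y 1)) * Y 0 := by group
      _ = x⁻¹ * x ^ 3 * x := by rw [h3, hY0]
      _ = x ^ 3 := by group
  have hcent : ∀ g : G, Commute (x ^ 3) g := by
    intro g
    have hg : g ∈ Subgroup.closure ({a, d} : Set G) := hgen ▸ Subgroup.mem_top g
    induction hg using Subgroup.closure_induction with
    | mem w hw =>
      rcases hw with hw | hw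
      · subst hw
        show x ^ 3 * w = w * x ^ 3
        exact (mul_inv_eq_iff_eq_mul.1 hay).symm
      · subst hw
        rw [hx, ← pow_mul]
        exact Commute.pow_self _ _
    | one => exact Commute.one_right _
    | mul _ _ _ _ h1 h2 => exact h1.mul_right h2
    | inv _ _ h1 => exact h1.inv_right
  refine ⟨hcent, ?_⟩
  have h1 : b * x ^ 3 * b⁻¹ = (x ^ 3)⁻¹ := by rw [← conj_pow, rel_inv, inv_pow]
  rw [← (hcent b).eq, mul_inv_cancel_right] at h1
  nth_rewrite 1 [h1]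
  exact inv_mul_cancel _

variable {Ω : Type*} [DecidableEq Ω] [Fintype Ω]

/-- A passenger `Q` commuting with `x` is absorbed: it equals `a ^ p`, whose order divides `r - 1`,
and a power of `a` satisfies the plain relations. -/
theorem absorb (φ : G →* Perm Ω) {u v z : Ω} {P : Finset Ω} {x : G} (hp : p.Prime) (h3 : 3 ≤ p)
    (hre : Even r) (hr0 : (r : ZMod p) ≠ 0)
    (hprim : ∀ i : ZMod p, i ≠ 0 → ∃ s : ℕ, i = (r : ZMod p) ^ s)
    (rel_conj : b * a * b⁻¹ = a ^ r) (rel_pow : a ^ p = b ^ (p - 1) * Q)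
    (rel_inv : b * x * b⁻¹ = x⁻¹) (rel_pair : (x * (a * x * a⁻¹)) * (x * (a * x * a⁻¹)) = 1)
    (rel_cube : x ^ 3 = 1) (hQ : Commute Q x)
    (word : b ∈ Subgroup.closure (Set.range fun n : ℕ => a ^ n * x * (a ^ n)⁻¹))
    (huv : u ≠ v) (hu : u ∉ P) (hv : v ∉ P) (hP : P.card = p) (x_img : φ x = tri u v z)
    (a_supp : ∀ w, φ a w ≠ w → w ∈ P) (a_trans : ∀ i ∈ P, ∃ n : ℕ, (φ a ^ n) z = i)
    (ha_img : φ a ^ p = 1) (hb_img : φ b ^ (p - 1) = 1) :
    ∃ a' : G, AGL G p r a' b x ∧ φ a' = φ a ∧ a' ∈ Subgroup.closure ({a, x} : Set G) ∧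
      a ∈ Subgroup.closure ({a', Q} : Set G) ∧ Q ^ (r - 1) = 1 ∧
      ∀ g : G, g ∈ Subgroup.closure (Set.range fun n : ℕ => a ^ n * x * (a ^ n)⁻¹) →
        g ∈ Subgroup.closure ({a', x} : Set G) := by
  classical
  have : Fact p.Prime := ⟨hp⟩
  obtain ⟨J, hJ⟩ : ∃ J, J = Subgroup.closure ({a, x} : Set G) := ⟨_, rfl⟩
  have haJ : a ∈ J := hJ ▸ Subgroup.subset_closure (Or.inl rfl)
  have hxJ : x ∈ J := hJ ▸ Subgroup.subset_closure (Or.inr rfl)
  obtain ⟨N, hN⟩ : ∃ N, N = Subgroup.closure (Set.range fun n : ℕ => a ^ n * x * (a ^ n)⁻¹) :=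
    ⟨_, rfl⟩
  rw [← hN] at word ⊢
  have hNJ : N ≤ J := by
    rw [hN, Subgroup.closure_le]
    rintro _ ⟨n, rfl⟩
    exact mul_mem (mul_mem (pow_mem haJ n) hxJ) (inv_mem (pow_mem haJ n))
  have heven : Even (p - 1) := Nat.Odd.sub_odd (hp.odd_of_ne_two (by omega)) odd_one
  have hb2 : Commute (b ^ 2) x := by
    have h1 : b * (b * x * b⁻¹) * b⁻¹ = x := by
      rw [rel_inv]
      calc b * x⁻¹ * b⁻¹ = (b * x * b⁻¹)⁻¹ := by group
        _ = x := by rw [rel_inv, inv_inv]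
    rw [sq]
    show b * b * x = x * (b * b)
    calc b * b * x = b * (b * x * b⁻¹) * b⁻¹ * (b * b) := by group
      _ = x * (b * b) := by rw [h1]
  obtain ⟨ζ, hζ⟩ : ∃ ζ, ζ = a ^ p := ⟨_, rfl⟩
  have hζx : Commute ζ x := by
    obtain ⟨e, he⟩ := heven
    rw [hζ, rel_pow, he, ← two_mul, pow_mul]
    exact (hb2.pow_left e).mul_left hQ
  have hζa : Commute ζ a := hζ ▸ Commute.pow_self a p
  have hζJ : ∀ g ∈ J, Commute ζ g := fun g hg => by
    rw [hJ] at hg
    induction hg using Subgroup.closure_induction with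
    | mem w hw =>
      rcases hw with hw | hw
      · exact hw ▸ hζa
      · exact hw ▸ hζx
    | one => exact Commute.one_right _
    | mul _ _ _ _ h1 h2 => exact h1.mul_right h2
    | inv _ _ h1 => exact h1.inv_right
  have hr : 1 ≤ r := Nat.pos_of_ne_zero fun e => hr0 (by rw [e]; simp)
  have hζr : ζ ^ (r - 1) = 1 := by
    have h1 : b * ζ * b⁻¹ = ζ ^ r := by rw [hζ, ← conj_pow, rel_conj, ← pow_mul, ← pow_mul, mul_comm]
    rw [← (hζJ b (hNJ word)).eq, mul_inv_cancel_right] at h1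
    rw [show r = r - 1 + 1 by omega, pow_succ] at h1
    exact mul_eq_right.1 h1.symm
  obtain ⟨Y, hY⟩ : ∃ Y : ℕ → G, ∀ n, Y n = a ^ n * x * (a ^ n)⁻¹ := ⟨_, fun _ => rfl⟩
  have hYN : ∀ n, Y n ∈ N := fun n => by
    rw [hN, hY]; exact Subgroup.subset_closure ⟨n, rfl⟩
  have hper : ∀ n, Y n = Y (n % p) := fun n => by
    rw [hY, hY]
    have hc : Commute (ζ ^ (n / p)) x := hζx.pow_left _
    conv_lhs => rw [← Nat.mod_add_div n p, pow_add, pow_mul, ← hζ]
    calc a ^ (n % p) * ζ ^ (n / p) * x * (a ^ (n % p) * ζ ^ (n / p))⁻¹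
        = a ^ (n % p) * (ζ ^ (n / p) * x * (ζ ^ (n / p))⁻¹) * (a ^ (n % p))⁻¹ := by group
      _ = _ := by rw [hc.eq, mul_inv_cancel_right]
  have hbY : ∀ n, b * Y n * b⁻¹ = (Y (r * n))⁻¹ := fun n => by
    calc b * Y n * b⁻¹ = (b * a * b⁻¹) ^ n * (b * x * b⁻¹) * ((b * a * b⁻¹) ^ n)⁻¹ := by
          rw [hY, conj_pow]; group
      _ = _ := by rw [rel_conj, rel_inv, ← pow_mul, hY]; group
  let R : ℕ → ℕ → Prop := fun i j => Y i * Y j * (Y i * Y j) = 1
  have hsymm : ∀ i j, R i j → R j i := fun i j hij => by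
    show Y j * Y i * (Y j * Y i) = 1
    calc Y j * Y i * (Y j * Y i) = (Y i)⁻¹ * (Y i * Y j * (Y i * Y j)) * Y i := by group
      _ = 1 := by rw [hij]; group
  have hshift : ∀ i j n, R i j → R (i + n) (j + n) := fun i j n hij => by
    have e : ∀ m, Y (m + n) = a ^ n * Y m * (a ^ n)⁻¹ := fun m => by
      rw [hY, hY, add_comm, pow_add]; group
    show Y (i + n) * Y (j + n) * (Y (i + n) * Y (j + n)) = 1
    rw [e, e]
    calc _ = a ^ n * (Y i * Y j * (Y i * Y j)) * (a ^ n)⁻¹ := by group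
      _ = 1 := by rw [hij]; group
  have hmul : ∀ i j, R i j → R (r * i) (r * j) := fun i j hij => by
    refine hsymm _ _ ?_
    show Y (r * j) * Y (r * i) * (Y (r * j) * Y (r * i)) = 1
    have e : b * (Y i * Y j * (Y i * Y j)) * b⁻¹ =
        (b * Y i * b⁻¹) * (b * Y j * b⁻¹) * ((b * Y i * b⁻¹) * (b * Y j * b⁻¹)) := by group
    rw [hij, mul_one, mul_inv_cancel, hbY, hbY, ← mul_inv_rev, ← mul_inv_rev, eq_comm,
      inv_eq_one] at e
    exact e
  have hR : ∀ i j : ℕ, i % p ≠ j % p → R i j := by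
    intro i j hij
    have hd : ((j : ZMod p) - i) ≠ 0 := sub_ne_zero.2 fun e =>
      hij ((ZMod.natCast_eq_natCast_iff' _ _ _).1 e.symm)
    obtain ⟨s, hs⟩ := hprim _ hd
    have h1 : R 0 (r ^ s) := by
      clear hs
      induction s with
      | zero =>
        show Y 0 * Y 1 * (Y 0 * Y 1) = 1
        simpa [hY] using rel_pair
      | succ s ih =>
        have := hmul _ _ ih
        rwa [mul_zero, ← pow_succ'] at this
    have h2 := hshift _ _ i h1
    rw [zero_add] at h2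
    have e : (r ^ s + i) % p = j % p := by
      refine (ZMod.natCast_eq_natCast_iff' _ _ _).1 ?_
      rw [Nat.cast_add, Nat.cast_pow, ← hs, sub_add_cancel]
    show Y i * Y j * (Y i * Y j) = 1
    rw [hper j, ← e, ← hper]
    exact h2
  obtain ⟨hfin, hcard⟩ := carmichael (fun i : ZMod p => Y i.val)
    (fun i => by rw [hY, conj_pow, rel_cube, mul_one, mul_inv_cancel])
    (fun i j hij => hR _ _ fun e => hij (by
      rw [Nat.mod_eq_of_lt i.val_lt, Nat.mod_eq_of_lt j.val_lt] at e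
      exact ZMod.val_injective p e))
  rw [ZMod.card] at hcard
  have hNeq : N = Subgroup.closure (Set.range fun i : ZMod p => Y i.val) := by
    refine le_antisymm ?_ ((Subgroup.closure_le _).2 ?_)
    · rw [hN, Subgroup.closure_le]
      rintro _ ⟨n, rfl⟩
      refine Subgroup.subset_closure ⟨(n : ZMod p), ?_⟩
      show Y (n : ZMod p).val = a ^ n * x * (a ^ n)⁻¹
      rw [ZMod.val_natCast, ← hper, hY]
    · rintro _ ⟨i, rfl⟩
      exact hYN _
  rw [← hNeq] at hfin hcard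
  -- the permutation image
  have hfix : ∀ n w, w ∉ P → (φ a ^ n) w = w := fun n w hw =>
    Perm.pow_apply_eq_self_of_apply_eq_self (by by_contra e; exact hw (a_supp w e)) n
  have htri : ∀ i ∈ P, tri u v i ∈ N.map φ := fun i hi => by
    obtain ⟨n, hn⟩ := a_trans i hi
    refine ⟨Y n, hYN n, ?_⟩
    rw [hY, map_mul, map_mul, map_inv, map_pow, x_img, tri_conj, hn, hfix n u hu, hfix n v hv]
  have hinj : ∀ g ∈ N, φ g = 1 → g = 1 := by
    have h1 := factorial_le huv P hu hv htri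
    rw [hP] at h1
    have h2 : Nat.card (N.map φ) = Nat.card N := by
      have h3 := Nat.card_le_card_of_surjective _ (φ.subgroupMap_surjective N)
      omega
    have hb := (Nat.bijective_iff_surjective_and_card (φ.subgroupMap N)).2
      ⟨φ.subgroupMap_surjective N, h2.symm⟩
    intro g hg e
    exact congrArg Subtype.val (hb.1 (a₁ := ⟨g, hg⟩) (a₂ := 1) (Subtype.ext (by simpa using e)))
  have hB : b ^ (p - 1) = 1 := hinj _ (pow_mem word _) (by rw [map_pow, hb_img])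
  have hQζ : Q = ζ := by rw [hζ, rel_pow, hB, one_mul]
  -- the replacement of `a`
  have haN : ∀ g ∈ N, a * g * a⁻¹ ∈ N := by
    have : N ≤ N.comap (MulAut.conj a).toMonoidHom := by
      conv_lhs => rw [hN]
      rw [Subgroup.closure_le]
      rintro _ ⟨n, rfl⟩
      show a * (a ^ n * x * (a ^ n)⁻¹) * a⁻¹ ∈ N
      have := hYN (n + 1)
      rw [hY, pow_succ'] at this
      convert this using 1
      group
    exact fun g hg => this hg
  have hr1 : a ^ (r - 1) ∈ N := by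
    have e : a ^ (r - 1) = b * a * b⁻¹ * a⁻¹ := by
      rw [rel_conj]
      nth_rewrite 2 [show r = r - 1 + 1 by omega]
      rw [pow_succ, mul_inv_cancel_right]
    rw [e]
    have := mul_mem word (haN _ (inv_mem word))
    convert this using 1
    group
  have hr1p : ((r - 1 : ℕ) : ZMod p) ≠ 0 := fun h0 => by
    rw [Nat.cast_sub hr, Nat.cast_one, sub_eq_zero] at h0
    have h2 : (2 : ZMod p) ≠ 0 := fun e => by
      have := (ZMod.natCast_eq_zero_iff 2 p).1 (by exact_mod_cast e)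
      have := Nat.le_of_dvd (by norm_num) this
      omega
    obtain ⟨s, hs⟩ := hprim 2 h2
    rw [h0, one_pow] at hs
    exact one_ne_zero (α := ZMod p) (by linear_combination hs)
  obtain ⟨e, hed, s, hes⟩ : ∃ e, (r - 1) ∣ e ∧ ∃ s, e = 1 + p * s := by
    refine ⟨(r - 1) * (((r - 1 : ℕ) : ZMod p)⁻¹).val, Dvd.intro _ rfl,
      ((r - 1) * (((r - 1 : ℕ) : ZMod p)⁻¹).val) / p, ?_⟩
    have h1 : ((r - 1) * (((r - 1 : ℕ) : ZMod p)⁻¹).val) % p = 1 % p := by
      refine (ZMod.natCast_eq_natCast_iff' _ _ _).1 ?_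
      rw [Nat.cast_mul, ZMod.natCast_zmod_val, Nat.cast_one, mul_inv_cancel₀ hr1p]
    rw [Nat.mod_eq_of_lt hp.one_lt] at h1
    have := Nat.mod_add_div ((r - 1) * (((r - 1 : ℕ) : ZMod p)⁻¹).val) p
    omega
  obtain ⟨a', ha'⟩ : ∃ a', a' = a ^ e := ⟨_, rfl⟩
  have ha's : a' = a * ζ ^ s := by rw [ha', hes, pow_add, pow_one, pow_mul, hζ]
  have ha'N : a' ∈ N := by
    obtain ⟨k, hk⟩ := hed
    rw [ha', hk, pow_mul]
    exact pow_mem hr1 k
  have ha'pow : ∀ n, a' ^ n * x * (a' ^ n)⁻¹ = a ^ n * x * (a ^ n)⁻¹ := fun n => by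
    rw [ha's, (hζa.symm.pow_right s).mul_pow, ← pow_mul]
    calc a ^ n * ζ ^ (s * n) * x * (a ^ n * ζ ^ (s * n))⁻¹
        = a ^ n * (ζ ^ (s * n) * x * (ζ ^ (s * n))⁻¹) * (a ^ n)⁻¹ := by group
      _ = _ := by rw [(hζx.pow_left _).eq, mul_inv_cancel_right]
  refine ⟨a', ?_, ?_, ?_, ?_, by rw [hQζ]; exact hζr, fun g hg => ?_⟩
  · exact
      { prime := hp, three := h3, even := hre, ne_zero := hr0, prim := hprim
        rel_conj := by rw [ha', ← conj_pow, rel_conj, ← pow_mul, ← pow_mul, mul_comm]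
        rel_pow := by
          rw [hB, one_mul, rel_cube, ha', ← pow_mul, mul_comm, pow_mul, ← hζ]
          obtain ⟨k, hk⟩ := hed
          rw [hk, pow_mul, hζr, one_pow]
        rel_inv := rel_inv
        rel_pair := by
          have := ha'pow 1
          simp only [pow_one] at this
          rw [this]; exact rel_pair
        word := by simp only [ha'pow]; rw [← hN]; exact word }
  · rw [ha's, map_mul, map_pow, hζ, map_pow, ha_img, one_pow, mul_one]
  · rw [← hJ]; exact hNJ ha'N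
  · have h1 : a = a' * (ζ ^ s)⁻¹ := by rw [ha's, mul_inv_cancel_right]
    have m1 : a' ∈ Subgroup.closure ({a', ζ} : Set G) := Subgroup.subset_closure (Or.inl rfl)
    have m2 : ζ ∈ Subgroup.closure ({a', ζ} : Set G) := Subgroup.subset_closure (Or.inr rfl)
    rw [hQζ, h1]
    exact mul_mem m1 (inv_mem (pow_mem m2 s))
  · rw [hN] at hg
    refine (Subgroup.closure_le _).2 ?_ hg
    rintro _ ⟨n, rfl⟩
    show a ^ n * x * (a ^ n)⁻¹ ∈ _
    rw [← ha'pow]
    have m1 : a' ∈ Subgroup.closure ({a', x} : Set G) := Subgroup.subset_closure (Or.inl rfl)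
    have m2 : x ∈ Subgroup.closure ({a', x} : Set G) := Subgroup.subset_closure (Or.inr rfl)
    exact mul_mem (mul_mem (pow_mem m1 n) m2) (inv_mem (pow_mem m1 n))

end CfsgLib.Pres.Short
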