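import Cfsg.Agent.Lib.Clifford.AltSchur

/-!
# Even permutations of a given support
-/

set_option autoImplicit false

namespace CfsgLib.Pres.Short

open Equiv Equiv.Perm

variable {α : Type*} [DecidableEq α]

/-- The `3`-cycle `x ↦ y ↦ z ↦ x`. -/
def tri (x y z : α) : Perm α := swap x y * swap y z

theorem tri_conj (g : Perm α) (x y z : α) : g * tri x y z * g⁻¹ = tri (g x) (g y) (g z) := by
  rw [tri, tri, swap_apply_apply, swap_apply_apply]; group

theorem tri_apply_fst {x y z : α} (hxy : x ≠ y) (hxz : x ≠ z) : tri x y z x = y := by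
  simp [tri, swap_apply_of_ne_of_ne hxy hxz]

theorem tri_apply_snd {x y z : α} (hxz : x ≠ z) (hyz : y ≠ z) : tri x y z y = z := by
  simp [tri, swap_apply_of_ne_of_ne hxz.symm hyz.symm]

theorem tri_apply_thd (x y z : α) : tri x y z z = x := by simp [tri]

theorem tri_apply_other {x y z w : α} (h1 : w ≠ x) (h2 : w ≠ y) (h3 : w ≠ z) :
    tri x y z w = w := by
  simp [tri, swap_apply_of_ne_of_ne h2 h3, swap_apply_of_ne_of_ne h1 h2]

theorem tri_mem [Fintype α] {x y z : α} (hxy : x ≠ y) (hyz : y ≠ z) :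
    tri x y z ∈ alternatingGroup α := by
  rw [mem_alternatingGroup, tri, map_mul, sign_swap hxy, sign_swap hyz]; rfl

/-- Triangles through two fixed points generate the even permutations. -/
theorem le_of_tri [Fintype α] {a b : α} (hab : a ≠ b) {T : Subgroup (Perm α)}
    (hT : ∀ i, i ≠ a → i ≠ b → tri a b i ∈ T) : alternatingGroup α ≤ T := by
  let e : α ≃ Fin (Fintype.card α) := Fintype.equivFin α
  have he : ∀ x y z : α, e.permCongrHom (tri x y z) =
      CfsgLib.Clifford.AltSchur.c3 (e x) (e y) (e z) := fun x y z => by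
    rw [tri, CfsgLib.Clifford.AltSchur.c3, map_mul]
    congr 1 <;> exact Equiv.ext fun w => by simp [Equiv.permCongrHom, Equiv.swap_apply_def, Equiv.symm_apply_eq, apply_ite e]
  intro σ hσ
  have h1 : alternatingGroup (Fin (Fintype.card α)) ≤ T.map e.permCongrHom.toMonoidHom := by
    refine CfsgLib.Clifford.AltSchur.three_cycle_mem_of_gens (e.injective.ne hab) fun i hia hib => ?_
    obtain ⟨w, rfl⟩ := e.surjective i
    exact ⟨_, hT w (fun h => hia (h ▸ rfl)) (fun h => hib (h ▸ rfl)), he a b w⟩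
  obtain ⟨τ, hτ, hτe⟩ := h1 (show e.permCongrHom σ ∈ alternatingGroup _ by
    rw [mem_alternatingGroup]
    show sign (e.permCongr σ) = 1
    rw [sign_permCongr]
    exact hσ)
  exact (e.permCongrHom.injective hτe : τ = σ) ▸ hτ

/-- An even permutation supported on `S ∪ {u, v}` lies in any subgroup containing the `tri u v i`. -/
theorem mem_of_even [Fintype α] {u v : α} (huv : u ≠ v) {H : Subgroup (Perm α)} (S : Set α)
    (hS : ∀ i ∈ S, i ≠ u → i ≠ v → tri u v i ∈ H) {σ : Perm α} (hσ : σ ∈ alternatingGroup α)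
    (hsupp : ∀ w, σ w ≠ w → w = u ∨ w = v ∨ w ∈ S) : σ ∈ H := by
  classical
  let p : α → Prop := fun w => w = u ∨ w = v ∨ w ∈ S
  have hp : ∀ w, p (σ w) ↔ p w := fun w => by
    by_cases h : σ w = w
    · rw [h]
    · exact ⟨fun _ => hsupp w h, fun _ => hsupp _ fun e => h (σ.injective e)⟩
  have hσ' : σ.subtypePerm hp ∈ alternatingGroup (Subtype p) := by
    rw [mem_alternatingGroup, sign_subtypePerm σ hp hsupp]
    exact hσ
  have hle : alternatingGroup (Subtype p) ≤ H.comap (Equiv.Perm.ofSubtype : Perm (Subtype p) →* Perm α) := by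
    refine le_of_tri (a := (⟨u, Or.inl rfl⟩ : Subtype p)) (b := ⟨v, Or.inr (Or.inl rfl)⟩)
      (fun e => huv (congrArg Subtype.val e)) ?_
    rintro ⟨i, hi⟩ hiu hiv
    have hiu' : i ≠ u := fun e => hiu (Subtype.ext e)
    have hiv' : i ≠ v := fun e => hiv (Subtype.ext e)
    rw [Subgroup.mem_comap, tri, map_mul, Equiv.Perm.ofSubtype_swap_eq, Equiv.Perm.ofSubtype_swap_eq]
    exact hS i ((hi.resolve_left hiu').resolve_left hiv') hiu' hiv'
  have := hle hσ'
  rw [Subgroup.mem_comap, Equiv.Perm.ofSubtype_subtypePerm hp hsupp] at this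
  exact this

/-- Twice the number of even permutations of a subset is at most twice the order of any subgroup
containing them. -/
theorem factorial_le [Fintype α] {u v : α} (huv : u ≠ v) {H : Subgroup (Perm α)} (S : Finset α)
    (hu : u ∉ S) (hv : v ∉ S) (hS : ∀ i ∈ S, tri u v i ∈ H) :
    (S.card + 2).factorial ≤ 2 * Nat.card H := by
  classical
  let p : α → Prop := fun w => w = u ∨ w = v ∨ w ∈ S
  have hle : (alternatingGroup (Subtype p)).map
      (Equiv.Perm.ofSubtype : Perm (Subtype p) →* Perm α) ≤ H := by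
    rintro _ ⟨τ, hτ, rfl⟩
    refine mem_of_even huv (↑S) (fun i hi _ _ => hS i hi) ?_ fun w hw => ?_
    · rw [mem_alternatingGroup, sign_ofSubtype]
      exact hτ
    · by_contra hp
      exact hw (Equiv.Perm.ofSubtype_apply_of_not_mem τ hp)
  have hnt : Nontrivial (Subtype p) :=
    ⟨⟨⟨u, Or.inl rfl⟩, ⟨v, Or.inr (Or.inl rfl)⟩, fun e => huv (congrArg Subtype.val e)⟩⟩
  have h1 := Subgroup.card_le_of_le hle
  rw [Subgroup.card_map_of_injective Equiv.Perm.ofSubtype_injective] at h1
  have h2 := two_mul_nat_card_alternatingGroup (α := Subtype p)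
  rw [Nat.card_perm] at h2
  have h3 : Nat.card (Subtype p) = S.card + 2 := by
    rw [Nat.card_eq_fintype_card, Fintype.card_subtype,
      show Finset.univ.filter p = insert u (insert v S) from by ext w; simp [p],
      Finset.card_insert_of_notMem (by simp [huv, hu]), Finset.card_insert_of_notMem hv]
  rw [h3] at h2
  omega

end CfsgLib.Pres.Short
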