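import Mathlib.NumberTheory.Bertrand
import Mathlib.Tactic

/-!
# A prime strictly inside the Bertrand interval

For `5 ≤ n` there is a prime `p` with `n < p ≤ 2n - 2`.
-/

set_option autoImplicit false

namespace CfsgLib.Pres.Window

open Nat Finset

/-- The central binomial bound still holds when `2n - 1` is allowed to be prime. -/
theorem centralBinom_le (n : ℕ) (hn : 2 < n)
    (hno : ∀ p : ℕ, p.Prime → n < p → 2 * n - 1 ≤ p) :
    centralBinom n ≤ (2 * n) ^ sqrt (2 * n) * 4 ^ (2 * n / 3) := by
  have n_pos : 0 < n := by omega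
  have n2_pos : 1 ≤ 2 * n := by omega
  let f : ℕ → ℕ := fun x => x ^ n.centralBinom.factorization x
  let T : Finset ℕ := insert (2 * n - 1) (range (2 * n / 3 + 1))
  let S := T.filter Nat.Prime
  have hzero : ∀ x, ¬ x.Prime → f x = 1 := fun x h => by
    show x ^ n.centralBinom.factorization x = 1
    rw [factorization_eq_zero_of_not_prime n.centralBinom h, Nat.pow_zero]
  have hT : centralBinom n = ∏ x ∈ T, f x := by
    refine (Eq.trans ?_ n.prod_pow_factorization_centralBinom).symm
    apply Finset.prod_subset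
    · intro x hx
      simp only [T, mem_insert, mem_range] at hx ⊢
      omega
    · intro x hx h2x
      simp only [T, mem_insert, mem_range, not_or] at hx h2x
      by_cases hp : x.Prime
      · have hxn : x ≤ n := by
          by_contra hlt
          have := hno x hp (by omega)
          have hx2 : x ≠ 2 * n := fun e => by
            have := (Nat.prime_dvd_prime_iff_eq Nat.prime_two hp).1 (e ▸ dvd_mul_right 2 n)
            omega
          omega
        show x ^ n.centralBinom.factorization x = 1
        rw [factorization_centralBinom_of_two_mul_self_lt_three_mul hn hxn (by omega), Nat.pow_zero]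
      · exact hzero x hp
  have hS : ∏ x ∈ S, f x = ∏ x ∈ T, f x :=
    Finset.prod_filter_of_ne fun x _ h => by
      by_contra hp
      exact h (hzero x hp)
  rw [hT, ← hS, ← Finset.prod_filter_mul_prod_filter_not S
    (fun x => x ≤ sqrt (2 * n) ∨ x = 2 * n - 1)]
  apply mul_le_mul'
  · refine (Finset.prod_le_prod' fun p _ => (?_ : f p ≤ 2 * n)).trans ?_
    · exact pow_factorization_choose_le (mul_pos two_pos n_pos)
    rw [Finset.prod_const]
    refine pow_right_mono₀ n2_pos ((Finset.card_le_card (t := insert (2 * n - 1)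
      (Finset.Icc 2 (sqrt (2 * n)))) fun x hx => ?_).trans ?_)
    · obtain ⟨h1, h2⟩ := Finset.mem_filter.1 hx
      rw [mem_insert]
      rcases h2 with h2 | h2
      · exact Or.inr (Finset.mem_Icc.mpr ⟨(Finset.mem_filter.1 h1).2.two_le, h2⟩)
      · exact Or.inl h2
    · have h1 : 1 ≤ sqrt (2 * n) := Nat.le_sqrt.2 (by omega)
      refine (card_insert_le _ _).trans ?_
      rw [Nat.card_Icc]
      omega
  · refine le_trans ?_ (primorial_le_four_pow (2 * n / 3))
    refine (Finset.prod_le_prod' fun p hp => (?_ : f p ≤ p)).trans ?_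
    · obtain ⟨h1, h2⟩ := Finset.mem_filter.1 hp
      refine (pow_right_mono₀ (Finset.mem_filter.1 h1).2.one_lt.le ?_).trans (pow_one p).le
      exact Nat.factorization_choose_le_one (sqrt_lt'.mp <| not_le.1 fun h => h2 (Or.inl h))
    refine Finset.prod_le_prod_of_subset_of_one_le' (fun x hx => ?_)
      (fun p hp _ => (Finset.mem_filter.1 hp).2.one_lt.le)
    obtain ⟨h1, h2⟩ := Finset.mem_filter.1 hx
    obtain ⟨h3, h4⟩ := Finset.mem_filter.1 h1
    simp only [T, mem_insert] at h3
    refine Finset.mem_filter.2 ⟨h3.resolve_left fun h => h2 (Or.inr h), h4⟩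

theorem exists_prime_of_large (n : ℕ) (hn : 512 ≤ n) :
    ∃ p : ℕ, p.Prime ∧ n < p ∧ p ≤ 2 * n - 2 := by
  have h0 : 4 ^ n < n * n.centralBinom := Nat.four_pow_lt_mul_centralBinom n (by omega)
  by_contra hno
  simp only [not_exists, not_and, not_le] at hno
  have h1 := centralBinom_le n (by omega) fun p hp hlt => by
    have := hno p hp hlt
    omega
  have h2 := bertrand_main_inequality hn
  rw [mul_assoc] at h2
  exact absurd (lt_of_lt_of_le h0 ((Nat.mul_le_mul_left n h1).trans h2)) (lt_irrefl _)

theorem step {n p : ℕ} (q : ℕ) (hp : p.Prime) (hcov : p + 2 ≤ 2 * q)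
    (H : n < q → ∃ p : ℕ, p.Prime ∧ n < p ∧ p ≤ 2 * n - 2) (hn : n < p) :
    ∃ p : ℕ, p.Prime ∧ n < p ∧ p ≤ 2 * n - 2 := by
  by_cases h : n < q
  · exact H h
  · exact ⟨p, hp, hn, by omega⟩

/-- For `5 ≤ n` some prime `p` satisfies `n < p ≤ 2n - 2`. -/
theorem exists_prime (n : ℕ) (hn : 5 ≤ n) : ∃ p : ℕ, p.Prime ∧ n < p ∧ p ≤ 2 * n - 2 := by
  rcases lt_or_ge 511 n with h | h
  · exact exists_prime_of_large n (by omega)
  replace h : n < 881 := by omega
  revert h
  refine step 443 (by norm_num) (by norm_num) ?_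
  refine step 223 (by norm_num) (by norm_num) ?_
  refine step 113 (by norm_num) (by norm_num) ?_
  refine step 59 (by norm_num) (by norm_num) ?_
  refine step 31 (by norm_num) (by norm_num) ?_
  refine step 19 (by norm_num) (by norm_num) ?_
  refine step 11 (by norm_num) (by norm_num) ?_
  refine step 7 (by norm_num) (by norm_num) ?_
  intro h7
  exact ⟨7, by norm_num, h7, by omega⟩

end CfsgLib.Pres.Window
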