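import Cfsg.Agent.Lib.Pres.GlueAlt
import Cfsg.Agent.Lib.Pres.PrimeWindow
import Mathlib.GroupTheory.Perm.Cycle.Basic
import Mathlib.GroupTheory.Perm.List
import Mathlib.RingTheory.IntegralDomain

/-!
# Short presentations of symmetric and alternating groups
-/

set_option autoImplicit false

namespace CfsgLib.Pres.Short

open Equiv

universe u

/-- `T` has a presentation with `k` generators and at most `K` relators. -/
def HasPres (k : ℕ) (T : Type) [Group T] (K : ℕ) : Prop :=
  ∃ t : Fin k → T, Subgroup.closure (Set.range t) = ⊤ ∧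
    ∃ rels : Finset (FreeGroup (Fin k)), rels.card ≤ K ∧
      ∃ e : PresentedGroup (↑rels : Set (FreeGroup (Fin k))) ≃* T, ∀ i, e (PresentedGroup.of i) = t i

theorem HasPres.mono {k K K' : ℕ} {T : Type} [Group T] (h : HasPres k T K) (hK : K ≤ K') :
    HasPres k T K' := by
  obtain ⟨t, ht, rels, hr, e, he⟩ := h
  exact ⟨t, ht, rels, hr.trans hK, e, he⟩

theorem HasPres.congr {k K : ℕ} {T T' : Type} [Group T] [Group T'] (f : T ≃* T')
    (h : HasPres k T K) : HasPres k T' K := by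
  obtain ⟨t, ht, rels, hr, e, he⟩ := h
  refine ⟨f ∘ t, ?_, rels, hr, e.trans f, fun i => congrArg f (he i)⟩
  rw [Set.range_comp, ← MulEquiv.coe_toMonoidHom, ← MonoidHom.map_closure, ht,
    ← MonoidHom.range_eq_map, MonoidHom.range_eq_top.2 f.surjective]

section Lemmas

variable {Ω : Type*} [DecidableEq Ω] [Fintype Ω]

theorem exists_cycle (S : Finset Ω) {z : Ω} (hz : z ∈ S) :
    ∃ σ : Perm Ω, (∀ w, σ w ≠ w → w ∈ S) ∧ ∀ i ∈ S, ∃ n : ℕ, (σ ^ n) z = i := by
  refine ⟨List.formPerm S.toList, fun w hw => ?_, fun i hi => ?_⟩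
  · by_contra hS
    exact hw (List.formPerm_apply_of_notMem (by rwa [Finset.mem_toList]))
  · obtain ⟨k, hk, ek⟩ := List.mem_iff_getElem.1 (Finset.mem_toList.2 hz)
    obtain ⟨m, hm, em⟩ := List.mem_iff_getElem.1 (Finset.mem_toList.2 hi)
    refine ⟨S.toList.length - k + m, ?_⟩
    rw [← ek, List.formPerm_pow_apply_getElem _ S.nodup_toList _ _ hk, ← em]
    congr 1
    rw [show k + (S.toList.length - k + m) = m + S.toList.length by omega, Nat.add_mod_right,
      Nat.mod_eq_of_lt hm]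

/-- An even permutation on `D ∪ {o₁, o₂}` moving `o₁` everywhere in `D`. -/
theorem exists_link (D : Finset Ω) {o₁ o₂ : Ω} (h₁ : o₁ ∉ D) (h₂ : o₂ ∉ D) (h12 : o₁ ≠ o₂) :
    ∃ σ : Perm Ω, σ ∈ alternatingGroup Ω ∧ (∀ w, σ w ≠ w → w ∈ D ∨ w = o₁ ∨ w = o₂) ∧
      ∀ i ∈ D, ∃ n : ℕ, (σ ^ n) o₁ = i := by
  obtain ⟨σ, hσ, hσt⟩ := exists_cycle (insert o₁ D) (Finset.mem_insert_self _ _)
  have hσ2 : σ o₂ = o₂ := by
    by_contra e
    rcases Finset.mem_insert.1 (hσ _ e) with e | e
    exacts [h12 e.symm, h₂ e]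
  rcases Int.units_eq_one_or (Perm.sign σ) with hs | hs
  · exact ⟨σ, hs, fun w hw => by
      rcases Finset.mem_insert.1 (hσ w hw) with e | e
      exacts [Or.inr (Or.inl e), Or.inl e], fun i hi => hσt i (Finset.mem_insert_of_mem hi)⟩
  refine ⟨σ * swap o₁ o₂, ?_, fun w hw => ?_, fun i hi => ?_⟩
  · rw [Perm.mem_alternatingGroup, map_mul, hs, Perm.sign_swap h12]; rfl
  · by_cases e : w = o₁
    · exact Or.inr (Or.inl e)
    by_cases e' : w = o₂
    · exact Or.inr (Or.inr e')
    rw [Perm.mul_apply, swap_apply_of_ne_of_ne e e'] at hw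
    rcases Finset.mem_insert.1 (hσ w hw) with e'' | e''
    exacts [Or.inr (Or.inl e''), Or.inl e'']
  · obtain ⟨n, hn⟩ := hσt i (Finset.mem_insert_of_mem hi)
    have key : ∀ n : ℕ, ∃ m : ℕ, ((σ * swap o₁ o₂) ^ m) o₁ = (σ ^ n) o₁ := by
      intro n
      induction n with
      | zero => exact ⟨0, rfl⟩
      | succ n ih =>
        obtain ⟨m, hm⟩ := ih
        by_cases e : (σ ^ n) o₁ = o₁
        · refine ⟨m + 2, ?_⟩
          calc ((σ * swap o₁ o₂) ^ (m + 2)) o₁
              = σ (swap o₁ o₂ (σ (swap o₁ o₂ (((σ * swap o₁ o₂) ^ m) o₁)))) := by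
                rw [pow_succ', pow_succ']; rfl
            _ = σ o₁ := by rw [hm, e, swap_apply_left, hσ2, swap_apply_right]
            _ = (σ ^ (n + 1)) o₁ := by rw [pow_succ', Perm.mul_apply, e]
        · refine ⟨m + 1, ?_⟩
          have e' : (σ ^ n) o₁ ≠ o₂ := fun e' => by
            have hfix : (σ ^ n) o₂ = o₂ := Perm.pow_apply_eq_self_of_apply_eq_self hσ2 n
            exact h12 ((σ ^ n).injective (e'.trans hfix.symm))
          rw [pow_succ', Perm.mul_apply, hm, Perm.mul_apply, swap_apply_of_ne_of_ne e e', pow_succ' σ n,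
            Perm.mul_apply]
    obtain ⟨m, hm⟩ := key n
    exact ⟨m, hm.trans hn⟩

end Lemmas

/-! ### The model on `(Bool ⊕ ZMod p) ⊕ Fin d₀` -/

abbrev Pts (p d₀ : ℕ) : Type := (Bool ⊕ ZMod p) ⊕ Fin d₀

/-- Everything the presentation needs from the permutations. -/
structure Model (p d₀ : ℕ) [NeZero p] (a c : Perm (Pts p d₀)) : Prop where
  a_def : ∀ w, a w = Sum.elim (Sum.elim (fun e => Sum.inl (Sum.inl e))
    (fun i => Sum.inl (Sum.inr (i + 1)))) (fun j => Sum.inr j) w
  c_inv : ∀ w, c (c w) = w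
  c_uv : ∀ e, c (Sum.inl (Sum.inl e)) = Sum.inl (Sum.inl e)
  c_zero : c (Sum.inl (Sum.inr 0)) = Sum.inl (Sum.inr 0)
  c_inr : ∀ j : Fin d₀, c (Sum.inr j) = Sum.inl (Sum.inr (((j : ℕ) + 1 : ℕ) : ZMod p))
  c_big : ∀ i : ZMod p, i = 0 ∨ d₀ < i.val → ∃ i' : ZMod p, c (Sum.inl (Sum.inr i)) = Sum.inl (Sum.inr i')

theorem exists_model (p d₀ : ℕ) [hp : Fact p.Prime] (hd : d₀ + 4 ≤ p) (ε : ℤˣ) :
    ∃ (a c : Perm (Pts p d₀)), Model p d₀ a c ∧ Perm.sign c = ε := by
  classical
  let f : Pts p d₀ → Pts p d₀ := Sum.elim (Sum.elim (fun e => Sum.inl (Sum.inl e))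
    (fun i => if h : 1 ≤ i.val ∧ i.val ≤ d₀ then Sum.inr ⟨i.val - 1, by omega⟩
      else Sum.inl (Sum.inr i)))
    (fun j => Sum.inl (Sum.inr (((j : ℕ) + 1 : ℕ) : ZMod p)))
  have hval : ∀ j : Fin d₀, ((((j : ℕ) + 1 : ℕ) : ZMod p)).val = (j : ℕ) + 1 := fun j => by
    rw [ZMod.val_natCast, Nat.mod_eq_of_lt (by have := j.2; omega)]
  have hf : Function.Involutive f := by
    intro w
    rcases w with (e | i) | j
    · rfl
    · by_cases h : 1 ≤ i.val ∧ i.val ≤ d₀
      · simp only [f, Sum.elim_inl, Sum.elim_inr, dif_pos h]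
        rw [show i.val - 1 + 1 = i.val by omega, ZMod.natCast_zmod_val]
      · simp only [f, Sum.elim_inl, Sum.elim_inr, dif_neg h]
    · simp only [f, Sum.elim_inl, Sum.elim_inr]
      rw [dif_pos (by rw [hval]; have := j.2; omega)]
      congr 1
      ext
      show (((j : ℕ) + 1 : ℕ) : ZMod p).val - 1 = _
      rw [hval]; omega
  let σ : Perm (Pts p d₀) := hf.toPerm f
  have hfix : ∀ i : ZMod p, i = 0 ∨ d₀ < i.val → σ (Sum.inl (Sum.inr i)) = Sum.inl (Sum.inr i) := by
    intro i hi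
    show f (Sum.inl (Sum.inr i)) = Sum.inl (Sum.inr i)
    simp only [f, Sum.elim_inl, Sum.elim_inr]
    rw [dif_neg]
    rintro ⟨h1, h2⟩
    rcases hi with rfl | hi
    · rw [ZMod.val_zero] at h1; omega
    · omega
  let a : Perm (Pts p d₀) :=
    Equiv.sumCongr (Equiv.sumCongr (Equiv.refl Bool) (Equiv.addRight (1 : ZMod p))) (Equiv.refl _)
  have ha : ∀ w, a w = Sum.elim (Sum.elim (fun e => Sum.inl (Sum.inl e))
      (fun i => Sum.inl (Sum.inr (i + 1)))) (fun j => Sum.inr j) w := by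
    rintro ((e | i) | j) <;> rfl
  let s₁ : ZMod p := ((d₀ + 2 : ℕ) : ZMod p)
  let s₂ : ZMod p := ((d₀ + 3 : ℕ) : ZMod p)
  have hs₁ : s₁.val = d₀ + 2 := by rw [ZMod.val_natCast, Nat.mod_eq_of_lt (by omega)]
  have hs₂ : s₂.val = d₀ + 3 := by rw [ZMod.val_natCast, Nat.mod_eq_of_lt (by omega)]
  let τ : Perm (Pts p d₀) := swap (Sum.inl (Sum.inr s₁)) (Sum.inl (Sum.inr s₂))
  have hne : (Sum.inl (Sum.inr s₁) : Pts p d₀) ≠ Sum.inl (Sum.inr s₂) := fun e => by
    have := congrArg ZMod.val (Sum.inr_injective (Sum.inl_injective e))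
    omega
  have hστ : ∀ w, (σ * τ) ((σ * τ) w) = w := by
    intro w
    have h1 : σ * τ = τ * σ := by
      have : σ * swap (Sum.inl (Sum.inr s₁)) (Sum.inl (Sum.inr s₂)) * σ⁻¹ =
          swap (Sum.inl (Sum.inr s₁)) (Sum.inl (Sum.inr s₂)) := by
        rw [← swap_apply_apply, hfix _ (Or.inr (by omega)), hfix _ (Or.inr (by omega))]
      rw [← mul_inv_eq_iff_eq_mul]
      exact this
    rw [← Perm.mul_apply]
    nth_rewrite 1 [h1]
    rw [mul_assoc, ← mul_assoc σ σ, show σ * σ = 1 from Equiv.ext hf, one_mul,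
      show τ * τ = 1 from swap_mul_self _ _, Perm.one_apply]
  rcases Int.units_eq_one_or (Perm.sign σ * ε) with h | h
  · refine ⟨a, σ, ⟨ha, hf, fun e => rfl, hfix 0 (Or.inl rfl), fun j => rfl, fun i hi => ⟨i, hfix i hi⟩⟩, ?_⟩
    rw [mul_eq_one_iff_eq_inv.1 h, Int.units_inv_eq_self]
  · have hfix' : ∀ w : Pts p d₀, w ≠ Sum.inl (Sum.inr s₁) → w ≠ Sum.inl (Sum.inr s₂) →
        (σ * τ) w = σ w := fun w h1 h2 => by
      rw [Perm.mul_apply, swap_apply_of_ne_of_ne h1 h2]
    refine ⟨a, σ * τ, ⟨ha, hστ, fun e => ?_, ?_, fun j => ?_, fun i hi => ?_⟩, ?_⟩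
    · rw [hfix' _ (by simp) (by simp)]; rfl
    · rw [hfix' _ (fun e => ?_) (fun e => ?_), hfix 0 (Or.inl rfl)] <;>
      · have := congrArg ZMod.val (Sum.inr_injective (Sum.inl_injective e))
        rw [ZMod.val_zero] at this
        omega
    · rw [hfix' _ (by simp) (by simp)]; rfl
    · refine ⟨if i = s₁ then s₂ else if i = s₂ then s₁ else i, ?_⟩
      rw [Perm.mul_apply]
      by_cases e1 : i = s₁
      · subst e1
        rw [if_pos rfl, swap_apply_left, hfix _ (Or.inr (by omega))]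
      by_cases e2 : i = s₂
      · subst e2
        rw [if_neg e1, if_pos rfl, swap_apply_right, hfix _ (Or.inr (by omega))]
      rw [if_neg e1, if_neg e2, swap_apply_of_ne_of_ne (by simpa using e1) (by simpa using e2),
        hfix i hi]
    · rw [map_mul, Perm.sign_swap hne, ← h, ← mul_assoc, Int.units_mul_self, one_mul]

/-- A multiplication by a primitive root, with the parity used in the relations. -/
theorem exists_prim (p : ℕ) [hp : Fact p.Prime] (h3 : 3 ≤ p) :
    ∃ r : ℕ, Even r ∧ (r : ZMod p) ≠ 0 ∧ (∀ i : ZMod p, i ≠ 0 → ∃ s : ℕ, i = (r : ZMod p) ^ s) ∧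
      ∃ f : Perm (ZMod p), (∀ i, f i = (r : ZMod p) * i) ∧ Perm.sign f = -1 := by
  classical
  obtain ⟨ζ, hζ⟩ := IsCyclic.exists_generator (α := (ZMod p)ˣ)
  obtain ⟨r, hre, hr⟩ : ∃ r : ℕ, Even r ∧ (r : ZMod p) = (ζ : ZMod p) := by
    rcases Nat.even_or_odd (ζ : ZMod p).val with h | h
    · exact ⟨_, h, ZMod.natCast_zmod_val _⟩
    · refine ⟨(ζ : ZMod p).val + p, h.add_odd (hp.out.odd_of_ne_two (by omega)), ?_⟩
      rw [Nat.cast_add, ZMod.natCast_self, add_zero, ZMod.natCast_zmod_val]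
  have hr0 : (r : ZMod p) ≠ 0 := hr ▸ ζ.ne_zero
  have hprim : ∀ i : ZMod p, i ≠ 0 → ∃ s : ℕ, i = (r : ZMod p) ^ s := fun i hi => by
    obtain ⟨s, hs⟩ := (mem_powers_iff_mem_zpowers).2 (hζ (Units.mk0 i hi))
    refine ⟨s, ?_⟩
    rw [hr, ← Units.val_pow_eq_pow_val]
    exact congrArg Units.val hs.symm
  refine ⟨r, hre, hr0, hprim, Equiv.mulLeft₀ (r : ZMod p) hr0, fun i => rfl, ?_⟩
  have hr1 : (r : ZMod p) ≠ 1 := fun e => by
    have h2 : (2 : ZMod p) ≠ 0 := fun e2 => by
      have := (ZMod.natCast_eq_zero_iff 2 p).1 (by exact_mod_cast e2)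
      have := Nat.le_of_dvd (by norm_num) this
      omega
    obtain ⟨s, hs⟩ := hprim 2 h2
    rw [e, one_pow] at hs
    exact one_ne_zero (α := ZMod p) (by linear_combination hs)
  have hpow : ∀ s : ℕ, ((Equiv.mulLeft₀ (r : ZMod p) hr0) ^ s) 1 = (r : ZMod p) ^ s := by
    intro s
    induction s with
    | zero => simp
    | succ s ih => rw [pow_succ', Perm.mul_apply, ih, pow_succ']; rfl
  have hcyc : (Equiv.mulLeft₀ (r : ZMod p) hr0).IsCycle := by
    refine ⟨1, by show (r : ZMod p) * 1 ≠ 1; rw [mul_one]; exact hr1, fun y hy => ?_⟩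
    have hy0 : y ≠ 0 := fun e => hy (by show (r : ZMod p) * y = y; rw [e, mul_zero])
    obtain ⟨s, hs⟩ := hprim y hy0
    exact ⟨(s : ℤ), by rw [zpow_natCast, hpow, hs]⟩
  have hsupp : (Equiv.mulLeft₀ (r : ZMod p) hr0).support = Finset.univ.erase 0 := by
    ext i
    rw [Perm.mem_support, Finset.mem_erase]
    refine ⟨fun h => ⟨fun e => h (by show (r : ZMod p) * i = i; rw [e, mul_zero]), Finset.mem_univ _⟩,
      fun h e => hr1 ?_⟩
    exact mul_right_cancel₀ h.1 (e.trans (one_mul i).symm)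
  rw [hcyc.sign, hsupp, Finset.card_erase_of_mem (Finset.mem_univ _), Finset.card_univ, ZMod.card]
  rw [(Nat.Odd.sub_odd (hp.out.odd_of_ne_two (by omega)) odd_one).neg_one_pow]

section Glued

/-- Letters. -/
abbrev wa : FreeGroup (Fin 2) := FreeGroup.of 0
/-- Letters. -/
abbrev wd : FreeGroup (Fin 2) := FreeGroup.of 1

/-- The relators of the glued presentation. -/
theorem glued (p d₀ : ℕ) [hp : Fact p.Prime] (hd : d₀ + 4 ≤ p) (ε : ℤˣ) :
    ∃ t : Fin 2 → Perm (Pts p d₀), Subgroup.closure (Set.range t) =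
        (if ε = 1 then alternatingGroup _ else ⊤) ∧
      ∃ L : List (FreeGroup (Fin 2)), L.length ≤ (if ε = 1 then 7 else 6) ∧
        (∀ e ∈ L, FreeGroup.lift t e = 1) ∧
        ∀ (G : Type) [Group G] (π : FreeGroup (Fin 2) →* G), Function.Surjective π →
          (∀ e ∈ L, π e = 1) → ∀ φ : G →* Perm (Pts p d₀), (∀ w, φ (π w) = FreeGroup.lift t w) →
          Finite G ∧ (if ε = 1 then 2 * Nat.card G else Nat.card G) ≤ (p + d₀ + 2).factorial := by
  classical
  have h3 : 3 ≤ p := by omega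
  obtain ⟨A₀, C, hM, hsign⟩ := exists_model p d₀ hd ε
  obtain ⟨r, hre, hr0, hprim, F, hF, hFs⟩ := exists_prim p h3
  let u : Pts p d₀ := Sum.inl (Sum.inl false)
  let v : Pts p d₀ := Sum.inl (Sum.inl true)
  let pt : ZMod p → Pts p d₀ := fun i => Sum.inl (Sum.inr i)
  have hptinj : Function.Injective pt := fun i j e => Sum.inr_injective (Sum.inl_injective e)
  let z := pt 0
  let P : Finset (Pts p d₀) := Finset.univ.image pt
  have hPmem : ∀ w, w ∈ P ↔ ∃ i, pt i = w := fun w => by simp [P]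
  have huv : u ≠ v := by simp [u, v]
  have hu : u ∉ P := by simp [P, pt, u]
  have hv : v ∉ P := by simp [P, pt, v]
  have hz : z ∈ P := (hPmem z).2 ⟨0, rfl⟩
  have huz : u ≠ z := fun e => hu (e ▸ hz)
  have hvz : v ≠ z := fun e => hv (e ▸ hz)
  have hCC : C * C = 1 := Equiv.ext hM.c_inv
  have hCu : C u = u := hM.c_uv false
  have hCv : C v = v := hM.c_uv true
  have hCz : C z = z := hM.c_zero
  let X : Perm (Pts p d₀) := tri u v z
  let D : Perm (Pts p d₀) := X⁻¹ * C
  let t : Fin 2 → Perm (Pts p d₀) := ![A₀, D]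
  have hXC : C * X = X * C := by
    rw [← mul_inv_eq_iff_eq_mul, tri_conj, hCu, hCv, hCz]
  have hXC' : Commute X⁻¹ C := (show Commute X C from hXC.symm).inv_left
  have hX3 : X ^ 3 = 1 := tri_cube huv huz hvz
  have hD2 : D ^ 2 = X := by
    rw [hXC'.mul_pow, sq C, hCC, mul_one, inv_pow, inv_eq_iff_mul_eq_one, ← pow_succ, hX3]
  have hD3 : D ^ 3 = C := by
    rw [hXC'.mul_pow, inv_pow, hX3, inv_one, one_mul, pow_succ, sq C, hCC, one_mul]
  let L : FreeGroup (Fin 2) →* Perm (Pts p d₀) := FreeGroup.lift t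
  have hLa : L wa = A₀ := FreeGroup.lift_apply_of
  have hLd : L wd = D := FreeGroup.lift_apply_of
  have hLx : L (wd ^ 2) = X := by rw [map_pow, hLd, hD2]
  have hLc : L (wd ^ 3) = C := by rw [map_pow, hLd, hD3]
  -- the translation
  have hAu : ∀ e, A₀ (Sum.inl (Sum.inl e)) = Sum.inl (Sum.inl e) := fun e => hM.a_def _
  have hAn : ∀ (n : ℕ) (i : ZMod p), (A₀ ^ n) (pt i) = pt (i + n) := by
    intro n i
    induction n with
    | zero => simp
    | succ n ih =>
      rw [pow_succ', Perm.mul_apply, ih, hM.a_def]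
      simp [pt, add_assoc]
  have hAsupp : ∀ w, A₀ w ≠ w → w ∈ P := by
    rintro ((e | i) | j) hw
    · exact absurd (hAu e) hw
    · exact (hPmem _).2 ⟨i, rfl⟩
    · exact absurd (hM.a_def _) hw
  have hAe : A₀ ∈ alternatingGroup (Pts p d₀) := by
    have h1 : A₀ ^ p = 1 := by
      refine Equiv.ext fun w => ?_
      by_cases hw : w ∈ P
      · obtain ⟨i, rfl⟩ := (hPmem w).1 hw
        rw [hAn, ZMod.natCast_self, add_zero, Perm.one_apply]
      · exact Perm.pow_apply_eq_self_of_apply_eq_self (by by_contra e; exact hw (hAsupp w e)) p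
    rw [Perm.mem_alternatingGroup]
    have h2 := congrArg Perm.sign h1
    rw [map_pow, map_one] at h2
    rcases Int.units_eq_one_or (Perm.sign A₀) with e | e
    · exact e
    · rw [e, (hp.out.odd_of_ne_two (by omega)).neg_one_pow] at h2
      exact e.trans h2
  -- words
  have htri : ∀ i : ZMod p, tri u v (pt i) = L (wa ^ i.val * wd ^ 2 * (wa ^ i.val)⁻¹) := fun i => by
    rw [map_mul, map_mul, map_inv, map_pow, hLa, hLx, tri_conj, hAn, zero_add,
      ZMod.natCast_zmod_val, Perm.pow_apply_eq_self_of_apply_eq_self (hAu false),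
      Perm.pow_apply_eq_self_of_apply_eq_self (hAu true)]
  let WN : Subgroup (FreeGroup (Fin 2)) :=
    Subgroup.closure (Set.range fun n : ℕ => wa ^ n * wd ^ 2 * (wa ^ n)⁻¹)
  let WJ : Subgroup (FreeGroup (Fin 2)) := Subgroup.closure {wa, wd ^ 2}
  have hwordN : ∀ σ ∈ alternatingGroup (Pts p d₀), (∀ w, σ w ≠ w → w = u ∨ w = v ∨ w ∈ P) →
      σ ∈ WN.map L := fun σ hσ hs =>
    mem_of_even huv (↑P) (fun w hw _ _ => by
      obtain ⟨i, rfl⟩ := (hPmem w).1 hw
      exact ⟨_, Subgroup.subset_closure ⟨i.val, rfl⟩, (htri i).symm⟩) hσ hs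
  have hNJ : WN ≤ WJ := by
    rw [Subgroup.closure_le]
    rintro _ ⟨n, rfl⟩
    have ha : wa ∈ WJ := Subgroup.subset_closure (Or.inl rfl)
    exact mul_mem (mul_mem (pow_mem ha n) (Subgroup.subset_closure (Or.inr rfl)))
      (inv_mem (pow_mem ha n))
  have hwordJ : ∀ σ ∈ alternatingGroup (Pts p d₀), (∀ w, σ w ≠ w → w = u ∨ w = v ∨ w ∈ P) →
      ∃ w ∈ WJ, L w = σ := fun σ hσ hs => by
    obtain ⟨w, hw, e⟩ := hwordN σ hσ hs
    exact ⟨w, hNJ hw, e⟩
  -- multiplication by the primitive root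
  let B₀ : Perm (Pts p d₀) :=
    Equiv.sumCongr (Equiv.sumCongr (swap false true) F) (Equiv.refl _)
  have hBu : B₀ u = v := by simp [B₀, u, v]
  have hBv : B₀ v = u := by simp [B₀, u, v]
  have hBp : ∀ i, B₀ (pt i) = pt (r * i) := fun i => by simp [B₀, pt, hF]
  have hBe : B₀ ∈ alternatingGroup (Pts p d₀) := by
    rw [Perm.mem_alternatingGroup]
    show Perm.sign (Equiv.sumCongr (Equiv.sumCongr (swap false true) F) (Equiv.refl _)) = 1
    rw [Perm.sign_sumCongr, Perm.sign_sumCongr, hFs, Perm.sign_swap (by decide), Perm.sign_refl]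
    rfl
  have hBsupp : ∀ w, B₀ w ≠ w → w = u ∨ w = v ∨ w ∈ P := by
    rintro ((e | i) | j) hw
    · cases e
      exacts [Or.inl rfl, Or.inr (Or.inl rfl)]
    · exact Or.inr (Or.inr ((hPmem _).2 ⟨i, rfl⟩))
    · exact absurd rfl hw
  obtain ⟨wb, hwbN, hLb⟩ := hwordN B₀ hBe hBsupp
  -- overlap generator
  let O : Finset (Pts p d₀) := P.filter fun w => C w ∈ P
  have hOz : z ∈ O := Finset.mem_filter.2 ⟨hz, by rw [hCz]; exact hz⟩
  obtain ⟨g₀, hg₀, hg₀t⟩ := exists_cycle O hOz
  obtain ⟨gp, hgpe, hgps, hgpuv, hgpt⟩ : ∃ gp : Perm (Pts p d₀), gp ∈ alternatingGroup _ ∧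
      (∀ w, gp w ≠ w → w = u ∨ w = v ∨ w ∈ O) ∧ (gp u = u ∧ gp v = v ∨ gp u = v ∧ gp v = u) ∧
      ∀ i ∈ O, ∃ n : ℕ, (gp ^ n) z = i := by
    have hgu : g₀ u = u := by by_contra e; exact hu (Finset.mem_filter.1 (hg₀ u e)).1
    have hgv : g₀ v = v := by by_contra e; exact hv (Finset.mem_filter.1 (hg₀ v e)).1
    rcases Int.units_eq_one_or (Perm.sign g₀) with hs | hs
    · exact ⟨g₀, hs, fun w hw => Or.inr (Or.inr (hg₀ w hw)), Or.inl ⟨hgu, hgv⟩, hg₀t⟩
    refine ⟨g₀ * swap u v, ?_, fun w hw => ?_, Or.inr ⟨?_, ?_⟩, fun i hi => ?_⟩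
    · rw [Perm.mem_alternatingGroup, map_mul, hs, Perm.sign_swap huv]; rfl
    · by_cases e : w = u
      · exact Or.inl e
      by_cases e' : w = v
      · exact Or.inr (Or.inl e')
      rw [Perm.mul_apply, swap_apply_of_ne_of_ne e e'] at hw
      exact Or.inr (Or.inr (hg₀ w hw))
    · rw [Perm.mul_apply, swap_apply_left, hgv]
    · rw [Perm.mul_apply, swap_apply_right, hgu]
    · obtain ⟨n, hn⟩ := hg₀t i hi
      refine ⟨n, ?_⟩
      have hc : Commute g₀ (swap u v) := by
        show g₀ * swap u v = swap u v * g₀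
        rw [← mul_inv_eq_iff_eq_mul, ← swap_apply_apply, hgu, hgv]
      rw [hc.mul_pow, Perm.mul_apply,
        Perm.pow_apply_eq_self_of_apply_eq_self (swap_apply_of_ne_of_ne huz.symm hvz.symm), hn]
  have hOP : ∀ w ∈ O, w ∈ P := fun w hw => (Finset.mem_filter.1 hw).1
  have hCiff : ∀ w, C w = u ↔ w = u := fun w =>
    ⟨fun e => by rw [← hM.c_inv w, e, hCu], fun e => e ▸ hCu⟩
  have hCiff' : ∀ w, C w = v ↔ w = v := fun w =>
    ⟨fun e => by rw [← hM.c_inv w, e, hCv], fun e => e ▸ hCv⟩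
  have hCinv : C⁻¹ = C := inv_eq_of_mul_eq_one_right hCC
  obtain ⟨wg, hwg, hLg⟩ := hwordJ gp hgpe fun w hw => by
    rcases hgps w hw with e | e | e
    exacts [Or.inl e, Or.inr (Or.inl e), Or.inr (Or.inr (hOP w e))]
  obtain ⟨wg', hwg', hLg'⟩ := hwordJ (C * gp * C⁻¹) (by
    rw [Perm.mem_alternatingGroup, map_mul, map_mul, map_inv, hgpe]; simp) fun w hw => by
    rw [hCinv, Perm.mul_apply, Perm.mul_apply] at hw
    have h1 := hgps (C w) fun e => hw (by rw [e, hM.c_inv])
    rw [hCiff, hCiff'] at h1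
    rcases h1 with e | e | e
    · exact Or.inl e
    · exact Or.inr (Or.inl e)
    · refine Or.inr (Or.inr ?_)
      have := (Finset.mem_filter.1 e).2
      rwa [hM.c_inv] at this
  -- the four overlap points
  let o : ℕ → Pts p d₀ := fun k => pt ((if k = 0 then 0 else d₀ + k : ℕ) : ZMod p)
  have hoval : ∀ k < 4, (((if k = 0 then 0 else d₀ + k : ℕ) : ZMod p)).val =
      if k = 0 then 0 else d₀ + k := fun k hk => by
    rw [ZMod.val_natCast, Nat.mod_eq_of_lt (by split <;> omega)]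
  have hoP : ∀ k < 4, o k ∈ P ∧ C (o k) ∈ P := by
    intro k hk
    refine ⟨(hPmem _).2 ⟨_, rfl⟩, ?_⟩
    obtain ⟨i', hi'⟩ := hM.c_big ((if k = 0 then 0 else d₀ + k : ℕ) : ZMod p) (by
      rcases Nat.eq_zero_or_pos k with rfl | hk0
      · exact Or.inl (by simp)
      · exact Or.inr (by rw [hoval k hk, if_neg (by omega)]; omega))
    exact (hPmem _).2 ⟨i', hi'.symm⟩
  have hone : ∀ i < 4, ∀ j < 4, i ≠ j → o i ≠ o j := fun i hi j hj hij e => by
    have := congrArg ZMod.val (hptinj e)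
    rw [hoval i hi, hoval j hj] at this
    split at this <;> split at this <;> omega
  let D₁ : Finset (Pts p d₀) := P.filter fun w => C w ∉ P
  have hD₁ : ∀ w, w ∈ D₁ ↔ w ∈ P ∧ C w ∉ P := fun w => Finset.mem_filter
  have hoD : ∀ k < 4, o k ∉ D₁ ∧ C (o k) ∉ D₁ := fun k hk =>
    ⟨fun e => ((hD₁ _).1 e).2 (hoP k hk).2,
      fun e => ((hD₁ _).1 e).2 (by rw [hM.c_inv]; exact (hoP k hk).1)⟩
  obtain ⟨Ap, hApe, hAps, hApt⟩ := exists_link D₁ (hoD 0 (by omega)).1 (hoD 1 (by omega)).1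
    (hone 0 (by omega) 1 (by omega) (by omega))
  obtain ⟨A'p, hA'pe, hA'ps, hA'pt⟩ := exists_link D₁ (hoD 2 (by omega)).2 (hoD 3 (by omega)).2
    (C.injective.ne (hone 2 (by omega) 3 (by omega) (by omega)))
  obtain ⟨wA, hwA, hLA⟩ := hwordJ Ap hApe fun w hw => by
    rcases hAps w hw with e | e | e
    exacts [Or.inr (Or.inr ((hD₁ w).1 e).1), Or.inr (Or.inr (e ▸ (hoP 0 (by omega)).1)),
      Or.inr (Or.inr (e ▸ (hoP 1 (by omega)).1))]
  obtain ⟨wA', hwA', hLA'⟩ := hwordJ A'p hA'pe fun w hw => by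
    rcases hA'ps w hw with e | e | e
    exacts [Or.inr (Or.inr ((hD₁ w).1 e).1), Or.inr (Or.inr (e ▸ (hoP 2 (by omega)).2)),
      Or.inr (Or.inr (e ▸ (hoP 3 (by omega)).2))]
  let Bp : Perm (Pts p d₀) := C * A'p * C⁻¹
  have hBps : ∀ w, Bp w ≠ w → (C w ∈ P ∧ w ∉ P) ∨ w = o 2 ∨ w = o 3 := fun w hw => by
    simp only [Bp, hCinv, Perm.mul_apply] at hw
    rcases hA'ps (C w) (fun e => hw (by rw [e, hM.c_inv])) with e | e | e
    · refine Or.inl ⟨((hD₁ _).1 e).1, ?_⟩
      have := ((hD₁ _).1 e).2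
      rwa [hM.c_inv] at this
    · exact Or.inr (Or.inl (C.injective e))
    · exact Or.inr (Or.inr (C.injective e))
  have hBpt : ∀ i, C i ∈ P → i ∉ P → ∃ n : ℕ, (Bp ^ n) (o 2) = i := fun i hi hi' => by
    obtain ⟨n, hn⟩ := hA'pt (C i) ((hD₁ _).2 ⟨hi, by rwa [hM.c_inv]⟩)
    refine ⟨n, ?_⟩
    show ((C * A'p * C⁻¹) ^ n) (o 2) = i
    rw [conj_pow, Perm.mul_apply, Perm.mul_apply, hCinv, hn, hM.c_inv]
  have hcomm : Ap * Bp = Bp * Ap := by
    refine (commute_of_supp {w | (w ∈ P ∧ C w ∉ P) ∨ w = o 0 ∨ w = o 1} (fun w hw => ?_)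
      fun w hw => ?_).eq
    · rcases hAps w hw with e | e | e
      exacts [Or.inl ((hD₁ w).1 e), Or.inr (Or.inl e), Or.inr (Or.inr e)]
    · rintro (⟨e1, e2⟩ | e1 | e1)
      · rcases hBps w hw with ⟨f1, f2⟩ | f1 | f1
        exacts [f2 e1, e2 (f1 ▸ (hoP 2 (by omega)).2), e2 (f1 ▸ (hoP 3 (by omega)).2)]
      · rcases hBps w hw with ⟨f1, f2⟩ | f1 | f1
        exacts [f2 (e1 ▸ (hoP 0 (by omega)).1), hone 2 (by omega) 0 (by omega) (by omega) (f1.symm.trans e1),
          hone 3 (by omega) 0 (by omega) (by omega) (f1.symm.trans e1)]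
      · rcases hBps w hw with ⟨f1, f2⟩ | f1 | f1
        exacts [f2 (e1 ▸ (hoP 1 (by omega)).1), hone 2 (by omega) 1 (by omega) (by omega) (f1.symm.trans e1),
          hone 3 (by omega) 1 (by omega) (by omega) (f1.symm.trans e1)]
  -- generation
  let Wall : Subgroup (FreeGroup (Fin 2)) :=
    Subgroup.closure {wa, wd ^ 2, wd ^ 3 * wa * (wd ^ 3)⁻¹, wd ^ 3 * wd ^ 2 * (wd ^ 3)⁻¹}
  have hJall : WJ ≤ Wall := Subgroup.closure_mono (by
    rintro w (rfl | rfl)
    exacts [Or.inl rfl, Or.inr (Or.inl rfl)])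
  have hCJall : ∀ w ∈ WJ, wd ^ 3 * w * (wd ^ 3)⁻¹ ∈ Wall := by
    have : WJ ≤ Wall.comap (MulAut.conj (wd ^ 3)).toMonoidHom := by
      rw [Subgroup.closure_le]
      rintro w (hw | hw)
      · exact hw ▸ Subgroup.subset_closure (Or.inr (Or.inr (Or.inl rfl)))
      · exact hw ▸ Subgroup.subset_closure (Or.inr (Or.inr (Or.inr rfl)))
    exact fun w hw => this hw
  have hall : alternatingGroup (Pts p d₀) ≤ Wall.map L := by
    refine le_of_tri huv fun w hwu hwv => ?_
    rcases w with (e | i) | j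
    · cases e
      exacts [absurd rfl hwu, absurd rfl hwv]
    · exact ⟨_, hJall (hNJ (Subgroup.subset_closure ⟨i.val, rfl⟩)), (htri i).symm⟩
    · let i : ZMod p := (((j : ℕ) + 1 : ℕ) : ZMod p)
      refine ⟨_, hCJall _ (hNJ (Subgroup.subset_closure ⟨i.val, rfl⟩)), ?_⟩
      show L (wd ^ 3 * (wa ^ i.val * wd ^ 2 * (wa ^ i.val)⁻¹) * (wd ^ 3)⁻¹) = _
      rw [map_mul, map_mul, map_inv, hLc, ← htri, tri_conj, hCu, hCv,
        show pt i = C (Sum.inr j) from (hM.c_inr j).symm, hM.c_inv]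
  -- the relators
  let wx : FreeGroup (Fin 2) := wd ^ 2
  let wc : FreeGroup (Fin 2) := wd ^ 3
  let R1 := wb * wa * wb⁻¹ * (wa ^ r)⁻¹
  let R2 := wa ^ p * (wb ^ (p - 1) * wx ^ 3)⁻¹
  let R3 := wb * wx * wb⁻¹ * wx
  let R4 := wx * (wa * wx * wa⁻¹) * (wx * (wa * wx * wa⁻¹))
  let R5 := wc * wg * wc⁻¹ * wg'⁻¹
  let R6 := wA * (wc * wA' * wc⁻¹) * (wc * wA' * wc⁻¹ * wA)⁻¹
  obtain ⟨wW, hwW, hW1, hW2⟩ : ∃ wW : List (FreeGroup (Fin 2)), wW.length ≤ (if ε = 1 then 1 else 0) ∧
      (∀ e ∈ wW, L e = 1) ∧ ∀ (G : Type) [Group G] (π : FreeGroup (Fin 2) →* G),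
        (∀ e ∈ wW, π e = 1) → ε = 1 → π wc ∈ Wall.map π := by
    by_cases hε : ε = 1
    · obtain ⟨W, hW, hLW⟩ := hall (show C ∈ alternatingGroup _ from
        Perm.mem_alternatingGroup.2 (hsign.trans hε))
      refine ⟨[wc * W⁻¹], by rw [if_pos hε]; rfl, ?_, fun G _ π hπ _ => ⟨W, hW, ?_⟩⟩
      · simp only [List.mem_singleton, forall_eq, map_mul, map_inv, hLW]
        rw [hLc, mul_inv_cancel]
      · have := hπ _ (List.mem_singleton.2 rfl)
        rw [map_mul, map_inv, mul_inv_eq_one] at this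
        exact this.symm
    · exact ⟨[], by rw [if_neg hε]; rfl, by simp, fun G _ π _ h => absurd h hε⟩
  refine ⟨t, ?_, [R1, R2, R3, R4, R5, R6] ++ wW, ?_, ?_, ?_⟩
  · have hrange : Set.range t = {A₀, D} := by
      simp [t, Matrix.range_cons, Matrix.range_empty, Set.pair_comm]
    have hmap : Wall.map L ≤ Subgroup.closure (Set.range t) := by
      rw [← FreeGroup.range_lift_eq_closure]
      exact Subgroup.map_le_range _ _
    have hCmem : C ∈ Subgroup.closure (Set.range t) := by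
      rw [← hD3]
      exact pow_mem (Subgroup.subset_closure (Set.mem_range_self (f := t) 1)) 3
    by_cases hε : ε = 1
    · rw [if_pos hε]
      refine le_antisymm ?_ (hall.trans hmap)
      rw [Subgroup.closure_le, hrange]
      rintro w (rfl | rfl)
      · exact hAe
      · exact mul_mem (inv_mem (tri_mem huv hvz)) (Perm.mem_alternatingGroup.2 (hsign.trans hε))
    · rw [if_neg hε, eq_top_iff]
      intro σ _
      rcases Int.units_eq_one_or (Perm.sign σ) with hs | hs
      · exact hall.trans hmap hs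
      · have h1 : σ * C ∈ alternatingGroup (Pts p d₀) := by
          rw [Perm.mem_alternatingGroup, map_mul, hs, hsign,
            (Int.units_eq_one_or ε).resolve_left hε]
          rfl
        have := mul_mem (hall.trans hmap h1) hCmem
        rwa [mul_assoc, hCC, mul_one] at this
  · rw [List.length_append]
    simp only [List.length_cons, List.length_nil]
    split_ifs at hwW ⊢ <;> omega
  · intro e he
    rw [List.mem_append] at he
    rcases he with he | he
    swap
    · exact hW1 e he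
    simp only [List.mem_cons, List.not_mem_nil, or_false] at he
    have hBX : B₀ * X * B₀⁻¹ = X⁻¹ := by
      rw [tri_conj, hBu, hBv, hBp, mul_zero, tri_swap huv huz hvz]
    have hA1 : A₀ * X * A₀⁻¹ = tri u v (pt 1) := by
      have := hAn 1 0
      rw [pow_one, zero_add, Nat.cast_one] at this
      rw [tri_conj, hAu, hAu, this]
    rcases he with rfl | rfl | rfl | rfl | rfl | rfl
    · show L (wb * wa * wb⁻¹ * (wa ^ r)⁻¹) = 1
      rw [map_mul, map_mul, map_mul, map_inv, map_inv, map_pow, hLb, hLa, mul_inv_eq_one,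
        mul_inv_eq_iff_eq_mul]
      refine Equiv.ext fun w => ?_
      rw [Perm.mul_apply, Perm.mul_apply]
      rcases w with (e | i) | j
      · cases e
        · show B₀ (A₀ u) = (A₀ ^ r) (B₀ u)
          rw [hAu, hBu, Perm.pow_apply_eq_self_of_apply_eq_self (hAu true)]
        · show B₀ (A₀ v) = (A₀ ^ r) (B₀ v)
          rw [hAu, hBv, Perm.pow_apply_eq_self_of_apply_eq_self (hAu false)]
      · show B₀ (A₀ (pt i)) = (A₀ ^ r) (B₀ (pt i))
        have := hAn 1 i
        rw [pow_one, Nat.cast_one] at this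
        rw [this, hBp, hBp, hAn, mul_add, mul_one]
      · have e1 : A₀ (Sum.inr j) = Sum.inr j := hM.a_def _
        have e2 : B₀ (Sum.inr j) = Sum.inr j := rfl
        rw [e1, e2, Perm.pow_apply_eq_self_of_apply_eq_self e1]
    · show L (wa ^ p * (wb ^ (p - 1) * (wd ^ 2) ^ 3)⁻¹) = 1
      rw [map_mul, map_inv, map_mul, map_pow, map_pow, map_pow, hLa, hLb, hLx, hX3, mul_one,
        mul_inv_eq_one]
      refine Equiv.ext fun w => ?_
      have hodd : Odd p := hp.out.odd_of_ne_two (by omega)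
      obtain ⟨k, hk⟩ := hodd
      rcases w with (e | i) | j
      · rw [Perm.pow_apply_eq_self_of_apply_eq_self (hAu e),
          show p - 1 = 2 * k by omega, pow_mul]
        refine (Perm.pow_apply_eq_self_of_apply_eq_self ?_ k).symm
        cases e <;> (rw [sq, Perm.mul_apply]; first | (show B₀ (B₀ u) = u; rw [hBu, hBv]) | (show B₀ (B₀ v) = v; rw [hBv, hBu]))
      · show (A₀ ^ p) (pt i) = (B₀ ^ (p - 1)) (pt i)
        have hBn : ∀ n : ℕ, (B₀ ^ n) (pt i) = pt ((r : ZMod p) ^ n * i) := by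
          intro n
          induction n with
          | zero => simp
          | succ n ih => rw [pow_succ', Perm.mul_apply, ih, hBp, pow_succ', mul_assoc]
        rw [hAn, hBn, ZMod.natCast_self, add_zero, ZMod.pow_card_sub_one_eq_one hr0, one_mul]
      · have e1 : A₀ (Sum.inr j) = Sum.inr j := hM.a_def _
        have e2 : B₀ (Sum.inr j) = Sum.inr j := rfl
        rw [Perm.pow_apply_eq_self_of_apply_eq_self e1, Perm.pow_apply_eq_self_of_apply_eq_self e2]
    · show L (wb * wd ^ 2 * wb⁻¹ * wd ^ 2) = 1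
      rw [map_mul, map_mul, map_mul, map_inv, hLb, hLx, hBX, inv_mul_cancel]
    · show L (wd ^ 2 * (wa * wd ^ 2 * wa⁻¹) * (wd ^ 2 * (wa * wd ^ 2 * wa⁻¹))) = 1
      simp only [map_mul, map_inv, hLa, hLx]
      rw [hA1]
      exact tri_pair huv huz hvz (fun e => hu ((hPmem u).2 ⟨1, e.symm⟩))
        (fun e => hv ((hPmem v).2 ⟨1, e.symm⟩)) (hptinj.ne zero_ne_one)
    · show L (wd ^ 3 * wg * (wd ^ 3)⁻¹ * wg'⁻¹) = 1
      rw [map_mul, map_mul, map_mul, map_inv, map_inv, hLc, hLg, hLg', mul_inv_cancel]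
    · show L (wA * (wd ^ 3 * wA' * (wd ^ 3)⁻¹) * (wd ^ 3 * wA' * (wd ^ 3)⁻¹ * wA)⁻¹) = 1
      simp only [map_mul, map_inv, hLA, hLA', hLc]
      rw [mul_inv_eq_one]
      exact hcomm
  · intro G _ π hπ hrels φ hφ
    have hr : ∀ e ∈ [R1, R2, R3, R4, R5, R6], π e = 1 := fun e he =>
      hrels e (List.mem_append_left _ he)
    have r1 := hr R1 (by simp)
    have r2 := hr R2 (by simp)
    have r3 := hr R3 (by simp)
    have r4 := hr R4 (by simp)
    have r5 := hr R5 (by simp)
    have r6 := hr R6 (by simp)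
    simp only [R1, R2, R3, R4, R5, R6, wx, wc, map_mul, map_inv, map_pow, mul_inv_eq_one] at r1 r2 r3 r4 r5 r6
    have himg : ∀ w, φ (π w) = L w := hφ
    have hmap : ∀ w ∈ WJ, π w ∈ Subgroup.closure ({π wa, π wd ^ 2} : Set G) := fun w hw => by
      have := Subgroup.mem_map_of_mem π hw
      rwa [MonoidHom.map_closure, Set.image_pair, map_pow] at this
    have hGlue : Glue φ p r (π wa) (π wb) (π wd) (π wg) (π wg') (π wA) (π wA')
        u v z (o 0) (o 1) (o 2) (o 3) P := by
      refine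
        { agl := ⟨hp.out, h3, hre, hr0, hprim, r1, r2, eq_inv_of_mul_eq_one_left r3, r4, ?_⟩
          gen := ?_
          g_mem := hmap _ hwg, g'_mem := hmap _ hwg', A_mem := hmap _ hwA, A'_mem := hmap _ hwA'
          rel_overlap := r5, rel_comm := r6
          huv := huv, hu := hu, hv := hv, hz := hz
          hP := ?_
          x_img := by rw [← map_pow, himg, hLx]
          a_even := by rw [himg, hLa]; exact hAe
          a_supp := fun w hw => hAsupp w (by rwa [himg, hLa] at hw)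
          a_trans := fun w hw => ?_
          c_u := by rw [← map_pow, himg, hLc, hCu]
          c_v := by rw [← map_pow, himg, hLc, hCv]
          c_z := by rw [← map_pow, himg, hLc, hCz]
          g_uv := by rw [himg, hLg]; exact hgpuv
          g_trans := fun i hi hi' => ?_
          o_mem := fun q hq => ?_
          o_card := ?_
          A_supp := fun w hw => ?_
          A_trans := fun i hi hi' => ?_
          B_supp := fun w hw => ?_
          B_trans := fun i hi hi' => ?_ }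
      · have := Subgroup.mem_map_of_mem π hwbN
        rw [MonoidHom.map_closure, ← Set.range_comp] at this
        simpa [Function.comp_def, map_mul, map_inv, map_pow] using this
      · have h1 : Subgroup.closure (Set.range (fun i : Fin 2 => π (FreeGroup.of i))) = ⊤ := by
          rw [show (fun i : Fin 2 => π (FreeGroup.of i)) = π ∘ FreeGroup.of from rfl, Set.range_comp,
            ← MonoidHom.map_closure, FreeGroup.closure_range_of, ← MonoidHom.range_eq_map]
          exact MonoidHom.range_eq_top.2 hπ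
        rw [← h1]
        congr 1
        ext w
        simp [Fin.exists_fin_two, eq_comm]
      · rw [Finset.card_image_of_injective _ hptinj, Finset.card_univ, ZMod.card]
      · obtain ⟨i, rfl⟩ := (hPmem w).1 hw
        exact ⟨i.val, by rw [himg, hLa, hAn, zero_add, ZMod.natCast_zmod_val]⟩
      · rw [himg, hLg]
        exact hgpt i (Finset.mem_filter.2 ⟨hi, by rwa [← map_pow, himg, hLc] at hi'⟩)
      · rw [← map_pow, himg, hLc]
        simp only [Finset.mem_insert, Finset.mem_singleton] at hq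
        rcases hq with rfl | rfl | rfl | rfl
        exacts [hoP 0 (by omega), hoP 1 (by omega), hoP 2 (by omega), hoP 3 (by omega)]
      · have := fun i hi j hj hij => hone i hi j hj hij
        simp [this 0 (by omega) 1 (by omega) (by omega), this 0 (by omega) 2 (by omega) (by omega),
          this 0 (by omega) 3 (by omega) (by omega), this 1 (by omega) 2 (by omega) (by omega),
          this 1 (by omega) 3 (by omega) (by omega), this 2 (by omega) 3 (by omega) (by omega)]
      · rw [himg, hLA] at hw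
        rw [← map_pow, himg, hLc]
        rcases hAps w hw with e | e | e
        exacts [Or.inl ((hD₁ w).1 e), Or.inr (Or.inl e), Or.inr (Or.inr e)]
      · rw [himg, hLA]
        exact hApt i ((hD₁ i).2 ⟨hi, by rwa [← map_pow, himg, hLc] at hi'⟩)
      · rw [← map_pow, ← map_mul, ← map_inv, ← map_mul, himg, map_mul, map_mul, map_inv, hLc, hLA'] at hw
        rw [← map_pow, himg, hLc]
        exact hBps w hw
      · rw [← map_pow, himg, hLc] at hi
        rw [← map_pow, ← map_mul, ← map_inv, ← map_mul, himg, map_mul, map_mul, map_inv, hLc, hLA']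
        exact hBpt i hi hi'
    obtain ⟨M, haM, hxM, hcM, hMfin, hMcard, hMall⟩ := hGlue.bound
    have hT : (P ∪ P.image (φ (π wd ^ 3))).card = p + d₀ := by
      rw [← map_pow, himg, hLc]
      have e : P ∪ P.image C = (Finset.univ : Finset (ZMod p ⊕ Fin d₀)).image
          (Sum.map Sum.inr id : ZMod p ⊕ Fin d₀ → Pts p d₀) := by
        ext w
        constructor
        · intro hw
          rcases w with (e | i) | j
          · exfalso
            rcases Finset.mem_union.1 hw with hw | hw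
            · obtain ⟨i, hi⟩ := (hPmem _).1 hw; simp [pt] at hi
            · obtain ⟨w', hw', e'⟩ := Finset.mem_image.1 hw
              obtain ⟨i, rfl⟩ := (hPmem _).1 hw'
              have := congrArg C e'
              rw [hM.c_inv, hM.c_uv] at this
              simp [pt] at this
          · exact Finset.mem_image.2 ⟨Sum.inl i, Finset.mem_univ _, rfl⟩
          · exact Finset.mem_image.2 ⟨Sum.inr j, Finset.mem_univ _, rfl⟩
        · intro hw
          obtain ⟨w', -, rfl⟩ := Finset.mem_image.1 hw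
          rcases w' with i | j
          · exact Finset.mem_union_left _ ((hPmem _).2 ⟨i, rfl⟩)
          · exact Finset.mem_union_right _ (Finset.mem_image.2 ⟨C (Sum.inr j),
              (hPmem _).2 ⟨_, (hM.c_inr j).symm⟩, hM.c_inv _⟩)
      rw [e, Finset.card_image_of_injective _ (Sum.map_injective.2 ⟨Sum.inr_injective,
        Function.injective_id⟩)]
      simp
    rw [hT] at hMcard
    obtain ⟨c, hc⟩ : ∃ c, c = π wd ^ 3 := ⟨_, rfl⟩
    rw [← hc] at hMall hcM
    by_cases hε : ε = 1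
    · rw [if_pos hε]
      have hcM' : c ∈ M := by
        obtain ⟨w, hw, e⟩ := hW2 G π (fun e he => hrels e (List.mem_append_right _ he)) hε
        have hle : Wall.map π ≤ M := by
          rw [MonoidHom.map_closure, Subgroup.closure_le]
          rintro _ ⟨g, hg, rfl⟩
          rcases hg with rfl | rfl | rfl | rfl
          · exact haM
          · rw [map_pow]; exact hxM
          · rw [map_mul, map_mul, map_inv, map_pow, ← hc]; exact hcM _ haM
          · rw [map_mul, map_mul, map_inv, map_pow, map_pow, ← hc]; exact hcM _ hxM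
        have := hle ⟨w, hw, e⟩
        rwa [map_pow, ← hc] at this
      have htop : M = ⊤ := by
        rw [eq_top_iff]
        intro w _
        rcases hMall w with h | h
        · exact h
        · simpa using mul_mem h (inv_mem hcM')
      subst htop
      refine ⟨Finite.of_equiv _ Subgroup.topEquiv.toEquiv, ?_⟩
      rwa [Subgroup.card_top] at hMcard
    · rw [if_neg hε]
      let F' : M × Bool → G := fun x => if x.2 then (x.1 : G) * c⁻¹ else x.1
      have hF' : Function.Surjective F' := fun w => by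
        rcases hMall w with h | h
        · exact ⟨(⟨w, h⟩, false), rfl⟩
        · exact ⟨(⟨_, h⟩, true), mul_inv_cancel_right w c⟩
      refine ⟨Finite.of_surjective F' hF', ?_⟩
      calc Nat.card G ≤ Nat.card (M × Bool) := Nat.card_le_card_of_surjective _ hF'
        _ = 2 * Nat.card M := by rw [Nat.card_prod]; simp [mul_comm]
        _ ≤ _ := hMcard

end Glued

end CfsgLib.Pres.Short
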