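import Cfsg.Agent.Lib.Pres.AltShort

/-!
# Short presentations of `Perm (Fin n)` and `alternatingGroup (Fin n)`
-/

set_option autoImplicit false

namespace CfsgLib.Pres.Short

open Equiv

section Conclude

variable {Ω : Type} [DecidableEq Ω] [Fintype Ω] {k K : ℕ}

theorem hasPres_perm (t : Fin k → Perm Ω) (hgen : Subgroup.closure (Set.range t) = ⊤)
    (L : List (FreeGroup (Fin k))) (hL : L.length ≤ K) (hold : ∀ e ∈ L, FreeGroup.lift t e = 1)
    (hb : ∀ (G : Type) [Group G] (π : FreeGroup (Fin k) →* G), Function.Surjective π →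
      (∀ e ∈ L, π e = 1) → ∀ φ : G →* Perm Ω, (∀ w, φ (π w) = FreeGroup.lift t w) →
      Finite G ∧ Nat.card G ≤ (Fintype.card Ω).factorial) : HasPres k (Perm Ω) K := by
  obtain ⟨rels, hr, e, he⟩ := presented t hgen L hold fun G _ π hπ h φ hφ => by
    obtain ⟨h1, h2⟩ := hb G π hπ h φ hφ
    exact ⟨h1, h2.trans (le_of_eq (by rw [Nat.card_perm, Nat.card_eq_fintype_card]))⟩
  exact ⟨t, hgen, rels, hr.trans hL, e, he⟩

theorem hasPres_alt [Nontrivial Ω] (t : Fin k → Perm Ω)
    (hgen : Subgroup.closure (Set.range t) = alternatingGroup Ω)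
    (L : List (FreeGroup (Fin k))) (hL : L.length ≤ K) (hold : ∀ e ∈ L, FreeGroup.lift t e = 1)
    (hb : ∀ (G : Type) [Group G] (π : FreeGroup (Fin k) →* G), Function.Surjective π →
      (∀ e ∈ L, π e = 1) → ∀ φ : G →* Perm Ω, (∀ w, φ (π w) = FreeGroup.lift t w) →
      Finite G ∧ 2 * Nat.card G ≤ (Fintype.card Ω).factorial) :
    HasPres k ↥(alternatingGroup Ω) K := by
  let t' : Fin k → ↥(alternatingGroup Ω) := fun i =>
    ⟨t i, hgen ▸ Subgroup.subset_closure (Set.mem_range_self (f := t) i)⟩
  have hgen' : Subgroup.closure (Set.range t') = ⊤ := by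
    refine Subgroup.map_injective (alternatingGroup Ω).subtype_injective ?_
    rw [MonoidHom.map_closure, ← Set.range_comp, ← MonoidHom.range_eq_map, Subgroup.range_subtype]
    exact hgen
  have hlift : ∀ w, ((FreeGroup.lift t' w : ↥(alternatingGroup Ω)) : Perm Ω) = FreeGroup.lift t w :=
    fun w => congrArg (fun ψ : FreeGroup (Fin k) →* Perm Ω => ψ w)
      (show (alternatingGroup Ω).subtype.comp (FreeGroup.lift t') = FreeGroup.lift t from
        FreeGroup.ext_hom _ _ fun i => by
          rw [MonoidHom.comp_apply, FreeGroup.lift_apply_of, FreeGroup.lift_apply_of]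
          rfl)
  obtain ⟨rels, hr, e, he⟩ := presented t' hgen' L (fun e he => Subtype.ext (by
      rw [hlift]; exact hold e he)) fun G _ π hπ h φ hφ => by
    obtain ⟨h1, h2⟩ := hb G π hπ h ((alternatingGroup Ω).subtype.comp φ) fun w => by
      rw [MonoidHom.comp_apply, hφ]; exact hlift w
    refine ⟨h1, ?_⟩
    have h3 := two_mul_nat_card_alternatingGroup (α := Ω)
    rw [Nat.card_perm, Nat.card_eq_fintype_card (α := Ω)] at h3
    omega
  exact ⟨t', hgen', rels, hr.trans hL, e, he⟩

end Conclude

/-! ### Few points -/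

/-- Five relators suffice on `m + 2 ≤ 6` points. -/
theorem small (m : ℕ) [NeZero m] (hm : m ≤ 4) (ε : ℤˣ) :
    ∃ t : Fin 2 → Perm (Bool ⊕ ZMod m), Subgroup.closure (Set.range t) =
        (if ε = 1 then alternatingGroup _ else ⊤) ∧
      ∃ L : List (FreeGroup (Fin 2)), L.length ≤ 5 ∧ (∀ e ∈ L, FreeGroup.lift t e = 1) ∧
        ∀ (G : Type) [Group G] (π : FreeGroup (Fin 2) →* G), Function.Surjective π →
          (∀ e ∈ L, π e = 1) →
          Finite G ∧ (if ε = 1 then 2 * Nat.card G else Nat.card G) ≤ (m + 2).factorial := by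
  classical
  let u : Bool ⊕ ZMod m := Sum.inl false
  let v : Bool ⊕ ZMod m := Sum.inl true
  let pt : ℕ → Bool ⊕ ZMod m := fun i => Sum.inr (i : ZMod m)
  have huv : u ≠ v := by simp [u, v]
  have hui : ∀ i, u ≠ pt i := fun i => by simp [u, pt]
  have hvi : ∀ i, v ≠ pt i := fun i => by simp [v, pt]
  let ε' : ℤˣ := ε * Perm.sign (Equiv.addRight (1 : ZMod m))
  let sB : Perm Bool := if ε' = 1 then 1 else swap false true
  let A : Perm (Bool ⊕ ZMod m) := Equiv.sumCongr sB (Equiv.addRight (1 : ZMod m))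
  have hA : Perm.sign A = ε := by
    show Perm.sign (Equiv.sumCongr sB (Equiv.addRight (1 : ZMod m))) = ε
    rw [Perm.sign_sumCongr]
    have : Perm.sign sB = ε' := by
      simp only [sB]
      split_ifs with h
      · rw [map_one, h]
      · rw [Perm.sign_swap (by decide), (Int.units_eq_one_or ε').resolve_left h]
    rw [this, mul_assoc, Int.units_mul_self, mul_one]
  let e : ℤ := (ε' : ℤ)
  have he : e = 1 ∨ e = -1 := by
    rcases Int.units_eq_one_or ε' with h | h <;> simp [e, h]
  have hee : e * e = 1 := by rcases he with h | h <;> rw [h] <;> rfl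
  let X : Perm (Bool ⊕ ZMod m) := tri u v (pt 0)
  let t : Fin 2 → Perm (Bool ⊕ ZMod m) := ![A, X]
  let L : FreeGroup (Fin 2) →* Perm (Bool ⊕ ZMod m) := FreeGroup.lift t
  have hLa : L wa = A := FreeGroup.lift_apply_of
  have hLd : L wd = X := FreeGroup.lift_apply_of
  let wX : ℕ → FreeGroup (Fin 2) := fun k => (wa ^ k * wd * (wa ^ k)⁻¹) ^ (e ^ k)
  have hAtri : ∀ i, A * tri u v (pt i) * A⁻¹ = tri u v (pt (i + 1)) ^ e := fun i => by
    rw [tri_conj]
    have h1 : A (pt i) = pt (i + 1) := by simp [A, pt]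
    rcases Int.units_eq_one_or ε' with h | h
    · have h2 : A u = u ∧ A v = v := by simp [A, u, v, sB, h]
      rw [h1, h2.1, h2.2, show e = 1 by simp [e, h], zpow_one]
    · have h2 : A u = v ∧ A v = u := by simp [A, u, v, sB, h]
      rw [h1, h2.1, h2.2, show e = -1 by simp [e, h], zpow_neg_one,
        tri_swap huv (hui _) (hvi _)]
  have hek : ∀ k : ℕ, e ^ k * e ^ k = 1 := fun k => by rw [← mul_pow, hee, one_pow]
  have hconjA : ∀ k, L (wa ^ k * wd * (wa ^ k)⁻¹) = tri u v (pt k) ^ (e ^ k) := by
    intro k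
    induction k with
    | zero => simp [hLd, X]
    | succ k ih =>
      rw [show wa ^ (k + 1) * wd * (wa ^ (k + 1))⁻¹ = wa * (wa ^ k * wd * (wa ^ k)⁻¹) * wa⁻¹ by
          rw [pow_succ']; group,
        map_mul, map_mul, map_inv, ih, hLa, ← conj_zpow, hAtri, ← zpow_mul, ← pow_succ']
  have hwX : ∀ k, L (wX k) = tri u v (pt k) := fun k => by
    rw [map_zpow, hconjA, ← zpow_mul, hek, zpow_one]
  let WN : Subgroup (FreeGroup (Fin 2)) := Subgroup.closure (Set.range wX)
  have hall : alternatingGroup (Bool ⊕ ZMod m) ≤ WN.map L := by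
    refine le_of_tri huv fun w hwu hwv => ?_
    rcases w with b | i
    · cases b
      exacts [absurd rfl hwu, absurd rfl hwv]
    · refine ⟨wX i.val, Subgroup.subset_closure (Set.mem_range_self _), ?_⟩
      rw [hwX]
      simp [pt]
  obtain ⟨w, hw, hLw⟩ := hall (show (if ε = 1 then A else A ^ 2) ∈ alternatingGroup _ by
    rw [Perm.mem_alternatingGroup]
    split_ifs with h
    · rw [hA, h]
    · rw [map_pow, hA, Int.units_sq])
  let s : FreeGroup (Fin 2) := if ε = 1 then wa else wa ^ 2
  let rels : List (FreeGroup (Fin 2)) :=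
    [wd ^ 3, wX m * wd⁻¹, s * w⁻¹] ++
      (List.range (m / 2)).map (fun k => (wd * wX (k + 1)) * (wd * wX (k + 1)))
  refine ⟨t, ?_, rels, ?_, ?_, ?_⟩
  · have hmap : WN.map L ≤ Subgroup.closure (Set.range t) := by
      rw [← FreeGroup.range_lift_eq_closure]
      exact Subgroup.map_le_range _ _
    by_cases h : ε = 1
    · rw [if_pos h]
      refine le_antisymm ?_ (hall.trans hmap)
      rw [Subgroup.closure_le]
      rintro _ ⟨i, rfl⟩
      fin_cases i
      · exact Perm.mem_alternatingGroup.2 (hA.trans h)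
      · exact tri_mem huv (hvi 0)
    · rw [if_neg h, eq_top_iff]
      intro σ _
      rcases Int.units_eq_one_or (Perm.sign σ) with hs | hs
      · exact hall.trans hmap hs
      · have h1 : σ * A ∈ alternatingGroup (Bool ⊕ ZMod m) := by
          rw [Perm.mem_alternatingGroup, map_mul, hs, hA, (Int.units_eq_one_or ε).resolve_left h]
          rfl
        have := mul_mem (hall.trans hmap h1)
          (inv_mem (Subgroup.subset_closure (Set.mem_range_self (f := t) 0)))
        simpa [t] using this
  · simp only [rels, List.length_append, List.length_cons, List.length_nil, List.length_map,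
      List.length_range]
    omega
  · intro r hr
    simp only [rels, List.mem_append, List.mem_cons, List.not_mem_nil, or_false, List.mem_map,
      List.mem_range] at hr
    rcases hr with (rfl | rfl | rfl) | ⟨k, hk, rfl⟩
    · show L (wd ^ 3) = 1
      rw [map_pow, hLd]
      exact tri_cube huv (hui 0) (hvi 0)
    · show L (wX m * wd⁻¹) = 1
      rw [map_mul, map_inv, hwX, hLd, mul_inv_eq_one]
      simp [X, pt]
    · show L (s * w⁻¹) = 1
      rw [map_mul, map_inv, hLw, mul_inv_eq_one]
      simp only [s]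
      split_ifs <;> simp [hLa]
    · show L (wd * wX (k + 1) * (wd * wX (k + 1))) = 1
      simp only [map_mul, hLd, hwX]
      refine tri_pair huv (hui 0) (hvi 0) (hui _) (hvi _) fun h => ?_
      have : (((k + 1 : ℕ)) : ZMod m) = 0 := by simpa [pt] using h.symm
      rw [ZMod.natCast_eq_zero_iff] at this
      have := Nat.le_of_dvd (Nat.succ_pos _) this
      omega
  · intro G _ π hπ hrels
    have hr : ∀ r ∈ rels, π r = 1 := hrels
    obtain ⟨a, ha⟩ : ∃ a, a = π wa := ⟨_, rfl⟩
    obtain ⟨x, hx⟩ : ∃ x, x = π wd := ⟨_, rfl⟩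
    let Y : ℕ → G := fun k => (a ^ k * x * (a ^ k)⁻¹) ^ (e ^ k)
    have hπY : ∀ k, π (wX k) = Y k := fun k => by simp [wX, Y, ha, hx]
    have hY0 : Y 0 = x := by simp [Y]
    have h3 : x ^ 3 = 1 := by rw [hx, ← map_pow]; exact hr _ (by simp [rels])
    have hper0 : Y m = x := by
      have := hr (wX m * wd⁻¹) (by simp [rels])
      rwa [map_mul, map_inv, mul_inv_eq_one, hπY, ← hx] at this
    have hYs : ∀ k, Y (k + 1) = (a * Y k * a⁻¹) ^ e := fun k => by
      show (a ^ (k + 1) * x * (a ^ (k + 1))⁻¹) ^ (e ^ (k + 1)) = _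
      rw [show a ^ (k + 1) * x * (a ^ (k + 1))⁻¹ = a * (a ^ k * x * (a ^ k)⁻¹) * a⁻¹ by
        rw [pow_succ']; group, pow_succ, zpow_mul, conj_zpow]
    have hper : ∀ k, Y (k + m) = Y k := by
      intro k
      induction k with
      | zero => rw [Nat.zero_add, hper0, hY0]
      | succ k ih => rw [show k + 1 + m = k + m + 1 by omega, hYs, hYs, ih]
    have hmod : ∀ k, Y k = Y (k % m) := by
      intro k
      induction k using Nat.strong_induction_on with
      | _ k ih =>
        by_cases h : k < m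
        · rw [Nat.mod_eq_of_lt h]
        · have h1 := ih (k - m) (by have := NeZero.pos m; omega)
          have h2 := hper (k - m)
          rw [Nat.sub_add_cancel (by omega)] at h2
          rw [h2, h1, ← Nat.mod_eq_sub_mod (by omega)]
    have hY3 : ∀ k, Y k ^ 3 = 1 := by
      intro k
      induction k with
      | zero => rw [hY0, h3]
      | succ k ih =>
        rw [hYs, ← zpow_natCast, ← zpow_mul, mul_comm, zpow_mul, zpow_natCast, conj_pow, ih]
        simp
    let P : ℕ → ℕ → Prop := fun i j => (Y i * Y j) * (Y i * Y j) = 1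
    have hsymm : ∀ i j, P i j → P j i := fun i j h =>
      calc Y j * Y i * (Y j * Y i) = (Y i)⁻¹ * (Y i * Y j * (Y i * Y j)) * Y i := by group
        _ = 1 := by rw [show Y i * Y j * (Y i * Y j) = 1 from h]; group
    have hshift : ∀ i j, P i j → P (i + 1) (j + 1) := fun i j h => by
      show Y (i + 1) * Y (j + 1) * (Y (i + 1) * Y (j + 1)) = 1
      rw [hYs, hYs]
      rcases he with h' | h' <;> rw [h']
      · calc (a * Y i * a⁻¹) ^ (1 : ℤ) * (a * Y j * a⁻¹) ^ (1 : ℤ) *
              ((a * Y i * a⁻¹) ^ (1 : ℤ) * (a * Y j * a⁻¹) ^ (1 : ℤ))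
            = a * (Y i * Y j * (Y i * Y j)) * a⁻¹ := by group
          _ = 1 := by rw [show Y i * Y j * (Y i * Y j) = 1 from h]; group
      · calc (a * Y i * a⁻¹) ^ (-1 : ℤ) * (a * Y j * a⁻¹) ^ (-1 : ℤ) *
              ((a * Y i * a⁻¹) ^ (-1 : ℤ) * (a * Y j * a⁻¹) ^ (-1 : ℤ))
            = a * (Y j * Y i * (Y j * Y i))⁻¹ * a⁻¹ := by group
          _ = 1 := by rw [show Y j * Y i * (Y j * Y i) = 1 from hsymm i j h]; group
    have hshiftn : ∀ n i j, P i j → P (i + n) (j + n) := by
      intro n
      induction n with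
      | zero => exact fun i j h => h
      | succ n ih => exact fun i j h => hshift _ _ (ih i j h)
    have hP0 : ∀ k, 1 ≤ k → k ≤ m / 2 → P 0 k := fun k h1 h2 => by
      have := hr ((wd * wX (k - 1 + 1)) * (wd * wX (k - 1 + 1)))
        (List.mem_append_right _ (List.mem_map.2 ⟨k - 1, List.mem_range.2 (by omega), rfl⟩))
      rw [Nat.sub_add_cancel h1] at this
      simp only [map_mul, hπY, ← hx] at this
      show Y 0 * Y k * (Y 0 * Y k) = 1
      rwa [hY0]
    have hPlt : ∀ i j, i < j → j < m → P i j := fun i j hij hj => by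
      have h0 : P 0 (j - i) := by
        by_cases h : j - i ≤ m / 2
        · exact hP0 _ (by omega) h
        · have h1 := hshiftn (j - i) _ _ (hP0 (m - (j - i)) (by omega) (by omega))
          rw [Nat.zero_add, Nat.sub_add_cancel (by omega)] at h1
          have h2 : P (j - i) 0 := by
            show Y (j - i) * Y 0 * (Y (j - i) * Y 0) = 1
            rw [hY0, ← hper0]
            exact h1
          exact hsymm _ _ h2
      have := hshiftn i _ _ h0
      rwa [Nat.zero_add, Nat.sub_add_cancel hij.le] at this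
    obtain ⟨N, hN⟩ : ∃ N, N = Subgroup.closure (Set.range fun i : Fin m => Y i) := ⟨_, rfl⟩
    obtain ⟨hNfin, hNcard⟩ := carmichael (fun i : Fin m => Y i) (fun i => hY3 _) fun i j hij => by
      rcases lt_or_gt_of_ne (fun h => hij (Fin.ext h) : (i : ℕ) ≠ j) with h | h
      exacts [hPlt _ _ h j.2, hsymm _ _ (hPlt _ _ h i.2)]
    rw [← hN, Fintype.card_fin] at hNcard
    rw [← hN] at hNfin
    have hYN : ∀ k, Y k ∈ N := fun k => by
      rw [hmod, hN]
      exact Subgroup.subset_closure ⟨⟨k % m, Nat.mod_lt _ (NeZero.pos m)⟩, rfl⟩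
    have haN : ∀ n ∈ N, a * n * a⁻¹ ∈ N := by
      have : N ≤ N.comap (MulAut.conj a).toMonoidHom := by
        conv_lhs => rw [hN]
        rw [Subgroup.closure_le]
        rintro _ ⟨i, rfl⟩
        show a * Y i * a⁻¹ ∈ N
        have := N.zpow_mem (hYN (i + 1)) e
        rwa [hYs, ← zpow_mul, hee, zpow_one] at this
      exact fun n hn => this hn
    have hwN : π w ∈ N := by
      have h1 : WN ≤ N.comap π := by
        rw [Subgroup.closure_le]
        rintro _ ⟨k, rfl⟩
        show π (wX k) ∈ N
        rw [hπY]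
        exact hYN k
      exact h1 hw
    have hs : π s ∈ N := by
      have := hr (s * w⁻¹) (by simp [rels])
      rw [map_mul, map_inv, mul_inv_eq_one] at this
      rwa [this]
    have ha2 : a * a ∈ N := by
      simp only [s] at hs
      split_ifs at hs
      · rw [← ha] at hs; exact mul_mem hs hs
      · rw [map_pow, sq, ← ha] at hs; exact hs
    have hxN : x ∈ N := hY0 ▸ hYN 0
    have haN' : ∀ n ∈ N, a⁻¹ * n * a ∈ N := fun n hn => by
      have := haN _ (mul_mem (mul_mem (inv_mem ha2) hn) ha2)
      convert this using 1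
      group
    have hcov : ∀ g : G, g ∈ N ∨ g * a ∈ N := by
      have h1 : Subgroup.closure ({a, x} : Set G) = ⊤ := by
        rw [ha, hx, ← Set.image_pair (f := π), ← MonoidHom.map_closure,
          show ({wa, wd} : Set (FreeGroup (Fin 2))) = Set.range FreeGroup.of by
            ext y; simp [Fin.exists_fin_two, eq_comm],
          FreeGroup.closure_range_of, ← MonoidHom.range_eq_map]
        exact MonoidHom.range_eq_top.2 hπ
      intro g
      have hg : g ∈ Subgroup.closure ({a, x} : Set G) := h1 ▸ Subgroup.mem_top g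
      induction hg using Subgroup.closure_induction_right with
      | one => exact Or.inl (one_mem _)
      | mul_right y _ z hz ih =>
        rcases hz with rfl | rfl <;> rcases ih with ih | ih
        · exact Or.inr (by rw [mul_assoc]; exact mul_mem ih ha2)
        · exact Or.inl ih
        · exact Or.inl (mul_mem ih hxN)
        · exact Or.inr (by
            have := mul_mem ih (haN' _ hxN)
            convert this using 1
            group)
      | mul_inv_cancel y _ z hz ih =>
        rcases hz with rfl | rfl <;> rcases ih with ih | ih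
        · exact Or.inr (by rwa [inv_mul_cancel_right])
        · exact Or.inl (by
            have := mul_mem ih (inv_mem ha2)
            convert this using 1
            group)
        · exact Or.inl (mul_mem ih (inv_mem hxN))
        · exact Or.inr (by
            have := mul_mem ih (haN' _ (inv_mem hxN))
            convert this using 1
            group)
    by_cases hε : ε = 1
    · rw [if_pos hε]
      have haN1 : a ∈ N := by simpa [s, hε, ha] using hs
      have htop : N = ⊤ := eq_top_iff.2 fun g _ => by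
        rcases hcov g with h | h
        · exact h
        · simpa using mul_mem h (inv_mem haN1)
      subst htop
      refine ⟨Finite.of_equiv _ Subgroup.topEquiv.toEquiv, ?_⟩
      rwa [Subgroup.card_top] at hNcard
    · rw [if_neg hε]
      let F : N × Bool → G := fun y => if y.2 then (y.1 : G) * a⁻¹ else y.1
      have hF : Function.Surjective F := fun g => by
        rcases hcov g with h | h
        · exact ⟨(⟨g, h⟩, false), rfl⟩
        · exact ⟨(⟨_, h⟩, true), mul_inv_cancel_right g a⟩
      refine ⟨Finite.of_surjective F hF, ?_⟩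
      calc Nat.card G ≤ Nat.card (N × Bool) := Nat.card_le_card_of_surjective _ hF
        _ = 2 * Nat.card N := by rw [Nat.card_prod]; simp [mul_comm]
        _ ≤ _ := hNcard

/-! ### All degrees -/

theorem exists_pd {n : ℕ} (hn : 7 ≤ n) : ∃ p d₀ : ℕ, p.Prime ∧ d₀ + 4 ≤ p ∧ n = p + d₀ + 2 := by
  rcases eq_or_ne n 7 with rfl | h7
  · exact ⟨5, 0, Nat.prime_five, by omega, rfl⟩
  rcases eq_or_ne n 8 with rfl | h8
  · exact ⟨5, 1, Nat.prime_five, by omega, rfl⟩
  obtain ⟨p, hp, h1, h2⟩ := Window.exists_prime ((n + 1) / 2) (by omega)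
  refine ⟨p, n - p - 2, hp, ?_, ?_⟩
  · omega
  · have : p + 1 ≠ n := fun h => by
      rcases hp.eq_two_or_odd' with e | ⟨k, hk⟩ <;> omega
    omega

theorem hasPres_big_sym {n : ℕ} (hn : 7 ≤ n) : HasPres 2 (Perm (Fin n)) 6 := by
  obtain ⟨p, d₀, hp, hd, rfl⟩ := exists_pd hn
  have : Fact p.Prime := ⟨hp⟩
  obtain ⟨t, ht, L, hL, hold, hb⟩ := glued p d₀ hd (-1)
  have hne : ¬((-1 : ℤˣ) = 1) := by decide
  have hc : Fintype.card (Pts p d₀) = p + d₀ + 2 := by simp; omega
  rw [if_neg hne] at ht hL
  exact (hasPres_perm t ht L hL hold fun G _ π hπ h φ hφ => by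
    have := hb G π hπ h φ hφ
    rwa [if_neg hne, ← hc] at this).congr (Fintype.equivFinOfCardEq hc).permCongrHom

theorem hasPres_big_alt {n : ℕ} (hn : 7 ≤ n) : HasPres 2 ↥(alternatingGroup (Fin n)) 7 := by
  obtain ⟨p, d₀, hp, hd, rfl⟩ := exists_pd hn
  have : Fact p.Prime := ⟨hp⟩
  have : Nontrivial (Pts p d₀) := ⟨⟨.inl (.inl false), .inl (.inl true), by simp⟩⟩
  obtain ⟨t, ht, L, hL, hold, hb⟩ := glued p d₀ hd 1
  have hc : Fintype.card (Pts p d₀) = p + d₀ + 2 := by simp; omega
  rw [if_pos rfl] at ht hL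
  exact (hasPres_alt t ht L hL hold fun G _ π hπ h φ hφ => by
    have := hb G π hπ h φ hφ
    rwa [if_pos rfl, ← hc] at this).congr (Fintype.equivFinOfCardEq hc).altCongrHom

theorem hasPres_small_sym {n : ℕ} (h3 : 3 ≤ n) (hn : n ≤ 6) : HasPres 2 (Perm (Fin n)) 5 := by
  obtain ⟨m, rfl⟩ : ∃ m, n = m + 1 + 2 := ⟨n - 3, by omega⟩
  obtain ⟨t, ht, L, hL, hold, hb⟩ := small (m + 1) (by omega) (-1)
  have hne : ¬((-1 : ℤˣ) = 1) := by decide
  have hc : Fintype.card (Bool ⊕ ZMod (m + 1)) = m + 1 + 2 := by simp; omega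
  rw [if_neg hne] at ht
  exact (hasPres_perm t ht L hL hold fun G _ π hπ h φ hφ => by
    have := hb G π hπ h
    rwa [if_neg hne, ← hc] at this).congr (Fintype.equivFinOfCardEq hc).permCongrHom

theorem hasPres_small_alt {n : ℕ} (h3 : 3 ≤ n) (hn : n ≤ 6) :
    HasPres 2 ↥(alternatingGroup (Fin n)) 5 := by
  obtain ⟨m, rfl⟩ : ∃ m, n = m + 1 + 2 := ⟨n - 3, by omega⟩
  have : Nontrivial (Bool ⊕ ZMod (m + 1)) := ⟨⟨.inl false, .inl true, by simp⟩⟩
  obtain ⟨t, ht, L, hL, hold, hb⟩ := small (m + 1) (by omega) 1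
  have hc : Fintype.card (Bool ⊕ ZMod (m + 1)) = m + 1 + 2 := by simp; omega
  rw [if_pos rfl] at ht
  exact (hasPres_alt t ht L hL hold fun G _ π hπ h φ hφ => by
    have := hb G π hπ h
    rwa [if_pos rfl, ← hc] at this).congr (Fintype.equivFinOfCardEq hc).altCongrHom

/-- Two generators and six relations for the symmetric group. -/
theorem hasPres_sym {n : ℕ} (h3 : 3 ≤ n) : HasPres 2 (Perm (Fin n)) 6 := by
  rcases le_or_gt 7 n with h | h
  exacts [hasPres_big_sym h, (hasPres_small_sym h3 (by omega)).mono (by omega)]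

/-- Two generators and seven relations for the alternating group. -/
theorem hasPres_alt_fin {n : ℕ} (h3 : 3 ≤ n) : HasPres 2 ↥(alternatingGroup (Fin n)) 7 := by
  rcases le_or_gt 7 n with h | h
  exacts [hasPres_big_alt h, (hasPres_small_alt h3 (by omega)).mono (by omega)]

/-- A cyclic group on two generators. -/
theorem hasPres_cyclic (T : Type) [Group T] [Finite T] [IsCyclic T] : HasPres 2 T 2 := by
  obtain ⟨g, hg⟩ := IsCyclic.exists_generator (α := T)
  let t : Fin 2 → T := ![g, 1]
  have hgen : Subgroup.closure (Set.range t) = ⊤ := by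
    rw [eq_top_iff]
    intro y _
    obtain ⟨k, rfl⟩ := hg y
    exact zpow_mem (Subgroup.subset_closure (Set.mem_range_self (f := t) 0)) k
  obtain ⟨rels, hr, e, he⟩ := presented t hgen [wd, wa ^ orderOf g]
    (by simp [t, pow_orderOf_eq_one]) fun G _ π hπ h φ _ => by
    have h1 : π wd = 1 := h _ (by simp)
    have h2 : π wa ^ orderOf g = 1 := by rw [← map_pow]; exact h _ (by simp)
    have htop : Subgroup.zpowers (π wa) = ⊤ := by
      rw [eq_top_iff]
      have : (⊤ : Subgroup (FreeGroup (Fin 2))) ≤ (Subgroup.zpowers (π wa)).comap π := by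
        rw [← FreeGroup.closure_range_of, Subgroup.closure_le]
        rintro _ ⟨i, rfl⟩
        fin_cases i
        · exact Subgroup.mem_zpowers _
        · show π wd ∈ Subgroup.zpowers (π wa)
          rw [h1]; exact one_mem _
      intro y _
      obtain ⟨w, rfl⟩ := hπ y
      exact this (Subgroup.mem_top w)
    have hfo : IsOfFinOrder (π wa) := isOfFinOrder_iff_pow_eq_one.2 ⟨_, orderOf_pos g, h2⟩
    have hc : Nat.card G = orderOf (π wa) := by
      rw [← Nat.card_zpowers, htop, Subgroup.card_top]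
    refine ⟨Nat.finite_of_card_ne_zero (by rw [hc]; exact hfo.orderOf_pos.ne'), ?_⟩
    rw [hc]
    refine (Nat.le_of_dvd (orderOf_pos g) (orderOf_dvd_of_pow_eq_one h2)).trans ?_
    exact Nat.le_of_dvd Nat.card_pos (orderOf_dvd_natCard g)
  exact ⟨t, hgen, rels, hr, e, he⟩

/-- Two generators and six relations, all degrees. -/
theorem hasPres_sym_all (n : ℕ) : HasPres 2 (Perm (Fin n)) 6 := by
  rcases le_or_gt 3 n with h | h
  · exact hasPres_sym h
  have : IsCyclic (Perm (Fin n)) := by
    rcases (by omega : n ≤ 1 ∨ n = 2) with h1 | rfl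
    · have : Subsingleton (Fin n) := Fin.subsingleton_iff_le_one.2 h1
      infer_instance
    · have : Fact (Nat.Prime 2) := ⟨Nat.prime_two⟩
      exact isCyclic_of_prime_card (p := 2) (by rw [Nat.card_perm, Nat.card_eq_fintype_card, Fintype.card_fin]; rfl)
  exact (hasPres_cyclic _).mono (by omega)

/-- Two generators and seven relations, all degrees. -/
theorem hasPres_alt_all (n : ℕ) : HasPres 2 ↥(alternatingGroup (Fin n)) 7 := by
  rcases le_or_gt 3 n with h | h
  · exact hasPres_alt_fin h
  have : IsCyclic ↥(alternatingGroup (Fin n)) :=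
    alternatingGroup.isCyclic_of_card_le_three (by simp; omega)
  exact (hasPres_cyclic _).mono (by omega)

end CfsgLib.Pres.Short
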