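import Cfsg.Agent.Lib.Pres.AltShort

/-!
# An involution that is a word in `B²` and its conjugates

`B` multiplies `ZMod p` by a primitive root; the involution `C` attaches `d` new points in such a
way that `B² C` has odd order.
-/

set_option autoImplicit false

namespace CfsgLib.Pres.Short

open Equiv

section Generic

variable {Ω : Type*} [DecidableEq Ω] [Fintype Ω]

/-- If every point of `E` is reached from `z` and `E` is stable, then `π ^ |E|` fixes `E`. -/
theorem pow_card_orbit (π : Perm Ω) (E : Finset Ω) (z : Ω) (hz : z ∈ E)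
    (hst : ∀ w ∈ E, π w ∈ E) (hreach : ∀ w ∈ E, ∃ n : ℕ, (π ^ n) z = w) :
    ∀ w ∈ E, (π ^ E.card) w = w := by
  obtain ⟨k, hk⟩ : ∃ k, k = Function.minimalPeriod π z := ⟨_, rfl⟩
  have hper : (π ^ k) z = z := by
    rw [Perm.coe_pow, hk]; exact Function.isPeriodicPt_minimalPeriod π z
  have hkpos : 0 < k := by
    rw [hk]
    refine Function.IsPeriodicPt.minimalPeriod_pos (n := orderOf π) (orderOf_pos π) ?_
    show (⇑π)^[orderOf π] z = z
    rw [← Perm.coe_pow, pow_orderOf_eq_one, Perm.one_apply]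
  have hmod : ∀ n, (π ^ n) z = (π ^ (n % k)) z := fun n => by
    conv_lhs => rw [← Nat.mod_add_div n k, pow_add, Perm.mul_apply, pow_mul,
      Perm.pow_apply_eq_self_of_apply_eq_self hper]
  have hmem : ∀ n, (π ^ n) z ∈ E := fun n => by
    induction n with
    | zero => simpa using hz
    | succ n ih => rw [pow_succ', Perm.mul_apply]; exact hst _ ih
  have hE : E = (Finset.range k).image fun n => (π ^ n) z := by
    ext w
    rw [Finset.mem_image]
    constructor
    · intro hw
      obtain ⟨n, hn⟩ := hreach w hw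
      exact ⟨n % k, Finset.mem_range.2 (Nat.mod_lt _ hkpos), by rw [← hmod]; exact hn⟩
    · rintro ⟨n, -, rfl⟩
      exact hmem n
  have hcard : E.card = k := by
    rw [hE, Finset.card_image_of_injOn, Finset.card_range]
    intro i hi j hj e
    rw [Finset.mem_coe, Finset.mem_range, hk] at hi hj
    refine Function.iterate_injOn_Iio_minimalPeriod hi hj ?_
    simp only [Perm.coe_pow] at e
    exact e
  intro w hw
  obtain ⟨n, rfl⟩ := hreach w hw
  rw [← Perm.mul_apply, ← pow_add, add_comm, pow_add, Perm.mul_apply, hcard, hper]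

/-- A product of swaps of disjoint pairs. -/
theorem swap_prod {ι : Type*} (f g : ι → Ω) (hf : Function.Injective f) (hg : Function.Injective g)
    (hfg : ∀ i j, f i ≠ g j) (l : List ι) (hl : l.Nodup) :
    let C := (l.map fun i => swap (f i) (g i)).prod
    (∀ i ∈ l, C (f i) = g i ∧ C (g i) = f i) ∧
      (∀ w, (∀ i ∈ l, w ≠ f i ∧ w ≠ g i) → C w = w) ∧
      Perm.sign C = (-1 : ℤˣ) ^ l.length := by
  induction l with
  | nil => simp
  | cons i l ih =>
    obtain ⟨hil, hl⟩ := List.nodup_cons.1 hl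
    obtain ⟨h1, h2, h3⟩ := ih hl
    simp only [List.map_cons, List.prod_cons]
    refine ⟨fun j hj => ?_, fun w hw => ?_, ?_⟩
    · rcases List.mem_cons.1 hj with rfl | hj
      · constructor
        · rw [Perm.mul_apply, h2 (f j) (fun m hm => ⟨fun e => hil (hf e ▸ hm), hfg j m⟩),
            swap_apply_left]
        · rw [Perm.mul_apply, h2 (g j) (fun m hm => ⟨(hfg m j).symm, fun e => hil (hg e ▸ hm)⟩),
            swap_apply_right]
      · have hne : j ≠ i := fun e => hil (e ▸ hj)
        constructor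
        · rw [Perm.mul_apply, (h1 j hj).1,
            swap_apply_of_ne_of_ne (hfg i j).symm (fun e => hne (hg e))]
        · rw [Perm.mul_apply, (h1 j hj).2,
            swap_apply_of_ne_of_ne (fun e => hne (hf e)) (hfg j i)]
    · rw [Perm.mul_apply, h2 w fun m hm => hw m (List.mem_cons_of_mem _ hm)]
      exact swap_apply_of_ne_of_ne (hw i (List.mem_cons_self ..)).1 (hw i (List.mem_cons_self ..)).2
    · rw [map_mul, Perm.sign_swap (hfg i i), h3, List.length_cons, pow_succ']

theorem card_filter_mod_two (n : ℕ) : ((Finset.range n).filter fun t => t % 2 = 0).card = (n + 1) / 2 := by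
  induction n with
  | zero => rfl
  | succ n ih =>
    rw [Finset.range_add_one, Finset.filter_insert]
    split_ifs with h
    · rw [Finset.card_insert_of_notMem (by simp), ih]; omega
    · rw [ih]; omega

theorem card_filter_mod_two' (n : ℕ) : ((Finset.range n).filter fun t => t % 2 = 1).card = n / 2 := by
  induction n with
  | zero => rfl
  | succ n ih =>
    rw [Finset.range_add_one, Finset.filter_insert]
    split_ifs with h
    · rw [Finset.card_insert_of_notMem (by simp), ih]; omega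
    · rw [ih]; omega

end Generic

/-- The involution `C`, an even permutation such that `B² C` has odd order. -/
theorem exists_passenger (p d : ℕ) [hp : Fact p.Prime] (hd : d + 4 ≤ p) (hd1 : 1 ≤ d) (r : ℕ)
    (hr0 : (r : ZMod p) ≠ 0) (hprim : ∀ i : ZMod p, i ≠ 0 → ∃ s : ℕ, i = (r : ZMod p) ^ s)
    (B : Perm (Pts p d)) (hB : ∀ i : ZMod p, B (Sum.inl (Sum.inr i)) = Sum.inl (Sum.inr (r * i)))
    (hBuv : ∀ e, B (B (Sum.inl (Sum.inl e))) = Sum.inl (Sum.inl e))
    (hBd : ∀ j, B (Sum.inr j) = Sum.inr j) :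
    ∃ C : Perm (Pts p d), (∀ w, C (C w) = w) ∧ (∀ e, C (Sum.inl (Sum.inl e)) = Sum.inl (Sum.inl e)) ∧
      C (Sum.inl (Sum.inr 0)) = Sum.inl (Sum.inr 0) ∧ Perm.sign C = 1 ∧
      (∃ E : Fin d → ZMod p, ∀ j, C (Sum.inr j) = Sum.inl (Sum.inr (E j))) ∧
      ∃ N, Odd N ∧ (B * B * C) ^ N = 1 := by
  classical
  obtain ⟨m, hm⟩ : ∃ m, m = p - 1 := ⟨_, rfl⟩
  have hodd : Odd p := hp.out.odd_of_ne_two (by omega)
  obtain ⟨h, hh⟩ : ∃ h, m = 2 * h := by
    obtain ⟨k, hk⟩ := hodd
    exact ⟨k, by omega⟩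
  let ρ : ℕ → ZMod p := fun t => (r : ZMod p) ^ t
  have hρ0 : ∀ t, ρ t ≠ 0 := fun t => pow_ne_zero t hr0
  have hρm : ∀ t, ρ (t % m) = ρ t := fun t => by
    have h1 : (r : ZMod p) ^ m = 1 := hm ▸ ZMod.pow_card_sub_one_eq_one hr0
    show (r : ZMod p) ^ (t % m) = (r : ZMod p) ^ t
    conv_rhs => rw [← Nat.mod_add_div t m, pow_add, pow_mul, h1, one_pow, mul_one]
  have hρinj : ∀ s < m, ∀ t < m, ρ s = ρ t → s = t := by
    have himg : (Finset.range m).image ρ = Finset.univ.erase 0 := by
      ext i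
      rw [Finset.mem_image, Finset.mem_erase]
      constructor
      · rintro ⟨t, -, rfl⟩
        exact ⟨hρ0 t, Finset.mem_univ _⟩
      · rintro ⟨hi, -⟩
        obtain ⟨s, rfl⟩ := hprim i hi
        exact ⟨s % m, Finset.mem_range.2 (Nat.mod_lt _ (by omega)), hρm s⟩
    have hcard : ((Finset.range m).image ρ).card = (Finset.range m).card := by
      rw [himg, Finset.card_erase_of_mem (Finset.mem_univ _), Finset.card_univ, ZMod.card,
        Finset.card_range, hm]
    intro s hs t ht e
    exact Finset.card_image_iff.1 hcard (Finset.mem_coe.2 (Finset.mem_range.2 hs))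
      (Finset.mem_coe.2 (Finset.mem_range.2 ht)) e
  -- the attaching exponents
  let e : Fin d → ℕ := fun j =>
    if Even d ∧ (d / 2 + h) % 2 = 0 ∧ (j : ℕ) = d - 1 then d else (j : ℕ)
  have helt : ∀ j, e j < m := fun j => by
    have := j.2
    simp only [e]; split_ifs <;> omega
  have heinj : Function.Injective e := by
    intro i j hij
    have := i.2
    have := j.2
    refine Fin.ext ?_
    simp only [e] at hij
    split_ifs at hij <;> omega
  let pw : ℕ → Pts p d := fun t => Sum.inl (Sum.inr (ρ t))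
  have hpw : ∀ t, pw (t % m) = pw t := fun t => by simp only [pw, hρm]
  have hpwinj : ∀ s t, pw s = pw t → s % m = t % m := fun s t e' =>
    hρinj _ (Nat.mod_lt _ (by omega)) _ (Nat.mod_lt _ (by omega))
      (by rw [hρm, hρm]; exact Sum.inr_injective (Sum.inl_injective e'))
  have hf : Function.Injective (fun j => pw (e j)) := fun i j hij => by
    have := hpwinj _ _ hij
    rw [Nat.mod_eq_of_lt (helt i), Nat.mod_eq_of_lt (helt j)] at this
    exact heinj this
  obtain ⟨h1, h2, h3⟩ := swap_prod (fun j => pw (e j)) (fun j : Fin d => (Sum.inr j : Pts p d)) hf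
    Sum.inr_injective (fun i j => by simp [pw]) (List.finRange d) (List.nodup_finRange d)
  obtain ⟨C₀, hC₀⟩ : ∃ C₀, C₀ = ((List.finRange d).map fun j => swap (pw (e j)) (Sum.inr j : Pts p d)).prod :=
    ⟨_, rfl⟩
  rw [← hC₀] at h1 h2 h3
  have h1' : ∀ j, C₀ (pw (e j)) = Sum.inr j ∧ C₀ (Sum.inr j) = pw (e j) := fun j =>
    h1 j (List.mem_finRange j)
  rw [List.length_finRange] at h3
  have hC₀pw : ∀ t, (∀ j, t % m ≠ e j) → C₀ (pw t) = pw t := fun t ht => h2 _ fun j _ =>
    ⟨fun e' => ht j (by rw [hpwinj _ _ e', Nat.mod_eq_of_lt (helt j)]), by simp [pw]⟩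
  have hC₀uv : ∀ b, C₀ (Sum.inl (Sum.inl b)) = Sum.inl (Sum.inl b) := fun b =>
    h2 _ fun j _ => ⟨by simp [pw], by simp⟩
  have hC₀z : C₀ (Sum.inl (Sum.inr 0)) = Sum.inl (Sum.inr 0) :=
    h2 _ fun j _ => ⟨fun e' => hρ0 (e j) (Sum.inr_injective (Sum.inl_injective e')).symm, by simp⟩
  have hC₀C₀ : ∀ w, C₀ (C₀ w) = w := by
    intro w
    by_cases hw : ∃ j, w = pw (e j) ∨ w = Sum.inr j
    · obtain ⟨j, rfl | rfl⟩ := hw
      · rw [(h1' j).1, (h1' j).2]
      · rw [(h1' j).2, (h1' j).1]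
    · push Not at hw
      have := h2 w fun j _ => hw j
      rw [this, this]
  -- the correction of the sign
  obtain ⟨τ, hτsign, hτuv, hτd, hτE, hτpw, hτodd⟩ : ∃ τ : Perm (Pts p d),
      Perm.sign τ = (-1 : ℤˣ) ^ d ∧
      (∀ w, (∀ t, w ≠ pw t) → τ w = w) ∧ (∀ j, τ (Sum.inr j) = Sum.inr j) ∧
      (∀ j, τ (pw (e j)) = pw (e j)) ∧
      (∀ t, ¬(Odd d ∧ (t % m = d ∨ t % m = d + 1)) → τ (pw t) = pw t) ∧
      (Odd d → τ (pw d) = pw (d + 1) ∧ τ (pw (d + 1)) = pw d) := by
    by_cases hde : Even d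
    · refine ⟨1, by rw [hde.neg_one_pow, map_one], fun w _ => rfl, fun j => rfl, fun j => rfl,
        fun t _ => rfl, fun ho => absurd hde (Nat.not_even_iff_odd.2 ho)⟩
    have hne : pw d ≠ pw (d + 1) := fun e' => by
      have := hpwinj _ _ e'
      rw [Nat.mod_eq_of_lt (by omega), Nat.mod_eq_of_lt (by omega)] at this
      omega
    refine ⟨swap (pw d) (pw (d + 1)), ?_, fun w hw => swap_apply_of_ne_of_ne (hw _) (hw _),
      fun j => swap_apply_of_ne_of_ne (by simp [pw]) (by simp [pw]), fun j => ?_, fun t ht => ?_,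
      fun _ => ⟨swap_apply_left _ _, swap_apply_right _ _⟩⟩
    · rw [Perm.sign_swap hne, (Nat.not_even_iff_odd.1 hde).neg_one_pow]
    · have hj : e j = j := if_neg fun h' => hde h'.1
      have := j.2
      refine swap_apply_of_ne_of_ne (fun e' => ?_) (fun e' => ?_) <;>
      · have := hpwinj _ _ e'
        rw [Nat.mod_eq_of_lt (helt j), Nat.mod_eq_of_lt (by omega)] at this
        omega
    · refine swap_apply_of_ne_of_ne (fun e' => ht ⟨Nat.not_even_iff_odd.1 hde, Or.inl ?_⟩)
        (fun e' => ht ⟨Nat.not_even_iff_odd.1 hde, Or.inr ?_⟩) <;>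
      · rw [hpwinj _ _ e', Nat.mod_eq_of_lt (by omega)]
  obtain ⟨C, hC⟩ : ∃ C, C = C₀ * τ := ⟨_, rfl⟩
  have hCj : ∀ j, C (pw (e j)) = Sum.inr j ∧ C (Sum.inr j) = pw (e j) := fun j => by
    rw [hC, Perm.mul_apply, Perm.mul_apply, hτE, hτd]; exact h1' j
  have hCfix : ∀ w, (∀ t, w ≠ pw t) → (∀ j, w ≠ Sum.inr j) → C w = w := fun w hw hw' => by
    rw [hC, Perm.mul_apply, hτuv w hw]
    exact h2 w fun j _ => ⟨hw _, hw' j⟩
  have hCspec : Odd d → C (pw d) = pw (d + 1) ∧ C (pw (d + 1)) = pw d := fun ho => by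
    have hej : ∀ j, e j = (j : ℕ) := fun j => if_neg fun h' => Nat.not_even_iff_odd.2 ho h'.1
    obtain ⟨t1, t2⟩ := hτodd ho
    rw [hC, Perm.mul_apply, Perm.mul_apply, t1, t2]
    refine ⟨hC₀pw _ fun j => ?_, hC₀pw _ fun j => ?_⟩ <;>
    · rw [Nat.mod_eq_of_lt (by omega), hej]
      have := j.2
      omega
  have hCt : ∀ t, ¬(Odd d ∧ (t % m = d ∨ t % m = d + 1)) →
      (C (pw t) = pw t ∨ ∃ j, t % m = e j ∧ C (pw t) = Sum.inr j) := by
    intro t ht
    by_cases hj : ∃ j, t % m = e j
    · obtain ⟨j, hj⟩ := hj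
      exact Or.inr ⟨j, hj, by rw [← hpw t, hj]; exact (hCj j).1⟩
    · push Not at hj
      left
      rw [hC, Perm.mul_apply, hτpw t ht, hC₀pw t hj]
  have hCC : ∀ w, C (C w) = w := by
    intro w
    by_cases hw : ∃ t, w = pw t
    · obtain ⟨t, rfl⟩ := hw
      by_cases ht : Odd d ∧ (t % m = d ∨ t % m = d + 1)
      · obtain ⟨s1, s2⟩ := hCspec ht.1
        rcases ht.2 with e' | e' <;> rw [← hpw t, e']
        · rw [s1, s2]
        · rw [s2, s1]
      rcases hCt t ht with e' | ⟨j, hj, e'⟩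
      · rw [e', e']
      · rw [e', (hCj j).2, ← hj, hpw]
    push Not at hw
    by_cases hw' : ∃ j, w = Sum.inr j
    · obtain ⟨j, rfl⟩ := hw'
      rw [(hCj j).2, (hCj j).1]
    push Not at hw'
    rw [hCfix w hw hw', hCfix w hw hw']
  have hCuv : ∀ b, C (Sum.inl (Sum.inl b)) = Sum.inl (Sum.inl b) := fun b =>
    hCfix _ (fun t => by simp [pw]) (fun j => by simp)
  have hCz : C (Sum.inl (Sum.inr 0)) = Sum.inl (Sum.inr 0) :=
    hCfix _ (fun t e' => hρ0 t (Sum.inr_injective (Sum.inl_injective e')).symm) (fun j => by simp)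
  refine ⟨C, hCC, hCuv, hCz, ?_, ⟨fun j => ρ (e j), fun j => (hCj j).2⟩, ?_⟩
  · rw [hC, map_mul, hτsign, h3, ← mul_pow, Int.units_mul_self, one_pow]
  -- orbits of `B² C`
  obtain ⟨π, hπ⟩ : ∃ π, π = B * B * C := ⟨_, rfl⟩
  rw [← hπ]
  have hBB : ∀ t, B (B (pw t)) = pw (t + 2) := fun t => by
    simp only [pw, hB]
    congr 2
    show (r : ZMod p) * (r * (r : ZMod p) ^ t) = (r : ZMod p) ^ (t + 2)
    ring
  have hπspec : Odd d → π (pw d) = pw (d + 3) ∧ π (pw (d + 1)) = pw (d + 2) := fun ho => by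
    obtain ⟨s1, s2⟩ := hCspec ho
    rw [hπ, Perm.mul_apply, Perm.mul_apply, s1, hBB, Perm.mul_apply, Perm.mul_apply, s2, hBB]
    exact ⟨rfl, rfl⟩
  have hπj : ∀ j, π (Sum.inr j) = pw (e j + 2) := fun j => by
    rw [hπ, Perm.mul_apply, Perm.mul_apply, (hCj j).2, hBB]
  have hπj' : ∀ j, π (pw (e j)) = Sum.inr j := fun j => by
    rw [hπ, Perm.mul_apply, Perm.mul_apply, (hCj j).1, hBd, hBd]
  have hstep : ∀ t, ¬(Odd d ∧ (t % m = d ∨ t % m = d + 1)) →
      ∃ k : ℕ, (π ^ k) (pw t) = pw (t + 2) := by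
    intro t ht
    rcases hCt t ht with e' | ⟨j, hj, e'⟩
    · refine ⟨1, ?_⟩
      rw [pow_one, hπ, Perm.mul_apply, Perm.mul_apply, e', hBB]
    · refine ⟨2, ?_⟩
      rw [sq, Perm.mul_apply, ← hpw t, hj, hπj', hπj, ← hpw (t + 2), Nat.add_mod, hj,
        ← Nat.mod_eq_of_lt (helt j), ← Nat.add_mod, hpw, Nat.mod_eq_of_lt (helt j)]
  have hπfix : ∀ w, (w = Sum.inl (Sum.inr 0) ∨ ∃ b, w = Sum.inl (Sum.inl b)) → π w = w := by
    rintro w (rfl | ⟨b, rfl⟩)
    · rw [hπ, Perm.mul_apply, Perm.mul_apply, hCz, hB, mul_zero, hB, mul_zero]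
    · rw [hπ, Perm.mul_apply, Perm.mul_apply, hCuv, hBuv]
  have hsplit : ∀ w : Pts p d, (w = Sum.inl (Sum.inr 0) ∨ ∃ b, w = Sum.inl (Sum.inl b)) ∨
      (∃ t, t < m ∧ w = pw t) ∨ ∃ j, w = Sum.inr j := by
    rintro ((b | i) | j)
    · exact Or.inl (Or.inr ⟨b, rfl⟩)
    · by_cases hi : i = 0
      · exact Or.inl (Or.inl (by rw [hi]))
      · obtain ⟨s, rfl⟩ := hprim i hi
        exact Or.inr (Or.inl ⟨s % m, Nat.mod_lt _ (by omega), (hpw s).symm⟩)
    · exact Or.inr (Or.inr ⟨j, rfl⟩)
  have hwalk : ∀ (k : ℕ) (z : Pts p d) (t : ℕ), (∃ n : ℕ, (π ^ n) z = pw t) →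
      (∀ i < k, ¬(Odd d ∧ ((t + 2 * i) % m = d ∨ (t + 2 * i) % m = d + 1))) →
      ∃ n : ℕ, (π ^ n) z = pw (t + 2 * k) := by
    intro k z t h0 hno
    induction k with
    | zero => simpa using h0
    | succ k ih =>
      obtain ⟨n, hn⟩ := ih fun i hi => hno i (by omega)
      obtain ⟨n', hn'⟩ := hstep _ (hno k (by omega))
      exact ⟨n' + n, by rw [pow_add, Perm.mul_apply, hn, hn']; congr 1⟩
  have hinr : ∀ (z : Pts p d) j, (∃ n : ℕ, (π ^ n) z = pw (e j)) →
      ∃ n : ℕ, (π ^ n) z = Sum.inr j := by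
    rintro z j ⟨n, hn⟩
    exact ⟨n + 1, by rw [pow_succ', Perm.mul_apply, hn, hπj']⟩
  rcases Nat.even_or_odd d with hde | hdo
  · -- two orbits
    have hno : ∀ t : ℕ, ¬(Odd d ∧ (t % m = d ∨ t % m = d + 1)) := fun t h' =>
      Nat.not_even_iff_odd.2 h'.1 hde
    let T : ℕ → Finset (Pts p d) := fun c =>
      ((Finset.range m).filter fun t => t % 2 = c).image pw ∪
        ((Finset.univ : Finset (Fin d)).filter fun j => e j % 2 = c).image Sum.inr
    have hmem : ∀ c w, w ∈ T c ↔
        (∃ t, t < m ∧ t % 2 = c ∧ w = pw t) ∨ ∃ j, e j % 2 = c ∧ w = Sum.inr j := fun c w => by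
      simp only [T, Finset.mem_union, Finset.mem_image, Finset.mem_filter, Finset.mem_range,
        Finset.mem_univ, true_and]
      constructor
      · rintro (⟨t, ⟨h4, h5⟩, rfl⟩ | ⟨j, h4, rfl⟩)
        exacts [Or.inl ⟨t, h4, h5, rfl⟩, Or.inr ⟨j, h4, rfl⟩]
      · rintro (⟨t, h4, h5, rfl⟩ | ⟨j, h4, rfl⟩)
        exacts [Or.inl ⟨t, ⟨h4, h5⟩, rfl⟩, Or.inr ⟨j, h4, rfl⟩]
    have hpwT : ∀ t, pw t ∈ T (t % 2) := fun t => (hmem _ _).2 (Or.inl
      ⟨t % m, Nat.mod_lt _ (by omega), by rw [hh, Nat.mod_mul_right_mod], (hpw t).symm⟩)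
    have hfixT : ∀ c < 2, ∀ w ∈ T c, (π ^ (T c).card) w = w := by
      intro c hc
      refine pow_card_orbit π (T c) (pw c) ?_ (fun w hw => ?_) fun w hw => ?_
      · have := hpwT c
        rwa [Nat.mod_eq_of_lt hc] at this
      · rcases (hmem c w).1 hw with ⟨t, htm, htc, rfl⟩ | ⟨j, hjc, rfl⟩
        · rcases hCt t (hno t) with e' | ⟨j, hj, e'⟩
          · rw [hπ, Perm.mul_apply, Perm.mul_apply, e', hBB]
            have := hpwT (t + 2)
            rwa [Nat.add_mod_right, htc] at this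
          · rw [Nat.mod_eq_of_lt htm] at hj
            rw [hπ, Perm.mul_apply, Perm.mul_apply, e', hBd, hBd]
            exact (hmem _ _).2 (Or.inr ⟨j, hj ▸ htc, rfl⟩)
        · rw [hπj]
          have := hpwT (e j + 2)
          rwa [Nat.add_mod_right, hjc] at this
      · have hr : ∀ t, t % 2 = c → ∃ n : ℕ, (π ^ n) (pw c) = pw t := fun t ht => by
          have := hwalk (t / 2) (pw c) c ⟨0, rfl⟩ fun i _ => hno _
          rwa [show c + 2 * (t / 2) = t by omega] at this
        rcases (hmem c w).1 hw with ⟨t, htm, htc, rfl⟩ | ⟨j, hjc, rfl⟩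
        · exact hr t htc
        · exact hinr _ j (hr _ hjc)
    have hcardT : ∀ c < 2, Odd (T c).card := by
      intro c hc
      have hdisj : Disjoint (((Finset.range m).filter fun t => t % 2 = c).image pw)
          (((Finset.univ : Finset (Fin d)).filter fun j => e j % 2 = c).image Sum.inr) := by
        rw [Finset.disjoint_left]
        intro w hw hw'
        obtain ⟨t, -, rfl⟩ := Finset.mem_image.1 hw
        simp [pw] at hw'
      rw [Finset.card_union_of_disjoint hdisj, Finset.card_image_of_injective _ Sum.inr_injective,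
        Finset.card_image_of_injOn (fun s hs t ht e' => by
          have h4 := hpwinj _ _ e'
          rw [Finset.mem_coe, Finset.mem_filter, Finset.mem_range] at hs ht
          rwa [Nat.mod_eq_of_lt hs.1, Nat.mod_eq_of_lt ht.1] at h4)]
      have he' : (((Finset.univ : Finset (Fin d)).filter fun j => e j % 2 = c)).card =
          ((Finset.univ.image e).filter fun t => t % 2 = c).card := by
        rw [Finset.filter_image, Finset.card_image_of_injective _ heinj]
      rw [he']
      obtain ⟨k, hk⟩ := hde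
      by_cases hs : (d / 2 + h) % 2 = 0
      · have himg : Finset.univ.image e = insert d (Finset.range (d - 1)) := by
          ext t
          simp only [Finset.mem_image, Finset.mem_univ, true_and, Finset.mem_insert, Finset.mem_range]
          constructor
          · rintro ⟨j, rfl⟩
            have := j.2
            simp only [e]
            split_ifs with h'
            · exact Or.inl rfl
            · refine Or.inr ?_
              have h'' : ¬((j : ℕ) = d - 1) := fun e' => h' ⟨⟨k, hk⟩, hs, e'⟩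
              omega
          · rintro (rfl | ht)
            · exact ⟨⟨t - 1, by omega⟩, if_pos ⟨⟨k, hk⟩, hs, rfl⟩⟩
            · refine ⟨⟨t, by omega⟩, if_neg ?_⟩
              rintro ⟨-, -, h'⟩
              simp only at h'
              omega
        rw [himg, Finset.filter_insert, Nat.odd_iff]
        rcases (by omega : c = 0 ∨ c = 1) with rfl | rfl
        · rw [if_pos (by omega), Finset.card_insert_of_notMem (by simp), card_filter_mod_two,
            card_filter_mod_two]
          omega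
        · rw [if_neg (by omega), card_filter_mod_two', card_filter_mod_two']
          omega
      · have himg : Finset.univ.image e = Finset.range d := by
          ext t
          simp only [Finset.mem_image, Finset.mem_univ, true_and, Finset.mem_range]
          constructor
          · rintro ⟨j, rfl⟩
            have := j.2
            simp only [e]
            rw [if_neg (by tauto)]
            exact this
          · intro ht
            exact ⟨⟨t, ht⟩, if_neg (by tauto)⟩
        rw [himg, Nat.odd_iff]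
        rcases (by omega : c = 0 ∨ c = 1) with rfl | rfl
        · rw [card_filter_mod_two, card_filter_mod_two]; omega
        · rw [card_filter_mod_two', card_filter_mod_two']; omega
    refine ⟨(T 0).card * (T 1).card, (hcardT 0 (by omega)).mul (hcardT 1 (by omega)),
      Equiv.ext fun w => ?_⟩
    rw [Perm.one_apply]
    rcases hsplit w with hw | hw
    · exact Perm.pow_apply_eq_self_of_apply_eq_self (hπfix w hw) _
    have hcase : w ∈ T 0 ∨ w ∈ T 1 := by
      rcases hw with ⟨t, htm, rfl⟩ | ⟨j, rfl⟩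
      · rcases Nat.mod_two_eq_zero_or_one t with e' | e'
        exacts [Or.inl (e' ▸ hpwT t), Or.inr (e' ▸ hpwT t)]
      · rcases Nat.mod_two_eq_zero_or_one (e j) with e' | e'
        exacts [Or.inl ((hmem _ _).2 (Or.inr ⟨j, e', rfl⟩)), Or.inr ((hmem _ _).2 (Or.inr ⟨j, e', rfl⟩))]
    rcases hcase with hw' | hw'
    · rw [pow_mul]
      exact Perm.pow_apply_eq_self_of_apply_eq_self (hfixT 0 (by omega) w hw') _
    · rw [mul_comm, pow_mul]
      exact Perm.pow_apply_eq_self_of_apply_eq_self (hfixT 1 (by omega) w hw') _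
  · -- one orbit
    let T : Finset (Pts p d) := (Finset.range m).image pw ∪ Finset.univ.image Sum.inr
    have hpwT : ∀ t, pw t ∈ T := fun t => Finset.mem_union_left _ (Finset.mem_image.2
      ⟨t % m, Finset.mem_range.2 (Nat.mod_lt _ (by omega)), hpw t⟩)
    have hinrT : ∀ j, (Sum.inr j : Pts p d) ∈ T := fun j =>
      Finset.mem_union_right _ (Finset.mem_image.2 ⟨j, Finset.mem_univ _, rfl⟩)
    have hr : ∀ t, ∃ n : ℕ, (π ^ n) (pw (d + 2)) = pw t := by
      have hside : ∀ (i : ℕ) (s : ℕ), (s = d + 2 ∨ s = d + 3) → i + 1 < h →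
          ¬(Odd d ∧ ((s + 2 * i) % m = d ∨ (s + 2 * i) % m = d + 1)) := by
        rintro i s hs hi ⟨-, h'⟩
        have h4 := Nat.mod_add_div (s + 2 * i) m
        have hq : (s + 2 * i) / m ≤ 1 := Nat.lt_succ_iff.1 ((Nat.div_lt_iff_lt_mul (by omega)).2 (by omega))
        generalize (s + 2 * i) / m = q at h4 hq
        rcases (by omega : q = 0 ∨ q = 1) with rfl | rfl <;> omega
      have hA : ∀ i, i < h → ∃ n : ℕ, (π ^ n) (pw (d + 2)) = pw (d + 2 + 2 * i) := fun i hi =>
        hwalk i _ _ ⟨0, rfl⟩ fun l hl => hside l _ (Or.inl rfl) (by omega)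
      have hd3 : ∃ n : ℕ, (π ^ n) (pw (d + 2)) = pw (d + 3) := by
        obtain ⟨n, hn⟩ := hA (h - 1) (by omega)
        refine ⟨n + 1, ?_⟩
        rw [pow_succ', Perm.mul_apply, hn, ← hpw, show d + 2 + 2 * (h - 1) = d + m by omega,
          Nat.add_mod_right, hpw]
        exact (hπspec hdo).1
      have hB' : ∀ i, i < h → ∃ n : ℕ, (π ^ n) (pw (d + 2)) = pw (d + 3 + 2 * i) := fun i hi =>
        hwalk i _ _ hd3 fun l hl => hside l _ (Or.inr rfl) (by omega)
      intro t
      obtain ⟨k, hk, hkt⟩ : ∃ k, k < m ∧ pw t = pw (d + 2 + k) := by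
        have := Nat.mod_lt t (show m > 0 by omega)
        by_cases h' : d + 2 ≤ t % m
        · exact ⟨t % m - (d + 2), by omega, by rw [Nat.add_sub_cancel' h', hpw]⟩
        · exact ⟨t % m + m - (d + 2), by omega, by
            rw [Nat.add_sub_cancel' (by omega : d + 2 ≤ t % m + m), ← hpw (t % m + m),
              Nat.add_mod_right, Nat.mod_mod, hpw]⟩
      rw [hkt]
      rcases Nat.even_or_odd' k with ⟨i, rfl | rfl⟩
      · exact hA i (by omega)
      · obtain ⟨n, hn⟩ := hB' i (by omega)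
        exact ⟨n, hn.trans (congrArg pw (by omega))⟩
    refine ⟨T.card, ?_, Equiv.ext fun w => ?_⟩
    · rw [Finset.card_union_of_disjoint (by
          rw [Finset.disjoint_left]
          intro w hw hw'
          obtain ⟨t, -, rfl⟩ := Finset.mem_image.1 hw
          simp [pw] at hw'),
        Finset.card_image_of_injective _ Sum.inr_injective, Finset.card_image_of_injOn (fun s hs t ht e' => by
          have h4 := hpwinj _ _ e'
          rw [Finset.mem_coe, Finset.mem_range] at hs ht
          rwa [Nat.mod_eq_of_lt hs, Nat.mod_eq_of_lt ht] at h4),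
        Finset.card_range, Finset.card_univ, Fintype.card_fin]
      exact Even.add_odd (⟨h, by omega⟩ : Even m) hdo
    rw [Perm.one_apply]
    rcases hsplit w with hw | hw
    · exact Perm.pow_apply_eq_self_of_apply_eq_self (hπfix w hw) _
    refine pow_card_orbit π T (pw (d + 2)) (hpwT _) (fun w' _ => ?_) (fun w' hw' => ?_) w ?_
    · rcases hsplit (π w') with h' | ⟨t, -, e'⟩ | ⟨j, e'⟩
      · have hww : π w' = w' := π.injective (hπfix _ h')
        rw [hww] at h' ⊢
        assumption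
      · rw [e']; exact hpwT t
      · rw [e']; exact hinrT j
    · rcases Finset.mem_union.1 hw' with h' | h'
      · obtain ⟨t, -, rfl⟩ := Finset.mem_image.1 h'; exact hr t
      · obtain ⟨j, -, rfl⟩ := Finset.mem_image.1 h'; exact hinr _ j (hr _)
    · rcases hw with ⟨t, -, rfl⟩ | ⟨j, rfl⟩
      exacts [hpwT t, hinrT j]

end CfsgLib.Pres.Short
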