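import Cfsg.Agent.Lib.Pres.AGLAltSix
import Cfsg.Agent.Lib.Pres.PassengerPerm
import Cfsg.Agent.Lib.Pres.AltShortFin

/-!
# Two generators and six relations for the alternating groups
-/

set_option autoImplicit false

namespace CfsgLib.Pres.Short

open Equiv

/-- A cycle of odd length through `o₁`, covering `D` inside `D ∪ {o₁, o₂}`. -/
theorem exists_odd_link {Ω : Type*} [DecidableEq Ω] [Fintype Ω] (D : Finset Ω) {o₁ o₂ : Ω}
    (h₁ : o₁ ∉ D) (h₂ : o₂ ∉ D) (h12 : o₁ ≠ o₂) :
    ∃ σ : Perm Ω, σ ∈ alternatingGroup Ω ∧ (∀ w, σ w ≠ w → w ∈ D ∨ w = o₁ ∨ w = o₂) ∧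
      (∀ i ∈ D, ∃ n : ℕ, (σ ^ n) o₁ = i) ∧ ∃ M, Odd M ∧ σ ^ M = 1 := by
  obtain ⟨S, hS1, hS2, hS3⟩ : ∃ S : Finset Ω, insert o₁ D ⊆ S ∧ S ⊆ insert o₂ (insert o₁ D) ∧ Odd S.card := by
    rcases Nat.even_or_odd (insert o₁ D).card with h | h
    · refine ⟨_, Finset.subset_insert _ _, le_refl _, ?_⟩
      rw [Finset.card_insert_of_notMem (by simp [h₂, h12.symm])]
      exact h.add_one
    · exact ⟨_, le_refl _, Finset.subset_insert _ _, h⟩
  obtain ⟨σ, hσ, hσt⟩ := exists_cycle S (hS1 (Finset.mem_insert_self _ _))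
  have hst : ∀ w ∈ S, σ w ∈ S := fun w hw => by
    by_cases e : σ w = w
    · rwa [e]
    · exact hσ _ fun e' => e (σ.injective e')
  have hfix := pow_card_orbit σ S o₁ (hS1 (Finset.mem_insert_self _ _)) hst hσt
  have hM : σ ^ S.card = 1 := Equiv.ext fun w => by
    rw [Perm.one_apply]
    by_cases hw : w ∈ S
    · exact hfix w hw
    · exact Perm.pow_apply_eq_self_of_apply_eq_self (by by_contra e; exact hw (hσ w e)) _
  refine ⟨σ, ?_, fun w hw => ?_, fun i hi => hσt i (hS1 (Finset.mem_insert_of_mem hi)),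
    S.card, hS3, hM⟩
  · rw [Perm.mem_alternatingGroup]
    have h2 := congrArg Perm.sign hM
    rw [map_pow, map_one] at h2
    rcases Int.units_eq_one_or (Perm.sign σ) with e | e
    · exact e
    · rw [e, hS3.neg_one_pow] at h2
      exact e.trans h2
  · rcases Finset.mem_insert.1 (hS2 (hσ w hw)) with e | e
    · exact Or.inr (Or.inr e)
    · rcases Finset.mem_insert.1 e with e | e
      exacts [Or.inr (Or.inl e), Or.inl e]

/-- The six relators. -/
theorem glued_six (p d : ℕ) [hp : Fact p.Prime] (hd : d + 4 ≤ p) (hd1 : 1 ≤ d) :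
    ∃ t : Fin 2 → Perm (Pts p d), Subgroup.closure (Set.range t) = alternatingGroup _ ∧
      ∃ L : List (FreeGroup (Fin 2)), L.length ≤ 6 ∧ (∀ e ∈ L, FreeGroup.lift t e = 1) ∧
        ∀ (G : Type) [Group G] (π : FreeGroup (Fin 2) →* G), Function.Surjective π →
          (∀ e ∈ L, π e = 1) → ∀ φ : G →* Perm (Pts p d), (∀ w, φ (π w) = FreeGroup.lift t w) →
          Finite G ∧ 2 * Nat.card G ≤ (p + d + 2).factorial := by
  classical
  have h3 : 3 ≤ p := by omega
  obtain ⟨r, hre, hr0, hprim, F, hF, hFs⟩ := exists_prim p h3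
  obtain ⟨C, hC2, hCuv₀, hCz₀, hsign, ⟨E, hE⟩, N, hN, hπN⟩ := exists_passenger p d hd hd1 r hr0 hprim
    (Equiv.sumCongr (Equiv.sumCongr (swap false true) F) (Equiv.refl _)) (fun i => by simp [hF])
    (fun e => by cases e <;> simp) (fun j => by simp)
  let A₀ : Perm (Pts p d) :=
    Equiv.sumCongr (Equiv.sumCongr (Equiv.refl Bool) (Equiv.addRight (1 : ZMod p))) (Equiv.refl _)
  have hAdef : ∀ w, A₀ w = Sum.elim (Sum.elim (fun e => Sum.inl (Sum.inl e))
      (fun i => Sum.inl (Sum.inr (i + 1)))) (fun j => Sum.inr j) w := by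
    rintro ((e | i) | j) <;> rfl
  let u : Pts p d := Sum.inl (Sum.inl false)
  let v : Pts p d := Sum.inl (Sum.inl true)
  let pt : ZMod p → Pts p d := fun i => Sum.inl (Sum.inr i)
  have hptinj : Function.Injective pt := fun i j e => Sum.inr_injective (Sum.inl_injective e)
  let z := pt 0
  let P : Finset (Pts p d) := Finset.univ.image pt
  have hPmem : ∀ w, w ∈ P ↔ ∃ i, pt i = w := fun w => by simp [P]
  have huv : u ≠ v := by simp [u, v]
  have hu : u ∉ P := by simp [P, pt, u]
  have hv : v ∉ P := by simp [P, pt, v]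
  have hz : z ∈ P := (hPmem z).2 ⟨0, rfl⟩
  have huz : u ≠ z := fun e => hu (e ▸ hz)
  have hvz : v ≠ z := fun e => hv (e ▸ hz)
  have hCC : C * C = 1 := Equiv.ext hC2
  have hCu : C u = u := hCuv₀ false
  have hCv : C v = v := hCuv₀ true
  have hCz : C z = z := hCz₀
  let X : Perm (Pts p d) := tri u v z
  let D : Perm (Pts p d) := X⁻¹ * C
  let t : Fin 2 → Perm (Pts p d) := ![A₀, D]
  have hXC : C * X = X * C := by
    rw [← mul_inv_eq_iff_eq_mul, tri_conj, hCu, hCv, hCz]
  have hXC' : Commute X⁻¹ C := (show Commute X C from hXC.symm).inv_left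
  have hX3 : X ^ 3 = 1 := tri_cube huv huz hvz
  have hD2 : D ^ 2 = X := by
    rw [hXC'.mul_pow, sq C, hCC, mul_one, inv_pow, inv_eq_iff_mul_eq_one, ← pow_succ, hX3]
  have hD3 : D ^ 3 = C := by
    rw [hXC'.mul_pow, inv_pow, hX3, inv_one, one_mul, pow_succ, sq C, hCC, one_mul]
  let L : FreeGroup (Fin 2) →* Perm (Pts p d) := FreeGroup.lift t
  have hLa : L wa = A₀ := FreeGroup.lift_apply_of
  have hLd : L wd = D := FreeGroup.lift_apply_of
  have hLx : L (wd ^ 2) = X := by rw [map_pow, hLd, hD2]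
  have hLc : L (wd ^ 3) = C := by rw [map_pow, hLd, hD3]
  -- the translation
  have hAu : ∀ e, A₀ (Sum.inl (Sum.inl e)) = Sum.inl (Sum.inl e) := fun e => hAdef _
  have hAn : ∀ (n : ℕ) (i : ZMod p), (A₀ ^ n) (pt i) = pt (i + n) := by
    intro n i
    induction n with
    | zero => simp
    | succ n ih =>
      rw [pow_succ', Perm.mul_apply, ih, hAdef]
      simp [pt, add_assoc]
  have hAsupp : ∀ w, A₀ w ≠ w → w ∈ P := by
    rintro ((e | i) | j) hw
    · exact absurd (hAu e) hw
    · exact (hPmem _).2 ⟨i, rfl⟩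
    · exact absurd (hAdef _) hw
  have hAe : A₀ ∈ alternatingGroup (Pts p d) := by
    have h1 : A₀ ^ p = 1 := by
      refine Equiv.ext fun w => ?_
      by_cases hw : w ∈ P
      · obtain ⟨i, rfl⟩ := (hPmem w).1 hw
        rw [hAn, ZMod.natCast_self, add_zero, Perm.one_apply]
      · exact Perm.pow_apply_eq_self_of_apply_eq_self (by by_contra e; exact hw (hAsupp w e)) p
    rw [Perm.mem_alternatingGroup]
    have h2 := congrArg Perm.sign h1
    rw [map_pow, map_one] at h2
    rcases Int.units_eq_one_or (Perm.sign A₀) with e | e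
    · exact e
    · rw [e, (hp.out.odd_of_ne_two (by omega)).neg_one_pow] at h2
      exact e.trans h2
  -- words
  have htri : ∀ i : ZMod p, tri u v (pt i) = L (wa ^ i.val * wd ^ 2 * (wa ^ i.val)⁻¹) := fun i => by
    rw [map_mul, map_mul, map_inv, map_pow, hLa, hLx, tri_conj, hAn, zero_add,
      ZMod.natCast_zmod_val, Perm.pow_apply_eq_self_of_apply_eq_self (hAu false),
      Perm.pow_apply_eq_self_of_apply_eq_self (hAu true)]
  let WN : Subgroup (FreeGroup (Fin 2)) :=
    Subgroup.closure (Set.range fun n : ℕ => wa ^ n * wd ^ 2 * (wa ^ n)⁻¹)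
  let WJ : Subgroup (FreeGroup (Fin 2)) := Subgroup.closure {wa, wd ^ 2}
  have hwordN : ∀ σ ∈ alternatingGroup (Pts p d), (∀ w, σ w ≠ w → w = u ∨ w = v ∨ w ∈ P) →
      σ ∈ WN.map L := fun σ hσ hs =>
    mem_of_even huv (↑P) (fun w hw _ _ => by
      obtain ⟨i, rfl⟩ := (hPmem w).1 hw
      exact ⟨_, Subgroup.subset_closure ⟨i.val, rfl⟩, (htri i).symm⟩) hσ hs
  have hNJ : WN ≤ WJ := by
    rw [Subgroup.closure_le]
    rintro _ ⟨n, rfl⟩
    have ha : wa ∈ WJ := Subgroup.subset_closure (Or.inl rfl)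
    exact mul_mem (mul_mem (pow_mem ha n) (Subgroup.subset_closure (Or.inr rfl)))
      (inv_mem (pow_mem ha n))
  have hwordJ : ∀ σ ∈ alternatingGroup (Pts p d), (∀ w, σ w ≠ w → w = u ∨ w = v ∨ w ∈ P) →
      ∃ w ∈ WJ, L w = σ := fun σ hσ hs => by
    obtain ⟨w, hw, e⟩ := hwordN σ hσ hs
    exact ⟨w, hNJ hw, e⟩
  -- multiplication by the primitive root
  let B₀ : Perm (Pts p d) :=
    Equiv.sumCongr (Equiv.sumCongr (swap false true) F) (Equiv.refl _)
  have hBu : B₀ u = v := by simp [B₀, u, v]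
  have hBv : B₀ v = u := by simp [B₀, u, v]
  have hBp : ∀ i, B₀ (pt i) = pt (r * i) := fun i => by simp [B₀, pt, hF]
  have hBe : B₀ ∈ alternatingGroup (Pts p d) := by
    rw [Perm.mem_alternatingGroup]
    show Perm.sign (Equiv.sumCongr (Equiv.sumCongr (swap false true) F) (Equiv.refl _)) = 1
    rw [Perm.sign_sumCongr, Perm.sign_sumCongr, hFs, Perm.sign_swap (by decide), Perm.sign_refl]
    rfl
  have hBsupp : ∀ w, B₀ w ≠ w → w = u ∨ w = v ∨ w ∈ P := by
    rintro ((e | i) | j) hw
    · cases e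
      exacts [Or.inl rfl, Or.inr (Or.inl rfl)]
    · exact Or.inr (Or.inr ((hPmem _).2 ⟨i, rfl⟩))
    · exact absurd rfl hw
  obtain ⟨wb, hwbN, hLb⟩ := hwordN B₀ hBe hBsupp
  -- overlap generator
  let O : Finset (Pts p d) := P.filter fun w => C w ∈ P
  have hOz : z ∈ O := Finset.mem_filter.2 ⟨hz, by rw [hCz]; exact hz⟩
  obtain ⟨g₀, hg₀, hg₀t⟩ := exists_cycle O hOz
  obtain ⟨gp, hgpe, hgps, hgpuv, hgpt⟩ : ∃ gp : Perm (Pts p d), gp ∈ alternatingGroup _ ∧
      (∀ w, gp w ≠ w → w = u ∨ w = v ∨ w ∈ O) ∧ (gp u = u ∧ gp v = v ∨ gp u = v ∧ gp v = u) ∧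
      ∀ i ∈ O, ∃ n : ℕ, (gp ^ n) z = i := by
    have hgu : g₀ u = u := by by_contra e; exact hu (Finset.mem_filter.1 (hg₀ u e)).1
    have hgv : g₀ v = v := by by_contra e; exact hv (Finset.mem_filter.1 (hg₀ v e)).1
    rcases Int.units_eq_one_or (Perm.sign g₀) with hs | hs
    · exact ⟨g₀, hs, fun w hw => Or.inr (Or.inr (hg₀ w hw)), Or.inl ⟨hgu, hgv⟩, hg₀t⟩
    refine ⟨g₀ * swap u v, ?_, fun w hw => ?_, Or.inr ⟨?_, ?_⟩, fun i hi => ?_⟩
    · rw [Perm.mem_alternatingGroup, map_mul, hs, Perm.sign_swap huv]; rfl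
    · by_cases e : w = u
      · exact Or.inl e
      by_cases e' : w = v
      · exact Or.inr (Or.inl e')
      rw [Perm.mul_apply, swap_apply_of_ne_of_ne e e'] at hw
      exact Or.inr (Or.inr (hg₀ w hw))
    · rw [Perm.mul_apply, swap_apply_left, hgv]
    · rw [Perm.mul_apply, swap_apply_right, hgu]
    · obtain ⟨n, hn⟩ := hg₀t i hi
      refine ⟨n, ?_⟩
      have hc : Commute g₀ (swap u v) := by
        show g₀ * swap u v = swap u v * g₀
        rw [← mul_inv_eq_iff_eq_mul, ← swap_apply_apply, hgu, hgv]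
      rw [hc.mul_pow, Perm.mul_apply,
        Perm.pow_apply_eq_self_of_apply_eq_self (swap_apply_of_ne_of_ne huz.symm hvz.symm), hn]
  have hOP : ∀ w ∈ O, w ∈ P := fun w hw => (Finset.mem_filter.1 hw).1
  have hCiff : ∀ w, C w = u ↔ w = u := fun w =>
    ⟨fun e => by rw [← hC2 w, e, hCu], fun e => e ▸ hCu⟩
  have hCiff' : ∀ w, C w = v ↔ w = v := fun w =>
    ⟨fun e => by rw [← hC2 w, e, hCv], fun e => e ▸ hCv⟩
  have hCinv : C⁻¹ = C := inv_eq_of_mul_eq_one_right hCC
  obtain ⟨wg, hwg, hLg⟩ := hwordN gp hgpe fun w hw => by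
    rcases hgps w hw with e | e | e
    exacts [Or.inl e, Or.inr (Or.inl e), Or.inr (Or.inr (hOP w e))]
  obtain ⟨wg', hwg', hLg'⟩ := hwordN (C * gp * C⁻¹) (by
    rw [Perm.mem_alternatingGroup, map_mul, map_mul, map_inv, hgpe]; simp) fun w hw => by
    rw [hCinv, Perm.mul_apply, Perm.mul_apply] at hw
    have h1 := hgps (C w) fun e => hw (by rw [e, hC2])
    rw [hCiff, hCiff'] at h1
    rcases h1 with e | e | e
    · exact Or.inl e
    · exact Or.inr (Or.inl e)
    · refine Or.inr (Or.inr ?_)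
      have := (Finset.mem_filter.1 e).2
      rwa [hC2] at this
  -- the four overlap points
  let D₁ : Finset (Pts p d) := P.filter fun w => C w ∉ P
  have hD₁ : ∀ w, w ∈ D₁ ↔ w ∈ P ∧ C w ∉ P := fun w => Finset.mem_filter
  have hD₁card : D₁.card ≤ d := by
    have hsub : D₁ ⊆ Finset.univ.image fun j => pt (E j) := by
      intro w hw
      obtain ⟨hw1, hw2⟩ := (hD₁ w).1 hw
      obtain ⟨i, rfl⟩ := (hPmem w).1 hw1
      rcases hCi : C (pt i) with (e | i') | j
      · exfalso
        have h4 := hC2 (pt i)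
        rw [hCi, hCuv₀] at h4
        simp [pt] at h4
      · exact absurd ((hPmem _).2 ⟨i', hCi.symm⟩) hw2
      · refine Finset.mem_image.2 ⟨j, Finset.mem_univ _, ?_⟩
        show pt (E j) = pt i
        rw [show pt (E j) = C (Sum.inr j) from (hE j).symm, ← hCi, hC2]
    exact (Finset.card_le_card hsub).trans (Finset.card_image_le.trans (le_of_eq (Finset.card_fin d)))
  obtain ⟨o, hoP, hone⟩ : ∃ o : ℕ → Pts p d, (∀ k < 4, o k ∈ P ∧ C (o k) ∈ P) ∧
      ∀ i < 4, ∀ j < 4, i ≠ j → o i ≠ o j := by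
    have hOcard : 4 ≤ O.card := by
      have h1 := Finset.card_filter_add_card_filter_not (s := P) (fun w => C w ∈ P)
      have h2 : P.card = p := by
        rw [Finset.card_image_of_injective _ hptinj, Finset.card_univ, ZMod.card]
      change O.card + D₁.card = P.card at h1
      omega
    obtain ⟨f⟩ : Nonempty (Fin 4 ↪ O) := Function.Embedding.nonempty_of_card_le (by simpa using hOcard)
    refine ⟨fun k => if h : k < 4 then (f ⟨k, h⟩ : Pts p d) else z, fun k hk => ?_,
      fun i hi j hj hij e => hij ?_⟩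
    · simp only [dif_pos hk]
      exact Finset.mem_filter.1 (f ⟨k, hk⟩).2
    · simp only [dif_pos hi, dif_pos hj] at e
      exact congrArg Fin.val (f.injective (Subtype.ext e))
  have hoD : ∀ k < 4, o k ∉ D₁ ∧ C (o k) ∉ D₁ := fun k hk =>
    ⟨fun e => ((hD₁ _).1 e).2 (hoP k hk).2,
      fun e => ((hD₁ _).1 e).2 (by rw [hC2]; exact (hoP k hk).1)⟩
  obtain ⟨Ap, hApe, hAps, hApt, -⟩ := exists_odd_link D₁ (hoD 0 (by omega)).1 (hoD 1 (by omega)).1
    (hone 0 (by omega) 1 (by omega) (by omega))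
  obtain ⟨A'p, hA'pe, hA'ps, hA'pt, M₀, hM₀, hA'pM⟩ := exists_odd_link D₁ (hoD 2 (by omega)).2
    (hoD 3 (by omega)).2 (C.injective.ne (hone 2 (by omega) 3 (by omega) (by omega)))
  obtain ⟨wA, hwA, hLA⟩ := hwordN Ap hApe fun w hw => by
    rcases hAps w hw with e | e | e
    exacts [Or.inr (Or.inr ((hD₁ w).1 e).1), Or.inr (Or.inr (e ▸ (hoP 0 (by omega)).1)),
      Or.inr (Or.inr (e ▸ (hoP 1 (by omega)).1))]
  obtain ⟨wA', hwA', hLA'⟩ := hwordN A'p hA'pe fun w hw => by
    rcases hA'ps w hw with e | e | e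
    exacts [Or.inr (Or.inr ((hD₁ w).1 e).1), Or.inr (Or.inr (e ▸ (hoP 2 (by omega)).2)),
      Or.inr (Or.inr (e ▸ (hoP 3 (by omega)).2))]
  let Bp : Perm (Pts p d) := C * A'p * C⁻¹
  have hBps : ∀ w, Bp w ≠ w → (C w ∈ P ∧ w ∉ P) ∨ w = o 2 ∨ w = o 3 := fun w hw => by
    simp only [Bp, hCinv, Perm.mul_apply] at hw
    rcases hA'ps (C w) (fun e => hw (by rw [e, hC2])) with e | e | e
    · refine Or.inl ⟨((hD₁ _).1 e).1, ?_⟩
      have := ((hD₁ _).1 e).2
      rwa [hC2] at this
    · exact Or.inr (Or.inl (C.injective e))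
    · exact Or.inr (Or.inr (C.injective e))
  have hBpt : ∀ i, C i ∈ P → i ∉ P → ∃ n : ℕ, (Bp ^ n) (o 2) = i := fun i hi hi' => by
    obtain ⟨n, hn⟩ := hA'pt (C i) ((hD₁ _).2 ⟨hi, by rwa [hC2]⟩)
    refine ⟨n, ?_⟩
    show ((C * A'p * C⁻¹) ^ n) (o 2) = i
    rw [conj_pow, Perm.mul_apply, Perm.mul_apply, hCinv, hn, hC2]
  have hcomm : Ap * Bp = Bp * Ap := by
    refine (commute_of_supp {w | (w ∈ P ∧ C w ∉ P) ∨ w = o 0 ∨ w = o 1} (fun w hw => ?_)
      fun w hw => ?_).eq
    · rcases hAps w hw with e | e | e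
      exacts [Or.inl ((hD₁ w).1 e), Or.inr (Or.inl e), Or.inr (Or.inr e)]
    · rintro (⟨e1, e2⟩ | e1 | e1)
      · rcases hBps w hw with ⟨f1, f2⟩ | f1 | f1
        exacts [f2 e1, e2 (f1 ▸ (hoP 2 (by omega)).2), e2 (f1 ▸ (hoP 3 (by omega)).2)]
      · rcases hBps w hw with ⟨f1, f2⟩ | f1 | f1
        exacts [f2 (e1 ▸ (hoP 0 (by omega)).1), hone 2 (by omega) 0 (by omega) (by omega) (f1.symm.trans e1),
          hone 3 (by omega) 0 (by omega) (by omega) (f1.symm.trans e1)]
      · rcases hBps w hw with ⟨f1, f2⟩ | f1 | f1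
        exacts [f2 (e1 ▸ (hoP 1 (by omega)).1), hone 2 (by omega) 1 (by omega) (by omega) (f1.symm.trans e1),
          hone 3 (by omega) 1 (by omega) (by omega) (f1.symm.trans e1)]
  -- generation
  have hrange : Set.range t = {A₀, D} := by
    simp [t, Matrix.range_cons, Matrix.range_empty, Set.pair_comm]
  have hgenT : Subgroup.closure (Set.range t) = alternatingGroup (Pts p d) := by
    refine le_antisymm ?_ (le_of_tri huv fun w hwu hwv => ?_)
    · rw [Subgroup.closure_le, hrange]
      rintro w (rfl | rfl)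
      · exact hAe
      · exact mul_mem (inv_mem (tri_mem huv hvz)) (Perm.mem_alternatingGroup.2 hsign)
    · rw [← FreeGroup.range_lift_eq_closure]
      rcases w with (e | i) | j
      · cases e
        exacts [absurd rfl hwu, absurd rfl hwv]
      · exact ⟨_, (htri i).symm⟩
      · refine ⟨wd ^ 3 * (wa ^ (E j).val * wd ^ 2 * (wa ^ (E j).val)⁻¹) * (wd ^ 3)⁻¹, ?_⟩
        show L _ = _
        rw [map_mul, map_mul, map_inv, hLc, ← htri, tri_conj, hCu, hCv,
          show pt (E j) = C (Sum.inr j) from (hE j).symm, hC2]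
  -- the relators
  obtain ⟨k, hk⟩ := hN
  let wx : FreeGroup (Fin 2) := wd ^ 2
  let wc : FreeGroup (Fin 2) := wd ^ 3
  let wW : FreeGroup (Fin 2) := ((wb * wb) * wc) ^ (2 * k) * (wb * wb)
  let wQ : FreeGroup (Fin 2) := wW⁻¹ * wc
  let R1 := wb * wa * wb⁻¹ * (wa ^ r)⁻¹
  let R2 := wa ^ p * (wb ^ (p - 1) * wQ)⁻¹
  let R3 := wb * wx * wb⁻¹ * wx
  let R4 := wx * (wa * wx * wa⁻¹) * (wx * (wa * wx * wa⁻¹)) * (wx ^ 3)⁻¹
  let R5 := wc * wg * wc⁻¹ * wg'⁻¹
  let R6 := wA * (wc * wA' * wc⁻¹) * (wc * wA' * wc⁻¹ * wA)⁻¹ * (wx ^ 3)⁻¹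
  have hLW : L wW = C := by
    have h1 : L wW * C = 1 := by
      show L (((wb * wb) * wc) ^ (2 * k) * (wb * wb)) * C = 1
      rw [map_mul, map_pow, map_mul, map_mul, hLb, hLc, mul_assoc, ← pow_succ, ← hk]
      exact hπN
    rw [← hCinv]
    exact eq_inv_of_mul_eq_one_left h1
  have hLx' : L wx = X := hLx
  have hLc' : L wc = C := hLc
  have hLQ : L wQ = 1 := by rw [map_mul, map_inv, hLW, hLc, inv_mul_cancel]
  have hBp1 : B₀ ^ (p - 1) = 1 := by
    refine Equiv.ext fun w => ?_
    obtain ⟨l, hl⟩ := hp.out.odd_of_ne_two (by omega)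
    rw [Perm.one_apply]
    rcases w with (e | i) | j
    · rw [show p - 1 = 2 * l by omega, pow_mul]
      refine Perm.pow_apply_eq_self_of_apply_eq_self ?_ l
      cases e <;> (rw [sq, Perm.mul_apply]; first | (show B₀ (B₀ u) = u; rw [hBu, hBv]) | (show B₀ (B₀ v) = v; rw [hBv, hBu]))
    · have hBn : ∀ n : ℕ, (B₀ ^ n) (pt i) = pt ((r : ZMod p) ^ n * i) := by
        intro n
        induction n with
        | zero => simp
        | succ n ih => rw [pow_succ', Perm.mul_apply, ih, hBp, pow_succ', mul_assoc]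
      show (B₀ ^ (p - 1)) (pt i) = pt i
      rw [hBn, ZMod.pow_card_sub_one_eq_one hr0, one_mul]
    · exact Perm.pow_apply_eq_self_of_apply_eq_self rfl _
  have hAp1 : A₀ ^ p = 1 := by
    refine Equiv.ext fun w => ?_
    by_cases hw : w ∈ P
    · obtain ⟨i, rfl⟩ := (hPmem w).1 hw
      rw [hAn, ZMod.natCast_self, add_zero, Perm.one_apply]
    · exact Perm.pow_apply_eq_self_of_apply_eq_self (by by_contra e; exact hw (hAsupp w e)) p
  have hA1 : A₀ * X * A₀⁻¹ = tri u v (pt 1) := by
    have := hAn 1 0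
    rw [pow_one, zero_add, Nat.cast_one] at this
    rw [tri_conj, hAu, hAu, this]
  -- groups in which `x` has order three
  have core : ∀ (G : Type) [Group G] (π : FreeGroup (Fin 2) →* G), Function.Surjective π →
      π wb * π wa * (π wb)⁻¹ = π wa ^ r → π wa ^ p = π wb ^ (p - 1) * π wQ →
      π wb * π wx * (π wb)⁻¹ = (π wx)⁻¹ →
      (π wx * (π wa * π wx * (π wa)⁻¹)) * (π wx * (π wa * π wx * (π wa)⁻¹)) = 1 →
      π wc * π wg * (π wc)⁻¹ = π wg' →
      π wA * (π wc * π wA' * (π wc)⁻¹) = π wc * π wA' * (π wc)⁻¹ * π wA →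
      π wx ^ 3 = 1 →
      ∀ φ : G →* Perm (Pts p d), (∀ w, φ (π w) = L w) →
      Finite G ∧ 2 * Nat.card G ≤ (p + d + 2).factorial := by
    intro G _ π hπ r1 r2 r3 r4 r5 r6 r7 φ himg
    have hwN : ∀ w ∈ WN, π w ∈
        Subgroup.closure (Set.range fun n : ℕ => π wa ^ n * π wx * (π wa ^ n)⁻¹) := fun w hw => by
      have := Subgroup.mem_map_of_mem π hw
      rw [MonoidHom.map_closure, ← Set.range_comp] at this
      simpa [Function.comp_def, map_mul, map_inv, map_pow, wx] using this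
    have hcx : Commute (π wc) (π wx) := by
      simp only [wc, wx, map_pow]
      exact Commute.pow_pow_self _ 3 2
    have hb2 : Commute (π wb * π wb) (π wx) := by
      have h1 : π wb * (π wb * π wx * (π wb)⁻¹) * (π wb)⁻¹ = π wx := by
        rw [r3]
        calc π wb * (π wx)⁻¹ * (π wb)⁻¹ = (π wb * π wx * (π wb)⁻¹)⁻¹ := by group
          _ = π wx := by rw [r3, inv_inv]
      show π wb * π wb * π wx = π wx * (π wb * π wb)
      calc π wb * π wb * π wx
          = π wb * (π wb * π wx * (π wb)⁻¹) * (π wb)⁻¹ * (π wb * π wb) := by group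
        _ = π wx * (π wb * π wb) := by rw [h1]
    have hQ : Commute (π wQ) (π wx) := by
      simp only [wQ, wW, map_mul, map_inv, map_pow]
      have h1 : Commute (π wb * π wb * π wc) (π wx) := hb2.mul_left hcx
      exact ((h1.pow_left _).mul_left hb2).inv_left.mul_left hcx
    obtain ⟨a', hagl, ha'img, ha'J, haQ, hQr, hNa'⟩ := absorb φ (u := u) (v := v) (z := z) (P := P)
      hp.out h3 hre hr0 hprim r1 r2 r3 r4 r7 hQ (hwN _ hwbN) huv hu hv
      (by rw [Finset.card_image_of_injective _ hptinj, Finset.card_univ, ZMod.card])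
      (by rw [himg, hLx]) (fun w hw => hAsupp w (by rwa [himg, hLa] at hw))
      (fun w hw => by
        obtain ⟨i, rfl⟩ := (hPmem w).1 hw
        exact ⟨i.val, by rw [himg, hLa, hAn, zero_add, ZMod.natCast_zmod_val]⟩)
      (by rw [himg, hLa, hAp1]) (by rw [himg, hLb, hBp1])
    rw [himg, hLa] at ha'img
    have hxd : π wx = π wd ^ 2 := map_pow π wd 2
    have hcd : π wc = π wd ^ 3 := map_pow π wd 3
    have hJd : Subgroup.closure ({a', π wx} : Set G) ≤ Subgroup.closure ({a', π wd} : Set G) := by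
      rw [Subgroup.closure_le]
      rintro w (rfl | rfl)
      · exact Subgroup.subset_closure (Or.inl rfl)
      · have m2 : π wd ∈ Subgroup.closure ({a', π wd} : Set G) := Subgroup.subset_closure (Or.inr rfl)
        rw [hxd]; exact pow_mem m2 2
    have hmemJ : ∀ w ∈ WN, π w ∈ Subgroup.closure ({a', π wd ^ 2} : Set G) := fun w hw => by
      rw [← hxd]; exact hNa' _ (hwN w hw)
    have hgen : Subgroup.closure ({a', π wd} : Set G) = ⊤ := by
      have hd' : π wd ∈ Subgroup.closure ({a', π wd} : Set G) := Subgroup.subset_closure (Or.inr rfl)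
      have hb' : π wb ∈ Subgroup.closure ({a', π wd} : Set G) := hJd (hNa' _ (hwN _ hwbN))
      have hQ' : π wQ ∈ Subgroup.closure ({a', π wd} : Set G) := by
        simp only [wQ, wW, map_mul, map_inv, map_pow, hcd]
        exact mul_mem (inv_mem (mul_mem (pow_mem (mul_mem (mul_mem hb' hb') (pow_mem hd' 3)) _)
          (mul_mem hb' hb'))) (pow_mem hd' 3)
      have ha : π wa ∈ Subgroup.closure ({a', π wd} : Set G) := by
        refine (Subgroup.closure_le _).2 ?_ haQ
        rintro w (rfl | rfl)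
        exacts [Subgroup.subset_closure (Or.inl rfl), hQ']
      rw [eq_top_iff]
      intro w _
      obtain ⟨w', rfl⟩ := hπ w
      have h1 : (⊤ : Subgroup (FreeGroup (Fin 2))) ≤
          (Subgroup.closure ({a', π wd} : Set G)).comap π := by
        rw [← FreeGroup.closure_range_of, Subgroup.closure_le]
        rintro _ ⟨i, rfl⟩
        fin_cases i
        exacts [ha, hd']
      exact h1 (Subgroup.mem_top w')
    have hGlue : Glue φ p r a' (π wb) (π wd) (π wg) (π wg') (π wA) (π wA')
        u v z (o 0) (o 1) (o 2) (o 3) P := by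
      refine
        { agl := hxd ▸ hagl
          gen := hgen
          g_mem := hmemJ _ hwg, g'_mem := hmemJ _ hwg', A_mem := hmemJ _ hwA, A'_mem := hmemJ _ hwA'
          rel_overlap := by rw [← hcd]; exact r5
          rel_comm := by rw [← hcd]; exact r6
          huv := huv, hu := hu, hv := hv, hz := hz
          hP := by rw [Finset.card_image_of_injective _ hptinj, Finset.card_univ, ZMod.card]
          x_img := by rw [← hxd, himg, hLx]
          a_even := by rw [ha'img]; exact hAe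
          a_supp := fun w hw => hAsupp w (by rwa [ha'img] at hw)
          a_trans := fun w hw => ?_
          c_u := by rw [← hcd, himg, hLc, hCu]
          c_v := by rw [← hcd, himg, hLc, hCv]
          c_z := by rw [← hcd, himg, hLc, hCz]
          g_uv := by rw [himg, hLg]; exact hgpuv
          g_trans := fun i hi hi' => ?_
          o_mem := fun q hq => ?_
          o_card := ?_
          A_supp := fun w hw => ?_
          A_trans := fun i hi hi' => ?_
          B_supp := fun w hw => ?_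
          B_trans := fun i hi hi' => ?_ }
      · obtain ⟨i, rfl⟩ := (hPmem w).1 hw
        exact ⟨i.val, by rw [ha'img, hAn, zero_add, ZMod.natCast_zmod_val]⟩
      · rw [himg, hLg]
        exact hgpt i (Finset.mem_filter.2 ⟨hi, by rwa [← hcd, himg, hLc] at hi'⟩)
      · rw [← hcd, himg, hLc]
        simp only [Finset.mem_insert, Finset.mem_singleton] at hq
        rcases hq with rfl | rfl | rfl | rfl
        exacts [hoP 0 (by omega), hoP 1 (by omega), hoP 2 (by omega), hoP 3 (by omega)]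
      · have := fun i hi j hj hij => hone i hi j hj hij
        simp [this 0 (by omega) 1 (by omega) (by omega), this 0 (by omega) 2 (by omega) (by omega),
          this 0 (by omega) 3 (by omega) (by omega), this 1 (by omega) 2 (by omega) (by omega),
          this 1 (by omega) 3 (by omega) (by omega), this 2 (by omega) 3 (by omega) (by omega)]
      · rw [himg, hLA] at hw
        rw [← hcd, himg, hLc]
        rcases hAps w hw with e | e | e
        exacts [Or.inl ((hD₁ w).1 e), Or.inr (Or.inl e), Or.inr (Or.inr e)]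
      · rw [himg, hLA]
        exact hApt i ((hD₁ i).2 ⟨hi, by rwa [← hcd, himg, hLc] at hi'⟩)
      · rw [← hcd, ← map_inv π, ← map_mul π, ← map_mul π, himg, map_mul, map_mul, map_inv, hLc, hLA'] at hw
        rw [← hcd, himg, hLc]
        exact hBps w hw
      · rw [← hcd, himg, hLc] at hi
        rw [← hcd, ← map_inv π, ← map_mul π, ← map_mul π, himg, map_mul, map_mul, map_inv, hLc, hLA']
        exact hBpt i hi hi'
    obtain ⟨M, haM, hxM, hcM, hMfin, hMcard, hMall⟩ := hGlue.bound
    have hT : (P ∪ P.image (φ (π wd ^ 3))).card = p + d := by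
      rw [← hcd, himg, hLc]
      have e : P ∪ P.image C = (Finset.univ : Finset (ZMod p ⊕ Fin d)).image
          (Sum.map Sum.inr id : ZMod p ⊕ Fin d → Pts p d) := by
        ext w
        constructor
        · intro hw
          rcases w with (e | i) | j
          · exfalso
            rcases Finset.mem_union.1 hw with hw | hw
            · obtain ⟨i, hi⟩ := (hPmem _).1 hw; simp [pt] at hi
            · obtain ⟨w', hw', e'⟩ := Finset.mem_image.1 hw
              obtain ⟨i, rfl⟩ := (hPmem _).1 hw'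
              have := congrArg C e'
              rw [hC2, hCuv₀] at this
              simp [pt] at this
          · exact Finset.mem_image.2 ⟨Sum.inl i, Finset.mem_univ _, rfl⟩
          · exact Finset.mem_image.2 ⟨Sum.inr j, Finset.mem_univ _, rfl⟩
        · intro hw
          obtain ⟨w', -, rfl⟩ := Finset.mem_image.1 hw
          rcases w' with i | j
          · exact Finset.mem_union_left _ ((hPmem _).2 ⟨i, rfl⟩)
          · exact Finset.mem_union_right _ (Finset.mem_image.2 ⟨C (Sum.inr j),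
              (hPmem _).2 ⟨_, (hE j).symm⟩, hC2 _⟩)
      rw [e, Finset.card_image_of_injective _ (Sum.map_injective.2 ⟨Sum.inr_injective,
        Function.injective_id⟩)]
      simp
    rw [hT] at hMcard
    obtain ⟨c, hc⟩ : ∃ c, c = π wc := ⟨_, rfl⟩
    rw [← hcd, ← hc] at hMall hcM
    have hcc : c * c = 1 := by
      rw [hc, hcd, ← pow_add, show 3 + 3 = 2 * 3 from rfl, pow_mul, ← hxd, r7]
    have hbM : π wb ∈ M := by
      refine (Subgroup.closure_le M).2 ?_ (hNa' _ (hwN _ hwbN))
      rintro w (rfl | rfl)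
      exacts [haM, hxd ▸ hxM]
    obtain ⟨W, hW⟩ : ∃ W, W = π wW := ⟨_, rfl⟩
    have hb2M : π wb * π wb ∈ M := mul_mem hbM hbM
    have hWM : W ∈ M := by
      rw [hW]
      simp only [wW, map_mul, map_pow, ← hc]
      refine mul_mem ?_ hb2M
      rw [pow_mul]
      refine pow_mem ?_ k
      rw [sq]
      have := mul_mem hb2M (hcM _ hb2M)
      convert this using 1
      rw [inv_eq_of_mul_eq_one_right hcc]
      group
    have hQW : π wQ = W⁻¹ * c := by rw [map_mul, map_inv, ← hW, ← hc]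
    have hQ2 : π wQ * π wQ ∈ M := by
      rw [hQW]
      have := mul_mem (inv_mem hWM) (hcM _ (inv_mem hWM))
      convert this using 1
      rw [inv_eq_of_mul_eq_one_right hcc]
      group
    have hcMem : c ∈ M := by
      obtain ⟨l, hl⟩ : ∃ l, r - 1 = 2 * l + 1 := by
        obtain ⟨e, he⟩ := hre
        have : r ≠ 0 := fun e' => hr0 (by rw [e']; simp)
        exact ⟨e - 1, by omega⟩
      have hQM : π wQ ∈ M := by
        have h1 : π wQ ^ (2 * l) ∈ M := by rw [pow_mul, sq]; exact pow_mem hQ2 l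
        rw [hl, pow_succ, mul_eq_one_iff_inv_eq] at hQr
        exact hQr ▸ inv_mem h1
      have := mul_mem hWM hQM
      rwa [hQW, mul_inv_cancel_left] at this
    have htop : M = ⊤ := by
      rw [eq_top_iff]
      intro w _
      rcases hMall w with h | h
      · exact h
      · simpa using mul_mem h (inv_mem hcMem)
    subst htop
    refine ⟨Finite.of_equiv _ Subgroup.topEquiv.toEquiv, ?_⟩
    rwa [Subgroup.card_top] at hMcard
  refine ⟨t, hgenT, [R1, R2, R3, R4, R5, R6], le_refl _, ?_, ?_⟩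
  · intro e he
    simp only [List.mem_cons, List.not_mem_nil, or_false] at he
    have hBX : B₀ * X * B₀⁻¹ = X⁻¹ := by
      rw [tri_conj, hBu, hBv, hBp, mul_zero, tri_swap huv huz hvz]
    rcases he with rfl | rfl | rfl | rfl | rfl | rfl
    · show L (wb * wa * wb⁻¹ * (wa ^ r)⁻¹) = 1
      rw [map_mul, map_mul, map_mul, map_inv, map_inv, map_pow, hLb, hLa, mul_inv_eq_one,
        mul_inv_eq_iff_eq_mul]
      refine Equiv.ext fun w => ?_
      rw [Perm.mul_apply, Perm.mul_apply]
      rcases w with (e | i) | j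
      · cases e
        · show B₀ (A₀ u) = (A₀ ^ r) (B₀ u)
          rw [hAu, hBu, Perm.pow_apply_eq_self_of_apply_eq_self (hAu true)]
        · show B₀ (A₀ v) = (A₀ ^ r) (B₀ v)
          rw [hAu, hBv, Perm.pow_apply_eq_self_of_apply_eq_self (hAu false)]
      · show B₀ (A₀ (pt i)) = (A₀ ^ r) (B₀ (pt i))
        have := hAn 1 i
        rw [pow_one, Nat.cast_one] at this
        rw [this, hBp, hBp, hAn, mul_add, mul_one]
      · have e1 : A₀ (Sum.inr j) = Sum.inr j := hAdef _
        have e2 : B₀ (Sum.inr j) = Sum.inr j := rfl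
        rw [e1, e2, Perm.pow_apply_eq_self_of_apply_eq_self e1]
    · show L (wa ^ p * (wb ^ (p - 1) * wQ)⁻¹) = 1
      rw [map_mul, map_inv, map_mul, map_pow, map_pow, hLa, hLb, hLQ, hBp1, hAp1, one_mul, one_mul,
        inv_one]
    · show L (wb * wx * wb⁻¹ * wx) = 1
      rw [map_mul, map_mul, map_mul, map_inv, hLb, hLx, hBX, inv_mul_cancel]
    · show L (wx * (wa * wx * wa⁻¹) * (wx * (wa * wx * wa⁻¹)) * (wx ^ 3)⁻¹) = 1
      simp only [map_mul, map_inv, hLa, map_pow L wx, hLx', hX3, inv_one, mul_one]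
      rw [hA1]
      exact tri_pair huv huz hvz (fun e => hu ((hPmem u).2 ⟨1, e.symm⟩))
        (fun e => hv ((hPmem v).2 ⟨1, e.symm⟩)) (hptinj.ne zero_ne_one)
    · show L (wc * wg * wc⁻¹ * wg'⁻¹) = 1
      rw [map_mul, map_mul, map_mul, map_inv, map_inv, hLc, hLg, hLg', mul_inv_cancel]
    · show L (wA * (wc * wA' * wc⁻¹) * (wc * wA' * wc⁻¹ * wA)⁻¹ * (wx ^ 3)⁻¹) = 1
      simp only [map_mul, map_inv, hLA, hLA', hLc', map_pow L wx, hLx', hX3, inv_one, mul_one]
      rw [mul_inv_eq_one]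
      exact hcomm
  intro G _ π hπ hrels φ hφ
  have r1 := hrels R1 (by simp)
  have r2 := hrels R2 (by simp)
  have r3 := hrels R3 (by simp)
  have r4 := hrels R4 (by simp)
  have r5 := hrels R5 (by simp)
  have r6 := hrels R6 (by simp)
  simp only [R1, R2, R3, R4, R5, R6, map_mul, map_inv, map_pow π wa, map_pow π wb, map_pow π wx,
    mul_inv_eq_one] at r1 r2 r3 r4 r5 r6
  have r3' : π wb * π wx * (π wb)⁻¹ = (π wx)⁻¹ := eq_inv_of_mul_eq_one_left r3
  obtain ⟨y, hy⟩ : ∃ y, y = π wx ^ 3 := ⟨_, rfl⟩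
  have hxd : π wx = π wd ^ 2 := map_pow π wd 2
  have hwb : π wb ∈ Subgroup.closure ({π wa, π wd ^ 2} : Set G) := by
    have h1 : WJ ≤ (Subgroup.closure ({π wa, π wd ^ 2} : Set G)).comap π := by
      rw [Subgroup.closure_le]
      rintro w (rfl | rfl)
      · exact Subgroup.subset_closure (Or.inl rfl)
      · show π (wd ^ 2) ∈ Subgroup.closure ({π wa, π wd ^ 2} : Set G)
        rw [map_pow]; exact Subgroup.subset_closure (Or.inr rfl)
    exact h1 (hNJ hwbN)
  have hgenG : Subgroup.closure ({π wa, π wd} : Set G) = ⊤ := by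
    rw [← Set.image_pair (f := π), ← MonoidHom.map_closure,
      show ({wa, wd} : Set (FreeGroup (Fin 2))) = Set.range FreeGroup.of by
        ext y; simp [Fin.exists_fin_two, eq_comm],
      FreeGroup.closure_range_of, ← MonoidHom.range_eq_map]
    exact MonoidHom.range_eq_top.2 hπ
  have hb2 : Commute (π wb * π wb) (π wx) := by
    have h1 : π wb * (π wb * π wx * (π wb)⁻¹) * (π wb)⁻¹ = π wx := by
      rw [r3']
      calc π wb * (π wx)⁻¹ * (π wb)⁻¹ = (π wb * π wx * (π wb)⁻¹)⁻¹ := by group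
        _ = π wx := by rw [r3', inv_inv]
    show π wb * π wb * π wx = π wx * (π wb * π wb)
    calc π wb * π wb * π wx
        = π wb * (π wb * π wx * (π wb)⁻¹) * (π wb)⁻¹ * (π wb * π wb) := by group
      _ = π wx * (π wb * π wb) := by rw [h1]
  have hcx : Commute (π wc) (π wx) := by
    simp only [wc, wx, map_pow]
    exact Commute.pow_pow_self _ 3 2
  have hQ : Commute (π wQ) (π wx) := by
    simp only [wQ, wW, map_mul, map_inv, map_pow]
    exact (((hb2.mul_left hcx).pow_left _).mul_left hb2).inv_left.mul_left hcx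
  have hz' : Commute (π wa ^ p) (π wd ^ 2) := by
    obtain ⟨l, hl⟩ := hp.out.odd_of_ne_two (by omega)
    rw [r2, ← hxd, show p - 1 = 2 * l by omega, pow_mul, sq]
    exact (hb2.pow_left l).mul_left hQ
  obtain ⟨hycent, hy2⟩ := twist_central hp.out hr0 hprim hgenG hwb r1 hz' (hxd ▸ r3') (by
    rw [← hxd]; exact r4)
  rw [← hxd, ← hy] at hycent hy2
  have hY : (Subgroup.zpowers y).Normal := ⟨fun n hn g => by
    obtain ⟨i, rfl⟩ := hn
    rw [((hycent g).zpow_left i).symm.eq, mul_inv_cancel_right]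
    exact ⟨i, rfl⟩⟩
  have hyker : Subgroup.zpowers y ≤ φ.ker := by
    rw [Subgroup.zpowers_le, MonoidHom.mem_ker, hy, ← map_pow, hφ]
    show L (wx ^ 3) = 1
    rw [map_pow, hLx, hX3]
  let q : G →* G ⧸ Subgroup.zpowers y := QuotientGroup.mk' _
  let φ' : G ⧸ Subgroup.zpowers y →* Perm (Pts p d) := QuotientGroup.lift _ φ hyker
  have hqy : q y = 1 := (QuotientGroup.eq_one_iff y).2 (Subgroup.mem_zpowers y)
  obtain ⟨hfinQ, hcardQ⟩ := core _ (q.comp π) ((QuotientGroup.mk'_surjective _).comp hπ)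
    (by simpa using congrArg q r1) (by simpa using congrArg q r2) (by simpa using congrArg q r3')
    (by
      have := congrArg q r4
      rw [← hy, hqy] at this
      simpa using this)
    (by simpa using congrArg q r5)
    (by
      have := congrArg q r6
      rw [← hy, hqy, map_mul, map_inv, mul_inv_eq_one] at this
      simpa using this)
    (by
      show q (π wx) ^ 3 = 1
      rw [← map_pow, ← hy, hqy])
    φ' (fun w => hφ w)
  have hinjQ : Function.Injective φ' := by
    have hle : alternatingGroup (Pts p d) ≤ φ'.range := by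
      rw [← hgenT, ← FreeGroup.range_lift_eq_closure]
      rintro _ ⟨w, rfl⟩
      exact ⟨q (π w), hφ w⟩
    have : Nontrivial (Pts p d) := ⟨⟨u, v, huv⟩⟩
    have h1 := two_mul_nat_card_alternatingGroup (α := Pts p d)
    rw [Nat.card_perm, Nat.card_eq_fintype_card (α := Pts p d),
      show Fintype.card (Pts p d) = p + d + 2 by simp; omega] at h1
    have h2 := Subgroup.card_le_of_le hle
    have h3 := Nat.card_le_card_of_surjective _ φ'.rangeRestrict_surjective
    exact (MonoidHom.rangeRestrict_injective_iff (f := φ')).1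
      ((Nat.bijective_iff_surjective_and_card φ'.rangeRestrict).2
        ⟨φ'.rangeRestrict_surjective, by omega⟩).1
  have hy1 : y = 1 := by
    obtain ⟨A, hA⟩ : ∃ A, A = π wA := ⟨_, rfl⟩
    obtain ⟨B, hB⟩ : ∃ B, B = π (wc * wA' * wc⁻¹) := ⟨_, rfl⟩
    have hAB : A * B = y * (B * A) := by
      rw [hA, hB, map_mul, map_mul, map_inv, hy]
      exact mul_inv_eq_iff_eq_mul.1 r6
    have hn : ∀ n : ℕ, A * B ^ n = y ^ n * (B ^ n * A) := by
      intro n
      induction n with
      | zero => simp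
      | succ n ih =>
        calc A * B ^ (n + 1) = A * B ^ n * B := by rw [pow_succ]; group
          _ = y ^ n * (B ^ n * (A * B)) := by rw [ih]; group
          _ = y ^ n * ((B ^ n * y) * (B * A)) := by rw [hAB]; group
          _ = y ^ n * ((y * B ^ n) * (B * A)) := by rw [(hycent (B ^ n)).eq]
          _ = y ^ (n + 1) * (B ^ (n + 1) * A) := by rw [pow_succ, pow_succ]; group
    have hBM : B ^ M₀ ∈ Subgroup.zpowers y := by
      refine (QuotientGroup.eq_one_iff _).1 (hinjQ ?_)
      rw [map_one]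
      show φ (B ^ M₀) = 1
      rw [map_pow, hB, hφ]
      show L (wc * wA' * wc⁻¹) ^ M₀ = 1
      rw [map_mul, map_mul, map_inv, hLA', hLc, conj_pow, hA'pM, mul_one, mul_inv_cancel]
    obtain ⟨i, hi⟩ := hBM
    have h1 := hn M₀
    rw [← hi, ← mul_assoc] at h1
    have h2 : A * y ^ i = y ^ i * A := ((hycent A).zpow_left i).symm.eq
    simp only at h1
    rw [h2, mul_assoc] at h1
    have h4 : y ^ M₀ = 1 := mul_eq_right.1 h1.symm
    obtain ⟨l, hl⟩ := hM₀
    rwa [hl, pow_succ, pow_mul, sq, hy2, one_pow, one_mul] at h4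
  exact core G π hπ r1 r2 r3' (by rw [r4, ← hy, hy1]) r5
    (by rwa [← hy, hy1, mul_inv_eq_one] at r6) (by rw [← hy, hy1]) φ hφ

/-- Four relators for the alternating group of degree `p + 2`. -/
theorem plain (p : ℕ) [hp : Fact p.Prime] (h3 : 3 ≤ p) :
    ∃ t : Fin 2 → Perm (Bool ⊕ ZMod p), Subgroup.closure (Set.range t) = alternatingGroup _ ∧
      ∃ L : List (FreeGroup (Fin 2)), L.length ≤ 4 ∧ (∀ e ∈ L, FreeGroup.lift t e = 1) ∧
        ∀ (G : Type) [Group G] (π : FreeGroup (Fin 2) →* G), Function.Surjective π →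
          (∀ e ∈ L, π e = 1) → Finite G ∧ 2 * Nat.card G ≤ (p + 2).factorial := by
  classical
  obtain ⟨r, hre, hr0, hprim, F, hF, hFs⟩ := exists_prim p h3
  let u : Bool ⊕ ZMod p := Sum.inl false
  let v : Bool ⊕ ZMod p := Sum.inl true
  have huv : u ≠ v := by simp [u, v]
  have hui : ∀ i, u ≠ Sum.inr i := fun i => by simp [u]
  have hvi : ∀ i, v ≠ Sum.inr i := fun i => by simp [v]
  let A : Perm (Bool ⊕ ZMod p) := Equiv.sumCongr (Equiv.refl Bool) (Equiv.addRight (1 : ZMod p))
  let B : Perm (Bool ⊕ ZMod p) := Equiv.sumCongr (swap false true) F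
  let X : Perm (Bool ⊕ ZMod p) := tri u v (Sum.inr 0)
  let t : Fin 2 → Perm (Bool ⊕ ZMod p) := ![A, X]
  let L : FreeGroup (Fin 2) →* Perm (Bool ⊕ ZMod p) := FreeGroup.lift t
  have hLa : L wa = A := FreeGroup.lift_apply_of
  have hLx : L wd = X := FreeGroup.lift_apply_of
  have hAb : ∀ n e, (A ^ n) (Sum.inl e) = Sum.inl e := fun n e =>
    Perm.pow_apply_eq_self_of_apply_eq_self rfl n
  have hAn : ∀ (n : ℕ) (i : ZMod p), (A ^ n) (Sum.inr i) = Sum.inr (i + n) := by
    intro n i
    induction n with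
    | zero => simp
    | succ n ih =>
      rw [pow_succ', Perm.mul_apply, ih]
      simp [A, add_assoc]
  have htri : ∀ n : ℕ, L (wa ^ n * wd * (wa ^ n)⁻¹) = tri u v (Sum.inr (n : ZMod p)) := fun n => by
    rw [map_mul, map_mul, map_inv, map_pow, hLa, hLx, tri_conj, hAn, zero_add, hAb, hAb]
  let WN : Subgroup (FreeGroup (Fin 2)) :=
    Subgroup.closure (Set.range fun n : ℕ => wa ^ n * wd * (wa ^ n)⁻¹)
  have hall : alternatingGroup (Bool ⊕ ZMod p) ≤ WN.map L := by
    refine le_of_tri huv fun w hwu hwv => ?_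
    rcases w with b | i
    · cases b
      exacts [absurd rfl hwu, absurd rfl hwv]
    · exact ⟨_, Subgroup.subset_closure ⟨i.val, rfl⟩, by rw [htri, ZMod.natCast_zmod_val]⟩
  have hAp : A ^ p = 1 := by
    refine Equiv.ext fun w => ?_
    rcases w with b | i
    · rw [hAb, Perm.one_apply]
    · rw [hAn, ZMod.natCast_self, add_zero, Perm.one_apply]
  have hBsign : Perm.sign B = 1 := by
    show Perm.sign (Equiv.sumCongr (swap false true) F) = 1
    rw [Perm.sign_sumCongr, hFs, Perm.sign_swap (by decide)]; rfl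
  obtain ⟨wb, hwb, hLb⟩ := hall (Perm.mem_alternatingGroup.2 hBsign)
  have hX3 : X ^ 3 = 1 := tri_cube huv (hui 0) (hvi 0)
  refine ⟨t, ?_, [wb * wa * wb⁻¹ * (wa ^ r)⁻¹, wa ^ p * (wb ^ (p - 1) * wd ^ 3)⁻¹,
    wb * wd * wb⁻¹ * wd, wd * (wa * wd * wa⁻¹) * (wd * (wa * wd * wa⁻¹))], le_refl _, ?_, ?_⟩
  · refine le_antisymm ?_ (hall.trans ?_)
    · rw [Subgroup.closure_le]
      rintro _ ⟨i, rfl⟩
      fin_cases i
      · show A ∈ alternatingGroup _
        rw [Perm.mem_alternatingGroup]
        have h2 := congrArg Perm.sign hAp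
        rw [map_pow, map_one] at h2
        rcases Int.units_eq_one_or (Perm.sign A) with e | e
        · exact e
        · rw [e, (hp.out.odd_of_ne_two (by omega)).neg_one_pow] at h2
          exact e.trans h2
      · exact tri_mem huv (hvi 0)
    · rw [← FreeGroup.range_lift_eq_closure]
      exact Subgroup.map_le_range _ _
  · intro e he
    simp only [List.mem_cons, List.not_mem_nil, or_false] at he
    have hBu : B u = v := by simp [B, u, v]
    have hBv : B v = u := by simp [B, u, v]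
    have hBi : ∀ i, B (Sum.inr i) = Sum.inr (r * i) := fun i => by simp [B, hF]
    rcases he with rfl | rfl | rfl | rfl
    · show L _ = 1
      rw [map_mul, map_mul, map_mul, map_inv, map_inv, map_pow, hLb, hLa, mul_inv_eq_one,
        mul_inv_eq_iff_eq_mul]
      refine Equiv.ext fun w => ?_
      rw [Perm.mul_apply, Perm.mul_apply]
      rcases w with b | i
      · rw [show A (Sum.inl b) = Sum.inl b from rfl]
        cases b
        · rw [show B (Sum.inl false) = Sum.inl true from hBu, hAb]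
        · rw [show B (Sum.inl true) = Sum.inl false from hBv, hAb]
      · rw [show A (Sum.inr i) = Sum.inr (i + 1) from rfl, hBi, hBi, hAn, mul_add, mul_one]
    · show L _ = 1
      rw [map_mul, map_inv, map_mul, map_pow, map_pow, map_pow, hLa, hLb, hLx, hX3, mul_one, hAp,
        one_mul, inv_eq_one]
      refine Equiv.ext fun w => ?_
      obtain ⟨l, hl⟩ := hp.out.odd_of_ne_two (by omega)
      rw [Perm.one_apply]
      rcases w with b | i
      · rw [show p - 1 = 2 * l by omega, pow_mul]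
        refine Perm.pow_apply_eq_self_of_apply_eq_self ?_ l
        cases b <;> simp [sq, B]
      · have hBn : ∀ n : ℕ, (B ^ n) (Sum.inr i) = Sum.inr ((r : ZMod p) ^ n * i) := by
          intro n
          induction n with
          | zero => simp
          | succ n ih => rw [pow_succ', Perm.mul_apply, ih, hBi, pow_succ', mul_assoc]
        rw [hBn, ZMod.pow_card_sub_one_eq_one hr0, one_mul]
    · show L _ = 1
      rw [map_mul, map_mul, map_mul, map_inv, hLb, hLx, tri_conj, hBu, hBv, hBi, mul_zero,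
        tri_swap huv (hui 0) (hvi 0), inv_mul_cancel]
    · show L _ = 1
      have h1 := htri 1
      rw [pow_one, Nat.cast_one] at h1
      rw [map_mul, map_mul L wd, h1, hLx]
      exact tri_pair huv (hui 0) (hvi 0) (hui 1) (hvi 1) (fun e => zero_ne_one (Sum.inr_injective e))
  · intro G _ π hπ hrels
    have r1 := hrels _ (List.mem_cons_self ..)
    have r2 := hrels (wa ^ p * (wb ^ (p - 1) * wd ^ 3)⁻¹) (by simp)
    have r3 := hrels (wb * wd * wb⁻¹ * wd) (by simp)
    have r4 := hrels (wd * (wa * wd * wa⁻¹) * (wd * (wa * wd * wa⁻¹))) (by simp)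
    simp only [map_mul, map_inv, map_pow, mul_inv_eq_one] at r1 r2 r3 r4
    have hwb' : π wb ∈ Subgroup.closure (Set.range fun n : ℕ => π wa ^ n * π wd * (π wa ^ n)⁻¹) := by
      have := Subgroup.mem_map_of_mem π hwb
      rw [MonoidHom.map_closure, ← Set.range_comp] at this
      simpa [Function.comp_def, map_mul, map_inv, map_pow] using this
    have hagl : AGL G p r (π wa) (π wb) (π wd) :=
      ⟨hp.out, h3, hre, hr0, hprim, r1, r2, eq_inv_of_mul_eq_one_left r3, r4, hwb'⟩
    obtain ⟨hfin, hcard⟩ := hagl.bound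
    have htop : Subgroup.closure ({π wa, π wd} : Set G) = ⊤ := by
      rw [← Set.image_pair (f := π), ← MonoidHom.map_closure,
        show ({wa, wd} : Set (FreeGroup (Fin 2))) = Set.range FreeGroup.of by
          ext y; simp [Fin.exists_fin_two, eq_comm],
        FreeGroup.closure_range_of, ← MonoidHom.range_eq_map]
      exact MonoidHom.range_eq_top.2 hπ
    rw [htop] at hfin hcard
    rw [Subgroup.card_top] at hcard
    exact ⟨Finite.of_equiv _ Subgroup.topEquiv.toEquiv, hcard⟩

/-- Two generators and six relations for the alternating group. -/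
theorem hasPres_alt_six {n : ℕ} (hn : 3 ≤ n) : HasPres 2 ↥(alternatingGroup (Fin n)) 6 := by
  rcases Nat.lt_or_ge n 7 with h7 | h7
  · exact (hasPres_small_alt hn (by omega)).mono (by omega)
  obtain ⟨p, d, hp, hd, rfl⟩ := exists_pd h7
  have : Fact p.Prime := ⟨hp⟩
  rcases Nat.eq_zero_or_pos d with rfl | hd1
  · have : Nontrivial (Bool ⊕ ZMod p) := ⟨⟨.inl false, .inl true, by simp⟩⟩
    obtain ⟨t, ht, L, hL, hold, hb⟩ := plain p (by omega)
    have hc : Fintype.card (Bool ⊕ ZMod p) = p + 0 + 2 := by simp; omega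
    exact (hasPres_alt t ht L (hL.trans (by omega)) hold fun G _ π hπ h φ hφ => by
      have := hb G π hπ h
      rwa [show Fintype.card (Bool ⊕ ZMod p) = p + 2 by omega]).congr
        (Fintype.equivFinOfCardEq hc).altCongrHom
  · have : Nontrivial (Pts p d) := ⟨⟨.inl (.inl false), .inl (.inl true), by simp⟩⟩
    obtain ⟨t, ht, L, hL, hold, hb⟩ := glued_six p d hd hd1
    have hc : Fintype.card (Pts p d) = p + d + 2 := by simp; omega
    exact (hasPres_alt t ht L hL hold fun G _ π hπ h φ hφ => by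
      have := hb G π hπ h φ hφ
      rwa [← hc] at this).congr (Fintype.equivFinOfCardEq hc).altCongrHom

/-- A superfluous generator. -/
theorem HasPres.three {T : Type} [Group T] {K : ℕ} (h : HasPres 2 T K) :
    ∃ rels : Finset (FreeGroup (Fin 3)), rels.card ≤ K + 1 ∧
      Nonempty (PresentedGroup (↑rels : Set (FreeGroup (Fin 3))) ≃* T) := by
  obtain ⟨t, -, rels, hr, e, he⟩ := h
  obtain ⟨rels', hr', he'⟩ := addOne t rels e he
  exact ⟨rels', hr'.trans (by omega), he'⟩

end CfsgLib.Pres.Short
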