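import Cfsg.Agent.Lib.Pres.SLTwo

/-!
# A redundant relation in short presentations of `SL₂`

If the conjugates of `u` by powers of `h ^ b` commute, `u^{h^a} = u * u^{h^b}` and `u^h` is the value of a well
chosen polynomial at `h ^ b`, then the minimal polynomial relation follows.
-/

set_option autoImplicit false

namespace CfsgLib.Pres

open Polynomial

variable {F : Type*} [Field F] {p : ℕ} [Fact p.Prime] [Algebra (ZMod p) F]

/-- The choice of the polynomial. -/
theorem exists_good_poly [Fintype F] {x θ : F} (hθ : θ ≠ 0) {a b : ℕ} (hb : (b : F) ≠ 0) (hb0 : 0 < b)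
    (hbx : θ ^ b = x) (hax : θ ^ a = 1 + x) {n : ℕ} (B : Module.Basis (Fin n) (ZMod p) F)
    (hB : ∀ i : Fin n, B i = x ^ (i : ℕ)) :
    ∃ P : (ZMod p)[X], aeval x P = θ ∧ ∀ R : (ZMod p)[X], aeval x R = 0 →
      R ∈ Ideal.span ({P ^ b - X, (1 + X) ^ b - X ^ a} : Set (ZMod p)[X]) := by
  classical
  set m := minpoly (ZMod p) x with hm
  have hint : IsIntegral (ZMod p) x := Algebra.IsIntegral.isIntegral x
  have hirr : Irreducible m := minpoly.irreducible hint
  have hroot : ∀ R : (ZMod p)[X], aeval x R = 0 ↔ m ∣ R := fun R => (minpoly.dvd_iff (A := ZMod p) (x := x)).symm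
  suffices h : ∃ P : (ZMod p)[X], aeval x P = θ ∧ m ∈ Ideal.span ({P ^ b - X, (1 + X) ^ b - X ^ a} : Set (ZMod p)[X]) by
    obtain ⟨P, h1, h2⟩ := h
    exact ⟨P, h1, fun R hR => Ideal.mem_of_dvd _ ((hroot R).1 hR) h2⟩
  set f : (ZMod p)[X] := (1 + X) ^ b - X ^ a with hf
  have ha0 : 0 < a := by
    rcases Nat.eq_zero_or_pos a with rfl | h
    · rw [pow_zero, left_eq_add] at hax
      rw [hax] at hbx
      exact absurd (eq_zero_of_pow_eq_zero hbx) hθ
    · exact h
  have hf0 : f.coeff 0 = 1 := by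
    rw [hf, coeff_sub, coeff_zero_eq_eval_zero, coeff_zero_eq_eval_zero]
    simp [ha0.ne']
  have hfne : f ≠ 0 := fun e => by rw [e, coeff_zero] at hf0; exact zero_ne_one hf0
  have hfroot : aeval x f = 0 := by
    rw [hf, map_sub, map_pow, map_pow, map_add, map_one, aeval_X, ← hax, ← hbx, ← pow_mul, ← pow_mul, mul_comm a b,
      sub_self]
  obtain ⟨e, f', hf'm, hfe⟩ := WfDvdMonoid.max_power_factor hfne hirr
  have he : e ≠ 0 := by
    rintro rfl
    rw [pow_zero, one_mul] at hfe
    exact hf'm (hfe ▸ (hroot f).1 hfroot)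
  obtain ⟨e', rfl⟩ := Nat.exists_eq_succ_of_ne_zero he
  obtain ⟨u, v, huv⟩ : IsCoprime (m ^ 2) f' := ((hirr.coprime_iff_not_dvd).2 hf'm).pow_left
  -- a polynomial with value `θ`
  let P0 : (ZMod p)[X] := ∑ i, C (B.repr θ i) * X ^ (i : ℕ)
  have hP0 : aeval x P0 = θ := by
    simp only [P0, map_sum, map_mul, aeval_C, map_pow, aeval_X]
    conv_rhs => rw [← B.sum_repr θ]
    exact Finset.sum_congr rfl fun i _ => by rw [Algebra.smul_def, hB]
  have hmx : aeval x m = 0 := minpoly.aeval _ _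
  have hQ : aeval x (v * f') = 1 := by
    have := congrArg (aeval x) huv
    rw [map_add, map_one, map_mul, map_pow, hmx] at this
    simpa using this
  -- avoid a double root
  obtain ⟨δ, hδ⟩ : ∃ δ : (ZMod p)[X], ¬ m ^ 2 ∣ (P0 + δ * m) ^ b - X := by
    by_contra hcon
    simp only [not_exists, not_not] at hcon
    have h1 := hcon 0
    have h2 := hcon 1
    rw [zero_mul, add_zero] at h1
    rw [one_mul] at h2
    have h3 := dvd_sub h2 h1
    rw [sub_sub_sub_cancel_right, ← geom_sum₂_mul, add_sub_cancel_left, sq] at h3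
    have h4 := (hroot _).2 ((mul_dvd_mul_iff_right hirr.ne_zero).1 h3)
    simp only [map_sum, map_mul, map_pow, map_add, hP0, hmx, add_zero] at h4
    rw [show ∑ i ∈ Finset.range b, θ ^ i * θ ^ (b - 1 - i) = ∑ _i ∈ Finset.range b, θ ^ (b - 1) from
      Finset.sum_congr rfl fun i hi => by rw [← pow_add]; congr 1; have := Finset.mem_range.1 hi; omega,
      Finset.sum_const, Finset.card_range, nsmul_eq_mul] at h4
    exact mul_ne_zero hb (pow_ne_zero _ hθ) h4
  set P := (P0 + δ * m) * (v * f') with hP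
  have hPx : aeval x P = θ := by
    rw [hP, map_mul, hQ, mul_one, map_add, map_mul, hmx, mul_zero, add_zero, hP0]
  refine ⟨P, hPx, ?_⟩
  obtain ⟨Gq, hGq⟩ : m ∣ P ^ b - X := (hroot _).1 (by rw [map_sub, map_pow, hPx, aeval_X, hbx, sub_self])
  have hGqm : ¬ m ∣ Gq := by
    intro hd
    refine hδ ?_
    have h1 : m ^ 2 ∣ P - (P0 + δ * m) := by
      refine ⟨-((P0 + δ * m) * u), ?_⟩
      rw [hP]
      linear_combination (P0 + δ * m) * huv
    have h2 : m ^ 2 ∣ P ^ b - (P0 + δ * m) ^ b := h1.trans (sub_dvd_pow_sub_pow _ _ _)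
    have h3 : m ^ 2 ∣ P ^ b - X := by rw [hGq, sq]; exact mul_dvd_mul_left _ hd
    have := dvd_sub h3 h2
    rwa [show P ^ b - X - (P ^ b - (P0 + δ * m) ^ b) = (P0 + δ * m) ^ b - X by ring] at this
  have hX : IsCoprime (X : (ZMod p)[X]) f' := by
    refine (irreducible_X.coprime_iff_not_dvd).2 fun hd => ?_
    have : (X : (ZMod p)[X]) ∣ f := hd.trans ⟨m ^ (e' + 1), by rw [hfe, mul_comm]⟩
    rw [X_dvd_iff, hf0] at this
    exact one_ne_zero this
  have hG : IsCoprime (P ^ b - X) f' := by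
    obtain ⟨k, hk⟩ : f' ∣ P ^ b := (show f' ∣ P from ⟨(P0 + δ * m) * v, by rw [hP]; ring⟩).trans
      (dvd_pow_self _ hb0.ne')
    rw [hk, sub_eq_neg_add, add_comm, mul_comm, ← sub_eq_add_neg]
    obtain ⟨r, s, hrs⟩ := hX
    exact ⟨-r, s + r * k, by linear_combination hrs⟩
  rw [hGq] at hG
  obtain ⟨r, s, hrs⟩ : IsCoprime Gq (m ^ e' * f') :=
    ((((hirr.coprime_iff_not_dvd).2 hGqm).symm).pow_right).mul_right hG.of_mul_left_right
  rw [Ideal.mem_span_pair]
  refine ⟨r, s, ?_⟩
  rw [hGq, hfe, pow_succ]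
  linear_combination m * hrs

/-- Coefficients of a polynomial, as natural numbers. -/
noncomputable def pcoeff (P : (ZMod p)[X]) : Fin (P.natDegree + 1) → ℕ := fun i => (P.coeff i).val

/-- The computation in the module. -/
theorem kill_module {V : Type*} [AddCommGroup V] [Module (ZMod p) V] (H Xe : Module.End (ZMod p) V) (U : ℕ → V)
    (hU : ∀ i, Xe (U i) = U (i + 1)) (hgen : Submodule.span (ZMod p) (Set.range U) = ⊤) {a b : ℕ}
    (hHX : H ^ b = Xe) (P : (ZMod p)[X]) (hH : H (U 0) = aeval Xe P (U 0))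
    (hHa : (H ^ a) (U 0) = U 0 + U 1) (R : (ZMod p)[X])
    (hR : R ∈ Ideal.span ({P ^ b - X, (1 + X) ^ b - X ^ a} : Set (ZMod p)[X])) :
    aeval Xe R (U 0) = 0 := by
  have hXpow : ∀ i, (Xe ^ i) (U 0) = U i := by
    intro i
    induction i with
    | zero => simp
    | succ i ih => rw [pow_succ', Module.End.mul_apply, ih, hU]
  have hext : ∀ f g : Module.End (ZMod p) V, Commute f Xe → Commute g Xe → f (U 0) = g (U 0) → f = g := by
    intro f g hf hg h0
    refine LinearMap.ext_on_range hgen fun i => ?_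
    have e1 := congrArg (fun k : Module.End (ZMod p) V => k (U 0)) (hf.pow_right i).eq
    have e2 := congrArg (fun k : Module.End (ZMod p) V => k (U 0)) (hg.pow_right i).eq
    simp only [Module.End.mul_apply, hXpow] at e1 e2
    rw [e1, e2, h0]
  have hHP : H = aeval Xe P := by
    refine hext _ _ (hHX ▸ Commute.self_pow H b) ?_ hH
    have := (Commute.all P (X : (ZMod p)[X])).map (aeval Xe)
    rwa [aeval_X] at this
  have hHa' : H ^ a = 1 + Xe := by
    refine hext _ _ (hHX ▸ Commute.pow_pow_self H a b) ((Commute.one_left _).add_left (Commute.refl _)) ?_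
    rw [hHa, LinearMap.add_apply, Module.End.one_apply, hU]
  obtain ⟨r, s, hrs⟩ := Ideal.mem_span_pair.1 hR
  rw [← hrs, map_add, map_mul, map_mul, map_sub, map_pow, ← hHP, aeval_X, hHX, sub_self, mul_zero, zero_add,
    map_sub, map_pow, map_add, map_one, map_pow, aeval_X, ← hHa', ← hHX, ← pow_mul, ← pow_mul, mul_comm a b,
    sub_self, mul_zero, LinearMap.zero_apply]

/-- The two equations, given the abelian group of the conjugates. -/
theorem derived_module {G : Type*} [Group G] {M : Type*} [AddCommGroup M] [Module (ZMod p) M] (h u : G) (x θ : F)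
    {a b n : ℕ} (B : Module.Basis (Fin n) (ZMod p) F) (hB : ∀ i : Fin n, B i = x ^ (i : ℕ)) (P : (ZMod p)[X])
    (hP : aeval x P = θ)
    (hgood : ∀ R : (ZMod p)[X], aeval x R = 0 →
      R ∈ Ideal.span ({P ^ b - X, (1 + X) ^ b - X ^ a} : Set (ZMod p)[X]))
    (val : M → G) (hinj : Function.Injective val) (hadd : ∀ g k, val (g + k) = val g * val k) (U : ℕ → M)
    (hU : ∀ i, val (U i) = h ^ (b * i) * u * (h ^ (b * i))⁻¹)
    (hgenM : AddSubgroup.closure (Set.range U) = ⊤)
    (eH eX : M →+ M) (heH : ∀ g, val (eH g) = h * val g * h⁻¹)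
    (heX : ∀ g, val (eX g) = h ^ b * val g * (h ^ b)⁻¹)
    (hsum : h ^ a * u * (h ^ a)⁻¹ = u * (h ^ b * u * (h ^ b)⁻¹))
    (hs : h * u * h⁻¹ = wd h u b (pcoeff P)) :
    h ^ (b * n) * u * (h ^ (b * n))⁻¹ = wd h u b (coord B (x ^ n)) ∧ h * u * h⁻¹ = wd h u b (coord B θ) := by
  let H : Module.End (ZMod p) M := eH.toZModLinearMap p
  let Xe : Module.End (ZMod p) M := eX.toZModLinearMap p
  have hXU : ∀ i, Xe (U i) = U (i + 1) := fun i => hinj (by
    show val (eX (U i)) = _
    rw [heX, hU, hU, mul_add, mul_one, add_comm (b * i), pow_add]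
    group)
  have hgen : Submodule.span (ZMod p) (Set.range U) = ⊤ := by
    rw [eq_top_iff]
    rintro g -
    have hg : g ∈ AddSubgroup.closure (Set.range U) := hgenM ▸ AddSubgroup.mem_top g
    exact (AddSubgroup.closure_le (Submodule.span (ZMod p) (Set.range U)).toAddSubgroup).2 Submodule.subset_span hg
  have h0 : val 0 = 1 := by
    have := hadd 0 0
    rwa [add_zero, left_eq_mul] at this
  let ν : Multiplicative M →* G := MonoidHom.mk' (fun g => val g.toAdd) fun g k => hadd _ _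
  have hwdU : ∀ {N : ℕ} (c : Fin N → ℕ), val (∑ i : Fin N, c i • U i) = wd h u b c := by
    intro N c
    show ν (Multiplicative.ofAdd (∑ i : Fin N, c i • U i)) = _
    rw [ofAdd_sum, ← List.prod_ofFn, map_list_prod, List.map_ofFn, wd]
    refine congrArg (fun f => (List.ofFn f).prod) (funext fun i => ?_)
    show ν (Multiplicative.ofAdd (c i • U i)) = _
    rw [ofAdd_nsmul, map_pow]
    exact congrArg (· ^ c i) (hU i)
  have hHpow : ∀ (k : ℕ) (g : M), val ((H ^ k) g) = h ^ k * val g * (h ^ k)⁻¹ := by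
    intro k
    induction k with
    | zero => intro g; simp
    | succ k ih =>
      intro g
      rw [pow_succ', Module.End.mul_apply]
      show val (eH _) = _
      rw [heH, ih, pow_succ']
      group
  have hXpow : ∀ i, (Xe ^ i) (U 0) = U i := by
    intro i
    induction i with
    | zero => simp
    | succ i ih => rw [pow_succ', Module.End.mul_apply, ih, hXU]
  have hev : ∀ {N : ℕ} (d : Fin N → ZMod p), aeval Xe (∑ i : Fin N, C (d i) * X ^ (i : ℕ)) (U 0) =
      ∑ i : Fin N, (d i).val • U i := by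
    intro N d
    simp only [map_sum, map_mul, map_pow, aeval_X, aeval_C, LinearMap.sum_apply, Module.End.mul_apply, hXpow,
      Module.algebraMap_end_apply]
    exact Finset.sum_congr rfl fun i _ => by rw [← Nat.cast_smul_eq_nsmul (ZMod p), ZMod.natCast_zmod_val]
  have hHX : H ^ b = Xe := LinearMap.ext fun g => hinj (by rw [hHpow]; exact (heX g).symm)
  have hPsum : ∑ i : Fin (P.natDegree + 1), C (P.coeff i) * X ^ (i : ℕ) = P := by
    rw [Fin.sum_univ_eq_sum_range (fun i => C (P.coeff i) * X ^ i)]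
    exact P.as_sum_range_C_mul_X_pow.symm
  have hu0 : val (U 0) = u := by rw [hU]; simp
  have hH : H (U 0) = aeval Xe P (U 0) := hinj (by
    show val (eH (U 0)) = _
    rw [heH, hu0, hs]
    conv_rhs => rw [← hPsum, hev, hwdU]
    rfl)
  have hHa : (H ^ a) (U 0) = U 0 + U 1 := hinj (by rw [hHpow, hu0, hadd, hu0, hU, mul_one, hsum])
  let Q : F → (ZMod p)[X] := fun c => ∑ i : Fin n, C (B.repr c i) * X ^ (i : ℕ)
  have hQx : ∀ c, aeval x (Q c) = c := fun c => by
    simp only [Q, map_sum, map_mul, aeval_C, map_pow, aeval_X]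
    conv_rhs => rw [← B.sum_repr c]
    exact Finset.sum_congr rfl fun i _ => by rw [Algebra.smul_def, hB]
  have key : ∀ (R : (ZMod p)[X]) (c : F), aeval x R = c → val (aeval Xe R (U 0)) = wd h u b (coord B c) := by
    intro R c hc
    have h0 := kill_module H Xe U hXU hgen hHX P hH hHa (R - Q c) (hgood _ (by rw [map_sub, hc, hQx, sub_self]))
    rw [map_sub, LinearMap.sub_apply, sub_eq_zero] at h0
    rw [h0, hev]
    exact hwdU _
  constructor
  · have := key (X ^ n) (x ^ n) (by rw [map_pow, aeval_X])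
    rwa [map_pow, aeval_X, hXpow, hU] at this
  · have := key P θ hP
    rw [← hH] at this
    rw [← this]
    show _ = val (eH (U 0))
    rw [heH, hu0]

/-- The two equations following from the others. -/
theorem derived_eqs {G : Type*} [Group G] (h u : G) (x θ : F) {a b n : ℕ}
    (B : Module.Basis (Fin n) (ZMod p) F) (hB : ∀ i : Fin n, B i = x ^ (i : ℕ)) (P : (ZMod p)[X])
    (hP : aeval x P = θ)
    (hgood : ∀ R : (ZMod p)[X], aeval x R = 0 →
      R ∈ Ideal.span ({P ^ b - X, (1 + X) ^ b - X ^ a} : Set (ZMod p)[X]))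
    (hu : u ^ p = 1)
    (hcomm : ∀ i j : ℕ, Commute (h ^ (b * i) * u * (h ^ (b * i))⁻¹) (h ^ (b * j) * u * (h ^ (b * j))⁻¹))
    (hsum : h ^ a * u * (h ^ a)⁻¹ = u * (h ^ b * u * (h ^ b)⁻¹))
    (hs : h * u * h⁻¹ = wd h u b (pcoeff P)) :
    h ^ (b * n) * u * (h ^ (b * n))⁻¹ = wd h u b (coord B (x ^ n)) ∧ h * u * h⁻¹ = wd h u b (coord B θ) := by
  classical
  set T : ℕ → G := fun i => h ^ (b * i) * u * (h ^ (b * i))⁻¹ with hT
  set K := Subgroup.closure (Set.range T) with hK
  have hcc : IsMulCommutative K := Subgroup.isMulCommutative_closure (by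
    rintro _ ⟨i, rfl⟩ _ ⟨j, rfl⟩
    exact (hcomm i j).eq)
  let cK : CommGroup K := { (inferInstance : Group K) with mul_comm := fun a b => hcc.is_comm.comm a b }
  have hmem : ∀ i, T i ∈ K := fun i => Subgroup.subset_closure ⟨i, rfl⟩
  have hshift : ∀ i j, h ^ (b * i) * T j * (h ^ (b * i))⁻¹ = T (i + j) := fun i j => by
    simp only [hT, mul_add, pow_add]
    group
  have hsh : ∀ (i : ℕ), ∀ g ∈ K, h ^ (b * i) * g * (h ^ (b * i))⁻¹ ∈ K := by
    intro i g hg
    refine (Subgroup.closure_le (K.comap (MulAut.conj (h ^ (b * i))).toMonoidHom)).2 ?_ hg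
    rintro _ ⟨j, rfl⟩
    show h ^ (b * i) * T j * (h ^ (b * i))⁻¹ ∈ K
    rw [hshift]
    exact hmem _
  have hh : ∀ g ∈ K, h * g * h⁻¹ ∈ K := by
    intro g hg
    refine (Subgroup.closure_le (K.comap (MulAut.conj h).toMonoidHom)).2 ?_ hg
    rintro _ ⟨j, rfl⟩
    show h * T j * h⁻¹ ∈ K
    rw [hT, show h * (h ^ (b * j) * u * (h ^ (b * j))⁻¹) * h⁻¹ = h ^ (b * j) * (h * u * h⁻¹) * (h ^ (b * j))⁻¹ by
      rw [← mul_assoc, ← mul_assoc, (Commute.self_pow h (b * j)).eq]; group, hs]
    refine hsh j _ ?_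
    rw [wd]
    refine Subgroup.list_prod_mem _ fun g hg => ?_
    obtain ⟨i, rfl⟩ := List.mem_ofFn.1 hg
    exact K.pow_mem (hmem i) _
  have hTp : ∀ g : K, g ^ p = 1 := by
    rintro ⟨g, hg⟩
    refine Subtype.ext ?_
    show g ^ p = 1
    induction hg using Subgroup.closure_induction with
    | mem y hy => obtain ⟨i, rfl⟩ := hy; simp only [hT, conj_pow, hu, mul_one, mul_inv_cancel]
    | one => exact one_pow p
    | mul y z hy hz ey ez =>
      rw [(show Commute y z from congrArg Subtype.val (hcc.is_comm.comm (⟨y, hy⟩ : K) ⟨z, hz⟩)).mul_pow, ey, ez,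
        one_mul]
    | inv y _ ey => rw [inv_pow, ey, inv_one]
  refine @derived_module F _ p _ _ G _ (Additive K) (@Additive.addCommGroup K cK)
    (@AddCommGroup.zmodModule p (Additive K) (@Additive.addCommGroup K cK) fun g => hTp (Additive.toMul g))
    h u x θ a b n B hB P hP hgood (fun g => ((Additive.toMul g : K) : G))
    (fun g k e => Additive.toMul.injective (Subtype.ext e)) (fun g k => rfl)
    (fun i => Additive.ofMul ⟨T i, hmem i⟩) (fun i => rfl) ?_
    (MonoidHom.toAdditive (MonoidHom.mk' (fun g : K => ⟨h * g * h⁻¹, hh g g.2⟩) fun g k => Subtype.ext (by simp)))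
    (MonoidHom.toAdditive (MonoidHom.mk' (fun g : K => ⟨h ^ b * g * (h ^ b)⁻¹, by simpa using hsh 1 g g.2⟩)
      fun g k => Subtype.ext (by simp [mul_assoc])))
    (fun g => rfl) (fun g => rfl) hsum hs
  rw [eq_top_iff]
  rintro g -
  suffices hh' : ∀ y (hy : y ∈ K), Additive.ofMul (⟨y, hy⟩ : K) ∈
      AddSubgroup.closure (Set.range fun i => Additive.ofMul (⟨T i, hmem i⟩ : K)) from hh' _ (Additive.toMul g).2
  intro y hy
  induction hy using Subgroup.closure_induction with
  | mem y hy => obtain ⟨i, rfl⟩ := hy; exact AddSubgroup.subset_closure ⟨i, rfl⟩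
  | one => exact AddSubgroup.zero_mem _
  | mul y z hy hz ey ez => exact AddSubgroup.add_mem _ ey ez
  | inv y hy ey => exact AddSubgroup.neg_mem _ ey

end CfsgLib.Pres
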