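import Cfsg.Agent.Lib.Pres.SLTwo
import Cfsg.Agent.Lib.KnownB.SLnSteinberg

/-!
# From a rank-one homomorphism and an element of order three to the Steinberg relations of `SL₃`
-/

set_option autoImplicit false

namespace CfsgLib.Pres

open Matrix
open scoped MatrixGroups
open CfsgLib.Classical (uElt uElt_val uElt_add)

variable {F : Type*} [Field F]

/-- The lower unitriangular element. -/
def lElt (t : F) : SL(2, F) := wElt F * uElt (-t) * (wElt F)⁻¹

/-- The matrix of a conjugate by `diag (c, 1)`. -/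
def dMat (c : Fˣ) (M : Matrix (Fin 2) (Fin 2) F) : Matrix (Fin 2) (Fin 2) F :=
  !![M 0 0, (c : F) * M 0 1; ((c⁻¹ : Fˣ) : F) * M 1 0, M 1 1]

theorem dMat_mul (c : Fˣ) (M N : Matrix (Fin 2) (Fin 2) F) : dMat c (M * N) = dMat c M * dMat c N := by
  ext i j
  fin_cases i <;> fin_cases j <;> simp [dMat, Matrix.mul_apply, Fin.sum_univ_two] <;> field_simp

/-- Conjugation by `diag (c, 1)`. -/
def dConj (c : Fˣ) : SL(2, F) →* SL(2, F) :=
  MonoidHom.mk' (fun M => ⟨dMat c M, by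
    have h := M.2
    rw [Matrix.det_fin_two] at h
    rw [dMat, Matrix.det_fin_two_of, Units.val_inv_eq_inv_val]
    field_simp
    linear_combination h⟩) fun M N => Subtype.ext (by
      show dMat c ((M * N : SL(2, F)) : Matrix (Fin 2) (Fin 2) F) = _
      rw [Matrix.SpecialLinearGroup.coe_mul, dMat_mul]
      rfl)

theorem dConj_val (c : Fˣ) (M : SL(2, F)) :
    ((dConj c M : SL(2, F)) : Matrix (Fin 2) (Fin 2) F) = dMat c (M : Matrix (Fin 2) (Fin 2) F) := rfl

theorem dConj_uElt (c : Fˣ) (t : F) : dConj c (uElt t) = uElt ((c : F) * t) := by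
  refine Subtype.ext ?_
  ext i j
  fin_cases i <;> fin_cases j <;> simp [dConj_val, dMat, uElt_val]

theorem dConj_dElt (c z : Fˣ) : dConj c (dElt z) = dElt z := by
  refine Subtype.ext ?_
  rw [dConj_val]
  ext i j
  fin_cases i <;> fin_cases j <;> simp [dConj_val, dMat, dElt]

theorem dConj_wElt (c : Fˣ) : dConj c (wElt F) = dElt c * wElt F := by
  refine Subtype.ext ?_
  rw [dConj_val, Matrix.SpecialLinearGroup.coe_mul]
  ext i j
  fin_cases i <;> fin_cases j <;> simp [dConj_val, dMat, dElt, wElt, Matrix.mul_apply, Fin.sum_univ_two]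

theorem lElt_val (t : F) : (lElt t : Matrix (Fin 2) (Fin 2) F) = !![1, 0; t, 1] := by
  rw [lElt, Matrix.SpecialLinearGroup.coe_mul, Matrix.SpecialLinearGroup.coe_mul, Matrix.SpecialLinearGroup.coe_inv,
    uElt_val]
  ext i j
  fin_cases i <;> fin_cases j <;> simp [wElt, Matrix.mul_apply, Fin.sum_univ_two, Matrix.adjugate_fin_two]

theorem dConj_lElt (c : Fˣ) (t : F) : dConj c (lElt t) = lElt (((c⁻¹ : Fˣ) : F) * t) := by
  refine Subtype.ext ?_
  ext i j
  fin_cases i <;> fin_cases j <;> simp [dConj_val, dMat, lElt_val]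

theorem lElt_add (s t : F) : lElt (s + t) = lElt s * lElt t := by
  rw [lElt, lElt, lElt, neg_add, uElt_add]
  group

theorem dElt_conj_lElt (z : Fˣ) (t : F) : dElt z * lElt t * (dElt z)⁻¹ = lElt ((((z⁻¹ : Fˣ) : F)) ^ 2 * t) := by
  rw [mul_inv_eq_iff_eq_mul]
  refine Subtype.ext ?_
  rw [Matrix.SpecialLinearGroup.coe_mul, Matrix.SpecialLinearGroup.coe_mul, lElt_val, lElt_val]
  ext i j
  fin_cases i <;> fin_cases j <;> simp [dElt, Matrix.mul_apply, Fin.sum_univ_two]
  field_simp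

theorem wElt_inv_conj (t : F) : (wElt F)⁻¹ * uElt t * wElt F = lElt (-t) := by
  refine Subtype.ext ?_
  rw [Matrix.SpecialLinearGroup.coe_mul, Matrix.SpecialLinearGroup.coe_mul, Matrix.SpecialLinearGroup.coe_inv,
    uElt_val, lElt_val]
  ext i j
  fin_cases i <;> fin_cases j <;> simp [wElt, Matrix.mul_apply, Fin.sum_univ_two, Matrix.adjugate_fin_two]

theorem wElt_inv_conj_lElt (t : F) : (wElt F)⁻¹ * lElt t * wElt F = uElt (-t) := by
  rw [lElt]
  group

variable {p : ℕ} [Fact p.Prime] [Algebra (ZMod p) F] [Fintype F]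

/-- A biadditive torus-invariant relation holding at one pair holds everywhere. -/
theorem propagate {n : ℕ} (hn : Fintype.card F = p ^ n) (ω : Fˣ) (hω : ∀ y : Fˣ, y ∈ Subgroup.zpowers ω)
    (P : F → F → Prop) (s1 t1 s2 t2 : F) (hs2 : s2 = ((ω⁻¹ : Fˣ) : F)) (hk : s1 * s2 ^ 2 = 1)
    (hmove : ∀ d, 0 < d → 2 * d ≤ n → Fintype.card F ≠ 4 → (t1 * t2 ^ 2) ^ p ^ d ≠ t1 * t2 ^ 2)
    (ht2 : t2 ≠ 0)
    (h0 : ∀ t, P 0 t) (hzero : ∀ s, P s 0) (hadd : ∀ s a b, P s a → P s b → P s (a + b))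
    (hT1 : ∀ s t, P s t → P (s1 * s) (t1 * t)) (hT2 : ∀ s t, P s t → P (s2 * s) (t2 * t))
    (hb : P 1 1) (hb4 : Fintype.card F = 4 → P 1 (ω : F)) : ∀ s t, P s t := by
  classical
  have hsub : ∀ (B : Module.Basis (Fin n) (ZMod p) F), (∀ i, P 1 (B i)) → ∀ t, P 1 t := by
    intro B hB t
    rw [← sum_coord B t]
    refine Finset.sum_induction _ (P 1) (hadd 1) (hzero 1) fun i _ => ?_
    induction coord B t i with
    | zero => rw [zero_smul]; exact hzero 1
    | succ k ih => rw [succ_nsmul]; exact hadd 1 _ _ ih (hB i)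
  have hone : ∀ t, P 1 t := by
    by_cases h4 : Fintype.card F = 4
    · obtain ⟨B, hB⟩ := exists_power_basis (p := p) (ω : F) hn (fun d hd hdn e => by
        have h := hn.symm.trans h4
        have hp := (Fact.out : p.Prime).two_le
        have h2 : p ^ (2 * d) ≤ 4 := h ▸ Nat.pow_le_pow_right (by omega) hdn
        have h3 : p ^ d ≤ 2 := by
          rw [mul_comm, pow_mul] at h2
          by_contra h3
          have : 3 ^ 2 ≤ (p ^ d) ^ 2 := Nat.pow_le_pow_left (by omega) 2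
          omega
        have h4' : p ^ d = 2 := le_antisymm h3 (hp.trans (Nat.le_self_pow hd.ne' p))
        rw [h4', sq, mul_eq_left₀ ω.ne_zero] at e
        have hω1 : ω = 1 := Units.ext e
        have := orderOf_eq_card_of_forall_mem_zpowers hω
        rw [hω1, orderOf_one, Nat.card_units, Nat.card_eq_fintype_card, h4] at this
        omega)
      refine hsub B fun i => ?_
      have hi : (i : ℕ) = 0 ∨ (i : ℕ) = 1 := by
        have h := hn.symm.trans h4
        have hp := (Fact.out : p.Prime).two_le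
        have : 2 ^ n ≤ 2 ^ 2 := (Nat.pow_le_pow_left hp n).trans (by rw [h]; norm_num)
        have := (Nat.pow_le_pow_iff_right (by norm_num : 1 < 2)).1 this
        omega
      rcases hi with hi | hi <;> rw [hB, hi]
      · rwa [pow_zero]
      · rw [pow_one]; exact hb4 h4
    · obtain ⟨B, hB⟩ := exists_power_basis (p := p) (t1 * t2 ^ 2) hn (fun d hd hdn => hmove d hd hdn h4)
      refine hsub B fun i => ?_
      rw [hB]
      induction (i : ℕ) with
      | zero => rwa [pow_zero]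
      | succ k ih =>
        have := hT1 _ _ (hT2 _ _ (hT2 _ _ ih))
        rwa [mul_one, ← sq, hk, ← mul_assoc t2, ← sq, ← mul_assoc, ← pow_succ'] at this
  have hpow : ∀ k : ℕ, ∀ t, P (s2 ^ k) t := by
    intro k
    induction k with
    | zero => intro t; rw [pow_zero]; exact hone t
    | succ k ih =>
      intro t
      have := hT2 _ _ (ih (t / t2))
      rwa [← pow_succ', mul_div_cancel₀ _ ht2] at this
  intro s t
  rcases eq_or_ne s 0 with rfl | hs
  · exact h0 t
  obtain ⟨j, hj⟩ := (isOfFinOrder_of_finite ω).mem_powers_iff_mem_zpowers.2 (hω (Units.mk0 s hs)⁻¹)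
  have hs' : s2 ^ j = s := by
    rw [hs2, ← Units.val_pow_eq_pow_val, inv_pow, show ω ^ j = (Units.mk0 s hs)⁻¹ from hj, inv_inv, Units.val_mk0]
  rw [← hs']
  exact hpow j t

omit [Algebra (ZMod p) F] in
/-- The cube of a generator moves. -/
theorem cube_moved {n : ℕ} (hn : Fintype.card F = p ^ n) (ω : Fˣ) (hω : ∀ y : Fˣ, y ∈ Subgroup.zpowers ω)
    {d : ℕ} (hd : 0 < d) (hdn : 2 * d ≤ n) (h4 : Fintype.card F ≠ 4) {e : Fˣ} (he : e = ω ^ 3 ∨ e = (ω ^ 3)⁻¹) :
    (e : F) ^ p ^ d ≠ (e : F) := by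
  intro h
  have h' : e ^ p ^ d = e := Units.ext (by rw [Units.val_pow_eq_pow_val]; exact h)
  have h1 : (ω ^ 3) ^ p ^ d = ω ^ 3 := by
    rcases he with rfl | rfl
    · exact h'
    · rwa [inv_pow, _root_.inv_inj] at h'
  have hp := (Fact.out : p.Prime).two_le
  have hpd : 2 ≤ p ^ d := hp.trans (Nat.le_self_pow hd.ne' p)
  have h2 : ω ^ (3 * (p ^ d - 1)) = 1 := by
    rw [pow_mul]
    refine mul_right_cancel (b := ω ^ 3) ?_
    rw [← pow_succ, Nat.sub_add_cancel (by omega), one_mul, h1]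
  have hord : orderOf ω = p ^ n - 1 := by
    rw [orderOf_eq_card_of_forall_mem_zpowers hω, Nat.card_units, Nat.card_eq_fintype_card, hn]
  have h3 : p ^ n - 1 ≤ 3 * (p ^ d - 1) := Nat.le_of_dvd (by omega) (hord ▸ orderOf_dvd_of_pow_eq_one h2)
  have h5 : p ^ d * p ^ d ≤ p ^ n := by rw [← pow_add]; exact Nat.pow_le_pow_right (by omega) (by omega)
  have h6 : p ^ d = 2 := by
    by_contra hne
    have : 3 * p ^ d ≤ p ^ d * p ^ d := Nat.mul_le_mul_right _ (by omega)
    omega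
  rw [h6] at h3 h5
  exact h4 (by omega)

variable {G : Type*} [Group G]

/-- The glueing. -/
theorem sl_three_fam {n : ℕ} (hn : Fintype.card F = p ^ n) (ω : Fˣ) (hω : ∀ y : Fˣ, y ∈ Subgroup.zpowers ω)
    (N : ℕ) (hN : ω ^ N = -1) (φ : SL(2, F) →* G) (c : G) (hc : c * c * c = 1)
    (hinvol : φ (wElt F) * c⁻¹ * φ (wElt F) * c⁻¹ = 1)
    (hprod : φ (dElt ω) * (c * φ (dElt ω) * c⁻¹) * (c⁻¹ * φ (dElt ω) * c) = 1)
    (hδ : ∀ M, (c⁻¹ * φ (dElt ω) * c)⁻¹ * φ M * (c⁻¹ * φ (dElt ω) * c) = φ (dConj ω M))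
    (hB : Commute (φ (uElt 1)) (c * φ (lElt 1) * c⁻¹))
    (hC : φ (uElt 1) * (c * φ (uElt 1) * c⁻¹) * (φ (uElt 1))⁻¹ * (c * φ (uElt 1) * c⁻¹)⁻¹ = c⁻¹ * φ (lElt 1) * c)
    (h4B : Fintype.card F = 4 → Commute (φ (uElt 1)) (c * φ (lElt (ω : F)) * c⁻¹))
    (h4C : Fintype.card F = 4 → φ (uElt 1) * (c * φ (uElt (ω : F)) * c⁻¹) * (φ (uElt 1))⁻¹ *
      (c * φ (uElt (ω : F)) * c⁻¹)⁻¹ = c⁻¹ * φ (lElt (ω : F)) * c) :
    ∃ x : Fin 3 → Fin 3 → F → G, KnownB.SLnSt.Fam x ∧ (∀ t, x 0 1 t = φ (uElt t)) ∧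
      (∀ t, x 1 0 t = φ (lElt t)) ∧ (∀ t, x 1 2 t = c * φ (uElt t) * c⁻¹) ∧
      (∀ t, x 2 1 t = c * φ (lElt t) * c⁻¹) ∧ (∀ t, x 2 0 t = c⁻¹ * φ (uElt t) * c) ∧
      ∀ t, x 0 2 t = c⁻¹ * φ (lElt t) * c := by
  classical
  set h := φ (dElt ω) with hh
  set w := φ (wElt F) with hw
  set h1 := c * h * c⁻¹ with hh1
  set h2 := c⁻¹ * h * c with hh2
  have c2 : c * c = c⁻¹ := eq_inv_of_mul_eq_one_left hc
  have c2' : c⁻¹ * c⁻¹ = c := by rw [← _root_.mul_inv_rev, c2, inv_inv]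
  -- the torus
  have hcomm : Commute h2 h := by
    have e := hδ (dElt ω)
    rw [dConj_dElt, ← hh, mul_assoc, inv_mul_eq_iff_eq_mul] at e
    exact e.symm
  have h1eq : h1 = h⁻¹ * h2⁻¹ := by
    rw [eq_mul_inv_iff_mul_eq]
    exact eq_inv_of_mul_eq_one_right (by rw [← mul_assoc]; exact hprod)
  set wi : F := ((ω⁻¹ : Fˣ) : F) with hwi
  have hwo : wi * (ω : F) = 1 := Units.inv_mul ω
  have hU0 : ∀ t, h * φ (uElt t) * h⁻¹ = φ (uElt ((ω : F) ^ 2 * t)) := fun t => by
    rw [hh, ← map_inv, ← map_mul, ← map_mul, dElt_conj]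
  have hL0 : ∀ t, h * φ (lElt t) * h⁻¹ = φ (lElt (wi ^ 2 * t)) := fun t => by
    rw [hh, ← map_inv, ← map_mul, ← map_mul, dElt_conj_lElt]
  have hU2 : ∀ t, h2 * φ (uElt t) * h2⁻¹ = φ (uElt (wi * t)) := fun t => by
    have e := hδ (uElt (wi * t))
    rw [dConj_uElt, show (ω : F) * (wi * t) = t by linear_combination t * hwo] at e
    rw [← e]; group
  have hL2 : ∀ t, h2 * φ (lElt t) * h2⁻¹ = φ (lElt ((ω : F) * t)) := fun t => by
    have e := hδ (lElt ((ω : F) * t))
    rw [dConj_lElt, ← hwi, show wi * ((ω : F) * t) = t by linear_combination t * hwo] at e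
    rw [← e]; group
  have hh2inv : ∀ X, h1 * X * h1⁻¹ = h⁻¹ * (h2⁻¹ * X * h2) * h := fun X => by rw [h1eq]; group
  have hU1 : ∀ t, h1 * φ (uElt t) * h1⁻¹ = φ (uElt (wi * t)) := fun t => by
    rw [hh2inv, hδ, dConj_uElt]
    have e := hU0 (wi * t)
    rw [show (ω : F) ^ 2 * (wi * t) = (ω : F) * t by linear_combination (ω : F) * t * hwo] at e
    rw [← e]; group
  have hL1 : ∀ t, h1 * φ (lElt t) * h1⁻¹ = φ (lElt ((ω : F) * t)) := fun t => by
    rw [hh2inv, hδ, dConj_lElt, ← hwi]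
    have e := hL0 ((ω : F) * t)
    rw [show wi ^ 2 * ((ω : F) * t) = wi * t by linear_combination wi * t * hwo] at e
    rw [← e]; group
  -- the root groups
  let U : F → G := fun t => φ (uElt t)
  let L : F → G := fun t => φ (lElt t)
  let X23 : F → G := fun t => c * U t * c⁻¹
  let X32 : F → G := fun t => c * L t * c⁻¹
  let X31 : F → G := fun t => c⁻¹ * U t * c
  let X13 : F → G := fun t => c⁻¹ * L t * c
  have aU : ∀ s t, U s * U t = U (s + t) := fun s t => by
    show φ _ * φ _ = φ _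
    rw [← map_mul, uElt_add]
  have aL : ∀ s t, L s * L t = L (s + t) := fun s t => by
    show φ _ * φ _ = φ _
    rw [← map_mul, lElt_add]
  have aC : ∀ (f : F → G), (∀ s t, f s * f t = f (s + t)) → ∀ g : G, ∀ s t,
      g * f s * g⁻¹ * (g * f t * g⁻¹) = g * f (s + t) * g⁻¹ := fun f hf g s t => by rw [← hf]; group
  have a23 : ∀ s t, X23 s * X23 t = X23 (s + t) := aC U aU c
  have a32 : ∀ s t, X32 s * X32 t = X32 (s + t) := aC L aL c
  have a31 : ∀ s t, X31 s * X31 t = X31 (s + t) := fun s t => by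
    have := aC U aU c⁻¹ s t
    simp only [inv_inv] at this
    exact this
  have a13 : ∀ s t, X13 s * X13 t = X13 (s + t) := fun s t => by
    have := aC L aL c⁻¹ s t
    simp only [inv_inv] at this
    exact this
  have zero_of : ∀ (f : F → G), (∀ s t, f s * f t = f (s + t)) → f 0 = 1 := fun f hf => by
    have := hf 0 0
    rwa [add_zero, mul_eq_left] at this
  -- torus actions on them
  have k01 : c⁻¹ * h1 * c = h := by rw [hh1]; group
  have k12 : c⁻¹ * h2 * c = h1 := by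
    rw [hh2, hh1, show c⁻¹ * (c⁻¹ * h * c) * c = (c⁻¹ * c⁻¹) * h * (c * c) by group, c2', c2]
  have k20 : c⁻¹ * h * c = h2 := hh2.symm
  have t23 : ∀ t, h * X23 t * h⁻¹ = X23 (wi * t) := fun t => by
    show h * (c * U t * c⁻¹) * h⁻¹ = c * _ * c⁻¹
    rw [show h * (c * U t * c⁻¹) * h⁻¹ = c * ((c⁻¹ * h * c) * U t * (c⁻¹ * h * c)⁻¹) * c⁻¹ by group, k20]
    exact congrArg (fun X => c * X * c⁻¹) (hU2 t)
  have t32 : ∀ t, h * X32 t * h⁻¹ = X32 ((ω : F) * t) := fun t => by
    show h * (c * L t * c⁻¹) * h⁻¹ = c * _ * c⁻¹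
    rw [show h * (c * L t * c⁻¹) * h⁻¹ = c * ((c⁻¹ * h * c) * L t * (c⁻¹ * h * c)⁻¹) * c⁻¹ by group, k20]
    exact congrArg (fun X => c * X * c⁻¹) (hL2 t)
  have t31 : ∀ t, h * X31 t * h⁻¹ = X31 (wi * t) := fun t => by
    show h * (c⁻¹ * U t * c) * h⁻¹ = c⁻¹ * _ * c
    rw [show h * (c⁻¹ * U t * c) * h⁻¹ = c⁻¹ * ((c * h * c⁻¹) * U t * (c * h * c⁻¹)⁻¹) * c by group, ← hh1]
    exact congrArg (fun X => c⁻¹ * X * c) (hU1 t)
  have t13 : ∀ t, h * X13 t * h⁻¹ = X13 ((ω : F) * t) := fun t => by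
    show h * (c⁻¹ * L t * c) * h⁻¹ = c⁻¹ * _ * c
    rw [show h * (c⁻¹ * L t * c) * h⁻¹ = c⁻¹ * ((c * h * c⁻¹) * L t * (c * h * c⁻¹)⁻¹) * c by group, ← hh1]
    exact congrArg (fun X => c⁻¹ * X * c) (hL1 t)
  have s23 : ∀ t, h1 * X23 t * h1⁻¹ = X23 ((ω : F) ^ 2 * t) := fun t => by
    show h1 * (c * U t * c⁻¹) * h1⁻¹ = c * _ * c⁻¹
    rw [show h1 * (c * U t * c⁻¹) * h1⁻¹ = c * ((c⁻¹ * h1 * c) * U t * (c⁻¹ * h1 * c)⁻¹) * c⁻¹ by group, k01]
    exact congrArg (fun X => c * X * c⁻¹) (hU0 t)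
  have s32 : ∀ t, h1 * X32 t * h1⁻¹ = X32 (wi ^ 2 * t) := fun t => by
    show h1 * (c * L t * c⁻¹) * h1⁻¹ = c * _ * c⁻¹
    rw [show h1 * (c * L t * c⁻¹) * h1⁻¹ = c * ((c⁻¹ * h1 * c) * L t * (c⁻¹ * h1 * c)⁻¹) * c⁻¹ by group, k01]
    exact congrArg (fun X => c * X * c⁻¹) (hL0 t)
  have s13 : ∀ t, h1 * X13 t * h1⁻¹ = X13 ((ω : F) * t) := fun t => by
    show h1 * (c⁻¹ * L t * c) * h1⁻¹ = c⁻¹ * _ * c
    have k : c * h1 * c⁻¹ = h2 := by rw [← k12]; group
    rw [show h1 * (c⁻¹ * L t * c) * h1⁻¹ = c⁻¹ * ((c * h1 * c⁻¹) * L t * (c * h1 * c⁻¹)⁻¹) * c by group, k]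
    exact congrArg (fun X => c⁻¹ * X * c) (hL2 t)
  -- pairs in a common row or column
  have conjC : ∀ (g a b : G), Commute a b → Commute (g * a * g⁻¹) (g * b * g⁻¹) := fun g a b e =>
    e.map (MulAut.conj g).toMonoidHom
  have hone2 : (ω : F) ^ 2 * wi ^ 2 = 1 := by linear_combination (wi * (ω : F) + 1) * hwo
  have tU : ∀ t, h * U t * h⁻¹ = U ((ω : F) ^ 2 * t) := hU0
  have sU : ∀ t, h1 * U t * h1⁻¹ = U (wi * t) := hU1
  have hB' : ∀ s t, Commute (U s) (X32 t) := by
    refine propagate hn ω hω _ ((ω : F) ^ 2) (ω : F) wi (wi ^ 2) rfl hone2 (fun d hd hdn h4 => ?_)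
      (pow_ne_zero _ (Units.ne_zero _))
      (fun t => by rw [zero_of U aU]; exact Commute.one_left _)
      (fun s => by rw [zero_of X32 a32]; exact Commute.one_right _)
      (fun s a b ha hb => by rw [← a32]; exact ha.mul_right hb)
      (fun s t e => by have := conjC h _ _ e; rwa [hU0, t32] at this)
      (fun s t e => by have := conjC h1 _ _ e; rwa [hU1, s32] at this) hB h4B
    have e : (ω : F) * (wi ^ 2) ^ 2 = (((ω ^ 3)⁻¹ : Fˣ) : F) := by
      rw [← inv_pow, Units.val_pow_eq_pow_val, ← hwi]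
      linear_combination wi ^ 3 * hwo
    rw [e]
    exact cube_moved hn ω hω hd hdn h4 (Or.inr rfl)
  have rot : ∀ X, c * (c * X * c⁻¹) * c⁻¹ = c⁻¹ * X * c := fun X => by
    rw [show c * (c * X * c⁻¹) * c⁻¹ = (c * c) * X * (c * c)⁻¹ by group, c2, inv_inv]
  have back : ∀ X, c * (c⁻¹ * X * c) * c⁻¹ = X := fun X => by group
  have B23 : ∀ s t, Commute (X23 s) (X13 t) := fun s t => by
    have := conjC c _ _ (hB' s t)
    rwa [rot] at this
  have hC' : ∀ s t, U s * X23 t * (U s)⁻¹ * (X23 t)⁻¹ = X13 (s * t) := by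
    refine propagate hn ω hω _ ((ω : F) ^ 2) wi wi ((ω : F) ^ 2) rfl hone2 (fun d hd hdn h4 => ?_)
      (pow_ne_zero _ ω.ne_zero)
      (fun t => by rw [zero_of U aU, zero_mul, zero_of X13 a13]; group)
      (fun s => by rw [zero_of X23 a23, mul_zero, zero_of X13 a13]; group)
      (fun s a b ha hb => ?_)
      (fun s t e => ?_) (fun s t e => ?_) (by rw [mul_one]; exact hC) (fun h4 => by rw [one_mul]; exact h4C h4)
    · have e : wi * ((ω : F) ^ 2) ^ 2 = ((ω ^ 3 : Fˣ) : F) := by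
        rw [Units.val_pow_eq_pow_val]
        linear_combination (ω : F) ^ 3 * hwo
      rw [e]
      exact cube_moved hn ω hω hd hdn h4 (Or.inl rfl)
    · rw [mul_inv_eq_iff_eq_mul] at ha hb
      rw [mul_inv_eq_iff_eq_mul, ← a23 a b,
        show U s * (X23 a * X23 b) * (U s)⁻¹ = (U s * X23 a * (U s)⁻¹) * (U s * X23 b * (U s)⁻¹) by group, ha, hb,
        mul_add, ← a13 (s * a) (s * b)]
      calc X13 (s * a) * X23 a * (X13 (s * b) * X23 b) = X13 (s * a) * (X23 a * X13 (s * b)) * X23 b := by group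
        _ = X13 (s * a) * (X13 (s * b) * X23 a) * X23 b := by rw [(B23 a (s * b)).eq]
        _ = _ := by group
    · rw [show (ω : F) ^ 2 * s * (wi * t) = (ω : F) * (s * t) by linear_combination (ω : F) * s * t * hwo, ← t13,
        ← tU, ← t23, ← e]
      group
    · rw [show wi * s * ((ω : F) ^ 2 * t) = (ω : F) * (s * t) by linear_combination (ω : F) * s * t * hwo, ← s13,
        ← sU, ← s23, ← e]
      group
  have hA' : ∀ s t, Commute (U s) (X13 t) := fun s t => by
    have e1 := hC' (s + 1) t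
    rw [← aU, add_mul, one_mul, ← a13] at e1
    have e2 : U 1 * X23 t * (U 1)⁻¹ = X13 t * X23 t := by
      have := hC' 1 t
      rwa [one_mul, mul_inv_eq_iff_eq_mul] at this
    rw [show U s * U 1 * X23 t * (U s * U 1)⁻¹ * (X23 t)⁻¹ =
      U s * (U 1 * X23 t * (U 1)⁻¹) * (U s)⁻¹ * (X23 t)⁻¹ by group, e2,
      show U s * (X13 t * X23 t) * (U s)⁻¹ * (X23 t)⁻¹ =
        (U s * X13 t * (U s)⁻¹) * (U s * X23 t * (U s)⁻¹ * (X23 t)⁻¹) by group, hC'] at e1
    have e3 : X13 (s * t) * X13 t = X13 t * X13 (s * t) := by rw [a13, a13, add_comm]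
    rw [e3, mul_right_cancel_iff, mul_inv_eq_iff_eq_mul] at e1
    exact e1
  -- the Weyl element
  have wc : w * c⁻¹ = c * w⁻¹ := by
    rw [eq_mul_inv_iff_mul_eq]
    exact mul_inv_eq_one.1 hinvol
  have hz : w * w = h ^ N := by
    rw [hw, hh, ← map_mul, ← map_pow, dElt_pow, wElt_sq, hN]
    congr 1
    refine Subtype.ext ?_
    ext i j
    fin_cases i <;> fin_cases j <;> simp [dElt]
  have hpow : ∀ (f : F → G) (k : F), (∀ t, h * f t * h⁻¹ = f (k * t)) → ∀ (m : ℕ) t,
      h ^ m * f t * (h ^ m)⁻¹ = f (k ^ m * t) := by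
    intro f k hf m
    induction m with
    | zero => intro t; simp
    | succ m ih =>
      intro t
      rw [pow_succ', show h * h ^ m * f t * (h * h ^ m)⁻¹ = h * (h ^ m * f t * (h ^ m)⁻¹) * h⁻¹ by group, ih, hf,
        ← mul_assoc, ← pow_succ']
  have hNF : (ω : F) ^ N = -1 := by rw [← Units.val_pow_eq_pow_val, hN, Units.val_neg, Units.val_one]
  have hNi : wi ^ N = -1 := by
    rw [hwi, ← Units.val_pow_eq_pow_val, inv_pow, hN, inv_neg_one, Units.val_neg, Units.val_one]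
  have w31 : ∀ t, w * X31 t * w⁻¹ = X32 (-t) := fun t => by
    show w * (c⁻¹ * U t * c) * w⁻¹ = c * L (-t) * c⁻¹
    have e : L (-t) = w⁻¹ * U t * w := by
      show φ _ = (φ _)⁻¹ * φ _ * φ _
      rw [← map_inv, ← map_mul, ← map_mul, wElt_inv_conj]
    rw [e, show w * (c⁻¹ * U t * c) * w⁻¹ = (w * c⁻¹) * U t * (w * c⁻¹)⁻¹ by group, wc]
    group
  have w32 : ∀ t, w * X32 t * w⁻¹ = X31 t := fun t => by
    have e := hpow X31 wi t31 N (-t)
    rw [← hz, hNi, neg_one_mul, neg_neg] at e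
    rw [← e, ← neg_neg t, ← w31, neg_neg]
    group
  have w1x12 : ∀ t, (c * w * c⁻¹) * U t * (c * w * c⁻¹)⁻¹ = X13 (-t) := fun t => by
    show _ = c⁻¹ * L (-t) * c
    rw [← rot, show (c * w * c⁻¹) * U t * (c * w * c⁻¹)⁻¹ = c * (w * X31 t * w⁻¹) * c⁻¹ by
      show _ = c * (w * (c⁻¹ * U t * c) * w⁻¹) * c⁻¹
      group, w31]
  have w1x13 : ∀ t, (c * w * c⁻¹) * X13 t * (c * w * c⁻¹)⁻¹ = U t := fun t => by
    rw [show X13 t = c * X32 t * c⁻¹ from (rot (L t)).symm,
      show (c * w * c⁻¹) * (c * X32 t * c⁻¹) * (c * w * c⁻¹)⁻¹ = c * (w * X32 t * w⁻¹) * c⁻¹ by group, w32]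
    exact back _
  have w1x23 : ∀ t, (c * w * c⁻¹) * X23 t * (c * w * c⁻¹)⁻¹ = X32 (-t) := fun t => by
    show _ = c * φ (lElt (-t)) * c⁻¹
    rw [lElt, neg_neg, map_mul, map_mul, map_inv, ← hw]
    show (c * w * c⁻¹) * (c * φ (uElt t) * c⁻¹) * (c * w * c⁻¹)⁻¹ = _
    group
  have hC2 : ∀ s t, X13 s * X32 t * (X13 s)⁻¹ * (X32 t)⁻¹ = U (s * t) := fun s t => by
    have e := congrArg (fun X => (c * w * c⁻¹) * X * (c * w * c⁻¹)⁻¹) (hC' (-s) (-t))
    simp only [w1x13, neg_mul_neg] at e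
    rw [← e, ← neg_neg s, ← w1x12, ← neg_neg t, ← w1x23, neg_neg, neg_neg]
    group
  -- all roots
  let x : Fin 3 → Fin 3 → F → G := fun i j => match i, j with
    | 0, 1 => U
    | 1, 0 => L
    | 1, 2 => X23
    | 2, 1 => X32
    | 2, 0 => X31
    | 0, 2 => X13
    | _, _ => fun _ => 1
  let sh : Fin 3 → Fin 3 := fun i => i + 1
  have hshift : ∀ i j, i ≠ j → ∀ t, c * x i j t * c⁻¹ = x (sh i) (sh j) t := by
    intro i j hij t
    fin_cases i <;> fin_cases j
    all_goals first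
      | exact absurd rfl hij
      | rfl
      | exact rot _
      | exact back _
  have hshift_zero : ∀ i j, i ≠ j → sh i ≠ sh j := fun i j hij e => hij (add_right_cancel e)
  refine ⟨x, ⟨?_, ?_, ?_⟩, fun t => rfl, fun t => rfl, fun t => rfl, fun t => rfl, fun t => rfl, fun t => rfl⟩
  · intro i j hij t u
    fin_cases i <;> fin_cases j
    all_goals first
      | exact absurd rfl hij
      | exact aU t u
      | exact aL t u
      | exact a23 t u
      | exact a32 t u
      | exact a31 t u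
      | exact a13 t u
  · have key : ∀ i j k l, i ≠ j → k ≠ l → i ≠ l → j ≠ k → ∀ t u, Commute (x i j t) (x k l u) := by
      have sA : ∀ s t, Commute (X23 s) (L t) := fun s t => by
        have := conjC c _ _ (hA' s t)
        rwa [back] at this
      have sA' : ∀ s t, Commute (X31 s) (X32 t) := fun s t => by
        have := conjC c _ _ (sA s t)
        rwa [rot] at this
      have sB' : ∀ s t, Commute (X31 s) (L t) := fun s t => by
        have := conjC c _ _ (B23 s t)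
        rwa [rot, back] at this
      intro i j k l hij hkl hil hjk t u
      have same : ∀ f : F → G, (∀ s t, f s * f t = f (s + t)) → Commute (f t) (f u) := fun f hf => by
        show f t * f u = f u * f t
        rw [hf, hf, add_comm]
      fin_cases i <;> fin_cases j <;> fin_cases k <;> fin_cases l
      all_goals first
        | exact absurd rfl hij
        | exact absurd rfl hkl
        | exact absurd rfl hil
        | exact absurd rfl hjk
        | exact same U aU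
        | exact same L aL
        | exact same X23 a23
        | exact same X32 a32
        | exact same X31 a31
        | exact same X13 a13
        | exact hA' t u
        | exact (hA' u t).symm
        | exact hB' t u
        | exact (hB' u t).symm
        | exact B23 t u
        | exact (B23 u t).symm
        | exact sA t u
        | exact (sA u t).symm
        | exact sA' t u
        | exact (sA' u t).symm
        | exact sB' t u
        | exact (sB' u t).symm
    intro i j k l hij hkl hil hjk t u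
    rw [(key i j k l hij hkl hil hjk t u).eq]
    group
  · let Q : Fin 3 → Fin 3 → Fin 3 → Prop := fun i j k =>
      ∀ t u, x i j t * x j k u * (x i j t)⁻¹ * (x j k u)⁻¹ = x i k (t * u)
    have step : ∀ i j k, i ≠ j → j ≠ k → i ≠ k → Q i j k → Q (sh i) (sh j) (sh k) := by
      intro i j k a b d hQ t u
      rw [← hshift i j a, ← hshift j k b, ← hshift i k d, ← hQ t u]
      group
    have q1 : Q 0 1 2 := hC'
    have q2 : Q 1 2 0 := step 0 1 2 (by decide) (by decide) (by decide) q1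
    have q3 : Q 2 0 1 := step 1 2 0 (by decide) (by decide) (by decide) q2
    have r1 : Q 0 2 1 := hC2
    have r2 : Q 1 0 2 := step 0 2 1 (by decide) (by decide) (by decide) r1
    have r3 : Q 2 1 0 := step 1 0 2 (by decide) (by decide) (by decide) r2
    intro i j k hij hjk hik
    fin_cases i <;> fin_cases j <;> fin_cases k
    all_goals first
      | exact absurd rfl hij
      | exact absurd rfl hjk
      | exact absurd rfl hik
      | exact q1
      | exact q2
      | exact q3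
      | exact r1
      | exact r2
      | exact r3

end CfsgLib.Pres
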