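import Cfsg.Agent.Lib.Pres.SLTwo

/-!
# Words in `SL₂(9)`
-/

set_option autoImplicit false

namespace CfsgLib.Pres

open Matrix
open scoped MatrixGroups

theorem nine_one_wg {F : Type*} [Field F] {x : F} (h3 : (3 : F) = 0) (e : x ^ 2 = x + 1) {g w : SL(2, F)}
    (gv : (g : Matrix (Fin 2) (Fin 2) F) = !![x, x; 0, 2 + x])
    (wv : (w : Matrix (Fin 2) (Fin 2) F) = !![0, 1; 2, 0])
    : (((w * g * w * g * g * w * g * w * g * g * g * w * g * g * w) : SL(2, F)) : Matrix (Fin 2) (Fin 2) F) = !![1, 1; 0, 1] := by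
  have m1 : (((w * g) : SL(2, F)) : Matrix (Fin 2) (Fin 2) F) = !![0, 2 + x; 2 * x, 2 * x] := by
    simp only [Matrix.SpecialLinearGroup.coe_mul, wv, gv, Matrix.mul_fin_two]
    ext i j; fin_cases i <;> fin_cases j <;> simp <;> grind
  have m2 : (((w * g * w) : SL(2, F)) : Matrix (Fin 2) (Fin 2) F) = !![1 + 2 * x, 0; x, 2 * x] := by
    simp only [Matrix.SpecialLinearGroup.coe_mul, m1, wv, Matrix.mul_fin_two]
    ext i j; fin_cases i <;> fin_cases j <;> simp <;> grind
  have m3 : (((w * g * w * g) : SL(2, F)) : Matrix (Fin 2) (Fin 2) F) = !![2, 2; 1 + x, x] := by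
    simp only [Matrix.SpecialLinearGroup.coe_mul, m2, gv, Matrix.mul_fin_two]
    ext i j; fin_cases i <;> fin_cases j <;> simp <;> grind
  have m4 : (((w * g * w * g * g) : SL(2, F)) : Matrix (Fin 2) (Fin 2) F) = !![2 * x, 1 + x; 1 + 2 * x, 2 + 2 * x] := by
    simp only [Matrix.SpecialLinearGroup.coe_mul, m3, gv, Matrix.mul_fin_two]
    ext i j; fin_cases i <;> fin_cases j <;> simp <;> grind
  have m5 : (((w * g * w * g * g * w) : SL(2, F)) : Matrix (Fin 2) (Fin 2) F) = !![2 + 2 * x, 2 * x; 1 + x, 1 + 2 * x] := by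
    simp only [Matrix.SpecialLinearGroup.coe_mul, m4, wv, Matrix.mul_fin_two]
    ext i j; fin_cases i <;> fin_cases j <;> simp <;> grind
  have m6 : (((w * g * w * g * g * w * g) : SL(2, F)) : Matrix (Fin 2) (Fin 2) F) = !![2 + x, 1 + x; 1 + 2 * x, 2] := by
    simp only [Matrix.SpecialLinearGroup.coe_mul, m5, gv, Matrix.mul_fin_two]
    ext i j; fin_cases i <;> fin_cases j <;> simp <;> grind
  have m7 : (((w * g * w * g * g * w * g * w) : SL(2, F)) : Matrix (Fin 2) (Fin 2) F) = !![2 + 2 * x, 2 + x; 1, 1 + 2 * x] := by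
    simp only [Matrix.SpecialLinearGroup.coe_mul, m6, wv, Matrix.mul_fin_two]
    ext i j; fin_cases i <;> fin_cases j <;> simp <;> grind
  have m8 : (((w * g * w * g * g * w * g * w * g) : SL(2, F)) : Matrix (Fin 2) (Fin 2) F) = !![2 + x, 1; x, 1 + 2 * x] := by
    simp only [Matrix.SpecialLinearGroup.coe_mul, m7, gv, Matrix.mul_fin_two]
    ext i j; fin_cases i <;> fin_cases j <;> simp <;> grind
  have m9 : (((w * g * w * g * g * w * g * w * g * g) : SL(2, F)) : Matrix (Fin 2) (Fin 2) F) = !![1, x; 1 + x, 2 + 2 * x] := by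
    simp only [Matrix.SpecialLinearGroup.coe_mul, m8, gv, Matrix.mul_fin_two]
    ext i j; fin_cases i <;> fin_cases j <;> simp <;> grind
  have m10 : (((w * g * w * g * g * w * g * w * g * g * g) : SL(2, F)) : Matrix (Fin 2) (Fin 2) F) = !![x, 1 + x; 1 + 2 * x, 1 + x] := by
    simp only [Matrix.SpecialLinearGroup.coe_mul, m9, gv, Matrix.mul_fin_two]
    ext i j; fin_cases i <;> fin_cases j <;> simp <;> grind
  have m11 : (((w * g * w * g * g * w * g * w * g * g * g * w) : SL(2, F)) : Matrix (Fin 2) (Fin 2) F) = !![2 + 2 * x, x; 2 + 2 * x, 1 + 2 * x] := by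
    simp only [Matrix.SpecialLinearGroup.coe_mul, m10, wv, Matrix.mul_fin_two]
    ext i j; fin_cases i <;> fin_cases j <;> simp <;> grind
  have m12 : (((w * g * w * g * g * w * g * w * g * g * g * w * g) : SL(2, F)) : Matrix (Fin 2) (Fin 2) F) = !![2 + x, x; 2 + x, 2 * x] := by
    simp only [Matrix.SpecialLinearGroup.coe_mul, m11, gv, Matrix.mul_fin_two]
    ext i j; fin_cases i <;> fin_cases j <;> simp <;> grind
  have m13 : (((w * g * w * g * g * w * g * w * g * g * g * w * g * g) : SL(2, F)) : Matrix (Fin 2) (Fin 2) F) = !![1, 2; 1, 0] := by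
    simp only [Matrix.SpecialLinearGroup.coe_mul, m12, gv, Matrix.mul_fin_two]
    ext i j; fin_cases i <;> fin_cases j <;> simp <;> grind
  have m14 : (((w * g * w * g * g * w * g * w * g * g * g * w * g * g * w) : SL(2, F)) : Matrix (Fin 2) (Fin 2) F) = !![1, 1; 0, 1] := by
    simp only [Matrix.SpecialLinearGroup.coe_mul, m13, wv, Matrix.mul_fin_two]
    ext i j; fin_cases i <;> fin_cases j <;> simp <;> grind
  exact m14

theorem nine_one_gk {F : Type*} [Field F] {x : F} (h3 : (3 : F) = 0) (e : x ^ 2 = x + 1) {g k : SL(2, F)}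
    (gv : (g : Matrix (Fin 2) (Fin 2) F) = !![x, x; 0, 2 + x])
    (kv : (k : Matrix (Fin 2) (Fin 2) F) = !![2 + x, 0; x, x])
    : (((g * k * k * g * g * g * k * k * g * g * k) : SL(2, F)) : Matrix (Fin 2) (Fin 2) F) = !![1, 1; 0, 1] := by
  have m1 : (((g * k) : SL(2, F)) : Matrix (Fin 2) (Fin 2) F) = !![2 + x, 1 + x; 1, 1] := by
    simp only [Matrix.SpecialLinearGroup.coe_mul, gv, kv, Matrix.mul_fin_two]
    ext i j; fin_cases i <;> fin_cases j <;> simp <;> grind
  have m2 : (((g * k * k) : SL(2, F)) : Matrix (Fin 2) (Fin 2) F) = !![x, 1 + 2 * x; 2 + 2 * x, x] := by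
    simp only [Matrix.SpecialLinearGroup.coe_mul, m1, kv, Matrix.mul_fin_two]
    ext i j; fin_cases i <;> fin_cases j <;> simp <;> grind
  have m3 : (((g * k * k * g) : SL(2, F)) : Matrix (Fin 2) (Fin 2) F) = !![1 + x, 2 + 2 * x; 2 + x, x] := by
    simp only [Matrix.SpecialLinearGroup.coe_mul, m2, gv, Matrix.mul_fin_two]
    ext i j; fin_cases i <;> fin_cases j <;> simp <;> grind
  have m4 : (((g * k * k * g * g) : SL(2, F)) : Matrix (Fin 2) (Fin 2) F) = !![1 + 2 * x, 1 + x; 1, 2] := by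
    simp only [Matrix.SpecialLinearGroup.coe_mul, m3, gv, Matrix.mul_fin_two]
    ext i j; fin_cases i <;> fin_cases j <;> simp <;> grind
  have m5 : (((g * k * k * g * g * g) : SL(2, F)) : Matrix (Fin 2) (Fin 2) F) = !![2, 2 + x; x, 1] := by
    simp only [Matrix.SpecialLinearGroup.coe_mul, m4, gv, Matrix.mul_fin_two]
    ext i j; fin_cases i <;> fin_cases j <;> simp <;> grind
  have m6 : (((g * k * k * g * g * g * k) : SL(2, F)) : Matrix (Fin 2) (Fin 2) F) = !![2 + 2 * x, 1; 1 + x, x] := by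
    simp only [Matrix.SpecialLinearGroup.coe_mul, m5, kv, Matrix.mul_fin_two]
    ext i j; fin_cases i <;> fin_cases j <;> simp <;> grind
  have m7 : (((g * k * k * g * g * g * k * k) : SL(2, F)) : Matrix (Fin 2) (Fin 2) F) = !![0, x; 1 + 2 * x, 1 + x] := by
    simp only [Matrix.SpecialLinearGroup.coe_mul, m6, kv, Matrix.mul_fin_two]
    ext i j; fin_cases i <;> fin_cases j <;> simp <;> grind
  have m8 : (((g * k * k * g * g * g * k * k * g) : SL(2, F)) : Matrix (Fin 2) (Fin 2) F) = !![0, 1; 2, 2 + x] := by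
    simp only [Matrix.SpecialLinearGroup.coe_mul, m7, gv, Matrix.mul_fin_two]
    ext i j; fin_cases i <;> fin_cases j <;> simp <;> grind
  have m9 : (((g * k * k * g * g * g * k * k * g * g) : SL(2, F)) : Matrix (Fin 2) (Fin 2) F) = !![0, 2 + x; 2 * x, 2 + x] := by
    simp only [Matrix.SpecialLinearGroup.coe_mul, m8, gv, Matrix.mul_fin_two]
    ext i j; fin_cases i <;> fin_cases j <;> simp <;> grind
  have m10 : (((g * k * k * g * g * g * k * k * g * g * k) : SL(2, F)) : Matrix (Fin 2) (Fin 2) F) = !![1, 1; 0, 1] := by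
    simp only [Matrix.SpecialLinearGroup.coe_mul, m9, kv, Matrix.mul_fin_two]
    ext i j; fin_cases i <;> fin_cases j <;> simp <;> grind
  exact m10

theorem nine_one_kw {F : Type*} [Field F] {x : F} (h3 : (3 : F) = 0) (e : x ^ 2 = x + 1) {g k : SL(2, F)}
    (gv : (g : Matrix (Fin 2) (Fin 2) F) = !![x, x; 0, 2 + x])
    (kv : (k : Matrix (Fin 2) (Fin 2) F) = !![2 + x, 0; x, x])
    : (((k * k * k * g * k * k * k * g) : SL(2, F)) : Matrix (Fin 2) (Fin 2) F) = !![0, 1; 2, 0] := by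
  have m1 : (((k * k) : SL(2, F)) : Matrix (Fin 2) (Fin 2) F) = !![2 + 2 * x, 0; 2 + x, 1 + x] := by
    simp only [Matrix.SpecialLinearGroup.coe_mul, kv, kv, Matrix.mul_fin_two]
    ext i j; fin_cases i <;> fin_cases j <;> simp <;> grind
  have m2 : (((k * k * k) : SL(2, F)) : Matrix (Fin 2) (Fin 2) F) = !![2 * x, 0; x, 1 + 2 * x] := by
    simp only [Matrix.SpecialLinearGroup.coe_mul, m1, kv, Matrix.mul_fin_two]
    ext i j; fin_cases i <;> fin_cases j <;> simp <;> grind
  have m3 : (((k * k * k * g) : SL(2, F)) : Matrix (Fin 2) (Fin 2) F) = !![2 + 2 * x, 2 + 2 * x; 1 + x, 2 + 2 * x] := by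
    simp only [Matrix.SpecialLinearGroup.coe_mul, m2, gv, Matrix.mul_fin_two]
    ext i j; fin_cases i <;> fin_cases j <;> simp <;> grind
  have m4 : (((k * k * k * g * k) : SL(2, F)) : Matrix (Fin 2) (Fin 2) F) = !![2, 2 + x; 2 + 2 * x, 2 + x] := by
    simp only [Matrix.SpecialLinearGroup.coe_mul, m3, kv, Matrix.mul_fin_two]
    ext i j; fin_cases i <;> fin_cases j <;> simp <;> grind
  have m5 : (((k * k * k * g * k * k) : SL(2, F)) : Matrix (Fin 2) (Fin 2) F) = !![2 + 2 * x, 1; 1 + 2 * x, 1] := by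
    simp only [Matrix.SpecialLinearGroup.coe_mul, m4, kv, Matrix.mul_fin_two]
    ext i j; fin_cases i <;> fin_cases j <;> simp <;> grind
  have m6 : (((k * k * k * g * k * k * k) : SL(2, F)) : Matrix (Fin 2) (Fin 2) F) = !![0, x; 1 + 2 * x, x] := by
    simp only [Matrix.SpecialLinearGroup.coe_mul, m5, kv, Matrix.mul_fin_two]
    ext i j; fin_cases i <;> fin_cases j <;> simp <;> grind
  have m7 : (((k * k * k * g * k * k * k * g) : SL(2, F)) : Matrix (Fin 2) (Fin 2) F) = !![0, 1; 2, 0] := by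
    simp only [Matrix.SpecialLinearGroup.coe_mul, m6, gv, Matrix.mul_fin_two]
    ext i j; fin_cases i <;> fin_cases j <;> simp <;> grind
  exact m7

theorem nine_two_wg {F : Type*} [Field F] {x : F} (h3 : (3 : F) = 0) (e : x ^ 2 = 2 * x + 1) {g w : SL(2, F)}
    (gv : (g : Matrix (Fin 2) (Fin 2) F) = !![x, x; 0, 1 + x])
    (wv : (w : Matrix (Fin 2) (Fin 2) F) = !![0, 1; 2, 0])
    : (((w * g * g * w * g * g * g * w * g * g * w * g * w * g * g * g) : SL(2, F)) : Matrix (Fin 2) (Fin 2) F) = !![1, 1; 0, 1] := by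
  have m1 : (((w * g) : SL(2, F)) : Matrix (Fin 2) (Fin 2) F) = !![0, 1 + x; 2 * x, 2 * x] := by
    simp only [Matrix.SpecialLinearGroup.coe_mul, wv, gv, Matrix.mul_fin_two]
    ext i j; fin_cases i <;> fin_cases j <;> simp <;> grind
  have m2 : (((w * g * g) : SL(2, F)) : Matrix (Fin 2) (Fin 2) F) = !![0, 2 + x; 2 + x, 1 + x] := by
    simp only [Matrix.SpecialLinearGroup.coe_mul, m1, gv, Matrix.mul_fin_two]
    ext i j; fin_cases i <;> fin_cases j <;> simp <;> grind
  have m3 : (((w * g * g * w) : SL(2, F)) : Matrix (Fin 2) (Fin 2) F) = !![1 + 2 * x, 0; 2 + 2 * x, 2 + x] := by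
    simp only [Matrix.SpecialLinearGroup.coe_mul, m2, wv, Matrix.mul_fin_two]
    ext i j; fin_cases i <;> fin_cases j <;> simp <;> grind
  have m4 : (((w * g * g * w * g) : SL(2, F)) : Matrix (Fin 2) (Fin 2) F) = !![2 + 2 * x, 2 + 2 * x; 2, 2 + 2 * x] := by
    simp only [Matrix.SpecialLinearGroup.coe_mul, m3, gv, Matrix.mul_fin_two]
    ext i j; fin_cases i <;> fin_cases j <;> simp <;> grind
  have m5 : (((w * g * g * w * g * g) : SL(2, F)) : Matrix (Fin 2) (Fin 2) F) = !![2, 2 * x; 2 * x, 1 + x] := by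
    simp only [Matrix.SpecialLinearGroup.coe_mul, m4, gv, Matrix.mul_fin_two]
    ext i j; fin_cases i <;> fin_cases j <;> simp <;> grind
  have m6 : (((w * g * g * w * g * g * g) : SL(2, F)) : Matrix (Fin 2) (Fin 2) F) = !![2 * x, 2 + 2 * x; 2 + x, 1 + 2 * x] := by
    simp only [Matrix.SpecialLinearGroup.coe_mul, m5, gv, Matrix.mul_fin_two]
    ext i j; fin_cases i <;> fin_cases j <;> simp <;> grind
  have m7 : (((w * g * g * w * g * g * g * w) : SL(2, F)) : Matrix (Fin 2) (Fin 2) F) = !![1 + x, 2 * x; 2 + x, 2 + x] := by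
    simp only [Matrix.SpecialLinearGroup.coe_mul, m6, wv, Matrix.mul_fin_two]
    ext i j; fin_cases i <;> fin_cases j <;> simp <;> grind
  have m8 : (((w * g * g * w * g * g * g * w * g) : SL(2, F)) : Matrix (Fin 2) (Fin 2) F) = !![1, 0; 1 + x, 1] := by
    simp only [Matrix.SpecialLinearGroup.coe_mul, m7, gv, Matrix.mul_fin_two]
    ext i j; fin_cases i <;> fin_cases j <;> simp <;> grind
  have m9 : (((w * g * g * w * g * g * g * w * g * g) : SL(2, F)) : Matrix (Fin 2) (Fin 2) F) = !![x, x; 1, 2 + x] := by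
    simp only [Matrix.SpecialLinearGroup.coe_mul, m8, gv, Matrix.mul_fin_two]
    ext i j; fin_cases i <;> fin_cases j <;> simp <;> grind
  have m10 : (((w * g * g * w * g * g * g * w * g * g * w) : SL(2, F)) : Matrix (Fin 2) (Fin 2) F) = !![2 * x, x; 1 + 2 * x, 1] := by
    simp only [Matrix.SpecialLinearGroup.coe_mul, m9, wv, Matrix.mul_fin_two]
    ext i j; fin_cases i <;> fin_cases j <;> simp <;> grind
  have m11 : (((w * g * g * w * g * g * g * w * g * g * w * g) : SL(2, F)) : Matrix (Fin 2) (Fin 2) F) = !![2 + x, x; 2 + 2 * x, 0] := by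
    simp only [Matrix.SpecialLinearGroup.coe_mul, m10, gv, Matrix.mul_fin_two]
    ext i j; fin_cases i <;> fin_cases j <;> simp <;> grind
  have m12 : (((w * g * g * w * g * g * g * w * g * g * w * g * w) : SL(2, F)) : Matrix (Fin 2) (Fin 2) F) = !![2 * x, 2 + x; 0, 2 + 2 * x] := by
    simp only [Matrix.SpecialLinearGroup.coe_mul, m11, wv, Matrix.mul_fin_two]
    ext i j; fin_cases i <;> fin_cases j <;> simp <;> grind
  have m13 : (((w * g * g * w * g * g * g * w * g * g * w * g * w * g) : SL(2, F)) : Matrix (Fin 2) (Fin 2) F) = !![2 + x, 2; 0, 1 + 2 * x] := by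
    simp only [Matrix.SpecialLinearGroup.coe_mul, m12, gv, Matrix.mul_fin_two]
    ext i j; fin_cases i <;> fin_cases j <;> simp <;> grind
  have m14 : (((w * g * g * w * g * g * g * w * g * g * w * g * w * g * g) : SL(2, F)) : Matrix (Fin 2) (Fin 2) F) = !![1 + x, 0; 0, x] := by
    simp only [Matrix.SpecialLinearGroup.coe_mul, m13, gv, Matrix.mul_fin_two]
    ext i j; fin_cases i <;> fin_cases j <;> simp <;> grind
  have m15 : (((w * g * g * w * g * g * g * w * g * g * w * g * w * g * g * g) : SL(2, F)) : Matrix (Fin 2) (Fin 2) F) = !![1, 1; 0, 1] := by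
    simp only [Matrix.SpecialLinearGroup.coe_mul, m14, gv, Matrix.mul_fin_two]
    ext i j; fin_cases i <;> fin_cases j <;> simp <;> grind
  exact m15

theorem nine_two_gk {F : Type*} [Field F] {x : F} (h3 : (3 : F) = 0) (e : x ^ 2 = 2 * x + 1) {g k : SL(2, F)}
    (gv : (g : Matrix (Fin 2) (Fin 2) F) = !![x, x; 0, 1 + x])
    (kv : (k : Matrix (Fin 2) (Fin 2) F) = !![1 + x, 0; x, x])
    : (((k * g * k * k * g * k * k * g * g * k * g) : SL(2, F)) : Matrix (Fin 2) (Fin 2) F) = !![1, 1; 0, 1] := by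
  have m1 : (((k * g) : SL(2, F)) : Matrix (Fin 2) (Fin 2) F) = !![1, 1; 1 + 2 * x, 2 + 2 * x] := by
    simp only [Matrix.SpecialLinearGroup.coe_mul, kv, gv, Matrix.mul_fin_two]
    ext i j; fin_cases i <;> fin_cases j <;> simp <;> grind
  have m2 : (((k * g * k) : SL(2, F)) : Matrix (Fin 2) (Fin 2) F) = !![1 + 2 * x, x; 2 + x, 2] := by
    simp only [Matrix.SpecialLinearGroup.coe_mul, m1, kv, Matrix.mul_fin_two]
    ext i j; fin_cases i <;> fin_cases j <;> simp <;> grind
  have m3 : (((k * g * k * k) : SL(2, F)) : Matrix (Fin 2) (Fin 2) F) = !![1, 1 + 2 * x; x, 2 * x] := by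
    simp only [Matrix.SpecialLinearGroup.coe_mul, m2, kv, Matrix.mul_fin_two]
    ext i j; fin_cases i <;> fin_cases j <;> simp <;> grind
  have m4 : (((k * g * k * k * g) : SL(2, F)) : Matrix (Fin 2) (Fin 2) F) = !![x, 2 * x; 1 + 2 * x, 2 * x] := by
    simp only [Matrix.SpecialLinearGroup.coe_mul, m3, gv, Matrix.mul_fin_two]
    ext i j; fin_cases i <;> fin_cases j <;> simp <;> grind
  have m5 : (((k * g * k * k * g * k) : SL(2, F)) : Matrix (Fin 2) (Fin 2) F) = !![x, 2 + x; 2 + 2 * x, 2 + x] := by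
    simp only [Matrix.SpecialLinearGroup.coe_mul, m4, kv, Matrix.mul_fin_two]
    ext i j; fin_cases i <;> fin_cases j <;> simp <;> grind
  have m6 : (((k * g * k * k * g * k * k) : SL(2, F)) : Matrix (Fin 2) (Fin 2) F) = !![2 + x, 1 + x; 2, 1 + x] := by
    simp only [Matrix.SpecialLinearGroup.coe_mul, m5, kv, Matrix.mul_fin_two]
    ext i j; fin_cases i <;> fin_cases j <;> simp <;> grind
  have m7 : (((k * g * k * k * g * k * k * g) : SL(2, F)) : Matrix (Fin 2) (Fin 2) F) = !![1 + x, 2 * x; 2 * x, 2] := by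
    simp only [Matrix.SpecialLinearGroup.coe_mul, m6, gv, Matrix.mul_fin_two]
    ext i j; fin_cases i <;> fin_cases j <;> simp <;> grind
  have m8 : (((k * g * k * k * g * k * k * g * g) : SL(2, F)) : Matrix (Fin 2) (Fin 2) F) = !![1, 0; 2 + x, 1] := by
    simp only [Matrix.SpecialLinearGroup.coe_mul, m7, gv, Matrix.mul_fin_two]
    ext i j; fin_cases i <;> fin_cases j <;> simp <;> grind
  have m9 : (((k * g * k * k * g * k * k * g * g * k) : SL(2, F)) : Matrix (Fin 2) (Fin 2) F) = !![1 + x, 0; 0, x] := by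
    simp only [Matrix.SpecialLinearGroup.coe_mul, m8, kv, Matrix.mul_fin_two]
    ext i j; fin_cases i <;> fin_cases j <;> simp <;> grind
  have m10 : (((k * g * k * k * g * k * k * g * g * k * g) : SL(2, F)) : Matrix (Fin 2) (Fin 2) F) = !![1, 1; 0, 1] := by
    simp only [Matrix.SpecialLinearGroup.coe_mul, m9, gv, Matrix.mul_fin_two]
    ext i j; fin_cases i <;> fin_cases j <;> simp <;> grind
  exact m10

theorem nine_two_kw {F : Type*} [Field F] {x : F} (h3 : (3 : F) = 0) (e : x ^ 2 = 2 * x + 1) {g k : SL(2, F)}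
    (gv : (g : Matrix (Fin 2) (Fin 2) F) = !![x, x; 0, 1 + x])
    (kv : (k : Matrix (Fin 2) (Fin 2) F) = !![1 + x, 0; x, x])
    : (((k * k * k * g * k * k * k * g) : SL(2, F)) : Matrix (Fin 2) (Fin 2) F) = !![0, 1; 2, 0] := by
  have m1 : (((k * k) : SL(2, F)) : Matrix (Fin 2) (Fin 2) F) = !![2 + x, 0; 2 + 2 * x, 1 + 2 * x] := by
    simp only [Matrix.SpecialLinearGroup.coe_mul, kv, kv, Matrix.mul_fin_two]
    ext i j; fin_cases i <;> fin_cases j <;> simp <;> grind
  have m2 : (((k * k * k) : SL(2, F)) : Matrix (Fin 2) (Fin 2) F) = !![2 * x, 0; x, 2 + 2 * x] := by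
    simp only [Matrix.SpecialLinearGroup.coe_mul, m1, kv, Matrix.mul_fin_two]
    ext i j; fin_cases i <;> fin_cases j <;> simp <;> grind
  have m3 : (((k * k * k * g) : SL(2, F)) : Matrix (Fin 2) (Fin 2) F) = !![2 + x, 2 + x; 1 + 2 * x, 2 + x] := by
    simp only [Matrix.SpecialLinearGroup.coe_mul, m2, gv, Matrix.mul_fin_two]
    ext i j; fin_cases i <;> fin_cases j <;> simp <;> grind
  have m4 : (((k * k * k * g * k) : SL(2, F)) : Matrix (Fin 2) (Fin 2) F) = !![1, 1 + x; 1 + 2 * x, 1 + x] := by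
    simp only [Matrix.SpecialLinearGroup.coe_mul, m3, kv, Matrix.mul_fin_two]
    ext i j; fin_cases i <;> fin_cases j <;> simp <;> grind
  have m5 : (((k * k * k * g * k * k) : SL(2, F)) : Matrix (Fin 2) (Fin 2) F) = !![2 + x, 1; 1 + x, 1] := by
    simp only [Matrix.SpecialLinearGroup.coe_mul, m4, kv, Matrix.mul_fin_two]
    ext i j; fin_cases i <;> fin_cases j <;> simp <;> grind
  have m6 : (((k * k * k * g * k * k * k) : SL(2, F)) : Matrix (Fin 2) (Fin 2) F) = !![0, x; 2 + 2 * x, x] := by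
    simp only [Matrix.SpecialLinearGroup.coe_mul, m5, kv, Matrix.mul_fin_two]
    ext i j; fin_cases i <;> fin_cases j <;> simp <;> grind
  have m7 : (((k * k * k * g * k * k * k * g) : SL(2, F)) : Matrix (Fin 2) (Fin 2) F) = !![0, 1; 2, 0] := by
    simp only [Matrix.SpecialLinearGroup.coe_mul, m6, gv, Matrix.mul_fin_two]
    ext i j; fin_cases i <;> fin_cases j <;> simp <;> grind
  exact m7

end CfsgLib.Pres
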