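import Cfsg.Agent.Lib.Pres.SLThreeCore
import Cfsg.Agent.Lib.Pres.SLTwoNine
import Cfsg.Agent.S0801

/-!
# Generating pairs of `SL₂`
-/

set_option autoImplicit false

namespace CfsgLib.Pres

open Matrix
open scoped MatrixGroups
open CfsgLib.Classical (uElt uElt_val uElt_add)

variable {F : Type*} [Field F]

/-- The matrix of a conjugate by the swap of coordinates. -/
def jMat (M : Matrix (Fin 2) (Fin 2) F) : Matrix (Fin 2) (Fin 2) F := !![M 1 1, M 1 0; M 0 1, M 0 0]

theorem jMat_mul (M N : Matrix (Fin 2) (Fin 2) F) : jMat (M * N) = jMat M * jMat N := by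
  ext i j
  fin_cases i <;> fin_cases j <;> simp [jMat, Matrix.mul_apply, Fin.sum_univ_two] <;> ring

/-- Conjugation by the swap of coordinates. -/
def jConj : SL(2, F) →* SL(2, F) :=
  MonoidHom.mk' (fun M => ⟨jMat M, by
    have h := M.2
    rw [Matrix.det_fin_two] at h
    rw [jMat, Matrix.det_fin_two_of]
    linear_combination h⟩) fun M N => Subtype.ext (by
      show jMat ((M * N : SL(2, F)) : Matrix (Fin 2) (Fin 2) F) = _
      rw [Matrix.SpecialLinearGroup.coe_mul, jMat_mul]
      rfl)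

theorem jConj_val (M : SL(2, F)) :
    ((jConj M : SL(2, F)) : Matrix (Fin 2) (Fin 2) F) = jMat (M : Matrix (Fin 2) (Fin 2) F) := rfl

theorem jConj_uElt (t : F) : jConj (uElt t) = lElt t := by
  refine Subtype.ext ?_
  rw [jConj_val, uElt_val, lElt_val]
  ext i j
  fin_cases i <;> fin_cases j <;> simp [jMat]

theorem jConj_lElt (t : F) : jConj (lElt t) = uElt t := by
  refine Subtype.ext ?_
  rw [jConj_val, uElt_val, lElt_val]
  ext i j
  fin_cases i <;> fin_cases j <;> simp [jMat]

theorem jConj_jConj (M : SL(2, F)) : jConj (jConj M) = M := by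
  refine Subtype.ext ?_
  rw [jConj_val, jConj_val]
  ext i j
  fin_cases i <;> fin_cases j <;> simp [jMat]

theorem jConj_dElt (z : Fˣ) : jConj (dElt z) = dElt z⁻¹ := by
  refine Subtype.ext ?_
  rw [jConj_val]
  ext i j
  fin_cases i <;> fin_cases j <;> simp [jMat, dElt]

theorem closure_up_low (K : Subgroup SL(2, F)) (hu : ∀ t, uElt t ∈ K) (hl : ∀ t, lElt t ∈ K) : K = ⊤ := by
  refine CfsgLib.Classical.sl_transvection_induction K ?_
  intro i j hij c
  fin_cases i <;> fin_cases j
  · exact absurd rfl hij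
  · exact hu c
  · have e : Matrix.SpecialLinearGroup.transvection hij c = lElt c := by
      refine Subtype.ext ?_
      rw [lElt_val, Matrix.SpecialLinearGroup.transvection_coe]
      ext a b
      fin_cases a <;> fin_cases b <;> simp [Matrix.transvection]
    rw [e]
    exact hl c
  · exact absurd rfl hij

/-- The lower root group and an element outside the lower Borel subgroup generate. -/
theorem eq_top_of_lower (K : Subgroup SL(2, F)) (hl : ∀ t, lElt t ∈ K) (e : SL(2, F)) (he : e ∈ K)
    (hb : (e : Matrix (Fin 2) (Fin 2) F) 0 1 ≠ 0) : K = ⊤ := by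
  refine closure_up_low K (fun t => ?_) hl
  set b := (e : Matrix (Fin 2) (Fin 2) F) 0 1 with hb'
  set a := (e : Matrix (Fin 2) (Fin 2) F) 0 0
  set d := (e : Matrix (Fin 2) (Fin 2) F) 1 1
  set c := (e : Matrix (Fin 2) (Fin 2) F) 1 0
  have hdet : a * d - b * c = 1 := by
    have := e.2
    rwa [Matrix.det_fin_two] at this
  obtain ⟨W, hW⟩ : ∃ W, W = lElt (-d / b) * e * lElt (-a / b) := ⟨_, rfl⟩
  have hWK : W ∈ K := hW ▸ K.mul_mem (K.mul_mem (hl _) he) (hl _)
  have hWv : (W : Matrix (Fin 2) (Fin 2) F) = !![0, b; -b⁻¹, 0] := by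
    rw [hW, Matrix.SpecialLinearGroup.coe_mul, Matrix.SpecialLinearGroup.coe_mul, lElt_val, lElt_val,
      show (e : Matrix (Fin 2) (Fin 2) F) = !![a, b; c, d] from by
        ext i j; fin_cases i <;> fin_cases j <;> rfl]
    ext i j
    fin_cases i <;> fin_cases j <;> simp [Matrix.mul_apply, Fin.sum_univ_two] <;> field_simp
    all_goals first
      | ring1
      | linear_combination -hdet
      | linear_combination hdet
  have key : W * lElt (-(t / b ^ 2)) * W⁻¹ = uElt t := by
    rw [mul_inv_eq_iff_eq_mul]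
    refine Subtype.ext ?_
    rw [Matrix.SpecialLinearGroup.coe_mul, Matrix.SpecialLinearGroup.coe_mul, hWv, lElt_val, uElt_val]
    ext i j
    fin_cases i <;> fin_cases j <;> simp [Matrix.mul_apply, Fin.sum_univ_two] <;> field_simp
  rw [← key]
  exact K.mul_mem (K.mul_mem hWK (hl _)) (K.inv_mem hWK)

variable [Fintype F]

/-- The element paired with its swap. -/
noncomputable def gElt (ω : Fˣ) : SL(2, F) := by
  classical
  exact if (2 : F) ≠ 0 ∧ Fintype.card F ≠ 9 then uElt (ω : F) else dElt ω * uElt 1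

/-- Odd characteristic, away from the field with nine elements. -/
theorem pair_odd (h2 : (2 : F) ≠ 0) (h9 : Fintype.card F ≠ 9) (ω : Fˣ) (hω : ∀ y : Fˣ, y ∈ Subgroup.zpowers ω) :
    Subgroup.closure ({uElt (ω : F), wElt F} : Set SL(2, F)) = ⊤ ∧
      Subgroup.closure ({uElt (ω : F), lElt (ω : F)} : Set SL(2, F)) = ⊤ := by
  obtain ⟨p, hchar⟩ := CharP.exists F
  obtain ⟨⟨n, hn0⟩, hprime, hn⟩ := FiniteField.card F p
  replace hn : Fintype.card F = p ^ n := hn
  have := Fact.mk hprime
  let _ : Algebra (ZMod p) F := ZMod.algebra F p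
  have main : ∀ (y : F) (c : Fˣ), ((c⁻¹ : Fˣ) : F) * y = 1 →
      (∀ S : Subfield F, (c : F) * (ω : F) ∈ S → (ω : F) ^ 2 ∈ S) →
      ∀ K : Subgroup SL(2, F), uElt (ω : F) ∈ K → lElt y ∈ K → K = ⊤ := by
    intro y c hc hx K hu hy
    have hgenF : Subfield.closure ({(c : F) * (ω : F)} : Set F) = ⊤ := by
      obtain ⟨B, hB⟩ := exists_power_basis (p := p) ((ω : F) ^ 2) hn fun d hd hdn => sq_gen_moved ω hω hn hd (by omega)
      set S := Subfield.closure ({(c : F) * (ω : F)} : Set F)
      rw [eq_top_iff]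
      intro t _
      rw [← sum_coord B t]
      refine S.sum_mem fun i _ => ?_
      rw [hB]
      exact S.nsmul_mem (S.pow_mem (hx S (Subfield.subset_closure (Set.mem_singleton _))) _) _
    rcases Cfsg.Agent.S0801.result h2 _ (mul_ne_zero c.ne_zero ω.ne_zero) hgenF with ⟨htop, -⟩ | ⟨h, -, -⟩
    · have id' : ∀ M : SL(2, F), dConj c⁻¹ (dConj c M) = M := fun M => by
        refine Subtype.ext ?_
        rw [dConj_val, dConj_val]
        ext i j
        fin_cases i <;> fin_cases j <;> simp [dMat]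
      have hle : K.map (dConj c) = ⊤ := by
        rw [eq_top_iff, ← htop, Subgroup.closure_le]
        rintro g (hg | hg)
        · refine ⟨lElt y, hy, ?_⟩
          rw [dConj_lElt, hc]
          refine Subtype.ext ?_
          rw [lElt_val, hg]
        · refine ⟨uElt (ω : F), hu, ?_⟩
          rw [dConj_uElt]
          refine Subtype.ext ?_
          rw [uElt_val, hg]
      rw [eq_top_iff]
      intro M _
      obtain ⟨N, hN, e⟩ := (hle ▸ Subgroup.mem_top (dConj c M) : dConj c M ∈ K.map (dConj c))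
      have e' := congrArg (dConj c⁻¹) e
      rw [id', id'] at e'
      exact e' ▸ hN
    · exact absurd h h9
  refine ⟨main (-(ω : F)) (-ω) ?_ (fun S h => ?_) _ (Subgroup.subset_closure (Set.mem_insert _ _)) ?_,
    main (ω : F) ω (Units.inv_mul ω) (fun S h => by rw [sq]; exact h) _ (Subgroup.subset_closure (Set.mem_insert _ _))
      (Subgroup.subset_closure (Set.mem_insert_of_mem _ (Set.mem_singleton _)))⟩
  · rw [← Units.val_neg]; exact Units.inv_mul _
  · have := S.neg_mem h
    rwa [Units.val_neg, neg_mul, neg_neg, ← sq] at this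
  · have hw : wElt F ∈ Subgroup.closure ({uElt (ω : F), wElt F} : Set SL(2, F)) :=
      Subgroup.subset_closure (Set.mem_insert_of_mem _ (Set.mem_singleton _))
    rw [show lElt (-(ω : F)) = wElt F * uElt (ω : F) * (wElt F)⁻¹ by rw [lElt, neg_neg]]
    exact Subgroup.mul_mem _ (Subgroup.mul_mem _ hw (Subgroup.subset_closure (Set.mem_insert _ _))) (Subgroup.inv_mem _ hw)

/-- Characteristic two. -/
theorem pair_even (h2 : (2 : F) = 0) (ω : Fˣ) (hω : ∀ y : Fˣ, y ∈ Subgroup.zpowers ω)
    (hq : Fintype.card F ≠ 2) :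
    Subgroup.closure ({dElt ω * uElt 1, jConj (dElt ω * uElt 1)} : Set SL(2, F)) = ⊤ := by
  set g := dElt ω * uElt (1 : F) with hg
  set g' := jConj g with hg'
  set K := Subgroup.closure ({g, g'} : Set SL(2, F))
  have hgK : g ∈ K := Subgroup.subset_closure (Set.mem_insert _ _)
  have hg'K : g' ∈ K := Subgroup.subset_closure (Set.mem_insert_of_mem _ (Set.mem_singleton _))
  set x : F := (ω : F) with hx
  have hx0 : x ≠ 0 := ω.ne_zero
  have hxi : ((ω⁻¹ : Fˣ) : F) = x⁻¹ := Units.val_inv_eq_inv_val ω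
  have hx1 : x ≠ 1 := fun e => hq (by
    have hω1 : ω = 1 := Units.ext e
    have := orderOf_eq_card_of_forall_mem_zpowers hω
    rw [hω1, orderOf_one, Nat.card_units, Nat.card_eq_fintype_card] at this
    omega)
  have hx2 : x ^ 2 + 1 ≠ 0 := fun e => hx1 (by
    have : (x + 1) ^ 2 = 0 := by linear_combination e + x * h2
    have := eq_zero_of_pow_eq_zero this
    linear_combination this - h2)
  set s : F := x ^ 2 / (x ^ 2 + 1) with hs
  set P : SL(2, F) := uElt s with hP
  have hPi : P⁻¹ = uElt (-s) := (uElt_neg s).symm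
  set K' := K.comap (MulAut.conj P).toMonoidHom with hK'
  suffices h : K' = ⊤ by
    rw [eq_top_iff]
    intro M _
    have : P⁻¹ * M * P ∈ K' := h ▸ Subgroup.mem_top _
    simpa [K', mul_assoc] using this
  have hmem : ∀ M, M ∈ K → P⁻¹ * M * P ∈ K' := fun M hM => by
    show P * (P⁻¹ * M * P) * P⁻¹ ∈ K
    rwa [show P * (P⁻¹ * M * P) * P⁻¹ = M by group]
  have hd : dElt ω ∈ K' := by
    have := hmem g hgK
    rwa [show P⁻¹ * g * P = dElt ω by
      rw [hPi, hP, hg]
      refine Subtype.ext ?_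
      simp only [Matrix.SpecialLinearGroup.coe_mul, uElt_val]
      ext i j
      fin_cases i <;> fin_cases j <;> simp [dElt, Matrix.mul_apply, Fin.sum_univ_two, hxi, ← hx, hs] <;> grind] at this
  set k := g'⁻¹ * g'⁻¹ with hk
  set e2 := P⁻¹ * (k * g * k⁻¹) * P with he2
  have he2K : e2 ∈ K' := hmem _ (K.mul_mem (K.mul_mem (K.mul_mem (K.inv_mem hg'K) (K.inv_mem hg'K)) hgK)
    (K.inv_mem (K.mul_mem (K.inv_mem hg'K) (K.inv_mem hg'K))))
  have hmul : x * x⁻¹ = 1 := mul_inv_cancel₀ hx0
  have hsm : s * (x ^ 2 + 1) = x ^ 2 := div_mul_cancel₀ _ hx2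
  set c : F := x ^ 2 + 1 with hc
  have gv : (g : Matrix (Fin 2) (Fin 2) F) = !![x, x; 0, x⁻¹] := by
    rw [hg, Matrix.SpecialLinearGroup.coe_mul, uElt_val]
    ext i j
    fin_cases i <;> fin_cases j <;> simp [dElt, Matrix.mul_apply, Fin.sum_univ_two, hxi, ← hx]
  have g'v : (g' : Matrix (Fin 2) (Fin 2) F) = !![x⁻¹, 0; x, x] := by
    rw [hg', jConj_val, gv]
    ext i j
    fin_cases i <;> fin_cases j <;> simp [jMat]
  have kv : (k : Matrix (Fin 2) (Fin 2) F) = !![x * x, 0; c, x⁻¹ * x⁻¹] := by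
    rw [hk, Matrix.SpecialLinearGroup.coe_mul, Matrix.SpecialLinearGroup.coe_inv, g'v]
    ext i j
    fin_cases i <;> fin_cases j <;> simp [Matrix.mul_apply, Fin.sum_univ_two, Matrix.adjugate_fin_two] <;> grind
  obtain ⟨N, hN⟩ : ∃ N, N = P⁻¹ * k := ⟨_, rfl⟩
  have Nv : (N : Matrix (Fin 2) (Fin 2) F) = !![0, s * (x⁻¹ * x⁻¹); c, x⁻¹ * x⁻¹] := by
    rw [hN, hPi, Matrix.SpecialLinearGroup.coe_mul, uElt_val, kv, Matrix.mul_fin_two]
    ext i j
    fin_cases i <;> fin_cases j <;> simp <;> grind
  set y0 : F := c * (x * (x⁻¹ * x⁻¹ + c)) + x⁻¹ * x⁻¹ * c * x⁻¹ with hy0'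
  have e2v : (e2 : Matrix (Fin 2) (Fin 2) F) = !![x⁻¹, 0; y0, x] := by
    rw [show e2 = N * g * N⁻¹ by rw [he2, hN]; group,
      Matrix.SpecialLinearGroup.coe_mul, Matrix.SpecialLinearGroup.coe_mul, Matrix.SpecialLinearGroup.coe_inv, Nv, gv,
      Matrix.adjugate_fin_two_of, Matrix.mul_fin_two, Matrix.mul_fin_two]
    ext i j
    fin_cases i <;> fin_cases j <;> simp <;> grind
  set y : F := y0 * (x⁻¹ + x) with hy
  have hy0 : y ≠ 0 := by
    have h1 : y0 * x ^ 3 = c ^ 4 := by grind
    have h2' : (x⁻¹ + x) * x = c := by grind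
    intro e
    rcases mul_eq_zero.1 e with e | e
    · rw [e, zero_mul] at h1; exact hx2 (eq_zero_of_pow_eq_zero h1.symm)
    · rw [e, zero_mul] at h2'; exact hx2 h2'.symm
  have hcomm : dElt ω * e2 * (dElt ω)⁻¹ * e2⁻¹ = lElt y := by
    refine Subtype.ext ?_
    rw [Matrix.SpecialLinearGroup.coe_mul, Matrix.SpecialLinearGroup.coe_mul, Matrix.SpecialLinearGroup.coe_mul,
      Matrix.SpecialLinearGroup.coe_inv, Matrix.SpecialLinearGroup.coe_inv, e2v, lElt_val,
      show ((dElt ω : SL(2, F)) : Matrix (Fin 2) (Fin 2) F) = !![x, 0; 0, x⁻¹] by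
        ext i j; fin_cases i <;> fin_cases j <;> simp [dElt, hxi, ← hx],
      Matrix.adjugate_fin_two_of, Matrix.adjugate_fin_two_of, Matrix.mul_fin_two, Matrix.mul_fin_two, Matrix.mul_fin_two]
    ext i j
    fin_cases i <;> fin_cases j <;> simp <;> grind
  have hly : lElt y ∈ K' := hcomm ▸ K'.mul_mem (K'.mul_mem (K'.mul_mem hd he2K) (K'.inv_mem hd)) (K'.inv_mem he2K)
  refine eq_top_of_lower K' (fun t => ?_) (P⁻¹ * g' * P) (hmem g' hg'K) ?_
  · rcases eq_or_ne t 0 with rfl | ht
    · have : lElt (0 : F) = 1 := by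
        have := lElt_add (0 : F) 0
        rwa [add_zero, left_eq_mul] at this
      rw [this]
      exact one_mem _
    have : CharP F 2 := CharTwo.of_one_ne_zero_of_two_eq_zero one_ne_zero h2
    obtain ⟨r, hr⟩ := isSquare_of_charTwo' (y / t)
    have hr0 : r ≠ 0 := fun e => div_ne_zero hy0 ht (by rw [hr, e, mul_zero])
    obtain ⟨k, hk⟩ := (isOfFinOrder_of_finite ω).mem_powers_iff_mem_zpowers.2 (hω (Units.mk0 r hr0))
    have := K'.mul_mem (K'.mul_mem (K'.pow_mem hd k) hly) (K'.inv_mem (K'.pow_mem hd k))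
    rwa [dElt_pow, dElt_conj_lElt, show ω ^ k = Units.mk0 r hr0 from hk, Units.val_inv_eq_inv_val, Units.val_mk0,
      inv_pow, sq, ← hr, inv_div, div_mul_cancel₀ t hy0] at this
  · rw [hPi, hP, hg', hg]
    simp only [Matrix.SpecialLinearGroup.coe_mul, jConj_val, uElt_val]
    simp [dElt, jMat, Matrix.mul_apply, Fin.sum_univ_two, hxi, ← hx, hs]
    grind

set_option maxHeartbeats 1000000 in
/-- The field with nine elements. -/
theorem pair_nine (h9 : Fintype.card F = 9) (ω : Fˣ) (hω : ∀ y : Fˣ, y ∈ Subgroup.zpowers ω) :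
    Subgroup.closure ({dElt ω * uElt 1, wElt F} : Set SL(2, F)) = ⊤ ∧
      Subgroup.closure ({dElt ω * uElt 1, jConj (dElt ω * uElt 1)} : Set SL(2, F)) = ⊤ := by
  obtain ⟨p, hchar⟩ := CharP.exists F
  obtain ⟨⟨n, hn0⟩, hprime, hn⟩ := FiniteField.card F p
  replace hn : Fintype.card F = p ^ n := hn
  have := Fact.mk hprime
  have hp : p = 3 := (Nat.prime_dvd_prime_iff_eq hprime Nat.prime_three).1
    (hprime.dvd_of_dvd_pow (show p ∣ 3 ^ 2 by
      rw [show (3 : ℕ) ^ 2 = p ^ n by rw [← hn, h9]; norm_num]; exact dvd_pow_self p hn0.ne'))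
  subst hp
  have hn2 : n = 2 := Nat.pow_right_injective (by norm_num) (show 3 ^ n = 3 ^ 2 by rw [← hn, h9])
  subst hn2
  let _ : Algebra (ZMod 3) F := ZMod.algebra F 3
  have h3 : (3 : F) = 0 := by exact_mod_cast CharP.cast_eq_zero F 3
  set x : F := (ω : F) with hx
  have hx0 : x ≠ 0 := ω.ne_zero
  have hord : orderOf ω = 8 := by
    rw [orderOf_eq_card_of_forall_mem_zpowers hω, Nat.card_units, Nat.card_eq_fintype_card, h9]
  have hxi : ((ω⁻¹ : Fˣ) : F) = x⁻¹ := Units.val_inv_eq_inv_val ω
  have h8 : x ^ 8 = 1 := by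
    rw [hx, ← Units.val_pow_eq_pow_val, ← hord, pow_orderOf_eq_one, Units.val_one]
  have h4 : x ^ 4 ≠ 1 := fun e => by
    have : orderOf ω ∣ 4 := orderOf_dvd_of_pow_eq_one (Units.ext (by rw [Units.val_pow_eq_pow_val]; exact e))
    rw [hord] at this
    norm_num at this
  have hpoly : x ^ 2 = x + 1 ∨ x ^ 2 = 2 * x + 1 := by
    have h44 : x ^ 4 + 1 = 0 := by
      refine (mul_eq_zero.1 (?_ : (x ^ 4 - 1) * (x ^ 4 + 1) = 0)).resolve_left (sub_ne_zero.2 h4)
      linear_combination h8
    have : (x ^ 2 - x - 1) * (x ^ 2 - 2 * x - 1) = 0 := by linear_combination h44 + (x - x ^ 3) * h3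
    rcases mul_eq_zero.1 this with e | e
    · left; linear_combination e
    · right; linear_combination e
  obtain ⟨B, hB⟩ := exists_power_basis (p := 3) (x ^ 2) hn fun d hd hdn => sq_gen_moved ω hω hn hd (by omega)
  set g := dElt ω * uElt (1 : F) with hg
  set w := wElt F with hw
  set k := jConj g with hk
  have hgen : ∀ K : Subgroup SL(2, F), g ∈ K → uElt 1 ∈ K → w ∈ K → K = ⊤ := by
    intro K hgK huK hwK
    rw [eq_top_iff, ← closure_std ω 1 B (fun i => by rw [pow_one]; exact hB i), Subgroup.closure_le]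
    rintro _ ⟨i, rfl⟩
    fin_cases i
    · exact huK
    · have := K.mul_mem hgK (K.inv_mem huK)
      rwa [hg, mul_inv_cancel_right] at this
    · exact hwK
  have ev : ∀ (M : SL(2, F)) (L : List SL(2, F)), (∀ N ∈ L, N = g ∨ N = M) → L.prod ∈
      Subgroup.closure ({g, M} : Set SL(2, F)) := fun M L hL =>
    Subgroup.list_prod_mem _ fun N hN => Subgroup.subset_closure (hL N hN)
  have hg1 : g ∈ Subgroup.closure ({g, w} : Set SL(2, F)) := Subgroup.subset_closure (Set.mem_insert _ _)
  have hg2 : g ∈ Subgroup.closure ({g, k} : Set SL(2, F)) := Subgroup.subset_closure (Set.mem_insert _ _)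
  have wv : (w : Matrix (Fin 2) (Fin 2) F) = !![0, 1; 2, 0] := by
    ext i j
    fin_cases i <;> fin_cases j <;> simp [hw, wElt] <;> grind
  have uv : ((uElt (1 : F) : SL(2, F)) : Matrix (Fin 2) (Fin 2) F) = !![1, 1; 0, 1] := uElt_val _
  have gv : ∀ a : F, x⁻¹ = a → (g : Matrix (Fin 2) (Fin 2) F) = !![x, x; 0, a] := fun a ha => by
    rw [hg, Matrix.SpecialLinearGroup.coe_mul, uElt_val]
    ext i j
    fin_cases i <;> fin_cases j <;> simp [dElt, Matrix.mul_apply, Fin.sum_univ_two, hxi, ← hx, ← ha]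
  have kv : ∀ a : F, x⁻¹ = a → (k : Matrix (Fin 2) (Fin 2) F) = !![a, 0; x, x] := fun a ha => by
    rw [hk, jConj_val, gv a ha]
    ext i j
    fin_cases i <;> fin_cases j <;> simp [jMat]
  have mem_w : w ∈ Subgroup.closure ({g, w} : Set SL(2, F)) :=
    Subgroup.subset_closure (Set.mem_insert_of_mem _ (Set.mem_singleton _))
  have mem_k : k ∈ Subgroup.closure ({g, k} : Set SL(2, F)) :=
    Subgroup.subset_closure (Set.mem_insert_of_mem _ (Set.mem_singleton _))
  refine ⟨hgen _ hg1 ?_ mem_w, hgen _ hg2 ?_ ?_⟩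
  all_goals rcases hpoly with e | e
  all_goals first
    | (have ha : x⁻¹ = 2 + x := inv_eq_of_mul_eq_one_right (by grind)
       first
        | (rw [show uElt (1 : F) = _ from Subtype.ext (uv.trans (nine_one_wg h3 e (gv _ ha) wv).symm)]
           repeat' first | exact hg1 | exact mem_w | apply Subgroup.mul_mem
           done)
        | (rw [show uElt (1 : F) = _ from Subtype.ext (uv.trans (nine_one_gk h3 e (gv _ ha) (kv _ ha)).symm)]
           repeat' first | exact hg2 | exact mem_k | apply Subgroup.mul_mem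
           done)
        | (rw [show w = _ from Subtype.ext (wv.trans (nine_one_kw h3 e (gv _ ha) (kv _ ha)).symm)]
           repeat' first | exact hg2 | exact mem_k | apply Subgroup.mul_mem
           done))
    | (have ha : x⁻¹ = 1 + x := inv_eq_of_mul_eq_one_right (by grind)
       first
        | (rw [show uElt (1 : F) = _ from Subtype.ext (uv.trans (nine_two_wg h3 e (gv _ ha) wv).symm)]
           repeat' first | exact hg1 | exact mem_w | apply Subgroup.mul_mem
           done)
        | (rw [show uElt (1 : F) = _ from Subtype.ext (uv.trans (nine_two_gk h3 e (gv _ ha) (kv _ ha)).symm)]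
           repeat' first | exact hg2 | exact mem_k | apply Subgroup.mul_mem
           done)
        | (rw [show w = _ from Subtype.ext (wv.trans (nine_two_kw h3 e (gv _ ha) (kv _ ha)).symm)]
           repeat' first | exact hg2 | exact mem_k | apply Subgroup.mul_mem
           done))

/-- The element with its Weyl element, and with its swap, generate. -/
theorem pair_gen (ω : Fˣ) (hω : ∀ y : Fˣ, y ∈ Subgroup.zpowers ω) :
    Subgroup.closure ({gElt ω, wElt F} : Set SL(2, F)) = ⊤ ∧
      Subgroup.closure ({gElt ω, jConj (gElt ω)} : Set SL(2, F)) = ⊤ := by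
  classical
  rcases eq_or_ne (2 : F) 0 with h2 | h2
  · have hg : gElt ω = dElt ω * uElt 1 := by simp [gElt, h2]
    rw [hg]
    have hw : wElt F * wElt F = 1 := by
      rw [wElt_sq]
      refine Subtype.ext (Matrix.ext fun i j => ?_)
      rw [Matrix.SpecialLinearGroup.coe_neg, Matrix.neg_apply]
      linear_combination -((1 : Matrix (Fin 2) (Fin 2) F) i j) * h2
    have hconj : ∀ M : SL(2, F), wElt F * M * wElt F = jConj M := fun M => by
      refine Subtype.ext ?_
      rw [Matrix.SpecialLinearGroup.coe_mul, Matrix.SpecialLinearGroup.coe_mul, jConj_val]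
      ext i j
      fin_cases i <;> fin_cases j <;> simp [wElt, jMat, Matrix.mul_apply, Fin.sum_univ_two, Matrix.vecMul, dotProduct] <;> grind
    suffices h : Subgroup.closure ({dElt ω * uElt 1, jConj (dElt ω * uElt 1)} : Set SL(2, F)) = ⊤ by
      refine ⟨?_, h⟩
      rw [eq_top_iff, ← h, Subgroup.closure_le]
      rintro _ (rfl | rfl)
      · exact Subgroup.subset_closure (Set.mem_insert _ _)
      · rw [← hconj]
        have hwm : wElt F ∈ Subgroup.closure ({dElt ω * uElt 1, wElt F} : Set SL(2, F)) :=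
          Subgroup.subset_closure (Set.mem_insert_of_mem _ (Set.mem_singleton _))
        exact Subgroup.mul_mem _ (Subgroup.mul_mem _ hwm (Subgroup.subset_closure (Set.mem_insert _ _))) hwm
    by_cases hq : Fintype.card F = 2
    · have hω1 : ω = 1 := by
        have := Fintype.card_units (α := F)
        rw [hq] at this
        exact (Fintype.card_le_one_iff.1 this.le) _ _
      have hd : dElt ω = 1 := by
        rw [hω1]
        refine Subtype.ext ?_
        ext i j
        fin_cases i <;> fin_cases j <;> simp [dElt]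
      have two : ∀ t : F, t = 0 ∨ t = 1 := by
        intro t
        by_contra hc
        simp only [not_or] at hc
        have h3 : ({0, 1, t} : Finset F).card = 3 := Finset.card_eq_three.2
          ⟨0, 1, t, zero_ne_one, Ne.symm hc.1, Ne.symm hc.2, rfl⟩
        have := Finset.card_le_univ ({0, 1, t} : Finset F)
        omega
      rw [hd, one_mul, jConj_uElt]
      refine closure_up_low _ (fun t => ?_) fun t => ?_
      · rcases two t with rfl | rfl
        · rw [uElt_zero]; exact one_mem _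
        · exact Subgroup.subset_closure (Set.mem_insert _ _)
      · rcases two t with rfl | rfl
        · have : lElt (0 : F) = 1 := by
            have := lElt_add (0 : F) 0
            rwa [add_zero, left_eq_mul] at this
          rw [this]; exact one_mem _
        · exact Subgroup.subset_closure (Set.mem_insert_of_mem _ (Set.mem_singleton _))
    · exact pair_even h2 ω hω hq
  · by_cases h9 : Fintype.card F = 9
    · have hg : gElt ω = dElt ω * uElt 1 := by simp [gElt, h9]
      rw [hg]
      exact pair_nine h9 ω hω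
    · have hg : gElt ω = uElt (ω : F) := by simp [gElt, h2, h9]
      rw [hg, jConj_uElt]
      exact pair_odd h2 h9 ω hω

end CfsgLib.Pres
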