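import Cfsg.Agent.Lib.Pres.SLTwoSeven
import Cfsg.Agent.Lib.Pres.SLThreeCore
import Cfsg.Agent.Lib.Pres.SLTwoPairs

/-!
# A short presentation of `SL₃`
-/

set_option autoImplicit false

namespace CfsgLib.Pres

open Matrix
open scoped MatrixGroups
open CfsgLib.Classical (uElt uElt_val uElt_add)

/-- Words in four letters. -/
abbrev W4 := FreeGroup (Fin 4)

/-- The inclusion of three letters. -/
def ins : W3 →* W4 := FreeGroup.map Fin.castSucc

/-- The fourth letter. -/
abbrev lc : W4 := FreeGroup.of 3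

variable {F : Type*} [Field F]

/-- The matrix of the corner embedding. -/
def cornerMat (M : Matrix (Fin 2) (Fin 2) F) : Matrix (Fin 3) (Fin 3) F :=
  !![M 0 0, M 0 1, 0; M 1 0, M 1 1, 0; 0, 0, 1]

theorem cornerMat_mul (M N : Matrix (Fin 2) (Fin 2) F) : cornerMat (M * N) = cornerMat M * cornerMat N := by
  ext i j
  fin_cases i <;> fin_cases j <;> simp [cornerMat, Matrix.mul_apply, Fin.sum_univ_three, Fin.sum_univ_two]

theorem eq_of_coe_mul_eq {A B C D : SL(3, F)}
    (h : (A : Matrix (Fin 3) (Fin 3) F) * (B : Matrix (Fin 3) (Fin 3) F) =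
      (C : Matrix (Fin 3) (Fin 3) F) * (D : Matrix (Fin 3) (Fin 3) F)) : A * B = C * D := Subtype.ext h

theorem std_zero (z : Fˣ) : std z 0 = uElt 1 := rfl
theorem std_one (z : Fˣ) : std z 1 = dElt z := rfl
theorem std_two (z : Fˣ) : std z 2 = wElt F := rfl

/-- The corner embedding. -/
def corner : SL(2, F) →* SL(3, F) :=
  MonoidHom.mk' (fun M => ⟨cornerMat M, by
    have h := M.2
    rw [Matrix.det_fin_two] at h
    rw [cornerMat, Matrix.det_fin_three]
    simp
    linear_combination h⟩) fun M N => Subtype.ext (by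
      show cornerMat ((M * N : SL(2, F)) : Matrix (Fin 2) (Fin 2) F) = _
      rw [Matrix.SpecialLinearGroup.coe_mul, cornerMat_mul]
      rfl)

theorem corner_val (M : SL(2, F)) : (corner M : Matrix (Fin 3) (Fin 3) F) =
    !![(M : Matrix (Fin 2) (Fin 2) F) 0 0, (M : Matrix (Fin 2) (Fin 2) F) 0 1, 0;
      (M : Matrix (Fin 2) (Fin 2) F) 1 0, (M : Matrix (Fin 2) (Fin 2) F) 1 1, 0; 0, 0, 1] := rfl

/-- The cyclic permutation of the coordinates. -/
def cyc (F : Type*) [Field F] : SL(3, F) := ⟨!![0, 0, 1; 1, 0, 0; 0, 1, 0], by simp [Matrix.det_fin_three]⟩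

theorem cyc_val : (cyc F : Matrix (Fin 3) (Fin 3) F) = !![0, 0, 1; 1, 0, 0; 0, 1, 0] := rfl

theorem cyc_inv : (cyc F)⁻¹ = cyc F * cyc F := by
  refine inv_eq_of_mul_eq_one_right (Subtype.ext ?_)
  simp only [Matrix.SpecialLinearGroup.coe_mul, Matrix.SpecialLinearGroup.coe_one, cyc_val]
  ext i j
  fin_cases i <;> fin_cases j <;> simp [Matrix.mul_apply, Fin.sum_univ_three]

theorem cyc_cube : cyc F * cyc F * cyc F = 1 := by rw [← cyc_inv, inv_mul_cancel]

theorem cyc_fwd (M : SL(2, F)) : ((cyc F * corner M * (cyc F)⁻¹ : SL(3, F)) : Matrix (Fin 3) (Fin 3) F) =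
    !![1, 0, 0; 0, (M : Matrix (Fin 2) (Fin 2) F) 0 0, (M : Matrix (Fin 2) (Fin 2) F) 0 1;
      0, (M : Matrix (Fin 2) (Fin 2) F) 1 0, (M : Matrix (Fin 2) (Fin 2) F) 1 1] := by
  rw [cyc_inv]
  simp only [Matrix.SpecialLinearGroup.coe_mul, cyc_val, corner_val]
  ext i j
  fin_cases i <;> fin_cases j <;> simp [Matrix.mul_apply, Fin.sum_univ_three]

theorem cyc_bwd (M : SL(2, F)) : (((cyc F)⁻¹ * corner M * cyc F : SL(3, F)) : Matrix (Fin 3) (Fin 3) F) =
    !![(M : Matrix (Fin 2) (Fin 2) F) 1 1, 0, (M : Matrix (Fin 2) (Fin 2) F) 1 0; 0, 1, 0;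
      (M : Matrix (Fin 2) (Fin 2) F) 0 1, 0, (M : Matrix (Fin 2) (Fin 2) F) 0 0] := by
  rw [cyc_inv]
  simp only [Matrix.SpecialLinearGroup.coe_mul, cyc_val, corner_val]
  ext i j
  fin_cases i <;> fin_cases j <;> simp [Matrix.mul_apply, Fin.sum_univ_three]

theorem corner_wElt_invol : corner (wElt F) * (cyc F)⁻¹ * corner (wElt F) * (cyc F)⁻¹ = 1 := by
  rw [cyc_inv]
  refine Subtype.ext ?_
  simp only [Matrix.SpecialLinearGroup.coe_mul, Matrix.SpecialLinearGroup.coe_one, cyc_val, corner_val]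
  ext i j
  fin_cases i <;> fin_cases j <;> simp [wElt, Matrix.mul_apply, Fin.sum_univ_three]

theorem corner_dElt_prod (z : Fˣ) :
    corner (dElt z) * (cyc F * corner (dElt z) * (cyc F)⁻¹) * ((cyc F)⁻¹ * corner (dElt z) * cyc F) = 1 := by
  refine Subtype.ext ?_
  rw [Matrix.SpecialLinearGroup.coe_mul, Matrix.SpecialLinearGroup.coe_mul, cyc_fwd, cyc_bwd, corner_val,
    Matrix.SpecialLinearGroup.coe_one]
  ext i j
  fin_cases i <;> fin_cases j <;> simp [dElt, Matrix.mul_apply, Fin.sum_univ_three]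

theorem corner_dConj (z : Fˣ) (M : SL(2, F)) :
    ((cyc F)⁻¹ * corner (dElt z) * cyc F)⁻¹ * corner M * ((cyc F)⁻¹ * corner (dElt z) * cyc F) =
      corner (dConj z M) := by
  rw [mul_assoc, inv_mul_eq_iff_eq_mul]
  refine eq_of_coe_mul_eq ?_
  rw [cyc_bwd, corner_val, corner_val,
    dConj_val]
  ext i j
  fin_cases i <;> fin_cases j <;> simp [dElt, dMat, Matrix.mul_apply, Fin.sum_univ_three] <;> ring

theorem corner_A (t : F) : Commute (corner (uElt (1 : F))) ((cyc F)⁻¹ * corner (lElt t) * cyc F) := by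
  refine eq_of_coe_mul_eq ?_
  rw [cyc_bwd, corner_val, lElt_val, uElt_val]
  ext i j
  fin_cases i <;> fin_cases j <;> simp [Matrix.mul_apply, Fin.sum_univ_three]

theorem corner_B (t : F) : Commute (corner (uElt (1 : F))) (cyc F * corner (lElt t) * (cyc F)⁻¹) := by
  refine eq_of_coe_mul_eq ?_
  rw [cyc_fwd, corner_val, lElt_val, uElt_val]
  ext i j
  fin_cases i <;> fin_cases j <;> simp [Matrix.mul_apply, Fin.sum_univ_three]

theorem corner_C (t : F) : corner (uElt (1 : F)) * (cyc F * corner (uElt t) * (cyc F)⁻¹) * (corner (uElt (1 : F)))⁻¹ *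
    (cyc F * corner (uElt t) * (cyc F)⁻¹)⁻¹ = (cyc F)⁻¹ * corner (lElt t) * cyc F := by
  rw [mul_inv_eq_iff_eq_mul, mul_inv_eq_iff_eq_mul]
  refine Subtype.ext ?_
  simp only [Matrix.SpecialLinearGroup.coe_mul _ (corner (uElt (1 : F))), Matrix.SpecialLinearGroup.coe_mul _ (cyc F * _ * _)]
  rw [cyc_bwd, cyc_fwd, corner_val, lElt_val, uElt_val, uElt_val]
  ext i j
  fin_cases i <;> fin_cases j <;> simp [Matrix.mul_apply, Fin.sum_univ_three]

variable [Fintype F]

/-- The conjugation action of the third torus on the first copy of `SL₂`. -/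
theorem delta_of_glue {G : Type*} [Group G] (z : Fˣ) (hz : ∀ y : Fˣ, y ∈ Subgroup.zpowers z) (φ : SL(2, F) →* G)
    (c : G) (hinvol : φ (wElt F) * c⁻¹ * φ (wElt F) * c⁻¹ = 1)
    (hprod : φ (dElt z) * (c * φ (dElt z) * c⁻¹) * (c⁻¹ * φ (dElt z) * c) = 1)
    (hT : (c⁻¹ * φ (dElt z) * c)⁻¹ * φ (gElt z) * (c⁻¹ * φ (dElt z) * c) = φ (dConj z (gElt z))) :
    ∀ M, (c⁻¹ * φ (dElt z) * c)⁻¹ * φ M * (c⁻¹ * φ (dElt z) * c) = φ (dConj z M) := by
  set h2 := c⁻¹ * φ (dElt z) * c with hh2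
  have hwinv : φ (wElt F) * φ (dElt z) * (φ (wElt F))⁻¹ = (φ (dElt z))⁻¹ := by
    rw [← map_inv, ← map_mul, ← map_mul, wElt_dElt, map_inv]
  set w := φ (wElt F) with hw
  set h := φ (dElt z) with hh
  have wc : w * c⁻¹ = c * w⁻¹ := by
    rw [eq_mul_inv_iff_mul_eq]
    exact mul_inv_eq_one.1 hinvol
  have h1eq : c * h * c⁻¹ = h⁻¹ * h2⁻¹ := by
    rw [eq_mul_inv_iff_mul_eq]
    exact eq_inv_of_mul_eq_one_right (by rw [← mul_assoc]; exact hprod)
  have hwinv' : w⁻¹ * h * w = h⁻¹ := by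
    rw [eq_inv_iff_mul_eq_one]
    calc w⁻¹ * h * w * h = w⁻¹ * h * (w * h * w⁻¹) * w := by group
      _ = 1 := by rw [hwinv]; group
  have e : w * h2 * w⁻¹ = h2 * h := by
    rw [hh2, show w * (c⁻¹ * h * c) * w⁻¹ = (w * c⁻¹) * h * (w * c⁻¹)⁻¹ by group, wc,
      show c * w⁻¹ * h * (c * w⁻¹)⁻¹ = c * (w⁻¹ * h * w) * c⁻¹ by group, hwinv',
      show c * h⁻¹ * c⁻¹ = (c * h * c⁻¹)⁻¹ by group, h1eq, ← hh2]
    group
  have hw' : h2⁻¹ * w * h2 = φ (dConj z (wElt F)) := by
    rw [dConj_wElt, map_mul, ← hh, ← hw]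
    calc h2⁻¹ * w * h2 = h2⁻¹ * (w * h2 * w⁻¹) * w := by group
      _ = h * w := by rw [e]; group
  intro M
  let φ1 : SL(2, F) →* G := (MulAut.conj h2⁻¹).toMonoidHom.comp φ
  have hφ1 : ∀ M, φ1 M = h2⁻¹ * φ M * h2 := fun M => by simp [φ1]
  have := MonoidHom.eq_of_eqOn_dense (pair_gen z hz).1 (f := φ1) (g := φ.comp (dConj z)) fun M hM => by
    rw [hφ1]
    rcases hM with rfl | rfl
    · exact hT
    · exact hw'
  rw [← hφ1, this]
  rfl

omit [Fintype F] in
theorem lift_ins {G : Type*} [Group G] (g : Fin 4 → G) (W : W3) :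
    FreeGroup.lift g (ins W) = FreeGroup.lift (fun i => g i.castSucc) W := by
  have : (FreeGroup.lift g).comp ins = FreeGroup.lift fun i => g i.castSucc :=
    FreeGroup.ext_hom _ _ fun i => by simp [ins]
  exact DFunLike.congr_fun this W

set_option maxHeartbeats 1000000 in
/-- `SL₃` has a presentation with four generators and fourteen relations. -/
theorem sl_three :
    ∃ rels : Finset W4, rels.card ≤ 14 ∧ Nonempty (PresentedGroup (↑rels : Set W4) ≃* SL(3, F)) := by
  classical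
  obtain ⟨p, hchar⟩ := CharP.exists F
  obtain ⟨⟨n, hn0⟩, hprime, hn⟩ := FiniteField.card F p
  have := Fact.mk hprime
  replace hn : Fintype.card F = p ^ n := hn
  let _ : Algebra (ZMod p) F := ZMod.algebra F p
  obtain ⟨z, hz⟩ := IsCyclic.exists_generator (α := Fˣ)
  obtain ⟨hgen, L, hlen, hlen4, hlen5, hold, hhom⟩ := sl_two_seven z hz
  have hsurj : Function.Surjective (FreeGroup.lift (std z)) := by
    rw [← MonoidHom.range_eq_top, FreeGroup.range_lift_eq_closure, hgen]
  choose Wd hWd using hsurj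
  obtain ⟨N, hN⟩ := (isOfFinOrder_of_finite z).mem_powers_iff_mem_zpowers.2 (hz (-1))
  let H : W4 := ins lh
  let H2 : W4 := lc⁻¹ * H * lc
  let g : SL(2, F) := gElt z
  let glue : List (W4 × W4) := [(lc * lc * lc, 1), (ins lw * lc⁻¹ * ins lw * lc⁻¹, 1),
    (H * (lc * H * lc⁻¹) * H2, 1), (H2⁻¹ * ins (Wd g) * H2, ins (Wd (dConj z g))),
    (ins lu * (lc * ins (Wd (lElt 1)) * lc⁻¹), lc * ins (Wd (lElt 1)) * lc⁻¹ * ins lu),
    (ins lu * (lc * ins lu * lc⁻¹) * (ins lu)⁻¹ * (lc * ins lu * lc⁻¹)⁻¹, lc⁻¹ * ins (Wd (lElt 1)) * lc)]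
  let extra4 : List (W4 × W4) := [
    (ins lu * (lc * ins (Wd (lElt (z : F))) * lc⁻¹), lc * ins (Wd (lElt (z : F))) * lc⁻¹ * ins lu),
    (ins lu * (lc * ins (Wd (uElt (z : F))) * lc⁻¹) * (ins lu)⁻¹ * (lc * ins (Wd (uElt (z : F))) * lc⁻¹)⁻¹,
      lc⁻¹ * ins (Wd (lElt (z : F))) * lc)]
  let extra : List (W4 × W4) := if Fintype.card F = 4 then extra4 else []
  let L4 : List (W4 × W4) := L.map (fun e => (ins e.1, ins e.2)) ++ glue ++ extra
  have hlen14 : L4.length ≤ 14 := by
    simp only [L4, extra, List.length_append, List.length_map, glue, List.length_cons, List.length_nil]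
    split_ifs with h4
    · have := hlen4 h4; simp [extra4]; omega
    · simp; omega
  let t : Fin 4 → SL(3, F) := ![corner (uElt 1), corner (dElt z), corner (wElt F), cyc F]
  have ht : ∀ W, FreeGroup.lift t (ins W) = corner (FreeGroup.lift (std z) W) := fun W => by
    rw [lift_ins]
    have : FreeGroup.lift (fun i : Fin 3 => t i.castSucc) = (corner (F := F)).comp (FreeGroup.lift (std z)) :=
      FreeGroup.ext_hom _ _ fun i => by fin_cases i <;> simp [t, std]
    exact DFunLike.congr_fun this W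
  have htc : FreeGroup.lift t lc = cyc F := by simp [t]
  have hold4 : ∀ e ∈ L4, FreeGroup.lift t e.1 = FreeGroup.lift t e.2 := by
    intro e he
    simp only [L4, List.mem_append, List.mem_map] at he
    rcases he with (⟨e', he', rfl⟩ | he) | he
    · rw [ht, ht, hold e' he']
    · simp only [glue, List.mem_cons, List.not_mem_nil, or_false] at he
      rcases he with rfl | rfl | rfl | rfl | rfl | rfl <;>
        simp only [H, H2, map_mul, map_inv, map_one, ht, htc, hWd, FreeGroup.lift_apply_of, std_zero, std_one,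
          std_two]
      exacts [cyc_cube, corner_wElt_invol, corner_dElt_prod z, corner_dConj z g, corner_B 1, corner_C 1]
    · simp only [extra] at he
      split_ifs at he with h4
      · simp only [extra4, List.mem_cons, List.not_mem_nil, or_false] at he
        rcases he with rfl | rfl <;>
          simp only [map_mul, map_inv, ht, htc, hWd, FreeGroup.lift_apply_of, std_zero]
        exacts [corner_B _, corner_C _]
      · exact absurd he List.not_mem_nil
  -- the presented group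
  refine ⟨(L4.map fun e => e.1 * e.2⁻¹).toFinset,
    (List.toFinset_card_le _).trans ((List.length_map _).le.trans hlen14), ?_⟩
  set rels : Set W4 := ↑((L4.map fun e => e.1 * e.2⁻¹).toFinset) with hrels
  have hrel : ∀ r ∈ rels, FreeGroup.lift t r = 1 := by
    intro r hr
    rw [hrels, Finset.mem_coe, List.mem_toFinset, List.mem_map] at hr
    obtain ⟨e, he, rfl⟩ := hr
    rw [map_mul, map_inv, hold4 e he, mul_inv_cancel]
  let Φ : PresentedGroup rels →* SL(3, F) := PresentedGroup.toGroup hrel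
  set π := PresentedGroup.mk rels with hπdef
  have hπ : ∀ e ∈ L4, π e.1 = π e.2 := fun e he => PresentedGroup.mk_eq_mk_of_mul_inv_mem (by
    rw [hrels, Finset.mem_coe, List.mem_toFinset, List.mem_map]
    exact ⟨e, he, rfl⟩)
  obtain ⟨φ, hφ⟩ := hhom (G := PresentedGroup rels) (fun i => π (FreeGroup.of i.castSucc)) fun e he => by
    have := hπ (ins e.1, ins e.2) (by
      simp only [L4, List.mem_append, List.mem_map]; exact Or.inl (Or.inl ⟨e, he, rfl⟩))
    have l : ∀ W, FreeGroup.lift (fun i => π (FreeGroup.of i.castSucc)) W = π (ins W) := fun W =>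
      DFunLike.congr_fun (FreeGroup.ext_hom (FreeGroup.lift fun i : Fin 3 => π (FreeGroup.of i.castSucc))
        (π.comp ins) fun i => by simp [ins]) W
    rw [l, l]
    exact this
  have hins : ∀ W, π (ins W) = φ (FreeGroup.lift (std z) W) := fun W =>
    DFunLike.congr_fun (FreeGroup.ext_hom (π.comp ins) (φ.comp (FreeGroup.lift (std z)))
      fun i => by simp [hφ, ins]) W
  have hΦφ : ∀ M, Φ (φ M) = corner M := by
    intro M
    obtain ⟨W, rfl⟩ : ∃ W, FreeGroup.lift (std z) W = M := ⟨Wd M, hWd M⟩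
    rw [← hins, ← ht]
    rfl
  set c := π lc with hc
  have hglue : ∀ e ∈ glue, π e.1 = π e.2 := fun e he => hπ e (by
    simp only [L4, List.mem_append]; exact Or.inl (Or.inr he))
  simp only [glue, H, H2, List.forall_mem_cons, map_mul, map_inv, map_one, hins, hWd, FreeGroup.lift_apply_of, std_zero,
    std_one, std_two, ← hc] at hglue
  obtain ⟨hc3, hinvol, hprod, hT, hB, hC, -⟩ := hglue
  have hex : ∀ e ∈ extra, π e.1 = π e.2 := fun e he => hπ e (by
    simp only [L4, List.mem_append]; exact Or.inr he)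
  have hextra4 : Fintype.card F = 4 → ∀ e ∈ extra4, π e.1 = π e.2 := fun h4 e he => hex e (by
    simp only [extra, if_pos h4]; exact he)
  have hδ := delta_of_glue z hz φ c hinvol hprod hT
  obtain ⟨x, R, x01, x10, x12, x21, x20, x02⟩ := sl_three_fam hn z hz N hN φ c hc3 hinvol hprod hδ hB hC
    (fun h4 => by
      have := hextra4 h4 _ List.mem_cons_self
      simpa only [map_mul, map_inv, hins, hWd, FreeGroup.lift_apply_of, std_zero, ← hc, Commute, SemiconjBy] using this)
    (fun h4 => by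
      have := hextra4 h4 _ (List.mem_cons_of_mem _ List.mem_cons_self)
      simpa only [map_mul, map_inv, hins, hWd, FreeGroup.lift_apply_of, std_zero, ← hc] using this)
  obtain ⟨e, he⟩ := KnownB.SLnSt.present (K := F) 3 le_rfl
  let f : {ij : Fin 3 × Fin 3 // ij.1 ≠ ij.2} × F → PresentedGroup rels := fun q => x q.1.1.1 q.1.1.2 q.2
  have hrelx : ∀ r ∈ _, FreeGroup.lift f r = 1 := fun r (hr : r ∈
      ({g : FreeGroup ({ij : Fin 3 × Fin 3 // ij.1 ≠ ij.2} × F) | ∃ (a : {ij : Fin 3 × Fin 3 // ij.1 ≠ ij.2}) (t u : F),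
            g = FreeGroup.of (a, t) * FreeGroup.of (a, u) * (FreeGroup.of (a, t + u))⁻¹} ∪
          {g | ∃ (a b : {ij : Fin 3 × Fin 3 // ij.1 ≠ ij.2}) (t u : F), a.1.1 ≠ b.1.2 ∧ a.1.2 ≠ b.1.1 ∧
            g = FreeGroup.of (a, t) * FreeGroup.of (b, u) * (FreeGroup.of (a, t))⁻¹ * (FreeGroup.of (b, u))⁻¹} ∪
          {g | ∃ (a b : {ij : Fin 3 × Fin 3 // ij.1 ≠ ij.2}) (h : a.1.1 ≠ b.1.2) (t u : F), a.1.2 = b.1.1 ∧
            g = FreeGroup.of (a, t) * FreeGroup.of (b, u) * (FreeGroup.of (a, t))⁻¹ * (FreeGroup.of (b, u))⁻¹ *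
              (FreeGroup.of (⟨(a.1.1, b.1.2), h⟩, t * u))⁻¹})) => by
    rcases hr with (⟨a, s, u, rfl⟩ | ⟨a, b, s, u, e1, e2, rfl⟩) | ⟨a, b, h, s, u, e2, rfl⟩ <;>
      simp only [map_mul, map_inv, FreeGroup.lift_apply_of, f]
    · rw [R.add _ _ a.2, mul_inv_cancel]
    · exact R.comm0 _ _ _ _ a.2 b.2 e1 e2 _ _
    · obtain ⟨⟨i, j⟩, hij⟩ := a
      obtain ⟨⟨j', k⟩, hjk⟩ := b
      simp only at e2 h hij hjk ⊢
      subst e2
      rw [R.comm1 i j k hij hjk h, mul_inv_cancel]
  let ψ : SL(3, F) →* PresentedGroup rels := (PresentedGroup.toGroup hrelx).comp e.symm.toMonoidHom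
  have hψ : ∀ (i j : Fin 3) (hij : i ≠ j) (s : F), ψ (Matrix.SpecialLinearGroup.transvection hij s) = x i j s := by
    intro i j hij s
    have : e.symm (Matrix.SpecialLinearGroup.transvection hij s) = PresentedGroup.of (⟨(i, j), hij⟩, s) := by
      rw [MulEquiv.symm_apply_eq]
      exact Subtype.ext (he ⟨(i, j), hij⟩ s).symm
    show PresentedGroup.toGroup hrelx (e.symm _) = _
    rw [this, PresentedGroup.toGroup.of]
  have hΦc : Φ c = cyc F := by rw [hc]; exact htc
  have hΦψ : ∀ A, Φ (ψ A) = A := by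
    intro A
    have htop : MonoidHom.eqLocus (Φ.comp ψ) (MonoidHom.id _) = ⊤ := by
      refine CfsgLib.Classical.sl_transvection_induction _ fun i j hij s => ?_
      show Φ (ψ (Matrix.SpecialLinearGroup.transvection hij s)) = Matrix.SpecialLinearGroup.transvection hij s
      rw [hψ]
      refine Subtype.ext ?_
      rw [Matrix.SpecialLinearGroup.transvection_coe]
      rcases (show (i = 0 ∧ j = 1) ∨ (i = 1 ∧ j = 0) ∨ (i = 1 ∧ j = 2) ∨ (i = 2 ∧ j = 1) ∨ (i = 2 ∧ j = 0) ∨
          (i = 0 ∧ j = 2) by revert hij; revert i j; decide) with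
        ⟨rfl, rfl⟩ | ⟨rfl, rfl⟩ | ⟨rfl, rfl⟩ | ⟨rfl, rfl⟩ | ⟨rfl, rfl⟩ | ⟨rfl, rfl⟩
      all_goals first
        | (simp only [x01, x10, x12, x21, x20, x02, map_mul, map_inv, hΦc, hΦφ]
           simp only [cyc_fwd, cyc_bwd, corner_val, uElt_val, lElt_val]
           ext a b
           fin_cases a <;> fin_cases b <;> simp [Matrix.transvection])
    exact DFunLike.congr_fun (show Φ.comp ψ = MonoidHom.id _ from MonoidHom.ext fun B =>
      (htop ▸ Subgroup.mem_top B : B ∈ MonoidHom.eqLocus (Φ.comp ψ) (MonoidHom.id _))) A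
  have hψtop : ψ.range = ⊤ := by
    have hx : ∀ i j, i ≠ j → ∀ s, x i j s ∈ ψ.range := fun i j hij s => ⟨_, hψ i j hij s⟩
    have hφK : ∀ M, φ M ∈ ψ.range := by
      intro M
      have htop : ψ.range.comap φ = ⊤ := closure_up_low _
        (fun s => by rw [Subgroup.mem_comap, ← x01]; exact hx 0 1 (by decide) s)
        (fun s => by rw [Subgroup.mem_comap, ← x10]; exact hx 1 0 (by decide) s)
      exact (htop ▸ Subgroup.mem_top M : M ∈ ψ.range.comap φ)
    have hφ1 : ∀ M, c * φ M * c⁻¹ ∈ ψ.range := by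
      intro M
      have htop : ψ.range.comap ((MulAut.conj c).toMonoidHom.comp φ) = ⊤ := closure_up_low _
        (fun s => by
          show c * φ (uElt s) * c⁻¹ ∈ ψ.range
          rw [← x12]; exact hx 1 2 (by decide) s)
        (fun s => by
          show c * φ (lElt s) * c⁻¹ ∈ ψ.range
          rw [← x21]; exact hx 2 1 (by decide) s)
      exact (htop ▸ Subgroup.mem_top M : M ∈ ψ.range.comap ((MulAut.conj c).toMonoidHom.comp φ))
    have hcmem : c ∈ ψ.range := by
      rw [← inv_mem_iff]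
      have e1 : c⁻¹ = c * φ (wElt F) * c⁻¹ * φ (wElt F) := by
        have wc : φ (wElt F) * c⁻¹ * φ (wElt F) = c := mul_inv_eq_one.1 hinvol
        calc c⁻¹ = c * c := (eq_inv_of_mul_eq_one_left hc3).symm
          _ = c * (φ (wElt F) * c⁻¹ * φ (wElt F)) := by rw [wc]
          _ = _ := by group
      rw [e1]
      exact mul_mem (hφ1 _) (hφK _)
    rw [eq_top_iff, ← PresentedGroup.closure_range_of rels, Subgroup.closure_le]
    rintro _ ⟨i, rfl⟩
    induction i using Fin.lastCases with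
    | last => exact hcmem
    | cast i =>
      show π (FreeGroup.of i.castSucc) ∈ ψ.range
      rw [← hφ]
      exact hφK _
  refine ⟨{ Φ with invFun := ψ, left_inv := fun y => ?_, right_inv := hΦψ }⟩
  obtain ⟨A, rfl⟩ : y ∈ ψ.range := hψtop ▸ Subgroup.mem_top y
  exact congrArg ψ (hΦψ A)

end CfsgLib.Pres
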