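import Cfsg.Agent.Lib.Pres.ShortTools

/-!
# Padding, central quotients and change of generators for presentations of groups in any universe
-/

set_option autoImplicit false

namespace CfsgLib.Pres

/-- `T` is presented by `k` generators and at most `K` relators. -/
def PresBy (k : ℕ) (T : Type*) [Group T] (K : ℕ) : Prop :=
  ∃ rels : Finset (FreeGroup (Fin k)), rels.card ≤ K ∧
    Nonempty (PresentedGroup (↑rels : Set (FreeGroup (Fin k))) ≃* T)

theorem PresBy.mono {k K K' : ℕ} {T : Type*} [Group T] (h : PresBy k T K) (hK : K ≤ K') : PresBy k T K' := by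
  obtain ⟨rels, hr, he⟩ := h
  exact ⟨rels, hr.trans hK, he⟩

theorem PresBy.congr {k K : ℕ} {T T' : Type*} [Group T] [Group T'] (h : PresBy k T K) (f : T ≃* T') :
    PresBy k T' K := by
  obtain ⟨rels, hr, ⟨e⟩⟩ := h
  exact ⟨rels, hr, ⟨e.trans f⟩⟩

/-- An extra trivial generator costs one relator. -/
theorem PresBy.pad {k K : ℕ} {T : Type*} [Group T] (h : PresBy k T K) : PresBy (k + 1) T (K + 1) := by
  obtain ⟨rels, hr, ⟨e⟩⟩ := h
  obtain ⟨rels', hr', ⟨e'⟩⟩ := Short.addOne (fun i : Fin k => (PresentedGroup.of i : PresentedGroup (↑rels : Set _)))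
    rels (MulEquiv.refl _) (fun _ => rfl)
  exact ⟨rels', hr'.trans (by omega), ⟨e'.trans e⟩⟩

/-- Moving to another generating tuple costs one relator per generator. -/
theorem PresBy.gens {k l K : ℕ} {T : Type*} [Group T] (h : PresBy k T K) (s : Fin l → T)
    (hs : Subgroup.closure (Set.range s) = ⊤) : PresBy l T (K + l) := by
  obtain ⟨rels, hr, ⟨e⟩⟩ := h
  have hs' : Subgroup.closure (Set.range fun i => e.symm (s i)) = ⊤ := by
    rw [show (Set.range fun i => e.symm (s i)) = e.symm.toMonoidHom '' Set.range s from Set.range_comp _ _,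
      ← MonoidHom.map_closure, hs, ← MonoidHom.range_eq_map]
    exact MonoidHom.range_eq_top.2 e.symm.surjective
  obtain ⟨rels', hr', e', -⟩ := Short.transfer (fun i : Fin k => (PresentedGroup.of i : PresentedGroup (↑rels : Set _)))
    (fun i => e.symm (s i)) hs' rels (MulEquiv.refl _) (fun _ => rfl)
  exact ⟨rels', hr'.trans (by omega), ⟨e'.trans e⟩⟩

/-- Killing a cyclic central subgroup costs one relator. -/
theorem PresBy.quot {k K : ℕ} {T : Type*} [Group T] (h : PresBy k T K) (Z : Subgroup T) [Z.Normal] (z : T)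
    (hz : Z = Subgroup.zpowers z) : PresBy k (T ⧸ Z) (K + 1) := by
  classical
  obtain ⟨rels, hr, ⟨e⟩⟩ := h
  obtain ⟨w, hw⟩ : ∃ w, e (PresentedGroup.mk _ w) = z := by
    obtain ⟨w, hw⟩ := PresentedGroup.mk_surjective _ (e.symm z)
    exact ⟨w, by rw [hw, MulEquiv.apply_symm_apply]⟩
  refine ⟨insert w rels, (Finset.card_insert_le _ _).trans (by omega), ?_⟩
  set R' : Set (FreeGroup (Fin k)) := ↑(insert w rels) with hR'
  let q : PresentedGroup (↑rels : Set (FreeGroup (Fin k))) →* T ⧸ Z := (QuotientGroup.mk' Z).comp e.toMonoidHom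
  have hlift : ∀ v, FreeGroup.lift (fun i => q (PresentedGroup.of i)) v = q (PresentedGroup.mk _ v) := fun v =>
    DFunLike.congr_fun (FreeGroup.ext_hom (FreeGroup.lift fun i => q (PresentedGroup.of i))
      (q.comp (PresentedGroup.mk _)) fun i => by simp; rfl) v
  have hrel : ∀ r ∈ R', FreeGroup.lift (fun i => q (PresentedGroup.of i)) r = 1 := by
    intro r hr'
    rw [hlift]
    rw [hR', Finset.coe_insert, Set.mem_insert_iff] at hr'
    rcases hr' with rfl | hr'
    · show QuotientGroup.mk' Z (e _) = 1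
      rw [hw]
      exact (QuotientGroup.eq_one_iff z).2 (hz ▸ Subgroup.mem_zpowers z)
    · rw [PresentedGroup.one_of_mem hr', map_one]
  let Φ : PresentedGroup R' →* T ⧸ Z := PresentedGroup.toGroup hrel
  have hΦ : ∀ v, Φ (PresentedGroup.mk R' v) = q (PresentedGroup.mk _ v) := fun v => hlift v
  let p : PresentedGroup (↑rels : Set (FreeGroup (Fin k))) →* PresentedGroup R' :=
    PresentedGroup.toGroup (f := fun i => (PresentedGroup.of i : PresentedGroup R')) fun r hr' => by
      have : FreeGroup.lift (fun i => (PresentedGroup.of i : PresentedGroup R')) = PresentedGroup.mk R' :=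
        FreeGroup.ext_hom _ _ fun i => by simp; rfl
      rw [this]
      exact PresentedGroup.one_of_mem (by rw [hR', Finset.coe_insert]; exact Set.mem_insert_of_mem _ hr')
  have hp : ∀ v, p (PresentedGroup.mk _ v) = PresentedGroup.mk R' v := fun v =>
    DFunLike.congr_fun (FreeGroup.ext_hom (p.comp (PresentedGroup.mk _)) (PresentedGroup.mk R') fun i => by
      show p (PresentedGroup.of i) = _
      rw [PresentedGroup.toGroup.of]; rfl) v
  let Ψ : T ⧸ Z →* PresentedGroup R' := QuotientGroup.lift Z (p.comp e.symm.toMonoidHom) (by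
    rw [hz, Subgroup.zpowers_le, MonoidHom.mem_ker]
    show p (e.symm z) = 1
    rw [← hw, MulEquiv.symm_apply_apply, hp]
    exact PresentedGroup.one_of_mem (by rw [hR', Finset.coe_insert]; exact Set.mem_insert _ _))
  refine ⟨MonoidHom.toMulEquiv Φ Ψ (MonoidHom.ext fun y => ?_) (MonoidHom.ext fun y => ?_)⟩
  · obtain ⟨v, rfl⟩ := PresentedGroup.mk_surjective _ y
    show Ψ (Φ _) = _
    rw [hΦ]
    show p (e.symm (e (PresentedGroup.mk _ v))) = _
    rw [MulEquiv.symm_apply_apply, hp]
    rfl
  · obtain ⟨x, rfl⟩ := QuotientGroup.mk'_surjective Z y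
    obtain ⟨v, hv⟩ := PresentedGroup.mk_surjective _ (e.symm x)
    show Φ (p (e.symm x)) = _
    rw [← hv, hp, hΦ]
    show QuotientGroup.mk' Z (e _) = _
    rw [hv, MulEquiv.apply_symm_apply]
    rfl

end CfsgLib.Pres
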