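import Cfsg.Agent.Lib.Pres.SLnFam
import Cfsg.Agent.Lib.Pres.AltShortSix
import Cfsg.Agent.Lib.Pres.PresTools

/-!
# A short presentation of `SL_n`
-/

set_option autoImplicit false

namespace CfsgLib.Pres

open Matrix Equiv
open scoped MatrixGroups
open CfsgLib.Classical (uElt uElt_val uElt_add)

/-- The coordinates after the first two. -/
def tailEquiv (n : ℕ) : Fin (n - 2) ≃ {x : Fin n // 2 ≤ (x : ℕ)} where
  toFun i := ⟨⟨i + 2, by omega⟩, by simp⟩
  invFun x := ⟨(x.1 : ℕ) - 2, by have := x.2; omega⟩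
  left_inv i := by ext; simp
  right_inv x := by ext; have := x.2; simp; omega

/-- Generators of the stabiliser of the first two points. -/
theorem stab_gens {n k : ℕ} (hn : 4 ≤ n) (t : Fin k → alternatingGroup (Fin (n - 2)))
    (ht : Subgroup.closure (Set.range t) = ⊤) :
    ∃ s : Fin k → alternatingGroup (Fin n), (∀ i, FixTwo hn (s i)) ∧
      ∀ σ, FixTwo hn σ → σ ∈ Subgroup.closure (Set.range s) := by
  classical
  let ρ₀ : Perm (Fin (n - 2)) →* Perm (Fin n) :=
    (Perm.ofSubtype (p := fun x : Fin n => 2 ≤ (x : ℕ))).comp (tailEquiv n).permCongrHom.toMonoidHom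
  have hsign : ∀ π, Perm.sign (ρ₀ π) = Perm.sign π := fun π => by
    show Perm.sign (Perm.ofSubtype ((tailEquiv n).permCongr π)) = _
    rw [Perm.sign_ofSubtype, Perm.sign_permCongr]
  let ρ : alternatingGroup (Fin (n - 2)) →* alternatingGroup (Fin n) :=
    (ρ₀.comp (alternatingGroup (Fin (n - 2))).subtype).codRestrict _ fun π =>
      Perm.mem_alternatingGroup.2 ((hsign _).trans (Perm.mem_alternatingGroup.1 π.2))
  have hfix : ∀ π, FixTwo hn (ρ π) := fun π => by
    constructor <;> exact Perm.ofSubtype_apply_of_not_mem _ (by simp [pt])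
  refine ⟨fun i => ρ (t i), fun i => hfix _, fun σ hσ => ?_⟩
  have hq : ∀ x : Fin n, (2 ≤ ((σ : Perm (Fin n)) x : ℕ)) ↔ 2 ≤ (x : ℕ) := by
    intro x
    have e : ∀ y : Fin n, ¬ 2 ≤ (y : ℕ) → (σ : Perm (Fin n)) y = y := fun y hy => by
      rcases (show y = pt hn 0 ∨ y = pt hn 1 by simp [pt, Fin.ext_iff]; omega) with rfl | rfl
      · exact hσ.1
      · exact hσ.2
    constructor
    · intro h
      by_contra hx
      rw [e x hx] at h
      exact hx h
    · intro h
      by_contra hx
      exact hx (by rwa [(σ : Perm (Fin n)).injective (e _ hx)])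
  have hsupp : ∀ x, (σ : Perm (Fin n)) x ≠ x → 2 ≤ (x : ℕ) := fun x hx => by
    by_contra h
    rcases (show x = pt hn 0 ∨ x = pt hn 1 by simp [pt, Fin.ext_iff]; omega) with rfl | rfl
    · exact hx hσ.1
    · exact hx hσ.2
  let π : Perm (Fin (n - 2)) := (tailEquiv n).symm.permCongr ((σ : Perm (Fin n)).subtypePerm hq)
  have hρ : ρ₀ π = σ := by
    show Perm.ofSubtype ((tailEquiv n).permCongr π) = _
    rw [show (tailEquiv n).permCongr π = (σ : Perm (Fin n)).subtypePerm hq by ext x; simp [π],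
      Perm.ofSubtype_subtypePerm hq hsupp]
  have hπ : π ∈ alternatingGroup (Fin (n - 2)) := by
    rw [Perm.mem_alternatingGroup, ← hsign, hρ]
    exact Perm.mem_alternatingGroup.1 σ.2
  have : σ = ρ ⟨π, hπ⟩ := Subtype.ext hρ.symm
  rw [this, show (Set.range fun i => ρ (t i)) = ρ '' Set.range t from Set.range_comp _ _, ← MonoidHom.map_closure, ht]
  exact Subgroup.mem_map_of_mem _ (Subgroup.mem_top _)

section

variable {F : Type*} [Field F] {n : ℕ} (hn : 4 ≤ n)

theorem transvection_congr {i j i' j' : Fin n} (h : i ≠ j) (h' : i' ≠ j') (hi : i = i') (hj : j = j') (s : F) :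
    Matrix.SpecialLinearGroup.transvection h s = Matrix.SpecialLinearGroup.transvection h' s := by
  subst hi; subst hj; rfl

theorem permSL_uElt (σ : alternatingGroup (Fin n)) (s : F) :
    permSL σ * corner2 hn (uElt s) * (permSL σ)⁻¹ =
      Matrix.SpecialLinearGroup.transvection
        ((σ : Perm (Fin n)).injective.ne ((pt3_injective hn).ne (show (0 : Fin 3) ≠ 1 by decide))) s := by
  rw [corner2_uElt, permSL_conj]

theorem permSL_lElt (σ : alternatingGroup (Fin n)) (s : F) :
    permSL σ * corner2 hn (lElt s) * (permSL σ)⁻¹ =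
      Matrix.SpecialLinearGroup.transvection
        ((σ : Perm (Fin n)).injective.ne ((pt3_injective hn).ne (show (1 : Fin 3) ≠ 0 by decide))) s := by
  rw [corner2_lElt, permSL_conj]

variable [Fintype F]

theorem permSL_fix (σ : alternatingGroup (Fin n)) (hσ : FixTwo hn σ) (M : SL(2, F)) :
    Commute (permSL σ) (corner2 hn M) := by
  have h : MonoidHom.eqLocus ((MulAut.conj (permSL (F := F) σ)).toMonoidHom.comp (corner2 hn)) (corner2 hn) = ⊤ := by
    refine closure_up_low _ (fun s => ?_) fun s => ?_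
    · show permSL σ * corner2 hn (uElt s) * (permSL σ)⁻¹ = corner2 hn (uElt s)
      rw [permSL_uElt, corner2_uElt]
      exact transvection_congr _ _ hσ.1 hσ.2 s
    · show permSL σ * corner2 hn (lElt s) * (permSL σ)⁻¹ = corner2 hn (lElt s)
      rw [permSL_lElt, corner2_lElt]
      exact transvection_congr _ _ hσ.2 hσ.1 s
  exact mul_inv_eq_iff_eq_mul.1 (h ▸ Subgroup.mem_top M :
    M ∈ MonoidHom.eqLocus ((MulAut.conj (permSL (F := F) σ)).toMonoidHom.comp (corner2 hn)) (corner2 hn))

theorem permSL_dbl (M : SL(2, F)) :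
    permSL (dbl hn) * corner2 hn M * permSL (dbl hn) = corner2 hn (jConj M) := by
  have h : MonoidHom.eqLocus ((MulAut.conj (permSL (F := F) (dbl hn))).toMonoidHom.comp (corner2 hn))
      ((corner2 hn).comp jConj) = ⊤ := by
    refine closure_up_low _ (fun s => ?_) fun s => ?_
    · show permSL (dbl hn) * corner2 hn (uElt s) * (permSL (dbl hn))⁻¹ = corner2 hn (jConj (uElt s))
      rw [permSL_uElt, jConj_uElt, corner2_lElt]
      exact transvection_congr _ _ (dbl_apply hn 0) (dbl_apply hn 1) s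
    · show permSL (dbl hn) * corner2 hn (lElt s) * (permSL (dbl hn))⁻¹ = corner2 hn (jConj (lElt s))
      rw [permSL_lElt, jConj_lElt, corner2_uElt]
      exact transvection_congr _ _ (dbl_apply hn 1) (dbl_apply hn 0) s
  have hdd : dbl hn * dbl hn = 1 := by
    refine Subtype.ext (Equiv.ext fun y => ?_)
    simp only [Subgroup.coe_mul, Subgroup.coe_one, Perm.coe_mul, Function.comp_apply, Perm.coe_one, id_eq]
    by_cases hy : ∃ a : Fin 4, y = pt hn a
    · obtain ⟨a, rfl⟩ := hy
      rw [dbl_apply, dbl_apply]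
      fin_cases a <;> rfl
    · simp only [not_exists] at hy
      simp [dbl, swap_apply_of_ne_of_ne, hy]
  have hi : (permSL (F := F) (dbl hn))⁻¹ = permSL (dbl hn) :=
    inv_eq_of_mul_eq_one_right (by rw [← map_mul, hdd, map_one])
  have e : permSL (dbl hn) * corner2 hn M * (permSL (dbl hn))⁻¹ = corner2 hn (jConj M) :=
    (h ▸ Subgroup.mem_top M : M ∈ MonoidHom.eqLocus ((MulAut.conj (permSL (F := F) (dbl hn))).toMonoidHom.comp (corner2 hn))
      ((corner2 hn).comp jConj))
  rwa [hi] at e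

omit [Fintype F] in
theorem corner2_cross : Commute (corner2 hn (uElt (1 : F)))
    (permSL (cross hn) * corner2 hn (uElt 1) * (permSL (cross hn))⁻¹) := by
  rw [permSL_uElt, corner2_uElt]
  refine Subtype.ext ?_
  show (_ : Matrix (Fin n) (Fin n) F) * _ = _ * _
  rw [Matrix.SpecialLinearGroup.transvection_coe, Matrix.SpecialLinearGroup.transvection_coe]
  have e0 : (cross hn : Perm (Fin n)) (pt3 hn 0) = pt hn 2 := cross_apply hn 0
  have e1 : (cross hn : Perm (Fin n)) (pt3 hn 1) = pt hn 3 := cross_apply hn 1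
  have d0 : pt3 hn 0 = pt hn 0 := rfl
  have d1 : pt3 hn 1 = pt hn 1 := rfl
  rw [e0, e1, d0, d1]
  simp [Matrix.transvection, mul_add, add_mul, Matrix.single_mul_single_of_ne, (pt_injective hn).ne]
  abel

omit [Fintype F] in
theorem corner2_invol : corner2 hn (wElt F) * (permSL (cyc3 hn))⁻¹ * corner2 hn (wElt F) * (permSL (cyc3 hn))⁻¹ = 1 := by
  rw [← block3_cyc hn, corner2, MonoidHom.comp_apply, ← map_inv, ← map_mul, ← map_mul, ← map_mul, corner_wElt_invol,
    map_one]

omit [Fintype F] in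
theorem corner2_prod (z : Fˣ) : corner2 hn (dElt z) * (permSL (cyc3 hn) * corner2 hn (dElt z) * (permSL (cyc3 hn))⁻¹) *
    ((permSL (cyc3 hn))⁻¹ * corner2 hn (dElt z) * permSL (cyc3 hn)) = 1 := by
  rw [← block3_cyc hn, corner2, MonoidHom.comp_apply]
  simp only [← map_mul, ← map_inv, corner_dElt_prod, map_one]

omit [Fintype F] in
theorem corner2_dConj (z : Fˣ) (M : SL(2, F)) :
    ((permSL (cyc3 hn))⁻¹ * corner2 hn (dElt z) * permSL (cyc3 hn))⁻¹ * corner2 hn M *
      ((permSL (cyc3 hn))⁻¹ * corner2 hn (dElt z) * permSL (cyc3 hn)) = corner2 hn (dConj z M) := by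
  rw [← block3_cyc hn, corner2, MonoidHom.comp_apply, MonoidHom.comp_apply, MonoidHom.comp_apply]
  simp only [← map_mul, ← map_inv, corner_dConj]

omit [Fintype F] in
theorem corner2_B (t : F) : corner2 hn (uElt 1) * (permSL (cyc3 hn) * corner2 hn (lElt t) * (permSL (cyc3 hn))⁻¹) =
    permSL (cyc3 hn) * corner2 hn (lElt t) * (permSL (cyc3 hn))⁻¹ * corner2 hn (uElt 1) := by
  rw [← block3_cyc hn, corner2, MonoidHom.comp_apply, MonoidHom.comp_apply]
  simp only [← map_mul, ← map_inv]
  exact congrArg _ (corner_B t).eq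

omit [Fintype F] in
theorem corner2_C (t : F) : corner2 hn (uElt 1) * (permSL (cyc3 hn) * corner2 hn (uElt t) * (permSL (cyc3 hn))⁻¹) *
    (corner2 hn (uElt 1))⁻¹ * (permSL (cyc3 hn) * corner2 hn (uElt t) * (permSL (cyc3 hn))⁻¹)⁻¹ =
      (permSL (cyc3 hn))⁻¹ * corner2 hn (lElt t) * permSL (cyc3 hn) := by
  rw [← block3_cyc hn, corner2, MonoidHom.comp_apply, MonoidHom.comp_apply, MonoidHom.comp_apply]
  simp only [← map_mul, ← map_inv]
  rw [map_inv corner, corner_C]

end

variable {F : Type*} [Field F] [Fintype F]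

set_option maxHeartbeats 2000000 in
/-- The presentation of `SL_n`, given generators of a stabiliser in the alternating group. -/
theorem sl_n_core {n k : ℕ} (hn : 4 ≤ n) (s : Fin k → alternatingGroup (Fin n)) (hs' : ∀ i, FixTwo hn (s i))
    (hs : ∀ σ, FixTwo hn σ → σ ∈ Subgroup.closure (Set.range s)) :
    PresBy 5 SL(n, F) (20 + k) := by
  classical
  obtain ⟨p, hchar⟩ := CharP.exists F
  obtain ⟨⟨e, he0⟩, hprime, he⟩ := FiniteField.card F p
  have := Fact.mk hprime
  replace he : Fintype.card F = p ^ e := he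
  let _ : Algebra (ZMod p) F := ZMod.algebra F p
  obtain ⟨z, hz⟩ := IsCyclic.exists_generator (α := Fˣ)
  obtain ⟨hgen, L, hlen, hlen4, hlen5, hold, hhom⟩ := sl_two_seven z hz
  obtain ⟨ta, hta, relsA, hrelsA, eA, heA⟩ := Short.hasPres_alt_six (show 3 ≤ n by omega)
  have hsurj : Function.Surjective (FreeGroup.lift (std z)) := by
    rw [← MonoidHom.range_eq_top, FreeGroup.range_lift_eq_closure, hgen]
  have hsurjA : Function.Surjective (FreeGroup.lift ta) := by
    rw [← MonoidHom.range_eq_top, FreeGroup.range_lift_eq_closure, hta]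
  choose Wd hWd using hsurj
  choose Wa hWa using hsurjA
  let iL : W3 →* FreeGroup (Fin 5) := FreeGroup.map (Fin.castAdd 2)
  let iA : FreeGroup (Fin 2) →* FreeGroup (Fin 5) := FreeGroup.map (Fin.natAdd 3)
  let C : FreeGroup (Fin 5) := iA (Wa (cyc3 hn))
  let T : FreeGroup (Fin 5) := iA (Wa (dbl hn))
  let Xw : FreeGroup (Fin 5) := iA (Wa (cross hn))
  let H : FreeGroup (Fin 5) := iL lh
  let u : FreeGroup (Fin 5) := iL lu
  let H2 := C⁻¹ * H * C
  let g : SL(2, F) := gElt z
  let glue : List (FreeGroup (Fin 5) × FreeGroup (Fin 5)) := [(iL lw * C⁻¹ * iL lw * C⁻¹, 1),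
    (H * (C * H * C⁻¹) * H2, 1), (H2⁻¹ * iL (Wd g) * H2, iL (Wd (dConj z g))),
    (u * (C * iL (Wd (lElt 1)) * C⁻¹), C * iL (Wd (lElt 1)) * C⁻¹ * u),
    (u * (C * u * C⁻¹) * u⁻¹ * (C * u * C⁻¹)⁻¹, C⁻¹ * iL (Wd (lElt 1)) * C)]
  let extra4 : List (FreeGroup (Fin 5) × FreeGroup (Fin 5)) := [
    (u * (C * iL (Wd (lElt (z : F))) * C⁻¹), C * iL (Wd (lElt (z : F))) * C⁻¹ * u),
    (u * (C * iL (Wd (uElt (z : F))) * C⁻¹) * u⁻¹ * (C * iL (Wd (uElt (z : F))) * C⁻¹)⁻¹,
      C⁻¹ * iL (Wd (lElt (z : F))) * C)]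
  let extra : List (FreeGroup (Fin 5) × FreeGroup (Fin 5)) := if Fintype.card F = 4 then extra4 else []
  let LA : List (FreeGroup (Fin 5) × FreeGroup (Fin 5)) := relsA.toList.map fun r => (iA r, 1)
  let LS : List (FreeGroup (Fin 5) × FreeGroup (Fin 5)) := List.ofFn fun i =>
    (iA (Wa (s i)) * iL (Wd g), iL (Wd g) * iA (Wa (s i)))
  let last2 : List (FreeGroup (Fin 5) × FreeGroup (Fin 5)) :=
    [(T * iL (Wd g) * T, iL (Wd (jConj g))), (u * (Xw * u * Xw⁻¹), Xw * u * Xw⁻¹ * u)]
  let R : List (FreeGroup (Fin 5) × FreeGroup (Fin 5)) :=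
    L.map (fun e => (iL e.1, iL e.2)) ++ (glue ++ (extra ++ (LA ++ (LS ++ last2))))
  have hR : R.length ≤ 20 + k := by
    simp only [R, extra, List.length_append, List.length_map, glue, LA, LS, last2, Finset.length_toList,
      List.length_ofFn, List.length_cons, List.length_nil]
    split_ifs with h4
    · have := hlen4 h4; simp [extra4]; omega
    · simp; omega
  let t : Fin 5 → SL(n, F) := Fin.append (fun i => corner2 hn (std z i)) (fun i => permSL (ta i))
  have htL : ∀ W, FreeGroup.lift t (iL W) = corner2 hn (FreeGroup.lift (std z) W) := fun W =>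
    DFunLike.congr_fun (FreeGroup.ext_hom ((FreeGroup.lift t).comp iL) ((corner2 hn).comp (FreeGroup.lift (std z)))
      fun i => by simp [t, iL]) W
  have htA : ∀ W, FreeGroup.lift t (iA W) = permSL (FreeGroup.lift ta W) := fun W =>
    DFunLike.congr_fun (FreeGroup.ext_hom ((FreeGroup.lift t).comp iA) (permSL.comp (FreeGroup.lift ta))
      fun i => by simp [t, iA]) W
  have hold5 : ∀ e ∈ R, FreeGroup.lift t e.1 = FreeGroup.lift t e.2 := by
    intro e he'
    simp only [R, List.mem_append, List.mem_map] at he'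
    rcases he' with ⟨e', he', rfl⟩ | he' | he' | he' | he' | he'
    · rw [htL, htL, hold e' he']
    · simp only [glue, List.mem_cons, List.not_mem_nil, or_false] at he'
      rcases he' with rfl | rfl | rfl | rfl | rfl <;>
        simp only [H, H2, C, u, map_mul, map_inv, map_one, htL, htA, hWd, hWa, FreeGroup.lift_apply_of,
          std_zero, std_one, std_two]
      exacts [corner2_invol hn, corner2_prod hn z, corner2_dConj hn z g, corner2_B hn 1, corner2_C hn 1]
    · simp only [extra] at he'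
      split_ifs at he' with h4
      · simp only [extra4, List.mem_cons, List.not_mem_nil, or_false] at he'
        rcases he' with rfl | rfl <;>
          simp only [C, u, map_mul, map_inv, htL, htA, hWd, hWa, FreeGroup.lift_apply_of, std_zero]
        exacts [corner2_B hn _, corner2_C hn _]
      · exact absurd he' List.not_mem_nil
    · simp only [LA, List.mem_map, Finset.mem_toList] at he'
      obtain ⟨r, hr, rfl⟩ := he'
      have : FreeGroup.lift ta r = eA (PresentedGroup.mk _ r) :=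
        DFunLike.congr_fun (FreeGroup.ext_hom (FreeGroup.lift ta)
          (eA.toMonoidHom.comp (PresentedGroup.mk _)) fun i => by simp [← heA i]; rfl) r
      rw [htA, map_one, this, PresentedGroup.one_of_mem hr, map_one, map_one]
    · simp only [LS, List.mem_ofFn] at he'
      obtain ⟨i, rfl⟩ := he'
      simp only [map_mul, htL, htA, hWd, hWa]
      exact (permSL_fix hn _ (hs' i) g).eq
    · simp only [last2, List.mem_cons, List.not_mem_nil, or_false] at he'
      rcases he' with rfl | rfl <;>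
        simp only [T, Xw, u, map_mul, map_inv, htL, htA, hWd, hWa, FreeGroup.lift_apply_of, std_zero]
      exacts [permSL_dbl hn g, (corner2_cross hn).eq]
  -- the presented group
  refine ⟨(R.map fun e => e.1 * e.2⁻¹).toFinset,
    (List.toFinset_card_le _).trans ((List.length_map _).le.trans hR), ?_⟩
  set rels : Set (FreeGroup (Fin 5)) := ↑((R.map fun e => e.1 * e.2⁻¹).toFinset) with hrels
  have hrel : ∀ r ∈ rels, FreeGroup.lift t r = 1 := by
    intro r hr
    rw [hrels, Finset.mem_coe, List.mem_toFinset, List.mem_map] at hr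
    obtain ⟨e, he', rfl⟩ := hr
    rw [map_mul, map_inv, hold5 e he', mul_inv_cancel]
  let Φ : PresentedGroup rels →* SL(n, F) := PresentedGroup.toGroup hrel
  set π := PresentedGroup.mk rels with hπdef
  have hπ : ∀ e ∈ R, π e.1 = π e.2 := fun e he' => PresentedGroup.mk_eq_mk_of_mul_inv_mem (by
    rw [hrels, Finset.mem_coe, List.mem_toFinset, List.mem_map]
    exact ⟨e, he', rfl⟩)
  simp only [R, List.forall_mem_append] at hπ
  obtain ⟨hπL, hπg, hπe, hπA, hπS, hπlast⟩ := hπ
  obtain ⟨φ, hφ⟩ := hhom (G := PresentedGroup rels) (fun i => π (iL (FreeGroup.of i))) fun e he' => by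
    have l : ∀ W, FreeGroup.lift (fun i => π (iL (FreeGroup.of i))) W = π (iL W) := fun W =>
      DFunLike.congr_fun (FreeGroup.ext_hom (FreeGroup.lift fun i => π (iL (FreeGroup.of i))) (π.comp iL)
        fun i => by simp) W
    rw [l, l]
    exact hπL _ (List.mem_map.2 ⟨e, he', rfl⟩)
  have hiL : ∀ W, π (iL W) = φ (FreeGroup.lift (std z) W) := fun W =>
    DFunLike.congr_fun (FreeGroup.ext_hom (π.comp iL) (φ.comp (FreeGroup.lift (std z))) fun i => by simp [hφ]) W
  let ι₀ : PresentedGroup (↑relsA : Set (FreeGroup (Fin 2))) →* PresentedGroup rels :=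
    PresentedGroup.toGroup (f := fun i => π (iA (FreeGroup.of i))) fun r hr => by
      have l : FreeGroup.lift (fun i => π (iA (FreeGroup.of i))) = π.comp iA :=
        FreeGroup.ext_hom _ _ fun i => by simp
      rw [l]
      have := hπA (iA r, 1) (List.mem_map.2 ⟨r, Finset.mem_toList.2 hr, rfl⟩)
      simpa using this
  let ι : alternatingGroup (Fin n) →* PresentedGroup rels := ι₀.comp eA.symm.toMonoidHom
  have hiA : ∀ W, π (iA W) = ι (FreeGroup.lift ta W) := fun W =>
    DFunLike.congr_fun (FreeGroup.ext_hom (π.comp iA) (ι.comp (FreeGroup.lift ta)) fun i => by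
      show π (iA (FreeGroup.of i)) = ι₀ (eA.symm (FreeGroup.lift ta (FreeGroup.of i)))
      rw [FreeGroup.lift_apply_of, ← heA i, MulEquiv.symm_apply_apply, PresentedGroup.toGroup.of]) W
  have hΦφ : ∀ M, Φ (φ M) = corner2 hn M := by
    intro M
    rw [← hWd M, ← hiL, ← htL]
    rfl
  have hΦι : ∀ σ, Φ (ι σ) = permSL σ := by
    intro σ
    rw [← hWa σ, ← hiA, ← htA]
    rfl
  have hgen' : φ.range ⊔ ι.range = ⊤ := by
    rw [eq_top_iff, ← PresentedGroup.closure_range_of rels, Subgroup.closure_le]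
    rintro _ ⟨i, rfl⟩
    refine Fin.addCases (m := 3) (n := 2) (fun j => Subgroup.mem_sup_left ⟨std z j, ?_⟩)
      (fun j => Subgroup.mem_sup_right ⟨FreeGroup.lift ta (FreeGroup.of j), ?_⟩) i
    · rw [hφ j]
      show π (iL (FreeGroup.of j)) = π (FreeGroup.of (Fin.castAdd 2 j))
      simp [iL]
    · rw [← hiA]
      show π (iA (FreeGroup.of j)) = π (FreeGroup.of (Fin.natAdd 3 j))
      simp [iA]
  simp only [glue, H, H2, C, u, List.forall_mem_cons, map_mul, map_inv, map_one, hiL, hiA, hWd, hWa,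
    FreeGroup.lift_apply_of, std_zero, std_one, std_two] at hπg
  obtain ⟨hinvol, hprod, hT, hB, hC, -⟩ := hπg
  simp only [last2, T, Xw, u, List.forall_mem_cons, map_mul, map_inv, hiL, hiA, hWd, hWa,
    FreeGroup.lift_apply_of, std_zero] at hπlast
  obtain ⟨hτ, hD, -⟩ := hπlast
  have hextra4 : Fintype.card F = 4 → ∀ e ∈ extra4, π e.1 = π e.2 := fun h4 e he' => hπe e (by
    simp only [extra, if_pos h4]; exact he')
  obtain ⟨x, R', hx, hxgen⟩ := sl_n_fam he hn z hz φ ι hgen' hinvol hprod hT hB hC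
    (fun h4 => by
      have := hextra4 h4 _ List.mem_cons_self
      simpa only [C, u, map_mul, map_inv, hiL, hiA, hWd, hWa, FreeGroup.lift_apply_of, std_zero, Commute,
        SemiconjBy] using this)
    (fun h4 => by
      have := hextra4 h4 _ (List.mem_cons_of_mem _ List.mem_cons_self)
      simpa only [C, u, map_mul, map_inv, hiL, hiA, hWd, hWa, FreeGroup.lift_apply_of, std_zero] using this)
    s hs
    (fun i => by
      have := hπS _ (List.mem_ofFn.2 ⟨i, rfl⟩)
      simpa only [map_mul, hiL, hiA, hWd, hWa, Commute, SemiconjBy] using this)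
    hτ hD
  obtain ⟨e', he'⟩ := KnownB.SLnSt.present (K := F) n (by omega)
  let f : {ij : Fin n × Fin n // ij.1 ≠ ij.2} × F → PresentedGroup rels := fun q => x q.1.1.1 q.1.1.2 q.2
  have hrelx : ∀ r ∈ _, FreeGroup.lift f r = 1 := fun r (hr : r ∈
      ({g : FreeGroup ({ij : Fin n × Fin n // ij.1 ≠ ij.2} × F) | ∃ (a : {ij : Fin n × Fin n // ij.1 ≠ ij.2}) (t u : F),
            g = FreeGroup.of (a, t) * FreeGroup.of (a, u) * (FreeGroup.of (a, t + u))⁻¹} ∪
          {g | ∃ (a b : {ij : Fin n × Fin n // ij.1 ≠ ij.2}) (t u : F), a.1.1 ≠ b.1.2 ∧ a.1.2 ≠ b.1.1 ∧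
            g = FreeGroup.of (a, t) * FreeGroup.of (b, u) * (FreeGroup.of (a, t))⁻¹ * (FreeGroup.of (b, u))⁻¹} ∪
          {g | ∃ (a b : {ij : Fin n × Fin n // ij.1 ≠ ij.2}) (h : a.1.1 ≠ b.1.2) (t u : F), a.1.2 = b.1.1 ∧
            g = FreeGroup.of (a, t) * FreeGroup.of (b, u) * (FreeGroup.of (a, t))⁻¹ * (FreeGroup.of (b, u))⁻¹ *
              (FreeGroup.of (⟨(a.1.1, b.1.2), h⟩, t * u))⁻¹})) => by
    rcases hr with (⟨a, s, u, rfl⟩ | ⟨a, b, s, u, e1, e2, rfl⟩) | ⟨a, b, h, s, u, e2, rfl⟩ <;>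
      simp only [map_mul, map_inv, FreeGroup.lift_apply_of, f]
    · rw [R'.add _ _ a.2, mul_inv_cancel]
    · exact R'.comm0 _ _ _ _ a.2 b.2 e1 e2 _ _
    · obtain ⟨⟨i, j⟩, hij⟩ := a
      obtain ⟨⟨j', k⟩, hjk⟩ := b
      simp only at e2 h hij hjk ⊢
      subst e2
      rw [R'.comm1 i j k hij hjk h, mul_inv_cancel]
  let ψ : SL(n, F) →* PresentedGroup rels := (PresentedGroup.toGroup hrelx).comp e'.symm.toMonoidHom
  have hψ : ∀ (i j : Fin n) (hij : i ≠ j) (s : F), ψ (Matrix.SpecialLinearGroup.transvection hij s) = x i j s := by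
    intro i j hij s
    have : e'.symm (Matrix.SpecialLinearGroup.transvection hij s) = PresentedGroup.of (⟨(i, j), hij⟩, s) := by
      rw [MulEquiv.symm_apply_eq]
      exact Subtype.ext (he' ⟨(i, j), hij⟩ s).symm
    show PresentedGroup.toGroup hrelx (e'.symm _) = _
    rw [this, PresentedGroup.toGroup.of]
  have hΦψ : ∀ A, Φ (ψ A) = A := by
    intro A
    have htop : MonoidHom.eqLocus (Φ.comp ψ) (MonoidHom.id _) = ⊤ := by
      refine CfsgLib.Classical.sl_transvection_induction _ fun i j hij s => ?_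
      show Φ (ψ (Matrix.SpecialLinearGroup.transvection hij s)) = Matrix.SpecialLinearGroup.transvection hij s
      obtain ⟨σ, h0, h1⟩ := exists_even_pair hn hij
      have e1 := hx σ s
      rw [h0, h1] at e1
      rw [hψ, e1, map_mul, map_mul, map_inv, hΦι, hΦφ, permSL_uElt]
      exact transvection_congr _ _ h0 h1 s
    exact DFunLike.congr_fun (show Φ.comp ψ = MonoidHom.id _ from MonoidHom.ext fun B =>
      (htop ▸ Subgroup.mem_top B : B ∈ MonoidHom.eqLocus (Φ.comp ψ) (MonoidHom.id _))) A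
  have hψtop : ψ.range = ⊤ := hxgen _ fun i j hij t' => ⟨_, hψ i j hij t'⟩
  refine ⟨{ Φ with invFun := ψ, left_inv := fun y => ?_, right_inv := hΦψ }⟩
  obtain ⟨A, rfl⟩ : y ∈ ψ.range := hψtop ▸ Subgroup.mem_top y
  exact congrArg ψ (hΦψ A)

/-- Presentations of `SL_n`, `n ≥ 4`. -/
theorem sl_n {n : ℕ} (hn : 4 ≤ n) : PresBy 5 SL(n, F) 22 := by
  obtain ⟨t, ht, -⟩ := Short.hasPres_alt_all (n - 2)
  obtain ⟨s, hs', hs⟩ := stab_gens hn t ht
  exact sl_n_core hn s hs' hs

theorem sl_four : PresBy 5 SL(4, F) 20 := by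
  have hsub : ∀ σ : alternatingGroup (Fin 2), σ = 1 := by decide
  obtain ⟨s, hs', hs⟩ := stab_gens (k := 0) (le_refl 4) Fin.elim0
    (eq_top_iff.2 fun σ _ => by
      rw [hsub σ]
      exact one_mem _)
  exact sl_n_core (le_refl 4) s hs' hs

theorem sl_five : PresBy 5 SL(5, F) 21 := by
  have := Fact.mk Nat.prime_three
  have hcyc : IsCyclic (alternatingGroup (Fin 3)) := isCyclic_of_prime_card (p := 3) (by
    rw [nat_card_alternatingGroup, Nat.card_fin]; rfl)
  obtain ⟨c, hc⟩ := hcyc.exists_generator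
  obtain ⟨s, hs', hs⟩ := stab_gens (k := 1) (show 4 ≤ 5 by norm_num) ![c]
    (eq_top_iff.2 fun σ _ => by
      rw [show Set.range ![c] = {c} by simp, ← Subgroup.zpowers_eq_closure]
      exact hc σ)
  exact sl_n_core (show 4 ≤ 5 by norm_num) s hs' hs

end CfsgLib.Pres
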