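import Cfsg.Agent.Lib.Pres.SpModel
import Cfsg.Agent.Lib.Pres.SLThreePres
import Cfsg.Agent.Lib.Pres.SLnPres

/-!
# Short presentations of `Sp_{2n}` and `PSp_{2n}`
-/

set_option autoImplicit false

namespace CfsgLib.Pres.SpN

open Matrix
open scoped MatrixGroups
open CfsgLib.Classical (uElt uElt_val uElt_add)

variable {F : Type*} [Field F]

section

variable {ι : Type*} [Fintype ι] [DecidableEq ι]

/-- Conjugation by the torus of one index, on `SL`. -/
def slD (o : ι) (c : Fˣ) : Matrix.SpecialLinearGroup ι F →* Matrix.SpecialLinearGroup ι F :=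
  MonoidHom.mk' (fun A => ⟨((dg o c * Matrix.SpecialLinearGroup.toGL A * (dg o c)⁻¹ : GL ι F) : Matrix ι ι F), by
    rw [← Matrix.GeneralLinearGroup.val_det_apply, map_mul, map_mul, map_inv, mul_comm _ (Matrix.GeneralLinearGroup.det
      (Matrix.SpecialLinearGroup.toGL A)), mul_inv_cancel_right, Matrix.GeneralLinearGroup.val_det_apply]
    exact A.2⟩) fun A B => toGL_inj (by
      refine Units.ext ?_
      show ((dg o c * Matrix.SpecialLinearGroup.toGL (A * B) * (dg o c)⁻¹ : GL ι F) : Matrix ι ι F) =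
        ((dg o c * Matrix.SpecialLinearGroup.toGL A * (dg o c)⁻¹) *
          (dg o c * Matrix.SpecialLinearGroup.toGL B * (dg o c)⁻¹) : GL ι F).val
      rw [map_mul]
      congr 1
      group)

theorem toGL_slD (o : ι) (c : Fˣ) (A : Matrix.SpecialLinearGroup ι F) :
    (Matrix.SpecialLinearGroup.toGL (slD o c A) : GL ι F) =
      dg o c * Matrix.SpecialLinearGroup.toGL A * (dg o c)⁻¹ := Units.ext rfl

theorem slD_emb {k o : ι} (h : k ≠ o) (c : Fˣ) (M : SL(2, F)) :
    slD o c (emb h M) = emb h (dConj c⁻¹ M) := by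
  refine toGL_inj ?_
  rw [toGL_slD, ← map_inv]
  refine Units.ext ?_
  rw [Units.val_mul, Units.val_mul, dg_val, dg_val]
  show _ * (emb h M : Matrix ι ι F) * _ = (emb h (dConj c⁻¹ M) : Matrix ι ι F)
  ext i j
  rw [Matrix.mul_diagonal, Matrix.diagonal_mul, emb_entry, emb_entry, dConj_val]
  simp only [Function.update_apply, Pi.one_apply, Matrix.one_apply, dMat]
  by_cases h1 : i = k <;> by_cases h2 : j = k <;> by_cases h3 : i = o <;> by_cases h4 : j = o <;>
    by_cases h5 : i = j <;> simp_all [h, h.symm, mul_comm]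

theorem extS_refl (A : Matrix.SpecialLinearGroup ι F) : extS (Function.Embedding.refl ι) A = A := by
  refine Subtype.ext ?_
  rw [extS_val]
  ext i j
  exact extM_apply (Function.Embedding.refl ι) _ i j

theorem blk_emb {a b o : ι} (h : a ≠ b) (ha : a ≠ o) (hb : b ≠ o) (M : SL(2, F)) :
    Blk o (Matrix.SpecialLinearGroup.toGL (emb h M) : GL ι F) := by
  refine ⟨?_, ?_⟩ <;> funext i
  · rw [Matrix.mulVec_single_one, Matrix.col_apply]
    show (emb h M : Matrix ι ι F) i o = _
    rw [emb_entry, Matrix.one_apply, Pi.single_apply]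
    simp [ha.symm, hb.symm]
  · rw [Matrix.single_one_vecMul, Matrix.row_apply]
    show (emb h M : Matrix ι ι F) o i = _
    rw [emb_entry, Matrix.one_apply, Pi.single_apply]
    simp [ha.symm, hb.symm, eq_comm]

theorem emb_move {k₀ k o : ι} (h₀ : k₀ ≠ o) (hk : k ≠ o) (hkk : k ≠ k₀) (M : SL(2, F)) :
    emb hkk (wElt F) * emb h₀ M * (emb hkk (wElt F))⁻¹ = emb hk M := by
  let t : Fin 3 ↪ ι := ⟨![k, k₀, o], by
    intro a b hab
    fin_cases a <;> fin_cases b <;> simp_all [hk.symm, h₀.symm, hkk.symm]⟩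
  have h01 : (0 : Fin 3) ≠ 1 := by decide
  have h12 : (1 : Fin 3) ≠ 2 := by decide
  have h02 : (0 : Fin 3) ≠ 2 := by decide
  have e : ∀ {a b : Fin 3} (h : a ≠ b) (h' : t a ≠ t b) (M : SL(2, F)), emb h' M = extS t (emb h M) := by
    intro a b h h' M
    rw [emb, emb, extS_extS]
    congr 2
    ext x
    fin_cases x <;> rfl
  have key : (emb h01 (wElt F) * emb h12 M : SL(3, F)) = emb h02 M * emb h01 (wElt F) := by
    refine Subtype.ext ?_
    rw [Matrix.SpecialLinearGroup.coe_mul, Matrix.SpecialLinearGroup.coe_mul]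
    ext i j
    rw [Matrix.mul_apply, Matrix.mul_apply, Fin.sum_univ_three, Fin.sum_univ_three]
    simp only [emb_entry]
    fin_cases i <;> fin_cases j <;> simp [wElt, Matrix.one_apply]
  rw [mul_inv_eq_iff_eq_mul, show emb hkk (wElt F) = extS t (emb h01 (wElt F)) from e h01 hkk _,
    show emb h₀ M = extS t (emb h12 M) from e h12 h₀ M, show emb hk M = extS t (emb h02 M) from e h02 hk M,
    ← map_mul, ← map_mul, key]

end

section

variable [Fintype F] {ι : Type*} [Fintype ι] [DecidableEq ι] {G : Type*} [Group G] {o : ι}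
  {φ : Matrix.SpecialLinearGroup ι F →* G} {ψ : SL(2, F) →* G}

/-- The torus acts on the Levi part as soon as it does on generators. -/
theorem conjD_all {l : ℕ} (g : Fin l → Matrix.SpecialLinearGroup ι F) (hg : Subgroup.closure (Set.range g) = ⊤)
    (z : Fˣ) (hz : ∀ y : Fˣ, y ∈ Subgroup.zpowers z)
    (h : ∀ i, ψ (dElt z) * φ (g i) * (ψ (dElt z))⁻¹ = φ (slD o z (g i))) (c : Fˣ)
    (A : Matrix.SpecialLinearGroup ι F) :
    ψ (dElt c) * φ A * (ψ (dElt c))⁻¹ = φ (slD o c A) := by
  have h1 : (MulAut.conj (ψ (dElt z))).toMonoidHom.comp φ = φ.comp (slD o z) :=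
    MonoidHom.eq_of_eqOn_dense hg (by rintro _ ⟨i, rfl⟩; exact h i)
  have h2 : ∀ A, ψ (dElt z) * φ A * (ψ (dElt z))⁻¹ = φ (slD o z A) := fun A =>
    congrArg (fun χ : Matrix.SpecialLinearGroup ι F →* G => χ A) h1
  obtain ⟨j, hj⟩ := (isOfFinOrder_of_finite z).mem_powers_iff_mem_zpowers.2 (hz c)
  obtain rfl : z ^ j = c := hj
  rw [← dElt_pow, map_pow]
  induction j generalizing A with
  | zero =>
    have e1 : slD o (z ^ 0) A = A := toGL_inj (by rw [toGL_slD, pow_zero, map_one]; simp)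
    rw [e1]; simp
  | succ j ih =>
    calc ψ (dElt z) ^ (j + 1) * φ A * (ψ (dElt z) ^ (j + 1))⁻¹
        = ψ (dElt z) ^ j * (ψ (dElt z) * φ A * (ψ (dElt z))⁻¹) * (ψ (dElt z) ^ j)⁻¹ := by
          rw [pow_succ]; group
      _ = φ (slD o (z ^ (j + 1)) A) := by
          rw [h2, ih]
          congr 1
          refine toGL_inj ?_
          rw [toGL_slD, toGL_slD, toGL_slD, pow_succ, map_mul (dg o)]
          group

/-- The relations from finitely many of them. -/
theorem spRels_of_few {l r : ℕ} {k₀ : ι} (hk₀ : k₀ ≠ o) (g : Fin l → Matrix.SpecialLinearGroup ι F)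
    (hg : Subgroup.closure (Set.range g) = ⊤) (s : Fin r → Matrix.SpecialLinearGroup ι F)
    (hs : ∀ B, Blk o (Matrix.SpecialLinearGroup.toGL B) → B ∈ Subgroup.closure (Set.range s))
    (hsblk : ∀ i, Blk o (Matrix.SpecialLinearGroup.toGL (s i)))
    (z : Fˣ) (hz : ∀ y : Fˣ, y ∈ Subgroup.zpowers z) (hstd : Subgroup.closure (Set.range (std z)) = ⊤)
    (hD : ∀ i, ψ (dElt z) * φ (g i) * (ψ (dElt z))⁻¹ = φ (slD o z (g i)))
    (hcu : ∀ i, Commute (φ (s i)) (ψ (uElt 1))) (hcw : ∀ i, Commute (φ (s i)) (ψ (wElt F)))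
    (hau : φ (emb hk₀ (dElt z)) * ψ (uElt 1) * (φ (emb hk₀ (dElt z)))⁻¹ = ψ (dConj (z ^ 2)⁻¹ (uElt 1)))
    (haw : φ (emb hk₀ (dElt z)) * ψ (wElt F) * (φ (emb hk₀ (dElt z)))⁻¹ = ψ (dConj (z ^ 2)⁻¹ (wElt F)))
    (hfew : SpFour.Few (φ.comp (emb hk₀)) ψ) : SpRels o φ ψ := by
  have hDall : ∀ c A, ψ (dElt c) * φ A * (ψ (dElt c))⁻¹ = φ (slD o c A) := fun c A => conjD_all g hg z hz hD c A
  have hconjD : ∀ (c : Fˣ) (A B : Matrix.SpecialLinearGroup ι F),
      (Matrix.SpecialLinearGroup.toGL B : GL ι F) = dg o c * Matrix.SpecialLinearGroup.toGL A * (dg o c)⁻¹ →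
        ψ (dElt c) * φ A * (ψ (dElt c))⁻¹ = φ B := fun c A B h => by
    rw [hDall, toGL_inj ((toGL_slD o c A).trans h.symm)]
  have hblkd : ∀ (c : Fˣ) (B : Matrix.SpecialLinearGroup ι F), Blk o (Matrix.SpecialLinearGroup.toGL B) →
      Commute (φ B) (ψ (dElt c)) := by
    intro c B hB
    have h1 := hDall c B
    have h2 : slD o c B = B := toGL_inj (by
      rw [toGL_slD, mul_inv_eq_iff_eq_mul]
      refine Units.ext ?_
      rw [Units.val_mul, Units.val_mul, dg_val]
      ext i j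
      rw [Matrix.diagonal_mul, Matrix.mul_diagonal]
      have e1 : (Matrix.SpecialLinearGroup.toGL B : GL ι F).val i o = if i = o then 1 else 0 := by
        have := congrFun hB.1 i
        rw [Matrix.mulVec_single_one, Matrix.col_apply] at this
        rw [this, Pi.single_apply]
      have e2 : (Matrix.SpecialLinearGroup.toGL B : GL ι F).val o j = if j = o then 1 else 0 := by
        have := congrFun hB.2 j
        rw [Matrix.single_one_vecMul, Matrix.row_apply] at this
        rw [this, Pi.single_apply]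
      simp only [Function.update_apply, Pi.one_apply]
      by_cases hi : i = o <;> by_cases hj : j = o <;> simp_all)
    rw [h2, mul_inv_eq_iff_eq_mul] at h1
    exact h1.symm
  have hcomm : ∀ (B : Matrix.SpecialLinearGroup ι F) (M : SL(2, F)),
      Blk o (Matrix.SpecialLinearGroup.toGL B) → Commute (φ B) (ψ M) := by
    have h1 : ∀ i M, Commute (φ (s i)) (ψ M) := by
      intro i M
      have hM : M ∈ Subgroup.comap ψ (Subgroup.centralizer {φ (s i)}) := by
        have : Subgroup.closure (Set.range (std z)) ≤ Subgroup.comap ψ (Subgroup.centralizer {φ (s i)}) := by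
          refine (Subgroup.closure_le _).2 ?_
          rintro _ ⟨j, rfl⟩
          show ψ (std z j) ∈ Subgroup.centralizer {φ (s i)}
          rw [Subgroup.mem_centralizer_singleton_iff]
          fin_cases j
          · exact (hcu i).symm.eq
          · exact (hblkd z _ (hsblk i)).symm.eq
          · exact (hcw i).symm.eq
        exact this (hstd ▸ Subgroup.mem_top M)
      exact (Subgroup.mem_centralizer_singleton_iff.1 hM).symm
    intro B M hB
    have : Subgroup.closure (Set.range s) ≤ Subgroup.comap φ (Subgroup.centralizer {ψ M}) := by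
      refine (Subgroup.closure_le _).2 ?_
      rintro _ ⟨i, rfl⟩
      show φ (s i) ∈ Subgroup.centralizer {ψ M}
      rw [Subgroup.mem_centralizer_singleton_iff]
      exact (h1 i M).eq
    exact Subgroup.mem_centralizer_singleton_iff.1 (this (hs B hB))
  have hb_a : ∀ (k : ι) (h : k ≠ o) (c : Fˣ) (M : SL(2, F)),
      ψ (dElt c) * (φ.comp (emb h)) M * (ψ (dElt c))⁻¹ = (φ.comp (emb h)) (dConj c⁻¹ M) := fun k h c M => by
    rw [MonoidHom.comp_apply, hDall, slD_emb]
    rfl
  have ha_b : ∀ (c : Fˣ) (M : SL(2, F)), (φ.comp (emb hk₀)) (dElt c) * ψ M * ((φ.comp (emb hk₀)) (dElt c))⁻¹ =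
      ψ (dConj (c ^ 2)⁻¹ M) := fun c M => by
    have h := SpFour.torus_all (φ.comp (emb hk₀)) ψ (std z) hstd z hz ((powMonoidHom 2 : Fˣ →* Fˣ)⁻¹) (fun j => ?_) c M
    · exact h
    fin_cases j
    · exact hau
    · show φ (emb hk₀ (dElt z)) * ψ (dElt z) * (φ (emb hk₀ (dElt z)))⁻¹ = ψ (dConj _ (dElt z))
      have h1 := hb_a k₀ hk₀ z (dElt z)
      rw [dConj_dElt, mul_inv_eq_iff_eq_mul] at h1
      rw [dConj_dElt, mul_inv_eq_iff_eq_mul]
      exact h1.symm
    · exact haw
  have h0 : SpFour.Rels (φ.comp (emb hk₀)) ψ := SpFour.rels_of_few ha_b (hb_a k₀ hk₀) hfew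
  refine ⟨hcomm, hconjD, fun k hk => ?_⟩
  by_cases hkk : k = k₀
  · subst hkk; exact h0
  · set A := emb hkk (wElt F) with hA
    have hAblk : Blk o (Matrix.SpecialLinearGroup.toGL A : GL ι F) := blk_emb hkk hk hk₀ _
    have e1 : φ.comp (emb hk) = (MulAut.conj (φ A)).toMonoidHom.comp (φ.comp (emb hk₀)) := MonoidHom.ext fun M => by
      show φ (emb hk M) = φ A * φ (emb hk₀ M) * (φ A)⁻¹
      rw [← emb_move hk₀ hk hkk M, map_mul, map_mul, map_inv]
    have e2 : ψ = (MulAut.conj (φ A)).toMonoidHom.comp ψ := MonoidHom.ext fun M => by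
      show ψ M = φ A * ψ M * (φ A)⁻¹
      rw [(hcomm A M hAblk).eq, mul_inv_cancel_right]
    rw [e1, e2]
    exact h0.map _

end

set_option maxHeartbeats 1600000 in
/-- The presentation from presentations of `SL_{m+1}` and of `SL_m`. -/
theorem sp_pres [Fintype F] {m l r K K' : ℕ} (hm : 1 ≤ m) (hL : PresBy l SL(m + 1, F) K)
    (hS : PresBy r SL(m, F) K') :
    PresBy (l + 3) (Matrix.symplecticGroup (Fin (m + 1)) F) (K + 7 + (l + (r + r) + 9)) := by
  classical
  obtain ⟨relsL, hcL, ⟨eL⟩⟩ := hL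
  obtain ⟨relsS, -, ⟨eS⟩⟩ := hS
  obtain ⟨z, hz⟩ := IsCyclic.exists_generator (α := Fˣ)
  obtain ⟨hstd, L, hlen, -, -, hold2, hhom⟩ := sl_two_seven z hz
  set o : Fin (m + 1) := Fin.last m with ho
  set k₀ : Fin (m + 1) := ⟨0, by omega⟩ with hk₀'
  have hk₀ : k₀ ≠ o := fun h => by
    have := congrArg Fin.val h
    simp [hk₀', ho] at this
    omega
  let g : Fin l → SL(m + 1, F) := fun i => eL (PresentedGroup.of i)
  have hg : Subgroup.closure (Set.range g) = ⊤ := by
    rw [show Set.range g = eL.toMonoidHom '' Set.range PresentedGroup.of from Set.range_comp _ _,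
      ← MonoidHom.map_closure, PresentedGroup.closure_range_of, ← MonoidHom.range_eq_map]
    exact MonoidHom.range_eq_top.2 eL.surjective
  have hlift : ∀ w, FreeGroup.lift g w = eL (PresentedGroup.mk _ w) := fun w =>
    congrArg (fun χ : FreeGroup (Fin l) →* SL(m + 1, F) => χ w)
      (show FreeGroup.lift g = eL.toMonoidHom.comp (PresentedGroup.mk _) from
        FreeGroup.ext_hom _ _ fun i => by rw [FreeGroup.lift_apply_of]; rfl)
  have hrelsL : ∀ x ∈ relsL, FreeGroup.lift g x = 1 := fun x hx => by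
    rw [hlift, PresentedGroup.one_of_mem hx, map_one]
  choose wd hwd using fun M : SL(m + 1, F) =>
    PresentedGroup.mk_surjective (↑relsL : Set (FreeGroup (Fin l))) (eL.symm M)
  have hwd' : ∀ M, FreeGroup.lift g (wd M) = M := fun M => by rw [hlift, hwd, MulEquiv.apply_symm_apply]
  have hsurj2 : Function.Surjective (FreeGroup.lift (std z)) := by
    rw [← MonoidHom.range_eq_top, FreeGroup.range_lift_eq_closure, hstd]
  choose Wd hWd using hsurj2
  -- generators of the stabiliser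
  let ε : Fin m ↪ Fin (m + 1) := Fin.castSuccEmb
  let sS : Fin r → SL(m + 1, F) := fun i => extS ε (eS (PresentedGroup.of i))
  have hεo : ∀ a : Fin m, o ≠ ε a := fun a h => (Fin.castSucc_lt_last a).ne h.symm
  have hsblk : ∀ i, Blk o (Matrix.SpecialLinearGroup.toGL (sS i)) := fun i => by
    rw [toGL_extS]
    refine ⟨?_, ?_⟩ <;> funext j
    · rw [Matrix.mulVec_single_one, Matrix.col_apply, extG_val, extM_apply_right _ _ hεo,
        Matrix.one_apply, Pi.single_apply]
    · rw [Matrix.single_one_vecMul, Matrix.row_apply, extG_val, extM_apply_left _ _ hεo,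
        Matrix.one_apply, Pi.single_apply]
      simp [eq_comm]
  have hs : ∀ B : SL(m + 1, F), Blk o (Matrix.SpecialLinearGroup.toGL B) → B ∈ Subgroup.closure (Set.range sS) := by
    intro B hB
    obtain ⟨A, hA⟩ := exists_ext hB
    have hdetA : (A : Matrix (Rest o) (Rest o) F).det = 1 := by
      have h1 := congrArg Matrix.GeneralLinearGroup.det hA
      rw [extG_det] at h1
      have h2 := congrArg (fun u : Fˣ => (u : F)) h1
      rw [Matrix.GeneralLinearGroup.val_det_apply, Matrix.GeneralLinearGroup.val_det_apply] at h2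
      rw [h2]
      exact B.2
    let ρ : Rest o ↪ Fin m := ⟨fun i => Fin.castPred i.1 i.2, fun a b h => Subtype.ext (Fin.castPred_inj.1 h)⟩
    let A' : Matrix.SpecialLinearGroup (Rest o) F := ⟨A, hdetA⟩
    have hB' : B = extS ε (extS ρ A') := by
      rw [extS_extS]
      refine Subtype.ext ?_
      rw [extS_val, show ρ.trans ε = restEmb o from Function.Embedding.ext fun i =>
        Fin.ext rfl]
      exact (congrArg Units.val hA).symm
    rw [hB', show Set.range sS = ((extS ε).comp eS.toMonoidHom) '' Set.range PresentedGroup.of from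
        Set.range_comp ((extS ε).comp eS.toMonoidHom) PresentedGroup.of,
      ← MonoidHom.map_closure, PresentedGroup.closure_range_of, ← MonoidHom.range_eq_map]
    exact ⟨eS.symm (extS ρ A'), by
      show extS ε (eS (eS.symm _)) = _
      rw [MulEquiv.apply_symm_apply]⟩
  -- words
  let iL : FreeGroup (Fin l) →* FreeGroup (Fin (l + 3)) := FreeGroup.map (Fin.castAdd 3)
  let iS : W3 →* FreeGroup (Fin (l + 3)) := FreeGroup.map (Fin.natAdd l)
  let A_ : SL(2, F) → FreeGroup (Fin (l + 3)) := fun M => iL (wd (emb hk₀ M))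
  let B_ : SL(2, F) → FreeGroup (Fin (l + 3)) := fun M => iS (Wd M)
  let XA : F → FreeGroup (Fin (l + 3)) := fun t => A_ (uElt t)
  let XB : F → FreeGroup (Fin (l + 3)) := fun t => B_ (uElt t)
  let WA : FreeGroup (Fin (l + 3)) := A_ (wElt F)
  let WB : FreeGroup (Fin (l + 3)) := B_ (wElt F)
  let PW : F → FreeGroup (Fin (l + 3)) := fun t => WB * XA (-t) * WB⁻¹
  let RW : F → FreeGroup (Fin (l + 3)) := fun t => WA * XB t * WA⁻¹
  let few : List (FreeGroup (Fin (l + 3)) × FreeGroup (Fin (l + 3))) :=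
    [(WA * WB * WA * WB, WB * WA * WB * WA), (WA * PW 1 * WA⁻¹, PW (-1)), (WB * RW 1 * WB⁻¹, RW 1),
      (XA 1 * RW 1, RW 1 * XA 1), (XB 1 * RW 1, RW 1 * XB 1), (XA 1 * PW 1, RW 2 * PW 1 * XA 1),
      (XA 1 * XB 1, PW 1 * RW 1 * XB 1 * XA 1),
      (A_ (dElt z) * B_ (uElt 1) * (A_ (dElt z))⁻¹, B_ (dConj (z ^ 2)⁻¹ (uElt 1))),
      (A_ (dElt z) * B_ (wElt F) * (A_ (dElt z))⁻¹, B_ (dConj (z ^ 2)⁻¹ (wElt F)))]
  let tor : List (FreeGroup (Fin (l + 3)) × FreeGroup (Fin (l + 3))) := List.ofFn fun i : Fin l =>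
    (B_ (dElt z) * iL (FreeGroup.of i) * (B_ (dElt z))⁻¹, iL (wd (slD o z (g i))))
  let cmU : List (FreeGroup (Fin (l + 3)) × FreeGroup (Fin (l + 3))) := List.ofFn fun i : Fin r =>
    (iL (wd (sS i)) * B_ (uElt 1), B_ (uElt 1) * iL (wd (sS i)))
  let cmW : List (FreeGroup (Fin (l + 3)) × FreeGroup (Fin (l + 3))) := List.ofFn fun i : Fin r =>
    (iL (wd (sS i)) * B_ (wElt F), B_ (wElt F) * iL (wd (sS i)))
  let eqs : List (FreeGroup (Fin (l + 3)) × FreeGroup (Fin (l + 3))) :=
    L.map (fun p => (iS p.1, iS p.2)) ++ (tor ++ (cmU ++ cmW) ++ few)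
  let rels : Finset (FreeGroup (Fin (l + 3))) := relsL.image iL ∪ (eqs.map fun p => p.1 * p.2⁻¹).toFinset
  refine ⟨rels, ?_, ?_⟩
  · refine (Finset.card_union_le _ _).trans ?_
    refine (Nat.add_le_add (Finset.card_image_le.trans hcL) (List.toFinset_card_le _)).trans ?_
    simp [eqs, few, tor, cmU, cmW]
    omega
  -- the generators of the model
  set φ₀ := phiN (F := F) (ι := Fin (m + 1)) with hφ₀
  set ψ₀ := psiN (F := F) o with hψ₀
  let t : Fin (l + 3) → SpG F (Fin (m + 1)) := Fin.append (fun i => φ₀ (g i)) fun i => ψ₀ (std z i)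
  have htA : ∀ w, FreeGroup.lift t (iL w) = φ₀ (FreeGroup.lift g w) := fun w =>
    congrArg (fun χ : FreeGroup (Fin l) →* SpG F (Fin (m + 1)) => χ w)
      (show (FreeGroup.lift t).comp iL = φ₀.comp (FreeGroup.lift g) from FreeGroup.ext_hom _ _ fun i => by
        simp only [iL, MonoidHom.comp_apply, FreeGroup.map.of, FreeGroup.lift_apply_of]
        exact Fin.append_left _ _ i)
  have htB : ∀ w, FreeGroup.lift t (iS w) = ψ₀ (FreeGroup.lift (std z) w) := fun w =>
    congrArg (fun χ : W3 →* SpG F (Fin (m + 1)) => χ w)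
      (show (FreeGroup.lift t).comp iS = ψ₀.comp (FreeGroup.lift (std z)) from FreeGroup.ext_hom _ _ fun i => by
        simp only [iS, MonoidHom.comp_apply, FreeGroup.map.of, FreeGroup.lift_apply_of]
        exact Fin.append_right _ _ i)
  have RM := spRels_model (F := F) o
  have hold : ∀ x ∈ rels, FreeGroup.lift t x = 1 := by
    intro x hx
    rw [Finset.mem_union, Finset.mem_image, List.mem_toFinset, List.mem_map] at hx
    rcases hx with ⟨x, hx, rfl⟩ | ⟨p, hp, rfl⟩
    · rw [htA, hrelsL x hx, map_one]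
    rw [map_mul, map_inv, mul_inv_eq_one]
    simp only [eqs, tor, cmU, cmW, few, List.mem_append, List.mem_map, List.mem_cons, List.not_mem_nil, or_false,
      List.mem_ofFn] at hp
    rcases hp with ⟨q, hq, rfl⟩ | (⟨i, rfl⟩ | ⟨i, rfl⟩ | ⟨i, rfl⟩) | rfl | rfl | rfl | rfl | rfl | rfl | rfl | rfl | rfl
    all_goals simp only [PW, RW, XA, XB, WA, WB, A_, B_, map_mul, map_inv, htA, htB, hwd', hWd,
      FreeGroup.lift_apply_of]
    · rw [hold2 q hq]
    · exact RM.conjD z (g i) _ (toGL_slD o z (g i))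
    · exact (RM.comm _ _ (hsblk i)).eq
    · exact (RM.comm _ _ (hsblk i)).eq
    · exact (RM.pair k₀ hk₀).braid
    · exact (RM.pair k₀ hk₀).waP 1
    · exact (RM.pair k₀ hk₀).wbR 1
    · exact ((RM.pair k₀ hk₀).cAR 1 1).eq
    · exact ((RM.pair k₀ hk₀).cBR 1 1).eq
    · have h := (RM.pair k₀ hk₀).cAP 1 1
      rwa [mul_one, mul_one] at h
    · have h := (RM.pair k₀ hk₀).cAB 1 1
      rwa [one_pow, mul_one] at h
    · exact (RM.pair k₀ hk₀).ha_b z (uElt 1)
    · exact (RM.pair k₀ hk₀).ha_b z (wElt F)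
  let Φ : PresentedGroup (↑rels : Set (FreeGroup (Fin (l + 3)))) →* SpG F (Fin (m + 1)) := PresentedGroup.toGroup hold
  have hsurj : Function.Surjective Φ := by
    rw [← MonoidHom.range_eq_top, ← top_le_iff, ← closure_model (F := F) hk₀, Subgroup.closure_le]
    rintro _ (⟨M, rfl⟩ | ⟨M, rfl⟩)
    · exact ⟨PresentedGroup.mk _ (iL (wd M)), by
        rw [show Φ (PresentedGroup.mk _ (iL (wd M))) = FreeGroup.lift t (iL (wd M)) from rfl, htA, hwd']⟩
    · exact ⟨PresentedGroup.mk _ (iS (Wd M)), by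
        rw [show Φ (PresentedGroup.mk _ (iS (Wd M))) = FreeGroup.lift t (iS (Wd M)) from rfl, htB, hWd]⟩
  -- the bound
  let π : FreeGroup (Fin (l + 3)) →* PresentedGroup (↑rels : Set (FreeGroup (Fin (l + 3)))) := PresentedGroup.mk _
  have hone : ∀ x ∈ rels, π x = 1 := fun x hx => PresentedGroup.one_of_mem hx
  have heq : ∀ p ∈ eqs, π p.1 = π p.2 := fun p hp => by
    have := hone _ (Finset.mem_union_right _ (List.mem_toFinset.2 (List.mem_map.2 ⟨p, hp, rfl⟩)))
    rwa [map_mul, map_inv, mul_inv_eq_one] at this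
  have hφrel : ∀ x ∈ relsL, FreeGroup.lift (fun i => π (iL (FreeGroup.of i))) x = 1 := by
    intro x hx
    rw [show FreeGroup.lift (fun i => π (iL (FreeGroup.of i))) = π.comp iL from
      FreeGroup.ext_hom _ _ fun i => by rw [FreeGroup.lift_apply_of]; rfl]
    exact hone _ (Finset.mem_union_left _ (Finset.mem_image.2 ⟨x, hx, rfl⟩))
  let φ : SL(m + 1, F) →* PresentedGroup (↑rels : Set (FreeGroup (Fin (l + 3)))) :=
    (PresentedGroup.toGroup (rels := (↑relsL : Set (FreeGroup (Fin l)))) hφrel).comp eL.symm.toMonoidHom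
  have hφ : ∀ w, π (iL w) = φ (FreeGroup.lift g w) := fun w => by
    show π (iL w) = PresentedGroup.toGroup hφrel (eL.symm (FreeGroup.lift g w))
    rw [hlift, MulEquiv.symm_apply_apply]
    show _ = FreeGroup.lift (fun i => π (iL (FreeGroup.of i))) w
    exact congrArg (fun χ : FreeGroup (Fin l) →* _ => χ w)
      (show π.comp iL = FreeGroup.lift (fun i => π (iL (FreeGroup.of i))) from
        FreeGroup.ext_hom _ _ fun i => by rw [FreeGroup.lift_apply_of]; rfl)
  obtain ⟨ψ, hψ⟩ := hhom (fun i => π (iS (FreeGroup.of i))) fun p hp => by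
    rw [show FreeGroup.lift (fun i => π (iS (FreeGroup.of i))) = π.comp iS from
      FreeGroup.ext_hom _ _ fun i => by rw [FreeGroup.lift_apply_of]; rfl]
    exact heq _ (List.mem_append_left _ (List.mem_map.2 ⟨p, hp, rfl⟩))
  have hψ' : ∀ w, π (iS w) = ψ (FreeGroup.lift (std z) w) := fun w =>
    congrArg (fun χ : W3 →* _ => χ w) (show π.comp iS = ψ.comp (FreeGroup.lift (std z)) from
      FreeGroup.ext_hom _ _ fun i => by rw [MonoidHom.comp_apply, MonoidHom.comp_apply, FreeGroup.lift_apply_of, hψ])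
  simp only [eqs, tor, cmU, cmW, few, List.forall_mem_append, List.forall_mem_cons, List.not_mem_nil,
    IsEmpty.forall_iff, implies_true, and_true] at heq
  obtain ⟨-, ⟨qT, qU, qW⟩, q1, q2, q3, q4, q5, q6, q7, q8, q9⟩ := heq
  simp only [PW, RW, XA, XB, WA, WB, A_, B_, map_mul, map_inv, hφ, hψ', hwd', hWd] at q1 q2 q3 q4 q5 q6 q7 q8 q9
  have hD : ∀ i, ψ (dElt z) * φ (g i) * (ψ (dElt z))⁻¹ = φ (slD o z (g i)) := fun i => by
    have h1 := qT _ (List.mem_ofFn.2 ⟨i, rfl⟩)
    simp only [B_, map_mul, map_inv, hφ, hψ', hwd', hWd, FreeGroup.lift_apply_of] at h1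
    exact h1
  have hcu : ∀ i, Commute (φ (sS i)) (ψ (uElt 1)) := fun i => by
    have h1 := qU _ (List.mem_ofFn.2 ⟨i, rfl⟩)
    simp only [B_, map_mul, hφ, hψ', hwd', hWd] at h1
    exact h1
  have hcw : ∀ i, Commute (φ (sS i)) (ψ (wElt F)) := fun i => by
    have h1 := qW _ (List.mem_ofFn.2 ⟨i, rfl⟩)
    simp only [B_, map_mul, hφ, hψ', hwd', hWd] at h1
    exact h1
  have R : SpRels o φ ψ :=
    spRels_of_few hk₀ g hg sS hs hsblk z hz hstd hD hcu hcw q8 q9 ⟨q1, q2, q3, q4, q5, q6, q7⟩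
  have hgen : Subgroup.closure (Set.range φ ∪ Set.range ψ) = ⊤ := by
    rw [← top_le_iff, ← PresentedGroup.closure_range_of (↑rels : Set (FreeGroup (Fin (l + 3)))), Subgroup.closure_le]
    rintro _ ⟨i, rfl⟩
    induction i using Fin.addCases (m := l) (n := 3) with
    | left i =>
      refine Subgroup.subset_closure (Or.inl ⟨FreeGroup.lift g (FreeGroup.of i), ?_⟩)
      rw [← hφ]
      simp only [iL, FreeGroup.map.of]
      rfl
    | right i =>
      refine Subgroup.subset_closure (Or.inr ⟨FreeGroup.lift (std z) (FreeGroup.of i), ?_⟩)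
      rw [← hψ']
      simp only [iS, FreeGroup.map.of]
      rfl
  obtain ⟨hfin, hcard⟩ := bound m (Fin (m + 1)) (Fintype.card_fin _) _ o φ ψ R hgen
  rw [← card_sp] at hcard
  exact ⟨MulEquiv.ofBijective Φ ((Nat.bijective_iff_surjective_and_card Φ).2
    ⟨hsurj, le_antisymm hcard (Nat.card_le_card_of_surjective _ hsurj)⟩)⟩

/-- `PSp_{2n}` costs one more relator. -/
theorem psp_of_sp {n k K : ℕ} (hn : 0 < n) (h : PresBy k (Matrix.symplecticGroup (Fin n) F) K) :
    PresBy k (Cfsg.PSp n F) (K + 1) := by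
  obtain ⟨rels, hr, ⟨e⟩⟩ := h
  obtain ⟨rels', hr', he⟩ := quotientOne rels e
    (QuotientGroup.mk' (Subgroup.center (Matrix.symplecticGroup (Fin n) F))) (QuotientGroup.mk'_surjective _)
    (Geom.spNeg n F) (by
      rw [QuotientGroup.ker_mk']
      refine le_antisymm (fun A hA => ?_) (Subgroup.zpowers_le.2 Geom.spNeg_mem_center)
      rcases Geom.spLin_center hn hA with h | h
      · have : A = 1 := Subtype.ext (Matrix.toLin'.injective (LinearMap.ext fun v => by
          rw [Matrix.toLin'_apply, ← Geom.spLin_apply, h]; simp))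
        rw [this]; exact one_mem _
      · have : A = Geom.spNeg n F := Subtype.ext (Matrix.toLin'.injective (LinearMap.ext fun v => by
          rw [Matrix.toLin'_apply, Matrix.toLin'_apply, ← Geom.spLin_apply, ← Geom.spLin_apply, h, Geom.spLin_spNeg]))
        rw [this]; exact Subgroup.mem_zpowers _)
  exact ⟨rels', hr'.trans (by omega), he⟩

theorem sl_two_by (F : Type*) [Field F] [Fintype F] : PresBy 3 SL(2, F) 9 := by
  obtain ⟨rels, h, he⟩ := (presentations F).1
  exact ⟨rels, h, he⟩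

theorem sl_three_by (F : Type*) [Field F] [Fintype F] : PresBy 4 SL(3, F) 14 := by
  obtain ⟨rels, h, he⟩ := sl_three (F := F)
  exact ⟨rels, h, he⟩

theorem sl_mid (F : Type*) [Field F] [Fintype F] {n : ℕ} (hn : n = 3 ∨ 4 ≤ n) : PresBy 5 SL(n, F) 22 := by
  rcases hn with rfl | hn
  · exact ((sl_three_by F).pad).mono (by omega)
  · exact sl_n hn

theorem sp_three [Fintype F] : PresBy 8 (Matrix.symplecticGroup (Fin 3) F) 52 :=
  ((sp_pres (m := 2) (by norm_num) (sl_three_by F) (sl_two_by F)).pad).mono (by omega)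

theorem sp_large [Fintype F] {n : ℕ} (hn : 4 ≤ n) : PresBy 8 (Matrix.symplecticGroup (Fin n) F) 55 := by
  obtain ⟨m, rfl⟩ : ∃ m, n = m + 1 := ⟨n - 1, by omega⟩
  exact (sp_pres (by omega) (sl_n hn) (sl_mid F (by omega))).mono (by omega)

end CfsgLib.Pres.SpN
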