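import Cfsg.Agent.Lib.Pres.DnLevi
import Cfsg.Agent.Lib.Classical.SLGen
import Cfsg.Agent.Lib.Pres.SpPres

/-!
# The cosets of the stabiliser of a singular vector are named by the singular vectors
-/

set_option autoImplicit false

namespace CfsgLib.Pres.DnN

open Matrix
open scoped MatrixGroups
open CfsgLib.Classical (uElt uElt_val uElt_add)
open CfsgLib.Pres.SpN

section

variable {F : Type*} [Field F]

theorem three_flip (t : F) :
    (emb h01 (wElt F) * emb h12 (wElt F) * emb h01 (lElt t) : SL(3, F)) =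
      emb h12 (lElt t) * emb h01 (wElt F) * emb h12 (wElt F) := by
  refine Subtype.ext ?_
  simp only [Matrix.SpecialLinearGroup.coe_mul]
  ext i j
  simp only [Matrix.mul_apply, Fin.sum_univ_three, emb_entry]
  fin_cases i <;> fin_cases j <;> simp [lElt_val, wElt, Matrix.one_apply]

theorem three_braid :
    (emb h12 (wElt F) * emb h01 ((wElt F)⁻¹) * emb h12 (wElt F) * emb h01 (wElt F) : SL(3, F)) =
      emb h01 ((wElt F)⁻¹) * emb h12 (wElt F) := by
  refine Subtype.ext ?_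
  simp only [Matrix.SpecialLinearGroup.coe_mul]
  ext i j
  simp only [Matrix.mul_apply, Fin.sum_univ_three, emb_entry, wElt_inv_val']
  fin_cases i <;> fin_cases j <;> simp [wElt, Matrix.one_apply]

end

variable {F : Type*} [Field F] {ι : Type} [Fintype ι] [DecidableEq ι]

theorem transvection_eq_emb {i j : ι} (h : i ≠ j) (c : F) :
    Matrix.SpecialLinearGroup.transvection h c = emb h (uElt c) := by
  refine Subtype.ext ?_
  rw [Matrix.SpecialLinearGroup.transvection_coe]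
  ext a b
  rw [emb_entry, uElt_val]
  simp only [Matrix.add_apply, Matrix.one_apply, Matrix.single_apply]
  by_cases h1 : a = i <;> by_cases h2 : b = j <;> by_cases h3 : a = j <;> by_cases h4 : b = i <;>
    simp_all [h, h.symm, eq_comm]

theorem exists_sl_col [Nontrivial ι] (k : ι) {v : ι → F} (hv : v ≠ 0) :
    ∃ C : Matrix.SpecialLinearGroup ι F, (C : Matrix ι ι F) *ᵥ e F k = v := by
  obtain ⟨A, hA⟩ := exists_col k hv
  obtain ⟨a, ha⟩ := exists_ne k
  refine ⟨slPart a A, ?_⟩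
  show ((A * (dg a _)⁻¹ : GL ι F) : Matrix ι ι F) *ᵥ e F k = v
  rw [← map_inv, Units.val_mul, ← Matrix.mulVec_mulVec, dg_mulVec, if_neg ha.symm, one_smul, hA]

theorem exists_alt {y : ι → F} {i : ι} (hi : y i ≠ 0) {x : ι → F} (h : x ⬝ᵥ y = 0) :
    IsAlt (alt x (e F i) (y i)⁻¹) ∧ alt x (e F i) (y i)⁻¹ *ᵥ y = x := by
  refine ⟨isAlt_alt _ _ _, ?_⟩
  rw [alt_mulVec, h, single_one_dotProduct, mul_zero, zero_smul, sub_zero, inv_mul_cancel₀ hi, one_smul]

theorem row_w_inv {a b : ι} (h : a ≠ b) :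
    e F b ᵥ* ((emb h (wElt F)⁻¹ : Matrix.SpecialLinearGroup ι F) : Matrix ι ι F) = e F a := by
  funext j
  rw [Matrix.single_one_vecMul, Matrix.row_apply, emb_entry, wElt_inv_val']
  by_cases c : j = a <;> by_cases d : j = b <;> simp_all [h, h.symm, Matrix.one_apply, eq_comm]

/-- Singular vectors of the natural module. -/
def Sing (v : (ι → F) × (ι → F)) : Prop := v ≠ 0 ∧ v.1 ⬝ᵥ v.2 = 0

theorem sing_act {S : Matrix ι ι F} (hS : IsAlt S) (A : GL ι F) {v : (ι → F) × (ι → F)} (hv : Sing v) :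
    Sing (act S A v) := by
  refine ⟨fun h => hv.1 ((act_eq_zero_iff _ _ _).1 h), ?_⟩
  have hz : ∀ y : ι → F, (S *ᵥ y) ⬝ᵥ y = 0 := fun y => by
    refine alt_induction (P := fun S => (S *ᵥ y) ⬝ᵥ y = 0) (by simp)
      (fun U V _ _ hU hV => by rw [Matrix.add_mulVec, add_dotProduct, hU, hV, add_zero]) (fun i j t _ => ?_) hS
    rw [alt_mulVec, sub_dotProduct, smul_dotProduct, smul_dotProduct, smul_eq_mul, smul_eq_mul]
    ring
  show ((A : Matrix ι ι F) *ᵥ v.1 + S *ᵥ (v.2 ᵥ* ((A⁻¹ : GL ι F) : Matrix ι ι F))) ⬝ᵥ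
    (v.2 ᵥ* ((A⁻¹ : GL ι F) : Matrix ι ι F)) = 0
  rw [add_dotProduct, hz, add_zero, dotProduct_comm, ← Matrix.dotProduct_mulVec, Matrix.mulVec_mulVec, Units.inv_mul,
    Matrix.one_mulVec, dotProduct_comm]
  exact hv.2

/-- The Weyl element at two indices on the natural module. -/
def wv (p o : ι) (v : (ι → F) × (ι → F)) : (ι → F) × (ι → F) :=
  (v.1 + (v.2 o - v.1 p) • e F p + (-v.2 p - v.1 o) • e F o,
    v.2 + (v.1 o - v.2 p) • e F p + (-v.1 p - v.2 o) • e F o)

theorem wv_x {p o : ι} (h : p ≠ o) (v : (ι → F) × (ι → F)) (i : ι) :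
    (wv p o v).1 i = if i = p then v.2 o else if i = o then -v.2 p else v.1 i := by
  rcases eq_or_ne i p with rfl | hp
  · simp [wv, h]
  rcases eq_or_ne i o with rfl | ho <;> simp [wv, *, h.symm]

theorem wv_y {p o : ι} (h : p ≠ o) (v : (ι → F) × (ι → F)) (i : ι) :
    (wv p o v).2 i = if i = p then v.1 o else if i = o then -v.1 p else v.2 i := by
  rcases eq_or_ne i p with rfl | hp
  · simp [wv, h]
  rcases eq_or_ne i o with rfl | ho <;> simp [wv, *, h.symm]

theorem sing_wv {p o : ι} (h : p ≠ o) {v : (ι → F) × (ι → F)} (hv : Sing v) : Sing (wv p o v) := by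
  refine ⟨fun hz => hv.1 ?_, ?_⟩
  · refine Prod.ext (funext fun i => ?_) (funext fun i => ?_)
    · rcases eq_or_ne i p with rfl | hp
      · simpa [wv_y h, h.symm] using congrFun (congrArg Prod.snd hz) o
      rcases eq_or_ne i o with rfl | ho
      · simpa [wv_y h] using congrFun (congrArg Prod.snd hz) p
      · simpa [wv_x h, hp, ho] using congrFun (congrArg Prod.fst hz) i
    · rcases eq_or_ne i p with rfl | hp
      · simpa [wv_x h, h.symm] using congrFun (congrArg Prod.fst hz) o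
      rcases eq_or_ne i o with rfl | ho
      · simpa [wv_x h] using congrFun (congrArg Prod.fst hz) p
      · simpa [wv_y h, hp, ho] using congrFun (congrArg Prod.snd hz) i
  · have hd : ∀ u v : ι → F, u ⬝ᵥ v = u p * v p + (u o * v o + ∑ i ∈ (Finset.univ.erase p).erase o, u i * v i) :=
      fun u v => by
        rw [Finset.add_sum_erase _ (fun i => u i * v i) (Finset.mem_erase.2 ⟨h.symm, Finset.mem_univ o⟩),
          Finset.add_sum_erase _ (fun i => u i * v i) (Finset.mem_univ p)]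
        rfl
    have h2 := hv.2
    rw [hd] at h2
    rw [hd, Finset.sum_congr rfl (g := fun i => v.1 i * v.2 i) fun i hi => by
      obtain ⟨h1, h2⟩ := Finset.mem_erase.1 hi
      rw [wv_x h, wv_y h, if_neg (Finset.mem_erase.1 h2).1, if_neg h1, if_neg (Finset.mem_erase.1 h2).1, if_neg h1]]
    rw [wv_x h, wv_x h, wv_y h, wv_y h, if_pos rfl, if_pos rfl, if_neg h.symm, if_pos rfl, if_neg h.symm, if_pos rfl]
    linear_combination h2

variable {G : Type*} [Group G] {p o : ι} {φ : Matrix.SpecialLinearGroup ι F →* G} {ψ : SL(2, F) →* G}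
  (R : DRels p o φ ψ) {k : ι} (hkp : k ≠ p) (hko : k ≠ o)
include R

local notation "W" => ψ (wElt F)

omit R in
/-- The stabiliser of a basis vector. -/
noncomputable def stab (R : DRels p o φ ψ) (k : ι) : Subgroup G :=
  Subgroup.closure ({g | ∃ S : Matrix ι ι F, IsAlt S ∧ g = sG R S} ∪
    {g | ∃ A : GL ι F, Sqd A ∧ (A : Matrix ι ι F) *ᵥ e F k = e F k ∧ g = lam R A} ∪ Set.range ψ)

theorem sG_mem_stab {S : Matrix ι ι F} (hS : IsAlt S) : sG R S ∈ stab R k :=
  Subgroup.subset_closure (Or.inl (Or.inl ⟨S, hS, rfl⟩))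

theorem lam_mem_stab {A : GL ι F} (hA : Sqd A) (h : (A : Matrix ι ι F) *ᵥ e F k = e F k) : lam R A ∈ stab R k :=
  Subgroup.subset_closure (Or.inl (Or.inr ⟨A, hA, h, rfl⟩))

theorem psi_mem_stab (M : SL(2, F)) : ψ M ∈ stab R k := Subgroup.subset_closure (Or.inr ⟨M, rfl⟩)

include hkp in
/-- The element moving `k` to `p`. -/
theorem a_col : ((emb hkp.symm (wElt F) : Matrix.SpecialLinearGroup ι F) : Matrix ι ι F) *ᵥ e F k = e F p := by
  rw [(emb_mulVec R hkp.symm (wElt F)).2.1]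
  simp [wElt]

omit R in
/-- The element leading to the second orbit. -/
noncomputable def other (φ : Matrix.SpecialLinearGroup ι F →* G) (ψ : SL(2, F) →* G) {k p o : ι} (hkp : k ≠ p)
    (hko : k ≠ o) : G :=
  φ (emb hko (wElt F)) * (ψ (wElt F))⁻¹ * φ (emb hkp.symm (wElt F))

/-- Elements conjugated into the stabiliser by the element moving `k` to `p`. -/
def InP (g : G) : Prop := (φ (emb hkp.symm (wElt F)))⁻¹ * g * φ (emb hkp.symm (wElt F)) ∈ stab R k

theorem inP_mul {g h : G} (hg : InP R hkp g) (hh : InP R hkp h) : InP R hkp (g * h) := by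
  have := mul_mem hg hh
  rw [InP]
  convert this using 1
  group

theorem inP_one : InP R hkp (1 : G) := by rw [InP, mul_one, inv_mul_cancel]; exact one_mem _

theorem inP_inv {g : G} (hg : InP R hkp g) : InP R hkp g⁻¹ := by
  have := inv_mem hg
  rw [InP]
  convert this using 1
  group

theorem inP_sG {S : Matrix ι ι F} (hS : IsAlt S) : InP R hkp (sG R S) := by
  rw [InP, ← lam_sl R, ← lam_inv R (sqd_sl _)]
  conv => arg 2; arg 2; rw [← inv_inv (Matrix.SpecialLinearGroup.toGL (emb hkp.symm (wElt F)) : GL ι F),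
    lam_inv R (sqd_sl _).inv]
  rw [lam_sG R (sqd_sl _).inv hS]
  exact sG_mem_stab R (congr_alt hS _)

theorem inP_biv (v w : ι → F) (t : F) : InP R hkp (biv R v w t) := by
  rw [← sG_alt]; exact inP_sG R hkp (isAlt_alt _ _ _)

theorem inP_lam {A : GL ι F} (hA : Sqd A) (h : (A : Matrix ι ι F) *ᵥ e F p = e F p) : InP R hkp (lam R A) := by
  rw [InP, ← lam_sl R, ← lam_inv R (sqd_sl _), ← lam_mul R (sqd_sl _).inv hA,
    ← lam_mul R ((sqd_sl _).inv.mul hA) (sqd_sl _)]
  refine lam_mem_stab R (((sqd_sl _).inv.mul hA).mul (sqd_sl _)) ?_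
  rw [Units.val_mul, Units.val_mul, ← Matrix.mulVec_mulVec, ← Matrix.mulVec_mulVec]
  show _ *ᵥ ((A : Matrix ι ι F) *ᵥ (((emb hkp.symm (wElt F) : Matrix.SpecialLinearGroup ι F) : Matrix ι ι F) *ᵥ e F k)) = _
  rw [a_col R hkp, h, ← a_col R hkp, Matrix.mulVec_mulVec]
  show ((((Matrix.SpecialLinearGroup.toGL (emb hkp.symm (wElt F)))⁻¹ : GL ι F) : Matrix ι ι F) *
    ((Matrix.SpecialLinearGroup.toGL (emb hkp.symm (wElt F)) : GL ι F) : Matrix ι ι F)) *ᵥ e F k = _
  rw [Units.inv_mul, Matrix.one_mulVec]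

include hko in
theorem inP_flip_base (t : F) : InP R hkp (W * φ (emb hkp (lElt t)) * W⁻¹) := by
  obtain ⟨χ, h1, h2⟩ := R.triple k hkp hko
  have ha : emb hkp.symm (wElt F) = (emb hkp (wElt F))⁻¹ := by
    rw [← map_inv]
    refine Subtype.ext ?_
    ext i j
    rw [emb_entry, emb_entry, wElt_inv_val']
    by_cases a : i = k <;> by_cases b : i = p <;> by_cases c : j = k <;> by_cases d : j = p <;>
      simp_all [wElt, hkp, hkp.symm, Matrix.one_apply]
  rw [InP, ha, map_inv, inv_inv,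
    show φ (emb hkp (wElt F)) * (W * φ (emb hkp (lElt t)) * W⁻¹) * (φ (emb hkp (wElt F)))⁻¹ =
      φ (emb hkp (wElt F)) * W * φ (emb hkp (lElt t)) * (φ (emb hkp (wElt F)) * W)⁻¹ by group,
    ← h1, ← h1, ← h2, ← map_mul, ← map_mul, three_flip, mul_assoc (emb h12 (lElt t)), map_mul, mul_inv_cancel_right,
    h2]
  exact psi_mem_stab R _

include hko in
theorem inP_flip {i j : ι} (hij : i ≠ j) (hio : i ≠ o) (hjo : j ≠ o) (c : F) :
    InP R hkp (W * φ (emb hij (uElt c)) * W⁻¹) := by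
  rcases eq_or_ne j p with rfl | hjp
  · rw [w_up_p R hij hio]; exact inP_biv R hkp _ _ _
  rcases eq_or_ne i p with rfl | hip
  · have hl : emb hij (uElt c) = emb hij.symm (lElt c) := toGL_inj (by
      rw [← trG_single hij, ← loG_single hij.symm]
      refine Units.ext ?_
      rw [trG_val (by simp [hij.symm]), loG_val (by simp [hij])]
      ext a b
      simp [trM, loM, Matrix.vecMulVec_apply, Pi.single_apply])
    rw [hl]
    rcases eq_or_ne j k with rfl | hjk
    · exact inP_flip_base R hkp hko c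
    have hmove := emb_move hkp (hij.symm) hjk (lElt c)
    have hblk : ∀ a, a ≠ j → a ≠ k → Blk a (Matrix.SpecialLinearGroup.toGL (emb hjk (wElt F)) : GL ι F) :=
      fun a h1 h2 => blk_emb hjk h1.symm h2.symm _
    have hc : Commute W (φ (emb hjk (wElt F))) :=
      (R.comm _ _ (hblk i hij hkp.symm) (hblk o hjo.symm hko.symm)).symm
    rw [← hmove, map_mul, map_mul, map_inv,
      show W * (φ (emb hjk (wElt F)) * φ (emb hkp (lElt c)) * (φ (emb hjk (wElt F)))⁻¹) * W⁻¹ =
        (W * φ (emb hjk (wElt F))) * φ (emb hkp (lElt c)) * (W * φ (emb hjk (wElt F)))⁻¹ by group, hc.eq,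
      show φ (emb hjk (wElt F)) * W * φ (emb hkp (lElt c)) * (φ (emb hjk (wElt F)) * W)⁻¹ =
        φ (emb hjk (wElt F)) * (W * φ (emb hkp (lElt c)) * W⁻¹) * (φ (emb hjk (wElt F)))⁻¹ by group]
    have hin : InP R hkp (φ (emb hjk (wElt F))) := by
      rw [← lam_sl R]; exact inP_lam R hkp (sqd_sl _) (hblk i hij hkp.symm).1
    exact inP_mul R hkp (inP_mul R hkp hin (inP_flip_base R hkp hko c)) (inP_inv R hkp hin)
  · have hblk : ∀ a, a ≠ i → a ≠ j → Blk a (Matrix.SpecialLinearGroup.toGL (emb hij (uElt c)) : GL ι F) :=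
      fun a h1 h2 => blk_emb hij h1.symm h2.symm _
    rw [← (R.comm _ _ (hblk p hip.symm hjp.symm) (hblk o hio.symm hjo.symm)).eq, mul_inv_cancel_right, ← lam_sl R]
    exact inP_lam R hkp (sqd_sl _) (hblk p hip.symm hjp.symm).1

include hko in
theorem inP_blk {B : GL ι F} (hB : Sqd B) (ho : Blk o B) : InP R hkp (W * lam R B * W⁻¹) := by
  obtain ⟨c, hc⟩ := hB
  set T : GL ι F := dg k (c * c) with hT
  have hTs : Sqd T := ⟨c, by rw [hT, dg_det]⟩
  have hTb : ∀ a, a ≠ k → Blk a T := fun a ha => by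
    refine ⟨(dg_mulVec k (c * c) a).trans (by rw [if_neg ha, one_smul]), ?_⟩
    funext i
    rcases eq_or_ne i a with rfl | hi
    · simp [hT, dg_val, Matrix.vecMul_diagonal, ha]
    · simp [hT, dg_val, Matrix.vecMul_diagonal, hi]
  obtain ⟨C0, hC0⟩ := exists_ext (ho.mul (hTb o hko.symm).inv)
  have hdet : Matrix.GeneralLinearGroup.det C0 = 1 := by
    rw [← extG_det (restEmb o) C0, hC0, map_mul, map_inv, hc, hT, dg_det, mul_inv_cancel]
  obtain ⟨C1, hC1⟩ : ∃ C1 : Matrix.SpecialLinearGroup (Rest o) F, Matrix.SpecialLinearGroup.toGL C1 = C0 :=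
    ⟨⟨(C0 : Matrix (Rest o) (Rest o) F), by rw [← Matrix.GeneralLinearGroup.val_det_apply, hdet, Units.val_one]⟩,
      Units.ext rfl⟩
  have hall : ∀ C : Matrix.SpecialLinearGroup (Rest o) F, InP R hkp (W * φ (extS (restEmb o) C) * W⁻¹) := by
    let H : Subgroup (Matrix.SpecialLinearGroup (Rest o) F) :=
      { carrier := {C | InP R hkp (W * φ (extS (restEmb o) C) * W⁻¹)}
        one_mem' := by
          show InP R hkp _
          rw [map_one, map_one, mul_one, mul_inv_cancel]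
          exact inP_one R hkp
        mul_mem' := fun {a b} ha hb => by
          show InP R hkp _
          have := inP_mul R hkp ha hb
          convert this using 1
          rw [map_mul, map_mul]
          group
        inv_mem' := fun {a} ha => by
          show InP R hkp _
          have := inP_inv R hkp ha
          convert this using 1
          rw [map_inv, map_inv]
          group }
    have hH : H = ⊤ := CfsgLib.Classical.sl_transvection_induction H fun i j hij d => by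
      show InP R hkp _
      have hij' : (i : ι) ≠ j := fun h => hij (Subtype.ext h)
      rw [transvection_eq_emb, emb, extS_extS]
      have := inP_flip R hkp hko hij' i.2 j.2 d
      rw [emb] at this
      convert this using 7
      ext x
      fin_cases x <;> rfl
    exact fun C => (show C ∈ H by rw [hH]; exact Subgroup.mem_top C)
  rw [show B = Matrix.SpecialLinearGroup.toGL (extS (restEmb o) C1) * T by
      rw [toGL_extS, hC1, hC0, inv_mul_cancel_right], lam_mul R (sqd_sl _) hTs, lam_sl,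
    show W * (φ (extS (restEmb o) C1) * lam R T) * W⁻¹ = (W * φ (extS (restEmb o) C1) * W⁻¹) * (W * lam R T * W⁻¹) by
      group, (w_blk R hTs (hTb p hkp.symm) (hTb o hko.symm)).eq, mul_inv_cancel_right]
  exact inP_mul R hkp (hall C1) (inP_lam R hkp hTs (hTb p hkp.symm).1)

include hko in
theorem inP_two {S : Matrix ι ι F} (hS : IsAlt S) {B : GL ι F} (hB : Sqd B) (hSo : S *ᵥ e F o = 0)
    (hBo : e F o ᵥ* (B : Matrix ι ι F) = e F o) : InP R hkp (W * (sG R S * lam R B) * W⁻¹) := by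
  have hcol : ∀ i, S i o = 0 := fun i => by
    have := congrFun hSo i
    rwa [Matrix.mulVec_single_one, Matrix.col_apply] at this
  obtain ⟨u, hu, B', hB', hBB⟩ := exists_tr_blk hBo
  set u' := Function.update u p 0 with hu'
  have hu'p : u' p = 0 := by simp [hu']
  have hu'o : u' o = 0 := by simp [hu', R.ne.symm, hu]
  have hsplit : trG o u = trG o u' * Matrix.SpecialLinearGroup.toGL (emb R.ne (uElt (u p))) := by
    rw [← trG_single R.ne, ← trG_add hu'o (by simp [R.ne])]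
    congr 1
    funext i
    rcases eq_or_ne i p with rfl | hi <;> simp [hu', *]
  have hsq' : Sqd (trG o u' : GL ι F) := ⟨1, Units.ext (by
    rw [Matrix.GeneralLinearGroup.val_det_apply, trG_val hu'o, trM, Matrix.vecMulVec_eq Unit,
      Matrix.det_one_add_replicateCol_mul_replicateRow]
    simp [hu'o])⟩
  have hsqB : Sqd B' := by
    rw [show B' = (trG o u)⁻¹ * B by rw [hBB, inv_mul_cancel_left], hsplit]
    exact (hsq'.mul (sqd_sl _)).inv.mul hB
  rw [hBB, hsplit, lam_mul R (hsq'.mul (sqd_sl _)) hsqB, lam_mul R hsq' (sqd_sl _), lam_sl,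
    show W * (sG R S * (lam R (trG o u') * φ (emb R.ne (uElt (u p))) * lam R B')) * W⁻¹ =
      (W * sG R S * W⁻¹) * ((W * lam R (trG o u') * W⁻¹) * (W * φ (emb R.ne (uElt (u p))) * W⁻¹) *
        (W * lam R B' * W⁻¹)) by group, w_sG R hS (by rw [hcol]), mul_inv_cancel_right, w_tr_o R hu'p hu'o,
    ← (R.pc R.ne (uElt (u p)) (wElt F)).eq, mul_inv_cancel_right]
  refine inP_mul R hkp (inP_mul R hkp (inP_sG R hkp (erase2_isAlt p o hS)) ?_)
    (inP_mul R hkp (inP_mul R hkp (inP_biv R hkp _ _ _) ?_) (inP_blk R hkp hko hsqB hB'))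
  · have h0 : (-fun i => S i p) o = (0 : F) := by simp [hS.apply p o, hcol]
    rw [show (fun i => S i o) = (0 : ι → F) from funext hcol, trG_zero, mul_one]
    refine inP_lam R hkp ⟨1, Units.ext (by
      rw [Matrix.GeneralLinearGroup.val_det_apply, trG_val h0, trM, Matrix.vecMulVec_eq Unit,
        Matrix.det_one_add_replicateCol_mul_replicateRow]
      simp [h0, hS.apply p o, hcol])⟩ ?_
    rw [trG_val h0, trM, Matrix.add_mulVec, Matrix.one_mulVec, Matrix.vecMulVec_mulVec]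
    simp [R.ne.symm]
  · rw [← lam_sl R]
    refine inP_lam R hkp (sqd_sl _) ?_
    show ((emb R.ne (uElt (u p)) : Matrix.SpecialLinearGroup ι F) : Matrix ι ι F) *ᵥ e F p = e F p
    rw [(emb_mulVec R R.ne _).1]
    simp [uElt_val]

include hko in
theorem w_other : (other φ ψ hkp hko)⁻¹ * W * other φ ψ hkp hko ∈ stab R k := by
  obtain ⟨χ, h1, h2⟩ := R.triple k hkp hko
  have key : W * (φ (emb hko (wElt F)))⁻¹ * W * φ (emb hko (wElt F)) * W⁻¹ = φ (emb hko (wElt F)⁻¹) := by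
    have h := congrArg χ (three_braid (F := F))
    rw [map_mul, map_mul, map_mul, map_mul, h1, h1, h2] at h
    have h' := congrArg (fun x => (φ (emb R.ne (wElt F)))⁻¹ * x * φ (emb R.ne (wElt F))) h
    beta_reduce at h'
    rw [show ∀ a b z y d : G, d⁻¹ * (a * b * z * y) * d =
        (d⁻¹ * a * d) * (d⁻¹ * b * d) * (d⁻¹ * z * d) * (d⁻¹ * y * d) from fun a b z y d => by group,
      show ∀ a b d : G, d⁻¹ * (a * b) * d = (d⁻¹ * a * d) * (d⁻¹ * b * d) from fun a b d => by group,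
      pw_conj_psi R, pw_conj_emb R hkp hko, pw_conj_emb R hkp hko] at h'
    rw [mul_inv_eq_iff_eq_mul, ← map_inv φ, ← map_inv (emb (F := F) hko)]
    exact h'
  rw [other, show ∀ a b : G, (b * W⁻¹ * a)⁻¹ * W * (b * W⁻¹ * a) = a⁻¹ * (W * b⁻¹ * W * b * W⁻¹) * a from
    fun a b => by group, key, ← lam_sl R (emb hko (wElt F)⁻¹)]
  refine inP_lam R hkp (sqd_sl _) ?_
  exact (emb_mulVec R hko _).2.2 p hkp.symm R.ne

include hkp hko in
theorem exists_data {y : ι → F} (hy : y ≠ 0) {x : ι → F} (h : x ⬝ᵥ y = 0) :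
    ∃ q : Matrix ι ι F × Matrix.SpecialLinearGroup ι F, IsAlt q.1 ∧
      e F k ᵥ* (((Matrix.SpecialLinearGroup.toGL q.2)⁻¹ : GL ι F) : Matrix ι ι F) = y ∧ q.1 *ᵥ y = x := by
  have : Nontrivial ι := ⟨⟨k, p, hkp⟩⟩
  obtain ⟨C, hC⟩ := exists_sl_col k hy
  obtain ⟨i, hi⟩ := Function.ne_iff.1 hy
  refine ⟨(alt x (e F i) (y i)⁻¹, (Matrix.SpecialLinearGroup.transpose C)⁻¹), (exists_alt hi h).1, ?_,
    (exists_alt hi h).2⟩
  rw [map_inv, inv_inv]
  show e F k ᵥ* (C : Matrix ι ι F)ᵀ = y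
  rw [Matrix.vecMul_transpose, hC]

omit R in
/-- The coset of a singular vector. -/
noncomputable def cos (R : DRels p o φ ψ) {k : ι} (hkp : k ≠ p) (hko : k ≠ o) (v : (ι → F) × (ι → F)) :
    G ⧸ stab R k :=
  haveI := Classical.dec (v.2 = 0)
  haveI := Classical.dec (v.1 = 0)
  haveI := Classical.dec (v.1 ⬝ᵥ v.2 = 0)
  haveI : Nontrivial ι := ⟨⟨k, p, hkp⟩⟩
  if hy : v.2 = 0 then (if hx : v.1 = 0 then ((1 : G) : G ⧸ stab R k) else
    ((lam R (Matrix.SpecialLinearGroup.toGL (exists_sl_col k hx).choose) : G) : G ⧸ stab R k))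
  else if hs : v.1 ⬝ᵥ v.2 = 0 then
    ((sG R (exists_data R hkp hko hy hs).choose.1 *
      lam R (Matrix.SpecialLinearGroup.toGL (exists_data R hkp hko hy hs).choose.2) * other φ ψ hkp hko : G) : G ⧸ stab R k)
  else ((1 : G) : G ⧸ stab R k)

theorem cos_one {S : Matrix ι ι F} (hS : IsAlt S) {A : GL ι F} (hA : Sqd A) :
    cos R hkp hko (act S A (e F k, 0)) = ((sG R S * lam R A : G) : G ⧸ stab R k) := by
  have hv : act S A (e F k, 0) = ((A : Matrix ι ι F) *ᵥ e F k, 0) := by simp [act]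
  have hne : (A : Matrix ι ι F) *ᵥ e F k ≠ 0 := fun h =>
    one_ne_zero (α := F) (by simpa using congrFun ((mulVec_eq_zero_iff A _).1 h) k)
  have : Nontrivial ι := ⟨⟨k, p, hkp⟩⟩
  rw [hv, cos, dif_pos rfl, dif_neg hne]
  have hC' := (exists_sl_col k hne).choose_spec
  set C : GL ι F := Matrix.SpecialLinearGroup.toGL (exists_sl_col k hne).choose with hC
  have hCs : Sqd C := sqd_sl _
  refine QuotientGroup.eq.2 ?_
  rw [show (lam R C)⁻¹ * (sG R S * lam R A) = (lam R C⁻¹ * sG R S * (lam R C⁻¹)⁻¹) * lam R (C⁻¹ * A) by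
    rw [lam_mul R hCs.inv hA, lam_inv R hCs]; group, lam_sG R hCs.inv hS]
  refine mul_mem (sG_mem_stab R (congr_alt hS _)) (lam_mem_stab R (hCs.inv.mul hA) ?_)
  rw [Units.val_mul, ← Matrix.mulVec_mulVec, ← hC']
  show _ *ᵥ ((C : Matrix ι ι F) *ᵥ e F k) = _
  rw [Matrix.mulVec_mulVec, Units.inv_mul, Matrix.one_mulVec]

theorem cos_two {S : Matrix ι ι F} (hS : IsAlt S) {A : GL ι F} (hA : Sqd A) :
    cos R hkp hko (act S A (0, e F k)) = ((sG R S * lam R A * other φ ψ hkp hko : G) : G ⧸ stab R k) := by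
  set y := e F k ᵥ* ((A⁻¹ : GL ι F) : Matrix ι ι F) with hy
  have hv : act S A (0, e F k) = (S *ᵥ y, y) := by simp [act, hy]
  have hne : y ≠ 0 := fun h => by
    have h2 := congrArg (fun w => w ᵥ* (A : Matrix ι ι F)) h
    rw [hy] at h2
    exact one_ne_zero (α := F) (by simpa only [Matrix.vecMul_vecMul, Units.inv_mul, Matrix.vecMul_one, Matrix.zero_vecMul, e, Pi.single_eq_same, Pi.zero_apply] using congrFun h2 k)
  have hs : (S *ᵥ y) ⬝ᵥ y = 0 := by
    have h := (sing_act hS A (v := ((0 : ι → F), e F k))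
      ⟨fun h => one_ne_zero (α := F) (by simpa using congrFun (congrArg Prod.snd h) k), by simp⟩).2
    rwa [hv] at h
  rw [hv, cos, dif_neg hne, dif_pos hs]
  obtain ⟨hS1, hA1, hy1⟩ := (exists_data R hkp hko hne hs).choose_spec
  generalize (exists_data R hkp hko hne hs).choose = q at hS1 hA1 hy1 ⊢
  obtain ⟨S₁, A₀⟩ := q
  simp only at hS1 hA1 hy1 ⊢
  set A₁ : GL ι F := Matrix.SpecialLinearGroup.toGL A₀ with hA₁
  have hA₁s : Sqd A₁ := sqd_sl _
  refine QuotientGroup.eq.2 ?_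
  set B := A₁⁻¹ * A with hB
  have hBs : Sqd B := hA₁s.inv.mul hA
  have halt : IsAlt (-S₁ + S) := hS1.neg.add hS
  set S₀ : Matrix ι ι F :=
    ((A₁⁻¹ : GL ι F) : Matrix ι ι F) * (-S₁ + S) * ((A₁⁻¹ : GL ι F) : Matrix ι ι F)ᵀ with hS₀
  have hBk : e F k ᵥ* (B : Matrix ι ι F) = e F k := by
    rw [hB, Units.val_mul, ← Matrix.vecMul_vecMul, hA1, hy, Matrix.vecMul_vecMul, Units.inv_mul, Matrix.vecMul_one]
  have hS₀k : S₀ *ᵥ e F k = 0 := by
    rw [hS₀, ← Matrix.mulVec_mulVec, ← Matrix.mulVec_mulVec, Matrix.mulVec_transpose, hA1, Matrix.add_mulVec,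
      Matrix.neg_mulVec, hy1, neg_add_cancel, Matrix.mulVec_zero]
  set b : GL ι F := Matrix.SpecialLinearGroup.toGL (emb hko (wElt F)) with hb
  have hbs : Sqd b := sqd_sl _
  have hbk : e F o ᵥ* ((b⁻¹ : GL ι F) : Matrix ι ι F) = e F k := by
    rw [hb, ← map_inv]
    show e F o ᵥ* (((emb hko (wElt F))⁻¹ : Matrix.SpecialLinearGroup ι F) : Matrix ι ι F) = _
    rw [← map_inv]
    exact row_w_inv hko
  have hkb : e F k ᵥ* (b : Matrix ι ι F) = e F o := by
    rw [← hbk, Matrix.vecMul_vecMul, Units.inv_mul, Matrix.vecMul_one]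
  rw [show (sG R S₁ * lam R A₁ * other φ ψ hkp hko)⁻¹ * (sG R S * lam R A * other φ ψ hkp hko) =
      (other φ ψ hkp hko)⁻¹ * (lam R A₁⁻¹ * ((sG R S₁)⁻¹ * sG R S) * (lam R A₁⁻¹)⁻¹ * lam R B) *
        other φ ψ hkp hko by rw [hB, lam_mul R hA₁s.inv hA, lam_inv R hA₁s]; group,
    ← sG_neg, ← sG_add, lam_sG R hA₁s.inv halt, ← hS₀]
  have hS₀a : IsAlt S₀ := congr_alt halt _
  have h1 : (φ (emb hko (wElt F)))⁻¹ * (sG R S₀ * lam R B) * φ (emb hko (wElt F)) =
      sG R (((b⁻¹ : GL ι F) : Matrix ι ι F) * S₀ * ((b⁻¹ : GL ι F) : Matrix ι ι F)ᵀ) * lam R (b⁻¹ * B * b) := by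
    rw [← lam_sG R hbs.inv hS₀a, lam_mul R (hbs.inv.mul hBs) hbs, lam_mul R hbs.inv hBs, lam_inv R hbs, hb, lam_sl]
    group
  rw [other, show ∀ a c z : G, (c * W⁻¹ * a)⁻¹ * z * (c * W⁻¹ * a) = a⁻¹ * (W * (c⁻¹ * z * c) * W⁻¹) * a from
    fun a c z => by group, h1]
  refine inP_two R hkp hko (congr_alt hS₀a _) ((hbs.inv.mul hBs).mul hbs) ?_ ?_
  · rw [← Matrix.mulVec_mulVec, ← Matrix.mulVec_mulVec, Matrix.mulVec_transpose, hbk, hS₀k, Matrix.mulVec_zero]
  · rw [Units.val_mul, Units.val_mul, ← Matrix.vecMul_vecMul, ← Matrix.vecMul_vecMul, hbk, hBk, hkb]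

include hkp hko in
theorem exists_rep {v : (ι → F) × (ι → F)} (hv : Sing v) :
    ∃ S A, IsAlt S ∧ Sqd A ∧ (v = act S A (e F k, 0) ∨ v = act S A (0, e F k)) := by
  obtain ⟨x, y⟩ := v
  have : Nontrivial ι := ⟨⟨k, p, hkp⟩⟩
  rcases eq_or_ne y 0 with rfl | hy
  · have hx : x ≠ 0 := fun h => hv.1 (by rw [h]; rfl)
    obtain ⟨A, hA⟩ := exists_sl_col k hx
    refine ⟨0, Matrix.SpecialLinearGroup.toGL A, isAlt_zero, sqd_sl _, Or.inl ?_⟩
    simp only [act, Matrix.zero_mulVec, add_zero, Matrix.zero_vecMul]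
    exact Prod.ext hA.symm rfl
  · obtain ⟨⟨S, A⟩, h1, h2, h3⟩ := exists_data R hkp hko hy hv.2
    exact ⟨S, Matrix.SpecialLinearGroup.toGL A, h1, sqd_sl _, Or.inr (by
      simp only [act, Matrix.mulVec_zero, zero_add, h2, h3])⟩

theorem cos_act {S : Matrix ι ι F} (hS : IsAlt S) {A : GL ι F} (hA : Sqd A) {v : (ι → F) × (ι → F)} (hv : Sing v) :
    cos R hkp hko (act S A v) = (sG R S * lam R A) • cos R hkp hko v := by
  obtain ⟨S', A', hS', hA', h⟩ := exists_rep R hkp hko hv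
  have hs := hS.add (congr_alt hS' (A : Matrix ι ι F))
  have key : sG R (S + (A : Matrix ι ι F) * S' * (A : Matrix ι ι F)ᵀ) * lam R (A * A') =
      sG R S * lam R A * (sG R S' * lam R A') := by
    rw [sG_add, ← lam_sG R hA hS', lam_mul R hA hA']; group
  rcases h with rfl | rfl
  · rw [act_act, cos_one R hkp hko hs (hA.mul hA'), cos_one R hkp hko hS' hA', key]; rfl
  · rw [act_act, cos_two R hkp hko hs (hA.mul hA'), cos_two R hkp hko hS' hA', key]
    exact congrArg QuotientGroup.mk (mul_assoc _ _ _)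

end CfsgLib.Pres.DnN
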