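import Cfsg.Agent.Lib.Pres.DnBound

/-!
# Every coset of the stabiliser belongs to a singular vector
-/

set_option autoImplicit false

namespace CfsgLib.Pres.DnN

open Matrix
open scoped MatrixGroups
open CfsgLib.Classical (uElt uElt_val uElt_add)
open CfsgLib.Pres.SpN

variable {F : Type*} [Field F] {ι : Type} [Fintype ι] [DecidableEq ι]

theorem toGL_coe' (A : Matrix.SpecialLinearGroup ι F) :
    ((Matrix.SpecialLinearGroup.toGL A : GL ι F) : Matrix ι ι F) = (A : Matrix ι ι F) := rfl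

theorem row_w {a b : ι} (h : a ≠ b) :
    e F a ᵥ* ((emb h (wElt F) : Matrix.SpecialLinearGroup ι F) : Matrix ι ι F) = e F b := by
  funext j
  rw [Matrix.single_one_vecMul, Matrix.row_apply, emb_entry]
  by_cases c : j = a <;> by_cases d : j = b <;> simp_all [h, h.symm, wElt, Matrix.one_apply, eq_comm]

theorem emb_mulVec_apply {a b : ι} (h : a ≠ b) (M : SL(2, F)) (x : ι → F) (i : ι) :
    (((emb h M : Matrix.SpecialLinearGroup ι F) : Matrix ι ι F) *ᵥ x) i =
      if i = a then M.1 0 0 * x a + M.1 0 1 * x b else if i = b then M.1 1 0 * x a + M.1 1 1 * x b else x i := by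
  rw [Matrix.mulVec, dotProduct]
  rcases eq_or_ne i a with rfl | ha
  · rw [Finset.sum_eq_add i b h (fun j _ hj => by simp [emb_entry, hj.1, hj.2, hj.1.symm, h, h.symm])
      (fun hh => absurd (Finset.mem_univ _) hh) (fun hh => absurd (Finset.mem_univ _) hh)]
    simp [emb_entry, h, h.symm]
  rcases eq_or_ne i b with rfl | hb
  · rw [Finset.sum_eq_add a i h (fun j _ hj => by simp [emb_entry, hj.1, hj.2, hj.2.symm, h, h.symm])
      (fun hh => absurd (Finset.mem_univ _) hh) (fun hh => absurd (Finset.mem_univ _) hh)]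
    simp [emb_entry, h, h.symm]
  · rw [Finset.sum_eq_single i (fun j _ hj => by simp [emb_entry, ha, hb, hj.symm])
      (fun hh => absurd (Finset.mem_univ _) hh)]
    simp [emb_entry, ha, hb]

theorem emb_inv_vecMul_apply {a b : ι} (h : a ≠ b) (M : SL(2, F)) (y : ι → F) (j : ι) :
    (y ᵥ* (((Matrix.SpecialLinearGroup.toGL (emb h M))⁻¹ : GL ι F) : Matrix ι ι F)) j =
      if j = a then M.1 1 1 * y a - M.1 1 0 * y b else if j = b then M.1 0 0 * y b - M.1 0 1 * y a else y j := by
  rw [← map_inv, ← map_inv]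
  show (y ᵥ* ((emb h M⁻¹ : Matrix.SpecialLinearGroup ι F) : Matrix ι ι F)) j = _
  have hN : ((M⁻¹ : SL(2, F)) : Matrix (Fin 2) (Fin 2) F) = !![M.1 1 1, -M.1 0 1; -M.1 1 0, M.1 0 0] := by
    rw [Matrix.SpecialLinearGroup.coe_inv, Matrix.adjugate_fin_two]
  generalize M⁻¹ = N at hN
  rw [Matrix.vecMul, dotProduct]
  rcases eq_or_ne j a with rfl | ha
  · rw [Finset.sum_eq_add j b h (fun i _ hi => by simp [emb_entry, hi.1, hi.2, h, h.symm])
      (fun hh => absurd (Finset.mem_univ _) hh) (fun hh => absurd (Finset.mem_univ _) hh)]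
    simp [emb_entry, h, h.symm, hN]
    ring
  rcases eq_or_ne j b with rfl | hb
  · rw [Finset.sum_eq_add a j h (fun i _ hi => by simp [emb_entry, hi.1, hi.2, h, h.symm])
      (fun hh => absurd (Finset.mem_univ _) hh) (fun hh => absurd (Finset.mem_univ _) hh)]
    simp [emb_entry, h, h.symm, hN]
    ring
  · rw [Finset.sum_eq_single j (fun i _ hi => by simp [emb_entry, ha, hb, hi])
      (fun hh => absurd (Finset.mem_univ _) hh)]
    simp [emb_entry, ha, hb]

theorem act_tr (a : ι) {u : ι → F} (hu : u a = 0) (v : (ι → F) × (ι → F)) :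
    act 0 (trG a u) v = (v.1 + v.1 a • u, v.2 - (v.2 ⬝ᵥ u) • e F a) := by
  simp only [act, Matrix.zero_mulVec, add_zero, ← trG_neg hu, trG_val hu,
    trG_val (show (-u) a = 0 by simp [hu]), trM, Matrix.add_mulVec, Matrix.one_mulVec, Matrix.vecMulVec_mulVec,
    Matrix.vecMul_add, Matrix.vecMul_one, Matrix.vecMul_vecMulVec, dotProduct_neg]
  refine Prod.ext (funext fun i => ?_) (funext fun i => ?_)
  · simp [mul_comm]
  · simp [sub_eq_add_neg]

theorem act_one_left (S : Matrix ι ι F) (v : (ι → F) × (ι → F)) : act S 1 v = (v.1 + S *ᵥ v.2, v.2) := by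
  simp [act]

theorem exists_blk_scale {p o k : ι} (hkp : k ≠ p) (hko : k ≠ o) {v : ι → F} (hv : v ≠ 0) (hvp : v p = 0)
    (hvo : v o = 0) :
    ∃ (d : Fˣ) (A : Matrix.SpecialLinearGroup ι F), Blk p (Matrix.SpecialLinearGroup.toGL A : GL ι F) ∧
      Blk o (Matrix.SpecialLinearGroup.toGL A : GL ι F) ∧ (A : Matrix ι ι F) *ᵥ ((d : F) • e F k) = v := by
  obtain ⟨i, hi⟩ := Function.ne_iff.1 hv
  have hip : i ≠ p := fun h => hi (h ▸ hvp)
  have hio : i ≠ o := fun h => hi (h ▸ hvo)
  set C := colG i v * permG (Equiv.swap k i) with hC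
  have hCp : Blk p C := (blk_colG hip hi hvp).mul (blk_swap hkp hip)
  have hCo : Blk o C := (blk_colG hio hi hvo).mul (blk_swap hko hio)
  have hCk : (C : Matrix ι ι F) *ᵥ e F k = v := by
    rw [hC, Units.val_mul, ← Matrix.mulVec_mulVec, permG_swap_mulVec, colG_mulVec_self hi]
  set d := Matrix.GeneralLinearGroup.det C with hd
  have hD : ∀ a, a ≠ k → Blk a (dg k d : GL ι F) := fun a ha => by
    refine ⟨(dg_mulVec k d a).trans (by rw [if_neg ha, one_smul]), ?_⟩
    funext j
    rcases eq_or_ne j a with rfl | hj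
    · simp [dg_val, Matrix.vecMul_diagonal, ha]
    · simp [dg_val, Matrix.vecMul_diagonal, hj]
  refine ⟨d, slPart k C, ?_, ?_, ?_⟩
  · rw [slPart_toGL]; exact hCp.mul (hD p hkp.symm).inv
  · rw [slPart_toGL]; exact hCo.mul (hD o hko.symm).inv
  · show ((C * (dg k d)⁻¹ : GL ι F) : Matrix ι ι F) *ᵥ _ = v
    rw [Units.val_mul, ← Matrix.mulVec_mulVec, Matrix.mulVec_smul, ← map_inv, dg_mulVec, if_pos rfl, smul_smul,
      Units.mul_inv, one_smul, hCk]

theorem erase2_mulVec_congr {p o : ι} (S : Matrix ι ι F) {y z : ι → F} (h : ∀ i, i ≠ p → i ≠ o → y i = z i) :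
    erase2 p o S *ᵥ y = erase2 p o S *ᵥ z := by
  funext i
  refine Finset.sum_congr rfl fun j _ => ?_
  show erase2 p o S i j * y j = erase2 p o S i j * z j
  by_cases hj : j = p ∨ j = o
  · have : erase2 p o S i j = 0 := by simp only [erase2, Matrix.of_apply]; rw [if_pos]; tauto
    rw [this, zero_mul, zero_mul]
  · simp only [not_or] at hj
    rw [h j hj.1 hj.2]

theorem erase2_mulVec_pair {p o : ι} (S : Matrix ι ι F) (y : ι → F) {i : ι} (hi : i = p ∨ i = o) :
    (erase2 p o S *ᵥ y) i = 0 := by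
  refine Finset.sum_eq_zero fun j _ => ?_
  have : erase2 p o S i j = 0 := by simp only [erase2, Matrix.of_apply]; rw [if_pos]; tauto
  show erase2 p o S i j * y j = 0
  rw [this, zero_mul]

theorem dot_congr {p o : ι} {u y z : ι → F} (hp : u p = 0) (ho : u o = 0)
    (h : ∀ i, i ≠ p → i ≠ o → y i = z i) : u ⬝ᵥ y = u ⬝ᵥ z := by
  refine Finset.sum_congr rfl fun i _ => ?_
  rcases eq_or_ne i p with rfl | h1
  · rw [hp, zero_mul, zero_mul]
  rcases eq_or_ne i o with rfl | h2
  · rw [ho, zero_mul, zero_mul]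
  rw [h i h1 h2]

variable {G : Type*} [Group G] {p o : ι} {φ : Matrix.SpecialLinearGroup ι F →* G} {ψ : SL(2, F) →* G}
  (R : DRels p o φ ψ) {k : ι} (hkp : k ≠ p) (hko : k ≠ o)
include R

local notation "W" => ψ (wElt F)

/-- The Weyl element agrees with its action. -/
def Agree (v : (ι → F) × (ι → F)) : Prop := W • cos R hkp hko v = cos R hkp hko (wv p o v)

theorem agree_move {S S' : Matrix ι ι F} (hS : IsAlt S) (hS' : IsAlt S') {A A' : GL ι F} (hA : Sqd A) (hA' : Sqd A')
    {v : (ι → F) × (ι → F)} (hv : Sing v) (hG : W * (sG R S * lam R A) = sG R S' * lam R A' * W)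
    (hV : wv p o (act S A v) = act S' A' (wv p o v)) (h : Agree R hkp hko v) : Agree R hkp hko (act S A v) := by
  rw [Agree, cos_act R hkp hko hS hA hv, hV, cos_act R hkp hko hS' hA' (sing_wv R.ne hv), ← mul_smul, hG,
    mul_smul, h]

omit R in
theorem sqd_trG {a : ι} {u : ι → F} (hu : u a = 0) : Sqd (trG a u : GL ι F) := ⟨1, Units.ext (by
  rw [Matrix.GeneralLinearGroup.val_det_apply, trG_val hu, trM, Matrix.vecMulVec_eq Unit,
    Matrix.det_one_add_replicateCol_mul_replicateRow]
  simp [hu])⟩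

theorem agree_sG {S : Matrix ι ι F} (hS : IsAlt S) (h0 : S p o = 0) {v : (ι → F) × (ι → F)} (hv : Sing v)
    (h : Agree R hkp hko v) : Agree R hkp hko (act S 1 v) := by
  set up : ι → F := fun i => S i p with hup
  set uo : ι → F := fun i => S i o with huo
  have hop : S o p = 0 := by rw [hS.apply, h0, neg_zero]
  have hpp : up p = 0 := hS.2 p
  have hpo : up o = 0 := hop
  have hopp : uo p = 0 := h0
  have hoo : uo o = 0 := hS.2 o
  refine agree_move R hkp hko hS (erase2_isAlt p o hS) sqd_one ((sqd_trG (by simp [hpo])).mul (sqd_trG hopp))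
    (A' := trG o (-up) * trG p uo) hv (by rw [lam_one, mul_one, w_sG R hS h0]) ?_ h
  obtain ⟨x, y⟩ := v
  set w := wv p o (x, y) with hw
  have e2 : act (0 : Matrix ι ι F) (trG o (-up) * trG p uo) w =
      (w.1 + w.1 p • uo - w.1 o • up, w.2 - (w.2 ⬝ᵥ uo) • e F p + (w.2 ⬝ᵥ up) • e F o) := by
    rw [show act (0 : Matrix ι ι F) (trG o (-up) * trG p uo) w = act 0 (trG o (-up)) (act 0 (trG p uo) w) by
      rw [act_act, Matrix.mul_zero, Matrix.zero_mul, add_zero],
      act_tr p hopp, act_tr o (show (-up) o = 0 by simp [hpo])]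
    simp only [Pi.add_apply, Pi.smul_apply, hoo, smul_zero, add_zero, smul_neg, sub_eq_add_neg, dotProduct_neg,
      add_dotProduct, neg_dotProduct, smul_dotProduct, single_one_dotProduct, hpp, neg_zero, neg_smul, neg_neg]
  rw [show act (erase2 p o S) (trG o (-up) * trG p uo) w = act (erase2 p o S) 1 (act 0 (trG o (-up) * trG p uo) w) by
    rw [act_act, one_mul, Matrix.mul_zero, Matrix.zero_mul, add_zero], e2, act_one_left, act_one_left]
  simp only
  have hz : ∀ i, i ≠ p → i ≠ o → (w.2 - (w.2 ⬝ᵥ uo) • e F p + (w.2 ⬝ᵥ up) • e F o) i = y i := fun i h1 h2 => by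
    simp [hw, wv_y R.ne, h1, h2]
  have hwy : ∀ i, i ≠ p → i ≠ o → w.2 i = y i := fun i h1 h2 => by simp [hw, wv_y R.ne, h1, h2]
  have hd1 : w.2 ⬝ᵥ uo = uo ⬝ᵥ y := by rw [dotProduct_comm, dot_congr hopp hoo hwy]
  have hd2 : w.2 ⬝ᵥ up = up ⬝ᵥ y := by rw [dotProduct_comm, dot_congr hpp hpo hwy]
  have hSy : S *ᵥ y = erase2 p o S *ᵥ y + ((y p • up - (up ⬝ᵥ y) • e F p) + (y o • uo - (uo ⬝ᵥ y) • e F o)) := by
    conv_lhs => rw [split_alt R.ne hS h0, Matrix.add_mulVec, Matrix.add_mulVec, alt_mulVec, alt_mulVec,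
      single_one_dotProduct, single_one_dotProduct, one_mul, one_mul, one_mul, one_mul]
  rw [erase2_mulVec_congr S hz, hd1, hd2]
  refine Prod.ext (funext fun i => ?_) (funext fun i => ?_)
  · rw [wv_x R.ne]
    simp only [hw, Pi.add_apply, Pi.sub_apply, Pi.smul_apply, smul_eq_mul, wv_x R.ne, if_pos, hSy, if_neg R.ne.symm]
    rcases eq_or_ne i p with rfl | hp
    · simp [hopp, hpp, erase2_mulVec_pair]
    rcases eq_or_ne i o with rfl | ho
    · simp [hoo, hpo, hp, erase2_mulVec_pair]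
    simp [hp, ho]
    ring
  · rw [wv_y R.ne]
    simp only [hw, Pi.add_apply, Pi.sub_apply, Pi.smul_apply, smul_eq_mul, wv_y R.ne, hSy]
    rcases eq_or_ne i p with rfl | hp
    · simp [hoo, hpo, R.ne, R.ne.symm, erase2_mulVec_pair]
      ring
    rcases eq_or_ne i o with rfl | ho
    · simp [hopp, hpp, hp, R.ne, erase2_mulVec_pair]
      ring
    simp [hp, ho]

theorem agree_tr_p {u : ι → F} (hp : u p = 0) (ho : u o = 0) {v : (ι → F) × (ι → F)} (hv : Sing v)
    (h : Agree R hkp hko v) : Agree R hkp hko (act 0 (trG p u) v) := by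
  refine agree_move R hkp hko isAlt_zero (isAlt_alt u (e F o) (-1)) (sqd_trG hp) sqd_one hv
    (by rw [sG_zero, one_mul, lam_one, mul_one, sG_alt, ← w_tr_p R hp ho, inv_mul_cancel_right]) ?_ h
  obtain ⟨x, y⟩ := v
  have hd : u ⬝ᵥ (wv p o (x, y)).2 = y ⬝ᵥ u := by
    rw [dotProduct_comm y]; exact dot_congr hp ho fun i h1 h2 => by simp [wv_y R.ne, h1, h2]
  rw [act_tr p hp, act_one_left, alt_mulVec, single_one_dotProduct, hd]
  refine Prod.ext (funext fun i => ?_) (funext fun i => ?_)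
  · simp only [Pi.add_apply, Pi.sub_apply, Pi.smul_apply, smul_eq_mul, wv_x R.ne, wv_y R.ne, if_neg R.ne.symm]
    rcases eq_or_ne i p with rfl | h1
    · simp [hp, R.ne, R.ne.symm]
    rcases eq_or_ne i o with rfl | h2
    · simp [ho, R.ne, h1]; ring
    simp [h1, h2]
  · simp only [Pi.add_apply, Pi.sub_apply, Pi.smul_apply, smul_eq_mul, wv_y R.ne]
    rcases eq_or_ne i p with rfl | h1
    · simp [ho]
    rcases eq_or_ne i o with rfl | h2
    · simp [hp, h1]
    simp [h1, h2]

theorem agree_tr_o {u : ι → F} (hp : u p = 0) (ho : u o = 0) {v : (ι → F) × (ι → F)} (hv : Sing v)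
    (h : Agree R hkp hko v) : Agree R hkp hko (act 0 (trG o u) v) := by
  refine agree_move R hkp hko isAlt_zero (isAlt_alt u (e F p) 1) (sqd_trG ho) sqd_one hv
    (by rw [sG_zero, one_mul, lam_one, mul_one, sG_alt, ← w_tr_o R hp ho, inv_mul_cancel_right]) ?_ h
  obtain ⟨x, y⟩ := v
  have hd : u ⬝ᵥ (wv p o (x, y)).2 = y ⬝ᵥ u := by
    rw [dotProduct_comm y]; exact dot_congr hp ho fun i h1 h2 => by simp [wv_y R.ne, h1, h2]
  rw [act_tr o ho, act_one_left, alt_mulVec, single_one_dotProduct, hd]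
  refine Prod.ext (funext fun i => ?_) (funext fun i => ?_)
  · simp only [Pi.add_apply, Pi.sub_apply, Pi.smul_apply, smul_eq_mul, wv_x R.ne, wv_y R.ne, if_pos]
    rcases eq_or_ne i p with rfl | h1
    · simp [hp, R.ne, R.ne.symm]; ring
    rcases eq_or_ne i o with rfl | h2
    · simp [ho, R.ne, h1]
    simp [h1, h2]
  · simp only [Pi.add_apply, Pi.sub_apply, Pi.smul_apply, smul_eq_mul, wv_y R.ne]
    rcases eq_or_ne i p with rfl | h1
    · simp [ho, R.ne]
    rcases eq_or_ne i o with rfl | h2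
    · simp [hp, h1, R.ne]
    simp [h1, h2]

theorem agree_blk {B : GL ι F} (hB : Sqd B) (hp : Blk p B) (ho : Blk o B) {v : (ι → F) × (ι → F)} (hv : Sing v)
    (h : Agree R hkp hko v) : Agree R hkp hko (act 0 B v) := by
  refine agree_move R hkp hko isAlt_zero isAlt_zero hB hB hv
    (by rw [sG_zero, one_mul]; exact (w_blk R hB hp ho).eq) ?_ h
  obtain ⟨x, y⟩ := v
  have hx : ∀ a, Blk a B → ((B : Matrix ι ι F) *ᵥ x) a = x a := fun a ha => by
    rw [← single_one_dotProduct a ((B : Matrix ι ι F) *ᵥ x), Matrix.dotProduct_mulVec, ha.2, single_one_dotProduct]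
  have hy : ∀ a, Blk a B → (y ᵥ* ((B⁻¹ : GL ι F) : Matrix ι ι F)) a = y a := fun a ha => by
    rw [← dotProduct_single_one (y ᵥ* ((B⁻¹ : GL ι F) : Matrix ι ι F)) a, ← Matrix.dotProduct_mulVec, ha.inv.1,
      dotProduct_single_one]
  simp only [act, wv, Matrix.zero_mulVec, add_zero, Matrix.mulVec_add, Matrix.mulVec_smul, hp.1, ho.1,
    Matrix.add_vecMul, Matrix.smul_vecMul, show e F p ᵥ* ((B⁻¹ : GL ι F) : Matrix ι ι F) = e F p from hp.inv.2,
    show e F o ᵥ* ((B⁻¹ : GL ι F) : Matrix ι ι F) = e F o from ho.inv.2, hx p hp, hx o ho, hy p hp, hy o ho]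
  simp

theorem agree_scale (c : Fˣ) {v : (ι → F) × (ι → F)} (hv : Sing v) (h : Agree R hkp hko v) :
    Agree R hkp hko (act 0 (Matrix.SpecialLinearGroup.toGL (emb hkp (dElt c))) v) := by
  refine agree_move R hkp hko isAlt_zero isAlt_zero (sqd_sl _) ((sqd_sl _).mul (sqd_dg2 p o c))
    (A' := Matrix.SpecialLinearGroup.toGL (emb hkp (dElt c)) * dg2 p o c) hv
    (by rw [sG_zero, one_mul, one_mul, lam_sl, lam_mk, w_torus_p R hkp hko]) ?_ h
  obtain ⟨x, y⟩ := v
  have key : ∀ (a b : ι) (z : Fˣ) (u : ι → F) (i : ι), ((dg a z * dg b z⁻¹ : GL ι F) : Matrix ι ι F) i i * u i =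
      (if i = a then (z : F) else 1) * (if i = b then ((z⁻¹ : Fˣ) : F) else 1) * u i := fun a b z u i => by
    rw [Units.val_mul, dg_val, dg_val, Matrix.diagonal_mul_diagonal, Matrix.diagonal_apply_eq]
    simp [Function.update_apply]
  rw [emb_dElt]
  simp only [act, Matrix.zero_mulVec, add_zero, _root_.mul_inv_rev, inv_inv]
  simp only [← map_inv, Units.val_mul, dg_val, dg2_val R.ne, Matrix.diagonal_mul_diagonal]
  refine Prod.ext (funext fun i => ?_) (funext fun i => ?_)
  · simp only [wv_x R.ne, Matrix.mulVec_diagonal, Matrix.vecMul_diagonal, Function.update_apply, Pi.one_apply]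
    rcases eq_or_ne i p with rfl | h1
    · simp [hkp.symm, hko.symm, R.ne, R.ne.symm]
    rcases eq_or_ne i o with rfl | h2
    · simp [hkp.symm, hko.symm, R.ne, R.ne.symm]; ring
    simp [h1, h2]
  · simp only [wv_y R.ne, Matrix.mulVec_diagonal, Matrix.vecMul_diagonal, Function.update_apply, Pi.one_apply]
    rcases eq_or_ne i p with rfl | h1
    · simp [hkp.symm, hko.symm, R.ne, R.ne.symm]
    rcases eq_or_ne i o with rfl | h2
    · simp [hkp.symm, hko.symm, R.ne, R.ne.symm]; ring
    simp [h1, h2]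

theorem agree_pair (N : SL(2, F)) {v : (ι → F) × (ι → F)} (hv : Sing v) (h : Agree R hkp hko v) :
    Agree R hkp hko (act 0 (Matrix.SpecialLinearGroup.toGL (emb R.ne N)) v) := by
  refine agree_move R hkp hko isAlt_zero isAlt_zero (sqd_sl _) (sqd_sl _) hv
    (by rw [sG_zero, one_mul, lam_sl]; exact (R.pc R.ne N (wElt F)).symm.eq) ?_ h
  obtain ⟨x, y⟩ := v
  simp only [act, Matrix.zero_mulVec, add_zero, toGL_coe']
  refine Prod.ext (funext fun i => ?_) (funext fun i => ?_)
  · simp only [wv_x R.ne, emb_mulVec_apply, emb_inv_vecMul_apply]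
    rcases eq_or_ne i p with rfl | h1
    · simp [R.ne, R.ne.symm]; ring
    rcases eq_or_ne i o with rfl | h2
    · simp [R.ne, R.ne.symm]; ring
    simp [h1, h2]
  · simp only [wv_y R.ne, emb_mulVec_apply, emb_inv_vecMul_apply]
    rcases eq_or_ne i p with rfl | h1
    · simp [R.ne, R.ne.symm]; ring
    rcases eq_or_ne i o with rfl | h2
    · simp [R.ne, R.ne.symm]; ring
    simp [h1, h2]

theorem cos_plane (g : SL(2, F)) :
    cos R hkp hko (g.1 0 0 • e F p, g.1 1 0 • e F o) =
      ((ψ g * φ (emb hkp.symm (wElt F)) : G) : G ⧸ stab R k) := by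
  set a := φ (emb hkp.symm (wElt F)) with ha
  have fix : ∀ z : F, ((ψ (uElt z) * a : G) : G ⧸ stab R k) = (a : G ⧸ stab R k) := fun z => by
    refine (QuotientGroup.eq.2 ?_).symm
    have h := inP_biv R hkp (e F p) (e F o) z
    rw [InP, biv_po, SpFour.X] at h
    rwa [← mul_assoc]
  have hdet := g.2
  rw [Matrix.det_fin_two] at hdet
  by_cases hb : g.1 1 0 = 0
  · rw [hb, mul_zero, sub_zero] at hdet
    set c := Units.mk0 (g.1 0 0) (fun h => one_ne_zero (α := F) (by rw [← hdet, h, zero_mul])) with hc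
    have hg : g = dElt c * uElt (g.1 0 1 / g.1 0 0) := by
      have h0 : g.1 0 0 ≠ 0 := c.ne_zero
      refine Subtype.ext ?_
      rw [Matrix.SpecialLinearGroup.coe_mul, uElt_val]
      ext i j
      fin_cases i <;> fin_cases j <;> simp [dElt, hc, Matrix.mul_apply, Fin.sum_univ_two, h0, hb]
      · field_simp
      · exact eq_inv_of_mul_eq_one_right hdet
    rw [hb, zero_smul, show (g.1 0 0 • e F p, (0 : ι → F)) =
        act 0 (dg2 p o c * Matrix.SpecialLinearGroup.toGL (emb hkp.symm (wElt F))) (e F k, 0) by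
      simp only [act, Units.val_mul, ← Matrix.mulVec_mulVec, toGL_coe', a_col R hkp,
        dg2_mulVec R.ne, Matrix.zero_mulVec, Matrix.zero_vecMul, add_zero]
      simp [hc], cos_one R hkp hko isAlt_zero ((sqd_dg2 p o c).mul (sqd_sl _)),
      sG_zero, one_mul, lam_mul R (sqd_dg2 p o c) (sqd_sl _), lam_dg2, lam_sl]
    conv_rhs => rw [hg, map_mul, mul_assoc]
    exact congrArg (fun z => ψ (dElt c) • z) (fix _).symm
  · set b := Units.mk0 (g.1 1 0) hb with hb'
    have hg : g = uElt (g.1 0 0 / g.1 1 0) * (dElt b⁻¹ * (wElt F)⁻¹) * uElt (g.1 1 1 / g.1 1 0) := by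
      refine Subtype.ext ?_
      rw [Matrix.SpecialLinearGroup.coe_mul, Matrix.SpecialLinearGroup.coe_mul, Matrix.SpecialLinearGroup.coe_mul,
        uElt_val, uElt_val, wElt_inv_val']
      ext i j
      fin_cases i <;> fin_cases j <;> simp [dElt, hb', Matrix.mul_apply, Fin.sum_univ_two] <;>
        field_simp <;> linear_combination (-1 : F) * hdet
    set A : GL ι F := dg2 p o b⁻¹ * (Matrix.SpecialLinearGroup.toGL (emb hko (wElt F)))⁻¹ with hAdef
    have hAs : Sqd A := (sqd_dg2 p o b⁻¹).mul (sqd_sl _).inv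
    have hA : e F k ᵥ* ((A⁻¹ : GL ι F) : Matrix ι ι F) = (b : F) • e F o := by
      rw [hAdef, _root_.mul_inv_rev, inv_inv, ← map_inv, inv_inv, Units.val_mul, ← Matrix.vecMul_vecMul,
        show e F k ᵥ* ((Matrix.SpecialLinearGroup.toGL (emb hko (wElt F)) : GL ι F) : Matrix ι ι F) = e F o by
          exact row_w hko,
        dg2_val R.ne]
      funext i
      rcases eq_or_ne i o with rfl | hi
      · simp [Matrix.vecMul_diagonal]
      · simp [Matrix.vecMul_diagonal, hi]
    have hval : (g.1 0 0 • e F p, g.1 1 0 • e F o) =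
        act (alt (e F p) (e F o) (g.1 0 0 / g.1 1 0)) A (0, e F k) := by
      simp only [act, Matrix.mulVec_zero, zero_add, hA, alt_mulVec]
      refine Prod.ext (funext fun i => ?_) rfl
      simp [hb', R.ne, R.ne.symm]
      rcases eq_or_ne i p with rfl | hi
      · simp [R.ne]; field_simp
      · simp [hi]
    rw [hval, cos_two R hkp hko (isAlt_alt _ _ _) hAs, sG_alt, biv_po, SpFour.X, hAdef,
      lam_mul R (sqd_dg2 p o b⁻¹) (sqd_sl _).inv, lam_inv R (sqd_sl _), lam_sl, lam_dg2]
    conv_rhs => rw [hg, map_mul, mul_assoc]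
    refine Eq.trans ?_ (congrArg (fun z => ψ (uElt (g.1 0 0 / g.1 1 0) * (dElt b⁻¹ * (wElt F)⁻¹)) • z) (fix _).symm)
    refine congrArg QuotientGroup.mk ?_
    rw [other, map_mul ψ (uElt _), map_mul ψ (dElt b⁻¹), map_inv ψ, ← ha]
    show _ = _ * a
    group

theorem agree_all {v : (ι → F) × (ι → F)} (hv : Sing v) : Agree R hkp hko v := by
  have hone : ∀ i : ι, e F i ≠ 0 := fun i h => one_ne_zero (α := F) (by simpa using congrFun h i)
  have s1 : Sing ((e F k, 0) : (ι → F) × (ι → F)) := ⟨fun h => hone k (congrArg Prod.fst h), by simp⟩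
  have s2 : Sing ((0, e F k) : (ι → F) × (ι → F)) := ⟨fun h => hone k (congrArg Prod.snd h), by simp⟩
  have hfix1 : wv p o (e F k, (0 : ι → F)) = (e F k, 0) := by simp [wv, hkp, hkp.symm, hko, hko.symm]
  have hfix2 : wv p o ((0 : ι → F), e F k) = (0, e F k) := by simp [wv, hkp, hkp.symm, hko, hko.symm]
  have base1 : Agree R hkp hko (e F k, 0) := by
    have h := cos_one R hkp hko (isAlt_zero (F := F) (ι := ι)) sqd_one
    rw [sG_zero, lam_one, one_mul, act_one] at h
    rw [Agree, hfix1, h]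
    exact (QuotientGroup.eq.2 (by rw [inv_one, one_mul]; exact mul_mem (psi_mem_stab R _) (one_mem _))).symm
  have base2 : Agree R hkp hko (0, e F k) := by
    have h := cos_two R hkp hko (isAlt_zero (F := F) (ι := ι)) sqd_one
    rw [sG_zero, lam_one, one_mul, one_mul, act_one] at h
    rw [Agree, hfix2, h]
    refine (QuotientGroup.eq.2 ?_).symm
    show (other φ ψ hkp hko)⁻¹ * (W * other φ ψ hkp hko) ∈ _
    rw [← mul_assoc]
    exact w_other R hkp hko
  have plane : ∀ w : (ι → F) × (ι → F), Sing w → (∀ i, i ≠ p → i ≠ o → w.1 i = 0 ∧ w.2 i = 0) →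
      Agree R hkp hko w := by
    intro w hw hsupp
    obtain ⟨x, y⟩ := w
    replace hsupp : ∀ i, i ≠ p → i ≠ o → x i = 0 ∧ y i = 0 := hsupp
    have hxv : x = x p • e F p + x o • e F o := funext fun i => by
      rcases eq_or_ne i p with rfl | h1
      · simp [R.ne]
      rcases eq_or_ne i o with rfl | h2
      · simp [R.ne.symm]
      · simp [h1, h2, (hsupp i h1 h2).1]
    have hyv : y = y p • e F p + y o • e F o := funext fun i => by
      rcases eq_or_ne i p with rfl | h1
      · simp [R.ne]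
      rcases eq_or_ne i o with rfl | h2
      · simp [R.ne.symm]
      · simp [h1, h2, (hsupp i h1 h2).2]
    have hs0 := hw.2
    simp only at hs0
    rw [hxv, hyv] at hs0
    simp [R.ne, R.ne.symm] at hs0
    obtain ⟨N, g, hN⟩ : ∃ (N g : SL(2, F)), (x, y) =
        act 0 (Matrix.SpecialLinearGroup.toGL (emb R.ne N)) (g.1 0 0 • e F p, g.1 1 0 • e F o) := by
      have mk : ∀ (N : SL(2, F)) (a b : F), (∃ g : SL(2, F), g.1 0 0 = a ∧ g.1 1 0 = b) →
          x p = N.1 0 0 * a → x o = N.1 1 0 * a → y p = -(N.1 1 0 * b) → y o = N.1 0 0 * b →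
          ∃ (N g : SL(2, F)), (x, y) =
            act 0 (Matrix.SpecialLinearGroup.toGL (emb R.ne N)) (g.1 0 0 • e F p, g.1 1 0 • e F o) := by
        rintro N a b ⟨g, rfl, rfl⟩ e1 e2 e3 e4
        refine ⟨N, g, ?_⟩
        simp only [act, Matrix.zero_mulVec, add_zero, toGL_coe']
        refine Prod.ext (funext fun i => ?_) (funext fun i => ?_)
        · change x i = (((emb R.ne N : Matrix.SpecialLinearGroup ι F) : Matrix ι ι F) *ᵥ (g.1 0 0 • e F p)) i
          rw [emb_mulVec_apply]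
          rcases eq_or_ne i p with rfl | h1
          · simp [R.ne, R.ne.symm, e1]
          rcases eq_or_ne i o with rfl | h2
          · simp [R.ne, R.ne.symm, e2]
          · simp [h1, h2, (hsupp i h1 h2).1]
        · change y i = ((g.1 1 0 • e F o) ᵥ*
            (((Matrix.SpecialLinearGroup.toGL (emb R.ne N))⁻¹ : GL ι F) : Matrix ι ι F)) i
          rw [emb_inv_vecMul_apply]
          rcases eq_or_ne i p with rfl | h1
          · simp [R.ne, R.ne.symm, e3]
          rcases eq_or_ne i o with rfl | h2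
          · simp [R.ne, R.ne.symm, e4]
          · simp [h1, h2, (hsupp i h1 h2).2]
      have exg : ∀ a b : F, a ≠ 0 ∨ b ≠ 0 → ∃ g : SL(2, F), g.1 0 0 = a ∧ g.1 1 0 = b := by
        intro a b hab
        by_cases ha : a = 0
        · subst ha
          have hb : b ≠ 0 := hab.resolve_left (not_not.2 rfl)
          exact ⟨⟨!![0, -b⁻¹; b, 0], by simp [Matrix.det_fin_two, hb]⟩, rfl, rfl⟩
        · exact ⟨⟨!![a, 0; b, a⁻¹], by simp [Matrix.det_fin_two, ha]⟩, rfl, rfl⟩
      by_cases hx0 : x p = 0 ∧ x o = 0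
      · have hy0 : y o ≠ 0 ∨ -y p ≠ 0 := by
          by_contra hc
          simp only [not_or, not_not, neg_eq_zero] at hc
          refine hw.1 ?_
          rw [hxv, hyv, hx0.1, hx0.2, hc.1, hc.2]
          simp
        obtain ⟨N, h1, h2⟩ := exg _ _ hy0
        exact mk N 0 1 (exg 0 1 (Or.inr one_ne_zero)) (by simp [hx0.1]) (by simp [hx0.2]) (by rw [h2]; ring)
          (by rw [h1]; ring)
      · obtain ⟨N, h1, h2⟩ := exg (x p) (x o) (by tauto)
        by_cases hxp : x p = 0
        · have hxo : x o ≠ 0 := fun h => hx0 ⟨hxp, h⟩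
          rw [hxp, mul_zero, zero_add, mul_eq_zero] at hs0
          have hyo : y o = 0 := hs0.resolve_right hxo
          refine mk N 1 (-y p / x o) (exg 1 _ (Or.inl one_ne_zero)) (by rw [h1, mul_one]) (by rw [h2, mul_one])
            (by rw [h2]; field_simp) (by rw [h1, hxp, hyo, zero_mul])
        · refine mk N 1 (y o / x p) (exg 1 _ (Or.inl one_ne_zero)) (by rw [h1, mul_one]) (by rw [h2, mul_one])
            (by rw [h2]; field_simp; linear_combination hs0) (by rw [h1]; field_simp)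
    have sg : Sing ((g.1 0 0 • e F p, g.1 1 0 • e F o) : (ι → F) × (ι → F)) := by
      refine ⟨fun h => ?_, by simp [R.ne, R.ne.symm]⟩
      have e1 := congrFun (congrArg Prod.fst h) p
      have e2 := congrFun (congrArg Prod.snd h) o
      simp at e1 e2
      have := g.2
      rw [Matrix.det_fin_two, e1, e2] at this
      simp at this
    rw [hN]
    refine agree_pair R hkp hko N sg ?_
    rw [Agree, cos_plane R hkp hko g, show wv p o (g.1 0 0 • e F p, g.1 1 0 • e F o) =
      ((wElt F * g).1 0 0 • e F p, (wElt F * g).1 1 0 • e F o) by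
        simp only [wv, Matrix.SpecialLinearGroup.coe_mul, Matrix.mul_apply, Fin.sum_univ_two]
        simp [wElt, R.ne, R.ne.symm, ← add_smul], cos_plane R hkp hko (wElt F * g), map_mul, mul_assoc]
    rfl
  obtain ⟨x, y⟩ := v
  by_cases hy : ∃ i, i ≠ p ∧ i ≠ o ∧ y i ≠ 0
  · obtain ⟨i, hip, hio, hi⟩ := hy
    set y' := Function.update (Function.update y p 0) o 0 with hy'
    have hy'p : y' p = 0 := by simp [hy', R.ne]
    have hy'o : y' o = 0 := by simp [hy']
    have hy'0 : y' ≠ 0 := fun h => hi (by simpa [hy', hip, hio] using congrFun h i)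
    obtain ⟨d, A, hAp, hAo, hAk⟩ := exists_blk_scale hkp hko hy'0 hy'p hy'o
    have sd : Sing ((0, (d : F) • e F k) : (ι → F) × (ι → F)) :=
      ⟨fun h => by simpa using congrArg (fun z : (ι → F) × (ι → F) => z.2 k) h, by simp⟩
    have hsc : Agree R hkp hko (0, (d : F) • e F k) := by
      have h := agree_scale R hkp hko d⁻¹ s2 base2
      suffices he : ((0 : ι → F), (d : F) • e F k) =
          act 0 (Matrix.SpecialLinearGroup.toGL (emb hkp (dElt d⁻¹))) ((0 : ι → F), e F k) by rwa [he]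
      simp only [act, Matrix.zero_mulVec, Matrix.mulVec_zero, add_zero]
      refine Prod.ext rfl (funext fun j => ?_)
      change ((d : F) • e F k) j = (e F k ᵥ*
        (((Matrix.SpecialLinearGroup.toGL (emb hkp (dElt d⁻¹)))⁻¹ : GL ι F) : Matrix ι ι F)) j
      rw [emb_inv_vecMul_apply]
      rcases eq_or_ne j k with rfl | hj
      · simp [dElt, hkp.symm]
      rcases eq_or_ne j p with rfl | hjp
      · simp [dElt, hkp, hkp.symm, hj]
      · simp [hj, hjp]
    set At : GL ι F := trpG (Matrix.SpecialLinearGroup.toGL A) with hAt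
    have hAts : Sqd At := ⟨1, Units.ext (by
      rw [Matrix.GeneralLinearGroup.val_det_apply, hAt]
      show ((A : Matrix ι ι F)ᵀ).det = _
      rw [Matrix.det_transpose, A.2]; simp)⟩
    have hB := agree_blk R hkp hko hAts.inv hAp.trp.inv hAo.trp.inv sd hsc
    have hval : act 0 At⁻¹ ((0 : ι → F), (d : F) • e F k) = (0, y') := by
      simp only [act, inv_inv, Matrix.zero_mulVec, Matrix.mulVec_zero, add_zero, hAt]
      refine Prod.ext rfl ?_
      show ((d : F) • e F k) ᵥ* (A : Matrix ι ι F)ᵀ = y'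
      rw [Matrix.vecMul_transpose, hAk]
    rw [hval] at hB
    have s3 : Sing ((0, y') : (ι → F) × (ι → F)) := ⟨fun h => hy'0 (congrArg Prod.snd h), by simp⟩
    set u1 : ι → F := Pi.single i (-(y p) / y i) with hu1
    set u2 : ι → F := Pi.single i (-(y o) / y i) with hu2
    have hu1p : u1 p = 0 := by simp [hu1, hip.symm]
    have hu1o : u1 o = 0 := by simp [hu1, hio.symm]
    have hu2p : u2 p = 0 := by simp [hu2, hip.symm]
    have hu2o : u2 o = 0 := by simp [hu2, hio.symm]
    have h1 := agree_tr_p R hkp hko hu1p hu1o s3 hB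
    have s4 := sing_act isAlt_zero (trG p u1) s3
    have h2 := agree_tr_o R hkp hko hu2p hu2o s4 h1
    have s5 := sing_act isAlt_zero (trG o u2) s4
    have hval2 : act 0 (trG o u2) (act 0 (trG p u1) ((0 : ι → F), y')) = (0, y) := by
      rw [act_tr p hu1p, act_tr o hu2o]
      refine Prod.ext (by simp) (funext fun j => ?_)
      have hy'i : y' i = y i := by simp [hy', hip, hio]
      simp [hu1, hu2, dotProduct_single, sub_dotProduct, hy'i, hip, hio, hip.symm, hio.symm]
      rcases eq_or_ne j p with rfl | h1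
      · simp [hy'p, R.ne, hi, mul_div_cancel₀]
      rcases eq_or_ne j o with rfl | h2
      · simp [hy'o, R.ne.symm, h1, hi, mul_div_cancel₀]
      · simp [h1, h2, hy']
    rw [hval2] at h2 s5
    obtain ⟨hS, hSy⟩ := exists_alt hi hv.2
    have h3 := agree_sG R hkp hko hS (by simp [alt_apply, hip.symm, hio.symm]) s5 h2
    rwa [act_one_left, zero_add, hSy] at h3
  simp only [not_exists, not_and, not_not] at hy
  have hys : ∀ u : ι → F, u ⬝ᵥ y = u p * y p + u o * y o := fun u => by
    show ∑ i, u i * y i = _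
    rw [Finset.sum_eq_add p o R.ne (fun j _ hj => by rw [hy j hj.1 hj.2, mul_zero])
      (fun hh => absurd (Finset.mem_univ _) hh) (fun hh => absurd (Finset.mem_univ _) hh)]
  set x' := Function.update (Function.update x p 0) o 0 with hx'
  have hx'p : x' p = 0 := by simp [hx', R.ne]
  have hx'o : x' o = 0 := by simp [hx']
  have hxoff : ∀ i, i ≠ p → i ≠ o → (x - x') i = 0 := fun i h1 h2 => by simp [hx', h1, h2]
  have ssub : (x - x', y) ≠ 0 → Sing ((x - x', y) : (ι → F) × (ι → F)) := fun h => by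
    refine ⟨h, ?_⟩
    have h2 := hv.2
    simp only at h2 ⊢
    rw [hys] at h2 ⊢
    simpa [hx'p, hx'o] using h2
  by_cases hyp : y p ≠ 0 ∨ y o ≠ 0
  · have hne : (x - x', y) ≠ 0 := fun h => by
      have h2 : y = 0 := congrArg Prod.snd h
      rcases hyp with hh | hh <;> exact hh (by rw [h2]; rfl)
    have hpl := plane _ (ssub hne) fun i h1 h2 => ⟨hxoff i h1 h2, hy i h1 h2⟩
    rcases hyp with hh | hh
    · have h3 := agree_sG R hkp hko (isAlt_alt x' (e F p) (y p)⁻¹) (by simp [alt_apply, hx'o, hx'p, R.ne.symm])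
        (ssub hne) hpl
      rw [act_one_left, alt_mulVec, hys x', hx'p, hx'o, single_one_dotProduct, inv_mul_cancel₀ hh] at h3
      simpa using h3
    · have h3 := agree_sG R hkp hko (isAlt_alt x' (e F o) (y o)⁻¹) (by simp [alt_apply, hx'p, R.ne])
        (ssub hne) hpl
      rw [act_one_left, alt_mulVec, hys x', hx'p, hx'o, single_one_dotProduct, inv_mul_cancel₀ hh] at h3
      simpa using h3
  simp only [not_or, not_not] at hyp
  obtain rfl : y = 0 := funext fun i => by
    rcases eq_or_ne i p with rfl | h1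
    · exact hyp.1
    rcases eq_or_ne i o with rfl | h2
    · exact hyp.2
    exact hy i h1 h2
  by_cases hx0 : x p = 0 ∧ x o = 0
  · have hxx : x' = x := by
      funext i
      rcases eq_or_ne i p with rfl | h1
      · rw [hx'p, hx0.1]
      rcases eq_or_ne i o with rfl | h2
      · rw [hx'o, hx0.2]
      simp [hx', h1, h2]
    have hx : x ≠ 0 := fun h => hv.1 (by rw [h]; rfl)
    obtain ⟨d, A, hAp, hAo, hAk⟩ := exists_blk_scale hkp hko hx hx0.1 hx0.2
    have hsc : Agree R hkp hko ((d : F) • e F k, 0) := by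
      have h := agree_scale R hkp hko d s1 base1
      suffices he : ((d : F) • e F k, (0 : ι → F)) =
          act 0 (Matrix.SpecialLinearGroup.toGL (emb hkp (dElt d))) (e F k, (0 : ι → F)) by rwa [he]
      simp only [act, Matrix.zero_vecMul, Matrix.mulVec_zero, add_zero, toGL_coe']
      refine Prod.ext (funext fun j => ?_) rfl
      change ((d : F) • e F k) j =
        (((emb hkp (dElt d) : Matrix.SpecialLinearGroup ι F) : Matrix ι ι F) *ᵥ e F k) j
      rw [emb_mulVec_apply]
      rcases eq_or_ne j k with rfl | hj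
      · simp [dElt, hkp.symm]
      rcases eq_or_ne j p with rfl | hjp
      · simp [dElt, hkp, hkp.symm, hj]
      · simp [hj, hjp]
    have sd : Sing (((d : F) • e F k, 0) : (ι → F) × (ι → F)) :=
      ⟨fun h => by simpa using congrArg (fun z : (ι → F) × (ι → F) => z.1 k) h, by simp⟩
    have h3 := agree_blk R hkp hko (sqd_sl A) hAp hAo sd hsc
    simp only [act, Matrix.zero_vecMul, Matrix.mulVec_zero, add_zero, toGL_coe'] at h3
    rwa [hAk] at h3
  · have hne : (x - x', (0 : ι → F)) ≠ 0 := fun h => hx0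
      ⟨by simpa [hx'p] using congrFun (congrArg Prod.fst h) p, by simpa [hx'o] using congrFun (congrArg Prod.fst h) o⟩
    have hpl := plane _ (ssub hne) fun i h1 h2 => ⟨hxoff i h1 h2, rfl⟩
    rcases not_and_or.1 hx0 with hh | hh
    · have h3 := agree_tr_p R hkp hko (u := (x p)⁻¹ • x') (by simp [hx'p]) (by simp [hx'o]) (ssub hne) hpl
      rw [act_tr p (show ((x p)⁻¹ • x') p = 0 by simp [hx'p])] at h3
      simpa [hx'p, hh, smul_smul] using h3
    · have h3 := agree_tr_o R hkp hko (u := (x o)⁻¹ • x') (by simp [hx'p]) (by simp [hx'o]) (ssub hne) hpl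
      rw [act_tr o (show ((x o)⁻¹ • x') o = 0 by simp [hx'o])] at h3
      simpa [hx'o, hh, smul_smul] using h3

variable (hgen : Subgroup.closure (Set.range φ ∪ Set.range ψ) = ⊤)

include hgen in
theorem cos_surjective (z : G ⧸ stab R k) : ∃ v, Sing v ∧ cos R hkp hko v = z := by
  set Ω : Set (G ⧸ stab R k) := {z | ∃ v, Sing v ∧ cos R hkp hko v = z} with hΩ
  have hp : ∀ (S : Matrix ι ι F), IsAlt S → ∀ A : GL ι F, Sqd A → SpFour.Stab Ω (sG R S * lam R A) := by
    rintro S hS A hA _ ⟨v, hv, rfl⟩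
    exact ⟨act S A v, sing_act hS A hv, cos_act R hkp hko hS hA hv⟩
  have hφ : ∀ B, SpFour.Stab Ω (φ B) := fun B => by
    simpa [sG_zero, lam_sl] using hp 0 isAlt_zero _ (sqd_sl B)
  have hw : SpFour.Stab Ω W := by
    rintro _ ⟨v, hv, rfl⟩
    exact ⟨wv p o v, sing_wv R.ne hv, (agree_all R hkp hko hv).symm⟩
  have hd : SpFour.Stab Ω (ψ (dElt (-1))) := by
    simpa [sG_zero, lam_dg2] using hp 0 isAlt_zero _ (sqd_dg2 p o (-1))
  have hw' : SpFour.Stab Ω W⁻¹ := fun z hz => by
    have e : W⁻¹ = ψ (dElt (-1)) * W := by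
      rw [← map_inv, ← map_mul]
      congr 1
      refine Subtype.ext ?_
      rw [Matrix.SpecialLinearGroup.coe_mul, wElt_inv_val']
      ext i j
      fin_cases i <;> fin_cases j <;> simp [dElt, wElt, Matrix.mul_apply, Fin.sum_univ_two]
    rw [e, mul_smul]
    exact hd _ (hw z hz)
  have hx : ∀ t, SpFour.Stab Ω (ψ (uElt t)) := fun t => by
    have := hp _ (isAlt_alt (e F p) (e F o) t) 1 sqd_one
    rwa [lam_one, mul_one, sG_alt, biv_po, SpFour.X] at this
  have hx' : ∀ t, SpFour.Stab Ω (ψ (uElt t))⁻¹ := fun t => by rw [← map_inv, ← uElt_neg]; exact hx _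
  let H : Subgroup G :=
    Subgroup.closure (Set.range φ ∪ Set.range (fun t : F => ψ (uElt t)) ∪ {W})
  have hH : H = ⊤ := by
    rw [← top_le_iff, ← hgen, Subgroup.closure_le]
    rintro _ (⟨B, rfl⟩ | ⟨M, rfl⟩)
    · exact Subgroup.subset_closure (Or.inl (Or.inl ⟨B, rfl⟩))
    refine KnownB.SLnSt.range_le (fun t => ?_) (fun t => ?_) M
    · rw [show KnownB.SLnSt.up t = uElt t from Subtype.ext (by rw [uElt_val]; rfl)]
      exact Subgroup.subset_closure (Or.inl (Or.inr ⟨t, rfl⟩))
    · rw [show KnownB.SLnSt.lo t = wElt F * uElt (-t) * (wElt F)⁻¹ from Subtype.ext (by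
        rw [← lElt, lElt_val]; rfl), map_mul, map_mul, map_inv]
      exact mul_mem (mul_mem (Subgroup.subset_closure (Or.inr rfl))
        (Subgroup.subset_closure (Or.inl (Or.inr ⟨_, rfl⟩)))) (inv_mem (Subgroup.subset_closure (Or.inr rfl)))
  obtain ⟨g, rfl⟩ := QuotientGroup.mk_surjective z
  have hg : SpFour.Stab Ω g := by
    refine SpFour.stab_closure ?_ ?_ g (show g ∈ H from hH ▸ Subgroup.mem_top g)
    · rintro _ ((⟨B, rfl⟩ | ⟨t, rfl⟩) | rfl)
      exacts [hφ _, hx t, hw]
    · rintro _ ((⟨B, rfl⟩ | ⟨t, rfl⟩) | rfl)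
      exacts [by rw [← map_inv]; exact hφ _, hx' t, hw']
  have h1 : ((1 : G) : G ⧸ stab R k) ∈ Ω := by
    refine ⟨(e F k, 0), ⟨fun h => one_ne_zero (α := F) (by simpa using congrFun (congrArg Prod.fst h) k), by simp⟩, ?_⟩
    have h := cos_one R hkp hko (isAlt_zero (F := F) (ι := ι)) sqd_one
    rwa [sG_zero, lam_one, one_mul, act_one] at h
  have h2 := hg _ h1
  rwa [show g • ((1 : G) : G ⧸ stab R k) = ((g * 1 : G) : G ⧸ stab R k) from rfl, mul_one] at h2

end CfsgLib.Pres.DnN
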