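import Cfsg.Agent.Lib.Pres.DnInduct
import Cfsg.Agent.Lib.Pres.SpPres

/-!
# The relations of `Ω⁺_{2n}` from a few of them

`u` is to be the graph element at the indices `z, o`, and the root `SL₂` is `u` conjugating the Levi one.
-/

set_option autoImplicit false

namespace CfsgLib.Pres.DnN

open Matrix
open scoped MatrixGroups
open CfsgLib.Classical (uElt uElt_val uElt_add)
open CfsgLib.Pres.SpN

variable {F : Type*} [Field F] {ι : Type} [Fintype ι] [DecidableEq ι]

/-- The root `SL₂` built from the graph element. -/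
def psiU {G : Type*} [Group G] {p o : ι} (hpo : p ≠ o) (φ : Matrix.SpecialLinearGroup ι F →* G) (u : G) : SL(2, F) →* G :=
  (MulAut.conj u).toMonoidHom.comp (φ.comp (emb hpo))

theorem psiU_apply {G : Type*} [Group G] {p o : ι} (hpo : p ≠ o) (φ : Matrix.SpecialLinearGroup ι F →* G) (u : G)
    (M : SL(2, F)) : psiU hpo φ u M = u * φ (emb hpo M) * u⁻¹ := rfl

theorem emb_symm_u {a b : ι} (h : a ≠ b) (t : F) :
    (emb h.symm (uElt t) : Matrix.SpecialLinearGroup ι F) = emb h (lElt t) := by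
  refine Subtype.ext (Matrix.ext fun i j => ?_)
  rw [emb_entry, emb_entry, uElt_val, lElt_val]
  by_cases h1 : i = a <;> by_cases h2 : j = b <;> by_cases h3 : i = b <;> by_cases h4 : j = a <;>
    simp_all [h, h.symm, Matrix.one_apply]

theorem blk_of_entries {a : ι} {A : Matrix.SpecialLinearGroup ι F} (h1 : ∀ i, (A : Matrix ι ι F) i a = (1 : Matrix ι ι F) i a)
    (h2 : ∀ i, (A : Matrix ι ι F) a i = (1 : Matrix ι ι F) a i) : Blk a (Matrix.SpecialLinearGroup.toGL A : GL ι F) := by
  refine ⟨funext fun i => ?_, funext fun i => ?_⟩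
  · rw [Matrix.mulVec_single_one, Matrix.col_apply]
    show (A : Matrix ι ι F) i a = _
    rw [h1, Matrix.one_apply, Pi.single_apply]
  · rw [Matrix.single_one_vecMul, Matrix.row_apply]
    show (A : Matrix ι ι F) a i = _
    rw [h2, Matrix.one_apply, Pi.single_apply]
    simp [eq_comm]

theorem blk_entries {a : ι} {A : Matrix.SpecialLinearGroup ι F} (h : Blk a (Matrix.SpecialLinearGroup.toGL A : GL ι F)) :
    (∀ i, (A : Matrix ι ι F) i a = (1 : Matrix ι ι F) i a) ∧ ∀ i, (A : Matrix ι ι F) a i = (1 : Matrix ι ι F) a i := by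
  refine ⟨fun i => ?_, fun i => ?_⟩
  · have := congrFun h.1 i
    rw [Matrix.mulVec_single_one, Matrix.col_apply] at this
    exact this.trans (by rw [Matrix.one_apply, Pi.single_apply])
  · have := congrFun h.2 i
    rw [Matrix.single_one_vecMul, Matrix.row_apply] at this
    exact this.trans (by rw [Matrix.one_apply, Pi.single_apply]; simp [eq_comm])

/-- Elements fixing a pair commute with its `SL₂`. -/
theorem blk_comm_emb {a b : ι} (h : a ≠ b) {A : Matrix.SpecialLinearGroup ι F}
    (ha : Blk a (Matrix.SpecialLinearGroup.toGL A : GL ι F)) (hb : Blk b (Matrix.SpecialLinearGroup.toGL A : GL ι F))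
    (M : SL(2, F)) : Commute A (emb h M) := by
  refine Subtype.ext ?_
  rw [Matrix.SpecialLinearGroup.coe_mul, Matrix.SpecialLinearGroup.coe_mul]
  refine mul_extM (pairEmb h) ?_ ?_ (M : Matrix (Fin 2) (Fin 2) F)
  · ext i c
    rw [Matrix.mul_apply]
    simp only [inc, Matrix.of_apply, mul_ite, mul_one, mul_zero, Finset.sum_ite_eq', Finset.mem_univ, if_true]
    fin_cases c
    · show (A : Matrix ι ι F) i a = if i = a then (1 : F) else 0
      rw [(blk_entries ha).1, Matrix.one_apply]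
    · show (A : Matrix ι ι F) i b = if i = b then (1 : F) else 0
      rw [(blk_entries hb).1, Matrix.one_apply]
  · ext c i
    rw [Matrix.mul_apply]
    simp only [inc, Matrix.transpose_apply, Matrix.of_apply, ite_mul, one_mul, zero_mul, Finset.sum_ite_eq',
      Finset.mem_univ, if_true]
    fin_cases c
    · show (A : Matrix ι ι F) a i = if i = a then (1 : F) else 0
      rw [(blk_entries ha).2, Matrix.one_apply]
      simp only [eq_comm]
    · show (A : Matrix ι ι F) b i = if i = b then (1 : F) else 0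
      rw [(blk_entries hb).2, Matrix.one_apply]
      simp only [eq_comm]

theorem dg_comm_blk {a : ι} {A : GL ι F} (h : Blk a A) (c : Fˣ) : Commute (dg a c) A := by
  refine Units.ext ?_
  rw [Units.val_mul, Units.val_mul, dg_val]
  ext i j
  rw [Matrix.diagonal_mul, Matrix.mul_diagonal]
  have e1 : (A : Matrix ι ι F) i a = if i = a then 1 else 0 := by
    have := congrFun h.1 i
    rw [Matrix.mulVec_single_one, Matrix.col_apply] at this
    rw [this, Pi.single_apply]
  have e2 : (A : Matrix ι ι F) a j = if j = a then 1 else 0 := by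
    have := congrFun h.2 j
    rw [Matrix.single_one_vecMul, Matrix.row_apply] at this
    rw [this, Pi.single_apply]
  simp only [Function.update_apply, Pi.one_apply]
  by_cases hi : i = a <;> by_cases hj : j = a <;> simp_all

theorem blk_dg {a b : ι} (h : a ≠ b) (c : Fˣ) : Blk a (dg b c : GL ι F) := by
  refine ⟨?_, ?_⟩ <;> funext i
  · rw [dg_val, Matrix.mulVec_diagonal, Pi.single_apply, Function.update_apply]
    by_cases hi : i = a <;> simp [hi, h]
  · rw [dg_val, Matrix.vecMul_diagonal, Pi.single_apply, Function.update_apply]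
    by_cases hi : i = a <;> simp [hi, h]

theorem slD2_blk {p o : ι} {A : Matrix.SpecialLinearGroup ι F}
    (ho : Blk o (Matrix.SpecialLinearGroup.toGL A : GL ι F)) (c : Fˣ) :
    (Matrix.SpecialLinearGroup.toGL (slD2 p o c A) : GL ι F) =
      dg p c * Matrix.SpecialLinearGroup.toGL A * (dg p c)⁻¹ := by
  rw [toGL_slD2, show (dg2 p o c : GL ι F) = dg p c * dg o c from rfl]
  rw [_root_.mul_inv_rev, show ∀ a b d : GL ι F, a * b * d * (b⁻¹ * a⁻¹) = a * (b * d * b⁻¹) * a⁻¹ from
    fun a b d => by group, (dg_comm_blk ho c).eq, mul_inv_cancel_right]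

theorem slD2_emb_of {p o a : ι} (hao : a ≠ o) (hap : a ≠ p) (hpo : p ≠ o) (c : Fˣ) (M : SL(2, F)) :
    slD2 p o c (emb hao M) = emb hao (dConj c⁻¹ M) := by
  rw [← slD_emb hao c M]
  refine toGL_inj ?_
  rw [toGL_slD2, toGL_slD, show (dg2 p o c : GL ι F) = dg p c * dg o c from rfl,
    _root_.mul_inv_rev, show ∀ a b d : GL ι F, a * b * d * (b⁻¹ * a⁻¹) = a * (b * d * b⁻¹) * a⁻¹ from
      fun a b d => by group, ← toGL_slD, slD_emb hao c M,
    (dg_comm_blk (blk_emb hao hap hpo.symm _) c).eq, mul_inv_cancel_right]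

theorem slD2_emb_pair {p o : ι} (h : p ≠ o) (c : Fˣ) (M : SL(2, F)) : slD2 p o c (emb h M) = emb h M := by
  refine toGL_inj (Units.ext ?_)
  rw [toGL_slD2, Units.val_mul, Units.val_mul, ← map_inv, dg2_val h, dg2_val h]
  show _ * (emb h M : Matrix ι ι F) * _ = (emb h M : Matrix ι ι F)
  ext i j
  rw [Matrix.mul_diagonal, Matrix.diagonal_mul, emb_entry]
  by_cases h1 : i = p <;> by_cases h2 : j = p <;> by_cases h3 : i = o <;> by_cases h4 : j = o <;>
    by_cases h5 : i = j <;> simp_all [h, h.symm, mul_comm]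

/-- Diagonal elements conjugating a root element. -/
theorem diag_conj_u {A : Matrix.SpecialLinearGroup ι F} {d : ι → F} (hA : (A : Matrix ι ι F) = Matrix.diagonal d)
    {a b : ι} (h : a ≠ b) {r : F} (hr : d a = r * d b) (t : F) :
    A * emb h (uElt t) * A⁻¹ = emb h (uElt (r * t)) := by
  rw [mul_inv_eq_iff_eq_mul]
  refine Subtype.ext (Matrix.ext fun i j => ?_)
  rw [Matrix.SpecialLinearGroup.coe_mul, Matrix.SpecialLinearGroup.coe_mul, hA, Matrix.diagonal_mul,
    Matrix.mul_diagonal, emb_entry, emb_entry, uElt_val, uElt_val]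
  by_cases h1 : i = a <;> by_cases h2 : j = b <;> by_cases h3 : i = b <;> by_cases h4 : j = a <;>
    by_cases h5 : i = j <;> simp_all [h, h.symm, mul_comm, mul_left_comm]

theorem diag_comm_emb {A : Matrix.SpecialLinearGroup ι F} {d : ι → F} (hA : (A : Matrix ι ι F) = Matrix.diagonal d)
    {a b : ι} (h : a ≠ b) (hr : d a = d b) (M : SL(2, F)) : Commute A (emb h M) := by
  refine Subtype.ext (Matrix.ext fun i j => ?_)
  rw [Matrix.SpecialLinearGroup.coe_mul, Matrix.SpecialLinearGroup.coe_mul, hA, Matrix.diagonal_mul,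
    Matrix.mul_diagonal, emb_entry]
  by_cases h1 : i = a <;> by_cases h2 : j = b <;> by_cases h3 : i = b <;> by_cases h4 : j = a <;>
    by_cases h5 : i = j <;> simp_all [h, h.symm, mul_comm]

/-- Two root subgroups and the Weyl element generate `SL₂`. -/
theorem sl_two_w_u {K : Subgroup SL(2, F)} (hw : wElt F ∈ K) (hu : ∀ c, uElt c ∈ K) : K = ⊤ := by
  refine CfsgLib.Classical.sl_transvection_induction K fun i j hij c => ?_
  rw [transvection_eq_emb]
  fin_cases i <;> fin_cases j
  · exact absurd rfl hij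
  · convert hu c using 1
    refine Subtype.ext (Matrix.ext fun a b => ?_)
    rw [emb_entry, uElt_val]
    fin_cases a <;> fin_cases b <;> simp
  · convert K.mul_mem (K.mul_mem hw (hu (-c))) (K.inv_mem hw) using 1
    refine Subtype.ext (Matrix.ext fun a b => ?_)
    rw [emb_entry, uElt_val, show wElt F * uElt (-c) * (wElt F)⁻¹ = lElt c from rfl, lElt_val]
    fin_cases a <;> fin_cases b <;> simp
  · exact absurd rfl hij

theorem w_conj_w : wElt F * wElt F * (wElt F)⁻¹ = wElt F := mul_inv_cancel_right _ _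

theorem w_sq_conj (M : SL(2, F)) : wElt F * (wElt F * M * (wElt F)⁻¹) * (wElt F)⁻¹ = M := by
  rw [show wElt F * (wElt F * M * (wElt F)⁻¹) * (wElt F)⁻¹ = wElt F * wElt F * M * (wElt F * wElt F)⁻¹ by group,
    wElt_sq]
  refine mul_inv_eq_iff_eq_mul.2 ?_
  rw [neg_one_mul, mul_neg_one]

theorem eps_conj (M : SL(2, F)) :
    dConj (-1 : Fˣ) (wElt F * dConj (-1 : Fˣ) M * (wElt F)⁻¹) = wElt F * M * (wElt F)⁻¹ := by
  refine Subtype.ext ?_
  rw [dConj_val, Matrix.SpecialLinearGroup.coe_mul, Matrix.SpecialLinearGroup.coe_mul,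
    Matrix.SpecialLinearGroup.coe_mul, Matrix.SpecialLinearGroup.coe_mul, dConj_val, wElt_inv_val']
  ext i j
  fin_cases i <;> fin_cases j <;>
    simp [dMat, wElt, Matrix.mul_apply, Fin.sum_univ_two, Matrix.vecMul, dotProduct]

theorem w_dConj_conj (c : Fˣ) (M : SL(2, F)) :
    wElt F * dConj c (wElt F * M * (wElt F)⁻¹) * (wElt F)⁻¹ = dConj c⁻¹ M := by
  refine Subtype.ext ?_
  rw [Matrix.SpecialLinearGroup.coe_mul, Matrix.SpecialLinearGroup.coe_mul, dConj_val,
    Matrix.SpecialLinearGroup.coe_mul, Matrix.SpecialLinearGroup.coe_mul, dConj_val, wElt_inv_val']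
  ext i j
  fin_cases i <;> fin_cases j <;>
    simp [dMat, wElt, Matrix.mul_apply, Fin.sum_univ_two, Matrix.vecMul, dotProduct]

/-- The Weyl element at `z, p` moves `z, o` to `p, o`. -/
theorem emb_P {z p o : ι} (hzp : z ≠ p) (hzo : z ≠ o) (hpo : p ≠ o) (M : SL(2, F)) :
    emb hzp (wElt F) * emb hzo M * (emb hzp (wElt F))⁻¹ = emb hpo (dConj (-1 : Fˣ) M) := by
  let t : Fin 3 ↪ ι := ⟨![z, p, o], by
    intro a b hab
    fin_cases a <;> fin_cases b <;> simp_all [hzp.symm, hzo.symm, hpo.symm]⟩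
  have e : ∀ {a b : Fin 3} (h : a ≠ b) (h' : t a ≠ t b) (M : SL(2, F)), emb h' M = extS t (emb h M) := by
    intro a b h h' M
    rw [emb, emb, extS_extS]
    congr 2
    ext x
    fin_cases x <;> rfl
  have key : (emb h01 (wElt F) * emb h02 M : SL(3, F)) = emb h12 (dConj (-1 : Fˣ) M) * emb h01 (wElt F) := by
    refine Subtype.ext ?_
    rw [Matrix.SpecialLinearGroup.coe_mul, Matrix.SpecialLinearGroup.coe_mul]
    ext i j
    rw [Matrix.mul_apply, Matrix.mul_apply, Fin.sum_univ_three, Fin.sum_univ_three]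
    simp only [emb_entry, dConj_val]
    fin_cases i <;> fin_cases j <;> simp [wElt, dMat, Matrix.one_apply]
  rw [mul_inv_eq_iff_eq_mul, show emb hzp (wElt F) = extS t (emb h01 (wElt F)) from e h01 hzp _,
    show emb hzo M = extS t (emb h02 M) from e h02 hzo M,
    show emb hpo (dConj (-1 : Fˣ) M) = extS t (emb h12 (dConj (-1 : Fˣ) M)) from e h12 hpo _, ← map_mul, ← map_mul, key]

/-- The middle, the pair `z, o` and the pair `p, o` generate. -/
theorem gen_three {z p o : ι} (hzp : z ≠ p) (hzo : z ≠ o) (hpo : p ≠ o) {S : Subgroup (Matrix.SpecialLinearGroup ι F)}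
    (hmid : ∀ A : Matrix.SpecialLinearGroup ι F, Blk z (Matrix.SpecialLinearGroup.toGL A : GL ι F) →
      Blk o (Matrix.SpecialLinearGroup.toGL A : GL ι F) → A ∈ S)
    (hzoS : ∀ M, emb hzo M ∈ S) (hpoS : ∀ M, emb hpo M ∈ S) : S = ⊤ := by
  let T : ι → ι → Prop := fun a b => ∀ (h : a ≠ b) (c : F), Matrix.SpecialLinearGroup.transvection h c ∈ S
  have hcomp : ∀ {a k b : ι}, a ≠ k → k ≠ b → T a k → T k b → T a b := by
    intro a k b hak hkb h1 h2 h c
    rw [← one_mul c, ← CfsgLib.Classical.commutator_transvection_transvection hak hkb h 1 c, commutatorElement_def]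
    exact S.mul_mem (S.mul_mem (S.mul_mem (h1 _ _) (h2 _ _)) (S.inv_mem (h1 _ _))) (S.inv_mem (h2 _ _))
  have hm : ∀ {a b : ι}, a ≠ z → a ≠ o → b ≠ z → b ≠ o → T a b := by
    intro a b haz hao hbz hbo h c
    rw [transvection_eq_emb]
    exact hmid _ (blk_emb h haz hbz _) (blk_emb h hao hbo _)
  have hp1 : T p o := fun h c => by rw [transvection_eq_emb]; exact hpoS _
  have hp2 : T o p := fun h c => by rw [transvection_eq_emb, emb_symm_u hpo]; exact hpoS _
  have hz1 : T z o := fun h c => by rw [transvection_eq_emb]; exact hzoS _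
  have hz2 : T o z := fun h c => by rw [transvection_eq_emb, emb_symm_u hzo]; exact hzoS _
  have hao : ∀ {a : ι}, a ≠ z → a ≠ o → T a o ∧ T o a := by
    intro a haz hao
    rcases eq_or_ne a p with rfl | hap
    · exact ⟨hp1, hp2⟩
    · exact ⟨hcomp hap hpo (hm haz hao hzp.symm hpo) hp1, hcomp hpo.symm hap.symm hp2 (hm hzp.symm hpo haz hao)⟩
  refine CfsgLib.Classical.sl_transvection_induction S fun a b h c => ?_
  suffices hT : T a b from hT h c
  rcases eq_or_ne a z with rfl | haz
  · rcases eq_or_ne b o with rfl | hbo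
    · exact hz1
    · exact hcomp hzo hbo.symm hz1 (hao h.symm hbo).2
  rcases eq_or_ne b z with rfl | hbz
  · rcases eq_or_ne a o with rfl | hao'
    · exact hz2
    · exact hcomp hao' hzo.symm (hao haz hao').1 hz2
  rcases eq_or_ne a o with rfl | hao'
  · exact (hao hbz h.symm).2
  rcases eq_or_ne b o with rfl | hbo
  · exact (hao haz hao').1
  · exact hm haz hao' hbz hbo

section few

variable [Fintype F] {G : Type*} [Group G] {z j p o : ι} {φ : Matrix.SpecialLinearGroup ι F →* G} {u : G}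

/-- The few relations. -/
structure Few (hzo : z ≠ o) (hzp : z ≠ p) (hpo : p ≠ o) (hzj : z ≠ j) (φ : Matrix.SpecialLinearGroup ι F →* G)
    (u : G) : Prop where
  sq : u * u = 1
  mid : ∀ A : Matrix.SpecialLinearGroup ι F, Blk z (Matrix.SpecialLinearGroup.toGL A : GL ι F) →
    Blk o (Matrix.SpecialLinearGroup.toGL A : GL ι F) → Commute u (φ A)
  zo : ∀ M : SL(2, F), u * φ (emb hzo M) * u⁻¹ = φ (emb hzo (wElt F * M * (wElt F)⁻¹))
  word : u = (φ (emb hzp (wElt F)))⁻¹ * (φ (emb hpo (wElt F)))⁻¹ * psiU hpo φ u (wElt F) * φ (emb hzp (wElt F))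
  hw : Commute (φ (emb hzj (wElt F))) (psiU hpo φ u (uElt 1))
  hx : Commute (φ (emb hpo (uElt 1))) (psiU hpo φ u (uElt 1))
  h4 : (∀ i, i = z ∨ i = j ∨ i = p ∨ i = o) → Commute (φ (emb hzj (uElt 1))) (psiU hpo φ u (uElt 1))

set_option maxHeartbeats 2000000 in
/-- The relations from the few. -/
theorem dRels_of_few (hzo : z ≠ o) (hzp : z ≠ p) (hpo : p ≠ o) (hzj : z ≠ j) (hjp : j ≠ p) (hjo : j ≠ o)
    (H : Few hzo hzp hpo hzj φ u) : DRels p o φ (psiU hpo φ u) := by
  classical
  set ψ := psiU hpo φ u with hψdef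
  have hψ : ∀ M, ψ M = u * φ (emb hpo M) * u⁻¹ := fun M => rfl
  have hui : u⁻¹ = u := inv_eq_of_mul_eq_one_right H.sq
  -- the torus
  let E : Fˣ → Fˣ → Matrix.SpecialLinearGroup ι F := fun a b => emb hjp (dElt a) * emb hzo (dElt b)
  have hEv : ∀ a b, (E a b : Matrix ι ι F) = Matrix.diagonal (fun i => if i = j then (a : F) else
      if i = p then ((a⁻¹ : Fˣ) : F) else if i = z then (b : F) else if i = o then ((b⁻¹ : Fˣ) : F) else 1) := by
    intro a b
    have e : (Matrix.SpecialLinearGroup.toGL (E a b) : GL ι F) = dg j a * dg p a⁻¹ * (dg z b * dg o b⁻¹) := by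
      rw [map_mul, emb_dElt, emb_dElt, map_inv, map_inv]
    show ((Matrix.SpecialLinearGroup.toGL (E a b) : GL ι F) : Matrix ι ι F) = _
    rw [e]
    simp only [Units.val_mul, dg_val, Matrix.diagonal_mul_diagonal]
    congr 1
    funext i
    by_cases h1 : i = j <;> by_cases h2 : i = p <;> by_cases h3 : i = z <;> by_cases h4 : i = o <;>
      simp_all [hjp.symm, hjo.symm, hzj.symm, hzp.symm, hpo.symm, hzo.symm]
  have hEu : ∀ a b, u * φ (E a b) * u⁻¹ = φ (E a b⁻¹) := by
    intro a b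
    show u * φ (emb hjp (dElt a) * emb hzo (dElt b)) * u⁻¹ = φ (emb hjp (dElt a) * emb hzo (dElt b⁻¹))
    rw [map_mul, map_mul, ← mul_assoc, (H.mid _ (blk_emb hjp hzj.symm hzp.symm _) (blk_emb hjp hjo hpo _)).eq,
      mul_assoc (φ (emb hjp (dElt a))) u, mul_assoc, H.zo, wElt_dElt, show (dElt b)⁻¹ = dElt b⁻¹ from
      inv_eq_of_mul_eq_one_right (Subtype.ext (by
        rw [Matrix.SpecialLinearGroup.coe_mul]
        ext x y
        fin_cases x <;> fin_cases y <;> simp [dElt, Matrix.mul_apply, Fin.sum_univ_two]))]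
  have hEx : ∀ a b t, E a b * emb hpo (uElt t) * (E a b)⁻¹ = emb hpo (uElt (((b : F) * (a⁻¹ : Fˣ)) * t)) := fun a b t =>
    diag_conj_u (hEv a b) hpo (by
      simp [hjp.symm, hzp.symm, hjo.symm, hzo.symm, hpo.symm]
      field_simp) t
  have hE01 : ∀ a b t, E a b * emb hzj (uElt t) * (E a b)⁻¹ = emb hzj (uElt (((b : F) * (a⁻¹ : Fˣ)) * t)) := fun a b t =>
    diag_conj_u (hEv a b) hzj (by
      simp [hzj, hzp]) t
  have hEpsi : ∀ a b t, φ (E a b) * ψ (uElt t) * (φ (E a b))⁻¹ =
      ψ (uElt (((b⁻¹ : Fˣ) : F) * ((a⁻¹ : Fˣ) : F) * t)) := by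
    intro a b t
    have h1 : φ (E a b) = u * φ (E a b⁻¹) * u⁻¹ := by rw [hEu, inv_inv]
    rw [h1, hψ, hψ, ← hEx a b⁻¹ t]
    generalize E a b⁻¹ = e
    rw [map_mul, map_mul, map_inv]
    group
  -- the first torus
  have hE1w : ∀ c, Commute (φ (E c c)) (φ (emb hzj (wElt F))) := fun c =>
    (diag_comm_emb (hEv c c) hzj (by simp [hzj, hzp]) _).map φ
  have hE1x : ∀ c s, Commute (φ (E c c)) (φ (emb hpo (uElt s))) := fun c s => by
    refine Commute.map ?_ φ
    have := hEx c c s
    rw [Units.mul_inv, one_mul, mul_inv_eq_iff_eq_mul] at this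
    exact this
  have hE101 : ∀ c s, Commute (φ (E c c)) (φ (emb hzj (uElt s))) := fun c s =>
    (diag_comm_emb (hEv c c) hzj (by simp [hzj, hzp]) _).map φ
  have squ : ∀ g : G, (∀ c, Commute (φ (E c c)) g) → Commute g (ψ (uElt 1)) → ∀ t, Commute g (ψ (uElt t)) := by
    intro g hg h1 t
    refine SpFour.eq_univ_of_squares (s := {t | Commute g (ψ (uElt t))}) ?_ ?_ (fun c => ?_) t
    · show Commute g (ψ (uElt 0))
      rw [uElt_zero, map_one]; exact Commute.one_right _
    · intro a b ha hb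
      show Commute g (ψ (uElt (a + b)))
      rw [uElt_add, map_mul]; exact Commute.mul_right ha hb
    · show Commute g (ψ (uElt ((c : F) ^ 2)))
      have h2 := hEpsi c⁻¹ c⁻¹ 1
      rw [inv_inv, mul_one, ← sq] at h2
      rw [← h2]
      exact ((hg c⁻¹).symm.mul_right h1).mul_right (hg c⁻¹).symm.inv_right
  have xsq : ∀ (a b : ι) (hab : a ≠ b), (∀ c t, E c⁻¹ c * emb hab (uElt t) * (E c⁻¹ c)⁻¹ =
      emb hab (uElt (((c : F) * ((c⁻¹⁻¹ : Fˣ) : F)) * t))) →
      Commute (φ (emb hab (uElt 1))) (ψ (uElt 1)) → ∀ s, Commute (φ (emb hab (uElt s))) (ψ (uElt 1)) := by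
    intro a b hab hconj h1 s
    refine SpFour.eq_univ_of_squares (s := {s | Commute (φ (emb hab (uElt s))) (ψ (uElt 1))}) ?_ ?_ (fun c => ?_) s
    · show Commute (φ (emb hab (uElt 0))) _
      rw [uElt_zero, map_one, map_one]; exact Commute.one_left _
    · intro x y hx hy
      show Commute (φ (emb hab (uElt (x + y)))) _
      rw [uElt_add, map_mul, map_mul]; exact Commute.mul_left hx hy
    · show Commute (φ (emb hab (uElt ((c : F) ^ 2)))) _
      have h2 := hconj c 1
      rw [inv_inv, mul_one, ← sq] at h2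
      have h3 := hEpsi c⁻¹ c 1
      rw [inv_inv, mul_one, Units.inv_mul] at h3
      have h4 : Commute (φ (E c⁻¹ c)) (ψ (uElt 1)) := mul_inv_eq_iff_eq_mul.1 h3
      rw [← h2, map_mul, map_mul, map_inv]
      exact (h4.mul_left h1).mul_left h4.inv_left
  -- the conjugate of `u`
  set up := φ (emb hzp (wElt F)) * u * (φ (emb hzp (wElt F)))⁻¹ with hup
  have hψw : ψ (wElt F) = φ (emb hpo (wElt F)) * up := by
    have h1 := H.word
    rw [← hψdef] at h1
    rw [hup]
    conv_rhs => rw [h1]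
    group
  have hup2 : up * up = 1 := by
    rw [hup, show φ (emb hzp (wElt F)) * u * (φ (emb hzp (wElt F)))⁻¹ * (φ (emb hzp (wElt F)) * u *
      (φ (emb hzp (wElt F)))⁻¹) = φ (emb hzp (wElt F)) * (u * u) * (φ (emb hzp (wElt F)))⁻¹ by group, H.sq, mul_one,
      mul_inv_cancel]
  have hupM : ∀ M, up * φ (emb hpo M) * up⁻¹ = φ (emb hpo (wElt F * M * (wElt F)⁻¹)) := by
    intro M
    have eM : dConj (-1 : Fˣ) (dConj (-1 : Fˣ) M) = M := by
      rw [SpFour.dConj_dConj, neg_mul_neg, one_mul, SpFour.dConj_one]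
    conv_lhs => rw [← eM, ← emb_P hzp hzo hpo]
    rw [← eps_conj M, ← emb_P hzp hzo hpo, map_mul, map_mul, map_mul, map_mul, map_inv, ← H.zo, hup]
    group
  have hupw : Commute up (φ (emb hpo (wElt F))) := by
    have := hupM (wElt F)
    rw [w_conj_w, mul_inv_eq_iff_eq_mul] at this
    exact this
  have hpcw : ∀ M, Commute (φ (emb hpo M)) (ψ (wElt F)) := by
    intro M
    refine (mul_inv_eq_iff_eq_mul.1 ?_).symm
    rw [hψw, show φ (emb hpo (wElt F)) * up * φ (emb hpo M) * (φ (emb hpo (wElt F)) * up)⁻¹ =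
      φ (emb hpo (wElt F)) * (up * φ (emb hpo M) * up⁻¹) * (φ (emb hpo (wElt F)))⁻¹ by group, hupM,
      ← map_inv φ, ← map_inv (emb hpo), ← map_mul, ← map_mul, ← map_mul, ← map_mul, w_sq_conj]
  have cw : ∀ B, Blk p (Matrix.SpecialLinearGroup.toGL B : GL ι F) → Blk o (Matrix.SpecialLinearGroup.toGL B) →
      Commute (φ B) (ψ (wElt F)) := by
    intro B hBp hBo
    rw [hψw]
    refine ((blk_comm_emb hpo hBp hBo (wElt F)).map φ).mul_right ?_
    set P := emb hzp (wElt F) with hP
    have hC : Commute (φ (P⁻¹ * B * P)) u := by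
      refine (H.mid _ ?_ ?_).symm
      · refine ⟨?_, ?_⟩
        · rw [map_mul, map_mul, map_inv, Units.val_mul, Units.val_mul, ← Matrix.mulVec_mulVec,
            ← Matrix.mulVec_mulVec]
          have e1 : ((Matrix.SpecialLinearGroup.toGL P : GL ι F) : Matrix ι ι F) *ᵥ Pi.single z 1 = -Pi.single p 1 := by
            funext i
            rw [toGL_coe', hP, emb_mulVec_apply]
            rcases eq_or_ne i z with rfl | h1
            · simp [wElt, hzp, hzp.symm]
            rcases eq_or_ne i p with rfl | h2 <;> simp [wElt, *, hzp.symm]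
          rw [e1, Matrix.mulVec_neg, hBp.1, ← e1, Matrix.mulVec_mulVec, Units.inv_mul, Matrix.one_mulVec]
        · rw [map_mul, map_mul, map_inv, Units.val_mul, Units.val_mul, ← Matrix.vecMul_vecMul,
            ← Matrix.vecMul_vecMul]
          have e1 : Pi.single p 1 ᵥ* ((Matrix.SpecialLinearGroup.toGL P : GL ι F) : Matrix ι ι F) = -Pi.single z 1 := by
            funext i
            rw [Matrix.single_one_vecMul, Matrix.row_apply, toGL_coe', hP, emb_entry]
            rcases eq_or_ne i z with rfl | h1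
            · simp [wElt, hzp, hzp.symm]
            rcases eq_or_ne i p with rfl | h2 <;> simp [wElt, *, hzp.symm, Matrix.one_apply, Ne.symm]
          have e2 : Pi.single z 1 ᵥ* (((Matrix.SpecialLinearGroup.toGL P)⁻¹ : GL ι F) : Matrix ι ι F) =
              -Pi.single p 1 := by
            rw [← neg_neg (Pi.single z (1 : F) : ι → F), ← e1, Matrix.neg_vecMul, Matrix.vecMul_vecMul, Units.mul_inv,
              Matrix.vecMul_one]
          rw [e2, Matrix.neg_vecMul, hBp.2, Matrix.neg_vecMul, e1, neg_neg]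
      · rw [map_mul, map_mul, map_inv]
        exact ((blk_emb hzp hzo hpo _).inv.mul hBo).mul (blk_emb hzp hzo hpo _)
    rw [map_mul, map_mul, map_inv] at hC
    show φ B * (φ P * u * (φ P)⁻¹) = φ P * u * (φ P)⁻¹ * φ B
    have h2 : (φ P)⁻¹ * φ B * φ P * u = u * ((φ P)⁻¹ * φ B * φ P) := hC
    calc φ B * (φ P * u * (φ P)⁻¹) = φ P * ((φ P)⁻¹ * φ B * φ P * u) * (φ P)⁻¹ := by group
      _ = φ P * u * (φ P)⁻¹ * φ B := by rw [h2]; group
  -- pairs
  have hall : ∀ g : G, Commute g (ψ (wElt F)) → (∀ t, Commute g (ψ (uElt t))) → ∀ M, Commute g (ψ M) := by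
    intro g h1 h2 M
    have h3 := sl_two_w_u (K := (Subgroup.centralizer {g}).comap ψ)
      (Subgroup.mem_centralizer_singleton_iff.2 h1.symm.eq)
      (fun t => Subgroup.mem_centralizer_singleton_iff.2 (h2 t).symm.eq)
    exact (Subgroup.mem_centralizer_singleton_iff.1 (show M ∈ (Subgroup.centralizer {g}).comap ψ by
      rw [h3]; exact Subgroup.mem_top M) : _).symm
  have hxall : ∀ s M, Commute (φ (emb hpo (uElt s))) (ψ M) := fun s =>
    hall _ (hpcw _) (squ _ (fun c => hE1x c s) (xsq p o hpo (fun c t => hEx c⁻¹ c t) H.hx s))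
  have hpc : ∀ M M', Commute (φ (emb hpo M)) (ψ M') := by
    intro M
    refine hall _ (hpcw M) fun t => ?_
    have h := hxall t M
    have h2 := h.map (MulAut.conj u).toMonoidHom
    have e1 : (MulAut.conj u).toMonoidHom (φ (emb hpo (uElt t))) = ψ (uElt t) := rfl
    have e2 : (MulAut.conj u).toMonoidHom (ψ M) = φ (emb hpo M) := by
      show u * (u * φ (emb hpo M) * u⁻¹) * u⁻¹ = _
      rw [hui, show u * (u * φ (emb hpo M) * u) * u = (u * u) * φ (emb hpo M) * (u * u) by group, H.sq, one_mul,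
        mul_one]
    rw [e1, e2] at h2
    exact h2.symm
  -- the centraliser of the pair
  have hmidc : ∀ B, Blk z (Matrix.SpecialLinearGroup.toGL B : GL ι F) → Blk p (Matrix.SpecialLinearGroup.toGL B) →
      Blk o (Matrix.SpecialLinearGroup.toGL B) → ∀ M, Commute (φ B) (ψ M) := by
    intro B hz hp ho M
    rw [hψ]
    exact ((H.mid B hz ho).symm.mul_right ((blk_comm_emb hpo hp ho M).map φ)).mul_right
      (H.mid B hz ho).symm.inv_right
  have hwzj : ∀ M, Commute (φ (emb hzj (wElt F))) (ψ M) :=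
    hall _ (cw _ (blk_emb hzj hzp hjp _) (blk_emb hzj hzo hjo _)) (squ _ hE1w H.hw)
  let C : Subgroup (Matrix.SpecialLinearGroup ι F) := (Subgroup.centralizer (Set.range ψ)).comap φ
  have memC : ∀ {A}, A ∈ C ↔ ∀ M, Commute (φ A) (ψ M) := by
    intro A
    simp only [C, Subgroup.mem_comap, Subgroup.mem_centralizer_iff, Set.forall_mem_range]
    exact forall_congr' fun M => ⟨fun h => h.symm, fun h => h.symm.eq⟩
  have hzb : ∀ b (hb : z ≠ b), b ≠ p → b ≠ o → ∀ M, emb hb M ∈ C := by
    have hne : ∀ b (hb : z ≠ b) (hbj : b ≠ j), b ≠ p → b ≠ o → ∀ M, emb hb M ∈ C := by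
      intro b hb hbj hbp hbo M
      rw [← emb_move hbj.symm hb hzj M]
      exact C.mul_mem (C.mul_mem (memC.2 hwzj) (memC.2 (hmidc _ (blk_emb hbj.symm hzj.symm hb.symm _)
        (blk_emb hbj.symm hjp hbp _) (blk_emb hbj.symm hjo hbo _)))) (C.inv_mem (memC.2 hwzj))
    intro b hb hbp hbo M
    rcases eq_or_ne b j with rfl | hbj
    swap
    · exact hne b hb hbj hbp hbo M
    have hK : C.comap (emb hb) = ⊤ := by
      refine sl_two_w_u (memC.2 hwzj) fun t => ?_
      show emb hb (uElt t) ∈ C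
      by_cases hl : ∃ l, l ≠ z ∧ l ≠ b ∧ l ≠ p ∧ l ≠ o
      · obtain ⟨l, hlz, hlb, hlp, hlo⟩ := hl
        rw [← transvection_eq_emb hb, ← one_mul t,
          ← CfsgLib.Classical.commutator_transvection_transvection hlz.symm hlb hb 1 t, commutatorElement_def,
          transvection_eq_emb, transvection_eq_emb]
        have m1 := hne l hlz.symm hlb hlp hlo (uElt (1 : F))
        have m2 : emb hlb (uElt t) ∈ C := memC.2 (hmidc _ (blk_emb hlb hlz hb.symm _)
          (blk_emb hlb hlp hbp _) (blk_emb hlb hlo hbo _))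
        exact C.mul_mem (C.mul_mem (C.mul_mem m1 m2) (C.inv_mem m1)) (C.inv_mem m2)
      · refine memC.2 (hall _ (cw _ (blk_emb hb hzp hbp _) (blk_emb hb hzo hbo _)) (squ _ (fun c => hE101 c t) ?_))
        refine xsq z b hb (fun c s => hE01 c⁻¹ c s) (H.h4 fun i => ?_) t
        by_contra hi
        simp only [not_or] at hi
        exact hl ⟨i, hi⟩
    exact (show M ∈ C.comap (emb hb) by rw [hK]; exact Subgroup.mem_top M)
  have hcomm : ∀ (B : Matrix.SpecialLinearGroup ι F) (M : SL(2, F)),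
      Blk p (Matrix.SpecialLinearGroup.toGL B : GL ι F) → Blk o (Matrix.SpecialLinearGroup.toGL B : GL ι F) →
        Commute (φ B) (ψ M) := by
    intro B M hp ho
    let f : {i : ι // i ≠ p ∧ i ≠ o} ↪ ι := Function.Embedding.subtype _
    obtain ⟨A, rfl⟩ : ∃ A, B = extS f A := by
      have he : extM f ((B : Matrix ι ι F).submatrix f f) = (B : Matrix ι ι F) := by
        ext a b
        by_cases ha : a ≠ p ∧ a ≠ o
        · by_cases hb : b ≠ p ∧ b ≠ o
          · exact extM_apply f _ ⟨a, ha⟩ ⟨b, hb⟩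
          · rw [extM_apply_right f _ (fun c e => hb (by rw [e]; exact c.2))]
            rw [not_and_or, not_not, not_not] at hb
            rcases hb with rfl | rfl
            · exact ((blk_entries hp).1 a).symm
            · exact ((blk_entries ho).1 a).symm
        · rw [extM_apply_left f _ (fun c e => ha (by rw [e]; exact c.2))]
          rw [not_and_or, not_not, not_not] at ha
          rcases ha with rfl | rfl
          · exact ((blk_entries hp).2 b).symm
          · exact ((blk_entries ho).2 b).symm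
      exact ⟨⟨(B : Matrix ι ι F).submatrix f f, by rw [← extM_det f, he]; exact B.2⟩, Subtype.ext he.symm⟩
    refine memC.1 (show A ∈ C.comap (extS f) from ?_) M
    rw [CfsgLib.Classical.sl_transvection_induction (C.comap (extS f)) fun a b hab c => ?_]
    · exact Subgroup.mem_top A
    show extS f (Matrix.SpecialLinearGroup.transvection hab c) ∈ C
    have hab' : (a : ι) ≠ b := fun h => hab (Subtype.ext h)
    rw [transvection_eq_emb, show extS f (emb hab (uElt c)) = emb hab' (uElt c) by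
      rw [emb, emb, extS_extS]
      congr 2
      ext x
      fin_cases x <;> rfl]
    rcases eq_or_ne (a : ι) z with haz | haz
    · have key : ∀ (x y : ι) (h : x ≠ y), x = z → y ≠ p → y ≠ o → emb h (uElt c) ∈ C := by
        rintro x y h rfl hyp hyo
        exact hzb _ h hyp hyo _
      exact key _ _ hab' haz b.2.1 b.2.2
    rcases eq_or_ne (b : ι) z with hbz | hbz
    · have key : ∀ (x y : ι) (h : x ≠ y), y = z → x ≠ p → x ≠ o → emb h (uElt c) ∈ C := by
        rintro x y h rfl hxp hxo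
        rw [emb_symm_u h.symm]
        exact hzb _ h.symm hxp hxo _
      exact key _ _ hab' hbz a.2.1 a.2.2
    exact memC.2 (hmidc _ (blk_emb hab' haz hbz _) (blk_emb hab' a.2.1 b.2.1 _) (blk_emb hab' a.2.2 b.2.2 _))
  -- the torus
  have hconjD : ∀ c A, ψ (dElt c) * φ A * (ψ (dElt c))⁻¹ = φ (slD2 p o c A) := by
    intro c
    have hS : MonoidHom.eqLocus ((MulAut.conj (ψ (dElt c))).toMonoidHom.comp φ) (φ.comp (slD2 p o c)) = ⊤ := by
      refine gen_three hzp hzo hpo (fun A hz ho => ?_) (fun M => ?_) (fun M => ?_)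
      · show ψ (dElt c) * φ A * (ψ (dElt c))⁻¹ = φ (slD2 p o c A)
        have hfix : u * φ A * u⁻¹ = φ A := by rw [(H.mid A hz ho).eq, mul_inv_cancel_right]
        have hA : emb hpo (dElt c) * A * (emb hpo (dElt c))⁻¹ = slD2 p o c A := toGL_inj (by
          rw [slD2_blk ho, map_mul, map_mul, map_inv, emb_dElt, ← map_inv (dg o),
            show ∀ a b d : GL ι F, a * b * d * (a * b)⁻¹ = a * (b * d * b⁻¹) * a⁻¹ from fun a b d => by group,
            (dg_comm_blk ho _).eq, mul_inv_cancel_right])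
        have hz' : Blk z (Matrix.SpecialLinearGroup.toGL (slD2 p o c A) : GL ι F) := by
          rw [slD2_blk ho, ← map_inv]
          exact ((blk_dg hzp c).mul hz).mul (blk_dg hzp _)
        have ho' : Blk o (Matrix.SpecialLinearGroup.toGL (slD2 p o c A) : GL ι F) := by
          rw [slD2_blk ho, ← map_inv]
          exact ((blk_dg hpo.symm c).mul ho).mul (blk_dg hpo.symm _)
        rw [hψ]
        calc u * φ (emb hpo (dElt c)) * u⁻¹ * φ A * (u * φ (emb hpo (dElt c)) * u⁻¹)⁻¹
            = u * (φ (emb hpo (dElt c)) * (u⁻¹ * φ A * u) * (φ (emb hpo (dElt c)))⁻¹) * u⁻¹ := by group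
          _ = u * φ (slD2 p o c A) * u⁻¹ := by
              rw [show u⁻¹ * φ A * u = φ A by rw [hui]; rwa [hui] at hfix, ← map_inv φ, ← map_mul, ← map_mul, hA]
          _ = φ (slD2 p o c A) := by rw [(H.mid _ hz' ho').eq, mul_inv_cancel_right]
      · show ψ (dElt c) * φ (emb hzo M) * (ψ (dElt c))⁻¹ = φ (slD2 p o c (emb hzo M))
        rw [slD2_emb_of hzo hzp hpo, ← w_dConj_conj c M, ← H.zo, hψ]
        have hA : emb hpo (dElt c) * emb hzo (wElt F * M * (wElt F)⁻¹) * (emb hpo (dElt c))⁻¹ =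
            emb hzo (dConj c (wElt F * M * (wElt F)⁻¹)) := by
          generalize wElt F * M * (wElt F)⁻¹ = N
          have h1 := slD_emb hzo c⁻¹ N
          rw [inv_inv] at h1
          rw [← h1]
          refine toGL_inj ?_
          rw [toGL_slD, map_mul, map_mul, map_inv, emb_dElt, ← map_inv (dg o),
            show ∀ a b d : GL ι F, a * b * d * (a * b)⁻¹ = a * (b * d * b⁻¹) * a⁻¹ from fun a b d => by group,
            ← toGL_slD, h1, (dg_comm_blk (blk_emb hzo hzp hpo.symm _) c).eq, mul_inv_cancel_right]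
        rw [← hA, map_mul φ, map_mul φ, map_inv, ← H.zo]
        simp only [_root_.mul_inv_rev, hui, mul_assoc]
      · show ψ (dElt c) * φ (emb hpo M) * (ψ (dElt c))⁻¹ = φ (slD2 p o c (emb hpo M))
        rw [slD2_emb_pair, (hpc M _).symm.eq, mul_inv_cancel_right]
    intro A
    exact (show A ∈ MonoidHom.eqLocus ((MulAut.conj (ψ (dElt c))).toMonoidHom.comp φ) (φ.comp (slD2 p o c)) by
      rw [hS]; exact Subgroup.mem_top A)
  -- the triples
  have htri : ∀ k (hkp : k ≠ p), k ≠ o → k ≠ z →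
      ∃ χ : SL(3, F) →* G, (∀ M, χ (emb h01 M) = φ (emb hkp M)) ∧ ∀ M, χ (emb h12 M) = ψ M := by
    intro k hkp hko hkz
    let t : Fin 3 ↪ ι := ⟨![k, p, o], by
      intro a b hab
      fin_cases a <;> fin_cases b <;> simp_all [hkp.symm, hko.symm, hpo.symm]⟩
    have e : ∀ {a b : Fin 3} (h : a ≠ b) (h' : t a ≠ t b) (M : SL(2, F)), emb h' M = extS t (emb h M) := by
      intro a b h h' M
      rw [emb, emb, extS_extS]
      congr 2
      ext x
      fin_cases x <;> rfl
    refine ⟨(MulAut.conj u).toMonoidHom.comp (φ.comp (extS t)), fun M => ?_, fun M => ?_⟩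
    · show u * φ (extS t (emb h01 M)) * u⁻¹ = _
      rw [← e h01 hkp M]
      show u * φ (emb hkp M) * u⁻¹ = φ (emb hkp M)
      rw [(H.mid (emb hkp M) (blk_emb hkp hkz hzp.symm _) (blk_emb hkp hko hpo _)).eq, mul_inv_cancel_right]
    · show u * φ (extS t (emb h12 M)) * u⁻¹ = _
      rw [← e h12 hpo M, hψ]
      rfl
  refine ⟨hpo, hcomm, fun _ M M' => hpc M M', fun c A B h => ?_, fun _ => ?_, fun k hkp hko => ?_⟩
  · rw [hconjD, toGL_inj ((toGL_slD2 p o c A).trans h.symm)]
  · rw [← wElt_sq, map_mul, map_mul (emb hpo), map_mul φ, hψw,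
      show φ (emb hpo (wElt F)) * up * (φ (emb hpo (wElt F)) * up) =
        φ (emb hpo (wElt F)) * (up * φ (emb hpo (wElt F))) * up by group, hupw.eq,
      show φ (emb hpo (wElt F)) * (φ (emb hpo (wElt F)) * up) * up =
        φ (emb hpo (wElt F)) * φ (emb hpo (wElt F)) * (up * up) by group, hup2, mul_one]
  · rcases eq_or_ne k z with rfl | hkz
    swap
    · exact htri k hkp hko hkz
    obtain ⟨χ, h1, h2⟩ := htri j hjp hjo hzj.symm
    refine ⟨(MulAut.conj (φ (emb hzj (wElt F)))).toMonoidHom.comp χ, fun M => ?_, fun M => ?_⟩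
    · show φ (emb hzj (wElt F)) * χ (emb h01 M) * (φ (emb hzj (wElt F)))⁻¹ = _
      rw [h1, ← map_inv, ← map_mul, ← map_mul, emb_move hjp hkp hzj]
    · show φ (emb hzj (wElt F)) * χ (emb h12 M) * (φ (emb hzj (wElt F)))⁻¹ = _
      rw [h2, (hwzj M).eq, mul_inv_cancel_right]

theorem closure_of_few (hzo : z ≠ o) (hzp : z ≠ p) (hpo : p ≠ o) (hzj : z ≠ j) (H : Few hzo hzp hpo hzj φ u) :
    Subgroup.closure (Set.range φ ∪ {u}) ≤ Subgroup.closure (Set.range φ ∪ Set.range (psiU hpo φ u)) := by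
  refine (Subgroup.closure_le _).2 ?_
  have hφ : ∀ A, φ A ∈ Subgroup.closure (Set.range φ ∪ Set.range (psiU hpo φ u)) := fun A =>
    Subgroup.subset_closure (Or.inl ⟨A, rfl⟩)
  have hu : u ∈ Subgroup.closure (Set.range φ ∪ Set.range (psiU hpo φ u)) := by
    have hm : (φ (emb hzp (wElt F)))⁻¹ * (φ (emb hpo (wElt F)))⁻¹ * psiU hpo φ u (wElt F) * φ (emb hzp (wElt F)) ∈
        Subgroup.closure (Set.range φ ∪ Set.range (psiU hpo φ u)) :=
      mul_mem (mul_mem (mul_mem (inv_mem (hφ _)) (inv_mem (hφ _))) (Subgroup.subset_closure (Or.inr ⟨_, rfl⟩)))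
      (hφ _)
    rwa [← H.word] at hm
  rintro x (⟨A, rfl⟩ | rfl)
  · exact hφ A
  · exact hu

end few

end CfsgLib.Pres.DnN
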