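import Cfsg.Agent.Lib.Pres.DnCosets

/-!
# A group with the relations of `Ω⁺_{2n}` acts faithfully on the natural module

The induction is along the stabiliser of a singular vector.
-/

set_option autoImplicit false

namespace CfsgLib.Pres.DnN

open Matrix
open scoped MatrixGroups
open CfsgLib.Classical (uElt uElt_val uElt_add)
open CfsgLib.Pres.SpN

universe u v

variable {F : Type u} [Field F] {ι : Type} [Fintype ι] [DecidableEq ι]

/-- The natural module. -/
abbrev Nat2 (F : Type u) (ι : Type) := (ι → F) × (ι → F)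

/-- The root `SL₂` at two indices on the natural module. -/
def psiV (p o : ι) (M : SL(2, F)) (v : Nat2 F ι) : Nat2 F ι :=
  (v.1 + (M.1 0 0 * v.1 p + M.1 0 1 * v.2 o - v.1 p) • e F p +
      (M.1 0 0 * v.1 o - M.1 0 1 * v.2 p - v.1 o) • e F o,
    v.2 + (M.1 1 1 * v.2 p - M.1 1 0 * v.1 o - v.2 p) • e F p +
      (M.1 1 0 * v.1 p + M.1 1 1 * v.2 o - v.2 o) • e F o)

theorem psiV_x {p o : ι} (h : p ≠ o) (M : SL(2, F)) (v : Nat2 F ι) (i : ι) :
    (psiV p o M v).1 i = if i = p then M.1 0 0 * v.1 p + M.1 0 1 * v.2 o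
      else if i = o then M.1 0 0 * v.1 o - M.1 0 1 * v.2 p else v.1 i := by
  rcases eq_or_ne i p with rfl | hp
  · simp [psiV, h]
  rcases eq_or_ne i o with rfl | ho <;> simp [psiV, *, h.symm]

theorem psiV_y {p o : ι} (h : p ≠ o) (M : SL(2, F)) (v : Nat2 F ι) (i : ι) :
    (psiV p o M v).2 i = if i = p then M.1 1 1 * v.2 p - M.1 1 0 * v.1 o
      else if i = o then M.1 1 0 * v.1 p + M.1 1 1 * v.2 o else v.2 i := by
  rcases eq_or_ne i p with rfl | hp
  · simp [psiV, h]
  rcases eq_or_ne i o with rfl | ho <;> simp [psiV, *, h.symm]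

theorem psiV_w {p o : ι} (h : p ≠ o) (v : Nat2 F ι) : psiV p o (wElt F) v = wv p o v := by
  refine Prod.ext (funext fun i => ?_) (funext fun i => ?_)
  · rw [psiV_x h, wv_x h]; simp [wElt]
  · rw [psiV_y h, wv_y h]; simp [wElt]

theorem psiV_u {p o : ι} (h : p ≠ o) (t : F) (v : Nat2 F ι) :
    psiV p o (uElt t) v = act (alt (e F p) (e F o) t) 1 v := by
  rw [act_one_left, alt_mulVec, single_one_dotProduct, single_one_dotProduct]
  refine Prod.ext (funext fun i => ?_) (funext fun i => ?_)
  · rw [psiV_x h]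
    rcases eq_or_ne i p with rfl | hp
    · simp [uElt_val, h]
    rcases eq_or_ne i o with rfl | ho <;> simp [uElt_val, *, h.symm, sub_eq_add_neg]
  · rw [psiV_y h]
    rcases eq_or_ne i p with rfl | hp
    · simp [uElt_val]
    rcases eq_or_ne i o with rfl | ho <;> simp [uElt_val, *, h.symm]

theorem psiV_d {p o : ι} (h : p ≠ o) (c : Fˣ) (v : Nat2 F ι) :
    psiV p o (dElt c) v = act 0 (dg2 p o c) v := by
  simp only [act, Matrix.zero_mulVec, add_zero, ← map_inv, dg2_val h]
  refine Prod.ext (funext fun i => ?_) (funext fun i => ?_)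
  · rw [psiV_x h]
    dsimp only
    rw [Matrix.mulVec_diagonal]
    rcases eq_or_ne i p with rfl | hp
    · simp [dElt]
    rcases eq_or_ne i o with rfl | ho <;> simp [dElt, *]
  · rw [psiV_y h]
    dsimp only
    rw [Matrix.vecMul_diagonal]
    rcases eq_or_ne i p with rfl | hp
    · simp [dElt, mul_comm]
    rcases eq_or_ne i o with rfl | ho <;> simp [dElt, *, mul_comm]

theorem extG_dg2 {α : Type} [Fintype α] [DecidableEq α] (f : α ↪ ι) (a b : α) (c : Fˣ) :
    extG f (dg2 a b c) = dg2 (f a) (f b) c := by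
  rw [show (dg2 a b c : GL α F) = dg a c * dg b c from rfl, show (dg2 (f a) (f b) c : GL ι F) = dg (f a) c * dg (f b) c
    from rfl, map_mul, extG_dg, extG_dg]

variable {G : Type v} [Group G]

/-- An action compatible with the natural one. -/
structure Compat (p o : ι) (φ : Matrix.SpecialLinearGroup ι F →* G) (ψ : SL(2, F) →* G)
    (π : G → Nat2 F ι → Nat2 F ι) : Prop where
  one : ∀ v, π 1 v = v
  mul : ∀ g h v, π (g * h) v = π g (π h v)
  levi : ∀ B v, π (φ B) v = act 0 (Matrix.SpecialLinearGroup.toGL B) v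
  root : ∀ M v, π (ψ M) v = psiV p o M v

variable {p o : ι} {φ : Matrix.SpecialLinearGroup ι F →* G} {ψ : SL(2, F) →* G}
  (R : DRels p o φ ψ) {π : G → Nat2 F ι → Nat2 F ι} (C : Compat p o φ ψ π)
include R C

local notation "W" => ψ (wElt F)

theorem pi_cancel (g : G) (v : Nat2 F ι) : π g⁻¹ (π g v) = v := by rw [← C.mul, inv_mul_cancel, C.one]

theorem pi_cancel' (g : G) (v : Nat2 F ι) : π g (π g⁻¹ v) = v := by rw [← C.mul, mul_inv_cancel, C.one]

theorem pi_lam {A : GL ι F} (hA : Sqd A) (v : Nat2 F ι) : π (lam R A) v = act 0 A v := by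
  obtain ⟨B, c, rfl⟩ := hA.decomp p o
  rw [lam_mk, C.mul, C.root, psiV_d R.ne, C.levi, act_act, Matrix.mul_zero, Matrix.zero_mul, add_zero]

theorem pi_biv (a b : ι → F) (t : F) (v : Nat2 F ι) : π (biv R a b t) v = act (alt a b t) 1 v := by
  rcases eq_or_ne a 0 with rfl | ha
  · rw [biv_zero_left, C.one, show alt (0 : ι → F) b t = 0 by simp [alt], act_one]
  rcases exists_pair R.ne ha b with ⟨d, rfl⟩ | ⟨B, c, rfl, rfl⟩
  · rw [biv_dep, C.one, show alt a (d • a) t = 0 by simp [alt, Matrix.vecMulVec_smul, Matrix.smul_vecMulVec], act_one]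
  rw [biv_eq, ← map_inv, C.mul, C.mul, C.levi, C.levi, SpFour.X, C.root, psiV_u R.ne, act_act, act_act, map_inv,
    Matrix.mul_zero, Matrix.zero_mul, add_zero, zero_add, mul_one, mul_inv_cancel, congr_alt_alt]
  congr 1
  simp only [alt, Matrix.vecMulVec_smul, Matrix.smul_vecMulVec, ← smul_sub, smul_smul]
  rw [mul_comm]
  rfl

theorem pi_sG {S : Matrix ι ι F} (hS : IsAlt S) (v : Nat2 F ι) : π (sG R S) v = act S 1 v := by
  refine alt_induction (P := fun S => ∀ v, π (sG R S) v = act S 1 v) (fun v => ?_)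
    (fun U V _ _ hU hV v => ?_) (fun i j t _ v => ?_) hS v
  · rw [sG_zero, C.one, act_one]
  · rw [sG_add, C.mul, hV, hU, act_act]
    simp
  · rw [sG_alt, pi_biv R C]

theorem pi_other {k : ι} (hkp : k ≠ p) (hko : k ≠ o) : π (other φ ψ hkp hko) (e F k, 0) = (0, e F k) := by
  have h1 : π (φ (emb hkp.symm (wElt F))) (e F k, 0) = (e F p, 0) := by
    rw [C.levi]
    simp only [act, Matrix.zero_mulVec, add_zero, Matrix.zero_vecMul, toGL_coe', a_col R hkp]
  have h2 : π (W)⁻¹ (e F p, 0) = (0, e F o) := by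
    have h : π W (0, e F o) = (e F p, 0) := by
      rw [C.root, psiV_w R.ne]
      simp [wv, R.ne, R.ne.symm]
    rw [← h, pi_cancel R C]
  rw [other, C.mul, C.mul, h1, h2, C.levi]
  simp only [act, Matrix.zero_mulVec, add_zero, Matrix.mulVec_zero]
  refine Prod.ext rfl ?_
  show e F o ᵥ* _ = _
  rw [← map_inv, ← map_inv]
  exact row_w_inv hko

theorem stab_fix {k : ι} (hkp : k ≠ p) (hko : k ≠ o) {g : G} (hg : g ∈ stab R k) : π g (e F k, 0) = (e F k, 0) := by
  induction hg using Subgroup.closure_induction with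
  | mem x hx =>
    rcases hx with (⟨S, hS, rfl⟩ | ⟨A, hA, hAk, rfl⟩) | ⟨M, rfl⟩
    · rw [pi_sG R C hS, act_one_left]; simp
    · rw [pi_lam R C hA]; simp [act, hAk]
    · rw [C.root]
      simp [psiV, hkp, hkp.symm, hko, hko.symm]
  | one => exact C.one _
  | mul x y _ _ hx hy => rw [C.mul, hy, hx]
  | inv x _ hx => conv_lhs => rw [← hx, pi_cancel R C]

theorem pi_cos {k : ι} (hkp : k ≠ p) (hko : k ≠ o) {v : Nat2 F ι} (hv : Sing v) {g : G}
    (h : cos R hkp hko v = (g : G ⧸ stab R k)) : π g (e F k, 0) = v := by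
  obtain ⟨S, A, hS, hA, hrep⟩ := exists_rep R hkp hko hv
  rcases hrep with rfl | rfl
  · rw [cos_one R hkp hko hS hA] at h
    have h2 := stab_fix R C hkp hko (QuotientGroup.eq.1 h)
    rw [← mul_inv_cancel_left (sG R S * lam R A) g, C.mul, h2, C.mul, pi_lam R C hA, pi_sG R C hS, act_act, one_mul]
    simp
  · rw [cos_two R hkp hko hS hA] at h
    have h2 := stab_fix R C hkp hko (QuotientGroup.eq.1 h)
    rw [← mul_inv_cancel_left (sG R S * lam R A * other φ ψ hkp hko) g, C.mul, h2, C.mul, C.mul, pi_other R C hkp hko,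
      pi_lam R C hA, pi_sG R C hS, act_act, one_mul]
    simp

omit C in
theorem dRels_rest {k : ι} (hkp : k ≠ p) (hko : k ≠ o) :
    DRels (⟨p, hkp.symm⟩ : Rest k) ⟨o, hko.symm⟩ (φ.comp (extS (restEmb k))) ψ where
  ne h := R.ne (congrArg Subtype.val h)
  comm B M hp ho := R.comm _ M (by rw [toGL_extS]; exact blk_ext hp) (by rw [toGL_extS]; exact blk_ext ho)
  pc h M M' := by
    have e : extS (restEmb k) (emb h M) = emb R.ne M := by
      rw [emb, extS_extS, emb]
      congr 2
      ext x
      fin_cases x <;> rfl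
    show Commute (φ (extS (restEmb k) (emb h M))) (ψ M')
    rw [e]
    exact R.pc R.ne M M'
  conjD c A B h := R.conjD c _ _ (by
    rw [toGL_extS, toGL_extS, h, map_mul, map_mul, map_inv,
      extG_dg2]
    rfl)
  neg h := by
    have e : extS (restEmb k) (emb h (-1 : SL(2, F))) = emb R.ne (-1) := by
      rw [emb, extS_extS, emb]
      congr 2
      ext x
      fin_cases x <;> rfl
    show ψ (-1) = φ (extS (restEmb k) (emb h (-1)))
    rw [e]
    exact R.neg R.ne
  triple j hp ho := by
    obtain ⟨χ, h1, h2⟩ := R.triple (j : ι) (fun hh => hp (Subtype.ext hh)) (fun hh => ho (Subtype.ext hh))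
    refine ⟨χ, fun M => ?_, h2⟩
    rw [h1]
    show φ _ = φ (extS (restEmb k) (emb hp M))
    rw [emb, emb, extS_extS]
    congr 3

omit C in
theorem dRels_codRestrict (L : Subgroup G) (hφ : ∀ A, φ A ∈ L) (hψ : ∀ M, ψ M ∈ L) :
    DRels p o (φ.codRestrict L hφ) (ψ.codRestrict L hψ) where
  ne := R.ne
  comm B M hp ho := Subtype.ext (R.comm B M hp ho)
  pc h M M' := Subtype.ext (R.pc h M M')
  conjD c A B h := Subtype.ext (R.conjD c A B h)
  neg h := Subtype.ext (R.neg h)
  triple j hp ho := by
    obtain ⟨χ, h1, h2⟩ := R.triple j hp ho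
    have hmem : ∀ z, χ z ∈ L := by
      have hH : L.comap χ = ⊤ := CfsgLib.Classical.sl_transvection_induction _ fun a b hab d => by
        have m01 : ∀ M, χ (emb h01 M) ∈ L := fun M => by rw [h1]; exact hφ _
        have m12 : ∀ M, χ (emb h12 M) ∈ L := fun M => by rw [h2]; exact hψ _
        show χ _ ∈ L
        rw [transvection_eq_emb]
        fin_cases a <;> fin_cases b
        · exact absurd rfl hab
        · exact m01 _
        · show χ (emb h02 _) ∈ L
          rw [← three_e02, map_mul, map_mul, map_inv]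
          exact mul_mem (mul_mem (m01 _) (m12 _)) (inv_mem (m01 _))
        · show χ (emb h01.symm _) ∈ L
          rw [show emb h01.symm (uElt d) = emb h01 (lElt d) from toGL_inj (by
            rw [← trG_single, ← loG_single]
            refine Units.ext ?_
            rw [trG_val (by simp), loG_val (by simp)]
            ext a b
            simp [trM, loM, Matrix.vecMulVec_apply, Pi.single_apply])]
          exact m01 _
        · exact absurd rfl hab
        · exact m12 _
        · show χ (emb h02.symm _) ∈ L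
          rw [show (emb h02.symm (uElt d) : SL(3, F)) =
            emb h12 (wElt F) * emb h01 (lElt (-d)) * (emb h12 (wElt F))⁻¹ by
              rw [eq_mul_inv_iff_mul_eq]
              refine Subtype.ext ?_
              simp only [Matrix.SpecialLinearGroup.coe_mul]
              ext i j
              simp only [Matrix.mul_apply, Fin.sum_univ_three, emb_entry]
              fin_cases i <;> fin_cases j <;> simp [uElt_val, lElt_val, wElt, Matrix.one_apply],
            map_mul, map_mul, map_inv]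
          exact mul_mem (mul_mem (m12 _) (m01 _)) (inv_mem (m12 _))
        · show χ (emb h12.symm _) ∈ L
          rw [show emb h12.symm (uElt d) = emb h12 (lElt d) from toGL_inj (by
            rw [← trG_single, ← loG_single]
            refine Units.ext ?_
            rw [trG_val (by simp), loG_val (by simp)]
            ext a b
            simp [trM, loM, Matrix.vecMulVec_apply, Pi.single_apply])]
          exact m12 _
        · exact absurd rfl hab
      exact fun z => (show z ∈ L.comap χ by rw [hH]; exact Subgroup.mem_top z)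
    exact ⟨χ.codRestrict L hmem, fun M => Subtype.ext (h1 M), fun M => Subtype.ext (h2 M)⟩

omit C R in
/-- The Levi part of the stabiliser. -/
def levi (φ : Matrix.SpecialLinearGroup ι F →* G) (ψ : SL(2, F) →* G) (k : ι) : Subgroup G :=
  Subgroup.closure (Set.range (φ.comp (extS (restEmb k))) ∪ Set.range ψ)

omit C in
/-- The unipotent radical of the stabiliser. -/
def Qset (k : ι) : Set G :=
  {g | ∃ (S : Matrix ι ι F) (r : ι → F), IsAlt S ∧ (∀ i j, i ≠ k → j ≠ k → S i j = 0) ∧ r k = 0 ∧
    g = sG R S * lam R (loG k r)}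

omit C R in
theorem sqd_loG {k : ι} {r : ι → F} (hr : r k = 0) : Sqd (loG k r : GL ι F) := ⟨1, Units.ext (by
  rw [Matrix.GeneralLinearGroup.val_det_apply, loG_val hr, loM, Matrix.vecMulVec_eq Unit,
    Matrix.det_one_add_replicateCol_mul_replicateRow]
  simp [hr])⟩

omit C in
/-- The radical as a subgroup. -/
noncomputable def radical (k : ι) : Subgroup G where
  carrier := Qset R k
  one_mem' := ⟨0, 0, isAlt_zero, fun _ _ _ _ => rfl, rfl, by rw [sG_zero, loG_zero, lam_one, one_mul]⟩
  mul_mem' := by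
    rintro _ _ ⟨S, r, hS, hS0, hr, rfl⟩ ⟨S', r', hS', hS0', hr', rfl⟩
    refine ⟨S + (loG k r : Matrix ι ι F) * S' * (loG k r : Matrix ι ι F)ᵀ, r + r', hS.add (congr_alt hS' _),
      fun i j hi hj => ?_, by simp [hr, hr'], ?_⟩
    · rw [Matrix.add_apply, hS0 i j hi hj, mul_apply_zero hS0' (loG_col hr) i j hi hj, add_zero]
    · rw [sG_add, ← lam_sG R (sqd_loG hr) hS', loG_add hr hr', lam_mul R (sqd_loG hr) (sqd_loG hr')]
      group
  inv_mem' := by
    rintro _ ⟨S, r, hS, hS0, hr, rfl⟩
    have hr' : (-r) k = 0 := by simp [hr]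
    refine ⟨(loG k (-r) : Matrix ι ι F) * (-S) * (loG k (-r) : Matrix ι ι F)ᵀ, -r, congr_alt hS.neg _, ?_, hr', ?_⟩
    · exact mul_apply_zero (fun i j hi hj => by rw [Matrix.neg_apply, hS0 i j hi hj, neg_zero]) (loG_col hr')
    · rw [← lam_sG R (sqd_loG hr') hS.neg, sG_neg, loG_neg hr, lam_inv R (sqd_loG hr)]
      group

omit C in
theorem sG_mem_radical {k : ι} {S : Matrix ι ι F} (hS : IsAlt S) (h0 : ∀ i j, i ≠ k → j ≠ k → S i j = 0) :
    sG R S ∈ radical R k :=
  ⟨S, 0, hS, h0, rfl, by rw [loG_zero, lam_one, mul_one]⟩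

omit C in
theorem lo_mem_radical {k : ι} {r : ι → F} (hr : r k = 0) : lam R (loG k r) ∈ radical R k :=
  ⟨0, r, isAlt_zero, fun _ _ _ _ => rfl, hr, by rw [sG_zero, one_mul]⟩

omit C in
/-- Elements conjugating the radical into itself. -/
def Pres1 (k : ι) (g : G) : Prop := ∀ q ∈ radical R k, g * q * g⁻¹ ∈ radical R k

omit C in
theorem pres_of {k : ι} {g : G}
    (hS : ∀ S : Matrix ι ι F, IsAlt S → (∀ i j, i ≠ k → j ≠ k → S i j = 0) → g * sG R S * g⁻¹ ∈ radical R k)
    (hr : ∀ r : ι → F, r k = 0 → g * lam R (loG k r) * g⁻¹ ∈ radical R k) : Pres1 R k g := by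
  rintro _ ⟨S, r, hS', hS0, hr', rfl⟩
  rw [show g * (sG R S * lam R (loG k r)) * g⁻¹ = (g * sG R S * g⁻¹) * (g * lam R (loG k r) * g⁻¹) by group]
  exact mul_mem (hS S hS' hS0) (hr r hr')

omit C in
theorem pres_ext {k : ι} {E : GL ι F} (hE : Sqd E) (hB : Blk k E) : Pres1 R k (lam R E) := by
  refine pres_of R (fun S hS h0 => ?_) fun r hr => ?_
  · rw [lam_sG R hE hS]
    refine sG_mem_radical R (congr_alt hS _) (mul_apply_zero h0 fun i hi => ?_)
    have := congrFun hB.1 i
    rwa [Matrix.mulVec_single_one, Matrix.col_apply, Pi.single_eq_of_ne hi] at this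
  · rw [← lam_inv R hE, ← lam_mul R hE (sqd_loG hr), ← lam_mul R (hE.mul (sqd_loG hr)) hE.inv]
    have hr2 : (r ᵥ* ((E⁻¹ : GL ι F) : Matrix ι ι F)) k = 0 := by
      rw [← dotProduct_single_one (r ᵥ* ((E⁻¹ : GL ι F) : Matrix ι ι F)) k, ← Matrix.dotProduct_mulVec, hB.inv.1,
        dotProduct_single_one, hr]
    rw [show E * loG k r * E⁻¹ = loG k (r ᵥ* ((E⁻¹ : GL ι F) : Matrix ι ι F)) from Units.ext (by
      rw [Units.val_mul, Units.val_mul, loG_val hr, loG_val hr2, loM, loM, mul_add, add_mul, mul_one,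
        Units.mul_inv, Matrix.mul_vecMulVec, Matrix.vecMulVec_mul, hB.1])]
    exact lo_mem_radical R hr2

omit C in
theorem pres_x {k : ι} (hkp : k ≠ p) (hko : k ≠ o) (t : F) : Pres1 R k (ψ (uElt t)) := by
  set E := alt (e F p) (e F o) t with hE
  have hEa : IsAlt E := isAlt_alt _ _ _
  have hx : ψ (uElt t) = sG R E := by rw [hE, sG_alt, biv_po]; rfl
  refine pres_of R (fun S hS h0 => ?_) fun r hr => ?_
  · rw [hx, ← sG_add, ← sG_neg, ← sG_add, show E + S + -E = S by abel]
    exact sG_mem_radical R hS h0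
  · rw [hx, show sG R E * lam R (loG k r) * (sG R E)⁻¹ =
      sG R E * (lam R (loG k r) * sG R (-E) * (lam R (loG k r))⁻¹) * lam R (loG k r) by
        rw [sG_neg]; group, lam_sG R (sqd_loG hr) hEa.neg, ← sG_add]
    refine mul_mem (sG_mem_radical R (hEa.add (congr_alt hEa.neg _)) fun i j hi hj => ?_) (lo_mem_radical R hr)
    rw [loG_val hr, Matrix.add_apply, Matrix.mul_neg, Matrix.neg_mul, Matrix.neg_apply, hE, congr_alt_alt]
    simp [alt_apply, loM, e, Matrix.vecMulVec_apply, Pi.single_apply, Matrix.one_apply, hi, hj]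

omit C in
theorem pres_w {k : ι} (hkp : k ≠ p) (hko : k ≠ o) : Pres1 R k W := by
  refine pres_of R (fun S hS h0 => ?_) fun r hr => ?_
  · have hpo : S p o = 0 := h0 p o hkp.symm hko.symm
    rw [w_sG R hS hpo, mul_inv_cancel_right]
    have hu : ∀ a, k ≠ a → (fun i => S i a) = Pi.single k (S k a) := fun a ha => funext fun i => by
      rcases eq_or_ne i k with rfl | hi
      · simp
      · simp [hi, h0 i a hi ha.symm]
    have htl : ∀ (a : ι) (c : F), k ≠ a → trG a (Pi.single k c) = loG k (Pi.single a c) := fun a c ha =>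
      Units.ext (by
        rw [trG_val (by simp [ha.symm]), loG_val (by simp [ha])]
        ext i j
        simp [trM, loM, Matrix.vecMulVec_apply, Pi.single_apply])
    refine mul_mem (sG_mem_radical R (erase2_isAlt p o hS) fun i j hi hj => ?_) ?_
    · simp [erase2, h0 i j hi hj]
    · rw [hu p hkp, hu o hko, ← Pi.single_neg, htl o _ hko, htl p _ hkp,
        lam_mul R (sqd_loG (by simp [hko])) (sqd_loG (by simp [hkp]))]
      exact mul_mem (lo_mem_radical R (by simp [hko])) (lo_mem_radical R (by simp [hkp]))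
  · set r' := Function.update (Function.update r p 0) o 0 with hr'
    have hr'p : r' p = 0 := by simp [hr', R.ne]
    have hr'o : r' o = 0 := by simp [hr']
    have h1 : r' k = 0 := by simp [hr', hkp, hko, hr]
    have h2 : (Pi.single p (r p) : ι → F) k = 0 := by simp [hkp]
    have h3 : (Pi.single o (r o) : ι → F) k = 0 := by simp [hko]
    have h23 : (Pi.single p (r p) + Pi.single o (r o) : ι → F) k = 0 := by simp [hkp, hko]
    rw [show r = r' + (Pi.single p (r p) + Pi.single o (r o)) from funext fun i => by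
      rcases eq_or_ne i p with rfl | hip
      · simp [hr', R.ne]
      rcases eq_or_ne i o with rfl | hio <;> simp [hr', *], loG_add h1 h23, loG_add h2 h3,
      lam_mul R (sqd_loG h1) ((sqd_loG h2).mul (sqd_loG h3)), lam_mul R (sqd_loG h2) (sqd_loG h3),
      show W * (lam R (loG k r') * (lam R (loG k (Pi.single p (r p))) * lam R (loG k (Pi.single o (r o))))) * W⁻¹ =
        (W * lam R (loG k r') * W⁻¹) * ((W * lam R (loG k (Pi.single p (r p))) * W⁻¹) *
          (W * lam R (loG k (Pi.single o (r o))) * W⁻¹)) by group]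
    refine mul_mem ?_ (mul_mem ?_ ?_)
    · have hB : ∀ a, k ≠ a → r' a = 0 → Blk a (loG k r') := fun a ha hz => by
        refine ⟨?_, ?_⟩ <;> rw [loG_val h1, loM] <;> funext i <;>
          simp [Matrix.add_mulVec, Matrix.vecMul_add, Matrix.vecMulVec_mulVec, Matrix.vecMul_vecMulVec,
            Matrix.one_apply, Matrix.vecMulVec_apply, Pi.single_apply, hz, ha, ha.symm, eq_comm]
      rw [(w_blk R (sqd_loG h1) (hB p hkp hr'p) (hB o hko hr'o)).eq, mul_inv_cancel_right]
      exact lo_mem_radical R h1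
    · rw [show loG k (Pi.single p (r p)) = trG p (Pi.single k (r p)) from Units.ext (by
        rw [loG_val h2, trG_val (by simp [hkp.symm])]
        ext i j
        simp [trM, loM, Matrix.vecMulVec_apply, Pi.single_apply]),
        w_tr_p R (by simp [hkp.symm]) (by simp [hko.symm]), ← sG_alt]
      refine sG_mem_radical R (isAlt_alt _ _ _) fun i j hi hj => ?_
      simp [alt_apply, hi, hj]
    · rw [show loG k (Pi.single o (r o)) = trG o (Pi.single k (r o)) from Units.ext (by
        rw [loG_val h3, trG_val (by simp [hko.symm])]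
        ext i j
        simp [trM, loM, Matrix.vecMulVec_apply, Pi.single_apply]),
        w_tr_o R (by simp [hkp.symm]) (by simp [hko.symm]), ← sG_alt]
      refine sG_mem_radical R (isAlt_alt _ _ _) fun i j hi hj => ?_
      simp [alt_apply, hi, hj]

omit C in
theorem levi_le_normalizer {k : ι} (hkp : k ≠ p) (hko : k ≠ o) :
    levi φ ψ k ≤ Subgroup.normalizer (radical R k : Set G) := by
  set N := Subgroup.normalizer (radical R k : Set G) with hN
  have mem : ∀ g, Pres1 R k g → Pres1 R k g⁻¹ → g ∈ N := fun g h1 h2 =>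
    Subgroup.mem_normalizer_iff.2 fun q => ⟨h1 q, fun hq => by
      have := h2 _ hq
      convert this using 1
      group⟩
  have hext : ∀ A : GL ι F, Sqd A → Blk k A → lam R A ∈ N := fun A hA hB =>
    mem _ (pres_ext R hA hB) (by rw [← lam_inv R hA]; exact pres_ext R hA.inv hB.inv)
  have hd : ψ (dElt (-1)) ∈ N := by
    have := hext (dg2 p o (-1)) (sqd_dg2 p o _) ⟨by
        show _ *ᵥ e F k = _
        rw [dg2_mulVec R.ne, if_neg (by simp [hkp, hko]), one_smul], by
        funext i
        rcases eq_or_ne i k with rfl | hi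
        · simp [dg2_val R.ne, Matrix.vecMul_diagonal, hkp, hko]
        · simp [dg2_val R.ne, Matrix.vecMul_diagonal, hi]⟩
    rwa [lam_dg2] at this
  have hx : ∀ t, ψ (uElt t) ∈ N := fun t =>
    mem _ (pres_x R hkp hko t) (by rw [← map_inv, ← uElt_neg]; exact pres_x R hkp hko (-t))
  have hw : W ∈ N := by
    refine mem _ (pres_w R hkp hko) ?_
    rw [show W⁻¹ = ψ (dElt (-1)) * W by
      rw [← map_inv, ← map_mul]
      congr 1
      refine Subtype.ext ?_
      rw [Matrix.SpecialLinearGroup.coe_mul, wElt_inv_val']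
      ext i j
      fin_cases i <;> fin_cases j <;> simp [dElt, wElt, Matrix.mul_apply, Fin.sum_univ_two]]
    intro q hq
    rw [show ∀ a b : G, a * b * q * (a * b)⁻¹ = a * (b * q * b⁻¹) * a⁻¹ from fun a b => by group]
    exact (Subgroup.mem_normalizer_iff.1 hd _).1 (pres_w R hkp hko q hq)
  rw [levi, Subgroup.closure_le]
  rintro _ (⟨A, rfl⟩ | ⟨M, rfl⟩)
  · rw [MonoidHom.comp_apply, ← lam_sl R]
    exact hext _ (sqd_sl _) (by rw [toGL_extS]; exact extG_fix k _)
  refine KnownB.SLnSt.range_le (fun t => ?_) (fun t => ?_) M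
  · rw [show KnownB.SLnSt.up t = uElt t from Subtype.ext (by rw [uElt_val]; rfl)]
    exact hx t
  · rw [show KnownB.SLnSt.lo t = wElt F * uElt (-t) * (wElt F)⁻¹ from Subtype.ext (by
      rw [← lElt, lElt_val]; rfl), map_mul, map_mul, map_inv]
    exact mul_mem (mul_mem hw (hx _)) (inv_mem hw)

omit C in
theorem stab_le {k : ι} (hkp : k ≠ p) (hko : k ≠ o) : stab R k ≤ radical R k ⊔ levi φ ψ k := by
  set p' : Rest k := ⟨p, hkp.symm⟩
  set o' : Rest k := ⟨o, hko.symm⟩
  have hne' : p' ≠ o' := fun h => R.ne (congrArg Subtype.val h)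
  have hbiv : ∀ (i j : Rest k) (t : F), biv R (e F (i : ι)) (e F (j : ι)) t ∈ levi φ ψ k := by
    intro i j t
    rcases eq_or_ne i j with rfl | hij
    · rw [biv_self]; exact one_mem _
    rcases exists_pair hne' (v := e F i) (fun h => one_ne_zero (α := F) (by simpa using congrFun h i)) (e F j) with
      ⟨d, hd⟩ | ⟨B, c, hB1, hB2⟩
    · exact absurd (congrFun hd j) (by simp [hij.symm])
    have hcol : ∀ (a : Rest k) (w : Rest k → F), (B : Matrix (Rest k) (Rest k) F) *ᵥ e F a = w →
        ((extS (restEmb k) B : Matrix.SpecialLinearGroup ι F) : Matrix ι ι F) *ᵥ e F (a : ι) =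
          fun l => if h : l = k then 0 else w ⟨l, h⟩ := fun a w hw => by
      have := extG_mulVec (Matrix.SpecialLinearGroup.toGL B) a
      rw [← toGL_extS] at this
      simpa [toGL_coe', hw] using this
    have e1 : ((extS (restEmb k) B : Matrix.SpecialLinearGroup ι F) : Matrix ι ι F) *ᵥ e F p = e F (i : ι) := by
      rw [show e F p = e F ((p' : Rest k) : ι) from rfl, hcol p' _ hB1]
      funext l
      split_ifs with h
      · simp [h, i.2.symm]
      · simp [Pi.single_apply, Subtype.ext_iff]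
    have e2 : (c : F) • (((extS (restEmb k) B : Matrix.SpecialLinearGroup ι F) : Matrix ι ι F) *ᵥ e F o) =
        e F (j : ι) := by
      rw [show e F o = e F ((o' : Rest k) : ι) from rfl, hcol o' _ rfl]
      funext l
      rw [Pi.smul_apply]
      split_ifs with h
      · simp [h, j.2.symm]
      · rw [← Pi.smul_apply, hB2]
        simp [Pi.single_apply, Subtype.ext_iff]
    rw [← e1, ← e2, biv_eq]
    exact mul_mem (mul_mem (Subgroup.subset_closure (Or.inl ⟨B, rfl⟩)) (Subgroup.subset_closure (Or.inr ⟨_, rfl⟩)))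
      (inv_mem (Subgroup.subset_closure (Or.inl ⟨B, rfl⟩)))
  rw [stab, Subgroup.closure_le]
  rintro _ ((⟨S, hS, rfl⟩ | ⟨A, hA, hAk, rfl⟩) | ⟨M, rfl⟩)
  · have he : IsAlt (eraseRC k S) := by
      refine ⟨?_, fun i => by simp [eraseRC, hS.2]⟩
      ext i j
      simp [eraseRC, or_comm, hS.apply i j]
      split_ifs <;> simp
    rw [SetLike.mem_coe, show S = (S + -eraseRC k S) + eraseRC k S by rw [neg_add_cancel_right], sG_add]
    refine mul_mem (Subgroup.mem_sup_left (sG_mem_radical R (hS.add he.neg) fun i j hi hj => ?_))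
      (Subgroup.mem_sup_right ?_)
    · simp [eraseRC, hi, hj]
    · refine alt_induction (P := fun S => sG R (eraseRC k S) ∈ levi φ ψ k) ?_ (fun U V _ _ hU hV => ?_)
        (fun i j t _ => ?_) hS
      · rw [eraseRC_zero, sG_zero]; exact one_mem _
      · rw [eraseRC_add, sG_add]; exact mul_mem hU hV
      · by_cases h : i = k ∨ j = k
        · rw [show eraseRC k (alt (e F i) (e F j) t) = 0 by
            ext a b
            simp only [eraseRC, Matrix.of_apply, Matrix.zero_apply, alt_apply]
            split_ifs with hab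
            · rfl
            · simp only [not_or] at hab
              rcases h with rfl | rfl <;> simp [hab.1, hab.2], sG_zero]
          exact one_mem _
        · simp only [not_or] at h
          rw [show eraseRC k (alt (e F i) (e F j) t) = alt (e F i) (e F j) t by
            ext a b
            simp only [eraseRC, Matrix.of_apply, alt_apply]
            split_ifs with hab
            · rcases hab with rfl | rfl <;> simp [Ne.symm h.1, Ne.symm h.2]
            · rfl, sG_alt]
          exact hbiv ⟨i, h.1⟩ ⟨j, h.2⟩ t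
  · obtain ⟨r, hr, B, hB, rfl⟩ := exists_lo_blk hAk
    obtain ⟨A0, hA0⟩ := exists_ext hB
    have hBs : Sqd B := by
      rw [show B = (loG k r)⁻¹ * (loG k r * B) by rw [inv_mul_cancel_left]]
      exact (sqd_loG hr).inv.mul hA
    obtain ⟨C0, c, hCc⟩ := (show Sqd A0 from by
      obtain ⟨d, hd⟩ := hBs
      exact ⟨d, by rw [← extG_det (restEmb k) A0, hA0, hd]⟩).decomp p' o'
    rw [SetLike.mem_coe, lam_mul R (sqd_loG hr) hBs]
    refine mul_mem (Subgroup.mem_sup_left (lo_mem_radical R hr)) (Subgroup.mem_sup_right ?_)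
    rw [← hA0, ← hCc, map_mul, ← toGL_extS, extG_dg2, show restEmb k p' = p from rfl, show restEmb k o' = o from rfl,
      lam_mk]
    exact mul_mem (Subgroup.subset_closure (Or.inl ⟨_, rfl⟩)) (Subgroup.subset_closure (Or.inr ⟨_, rfl⟩))
  · exact Subgroup.mem_sup_right (Subgroup.subset_closure (Or.inr ⟨M, rfl⟩))

omit C R in
/-- Extension by zero. -/
def incV (k : ι) (v : Nat2 F (Rest k)) : Nat2 F ι :=
  (fun i => if h : i = k then 0 else v.1 ⟨i, h⟩, fun i => if h : i = k then 0 else v.2 ⟨i, h⟩)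

omit C R in
theorem incV_injective (k : ι) : Function.Injective (incV (F := F) k) := by
  intro v w h
  refine Prod.ext (funext fun i => ?_) (funext fun i => ?_)
  · simpa [incV, i.2] using congrFun (congrArg Prod.fst h) i
  · simpa [incV, i.2] using congrFun (congrArg Prod.snd h) i

omit C R in
theorem extG_act {k : ι} (A : GL (Rest k) F) (v : Nat2 F (Rest k)) :
    act 0 (extG (restEmb k) A) (incV k v) = incV k (act 0 A v) := by
  simp only [act, Matrix.zero_mulVec, add_zero, ← map_inv]
  refine Prod.ext (funext fun i => ?_) (funext fun i => ?_)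
  · show ∑ j, _ = _
    rw [Fintype.sum_eq_add_sum_subtype_ne _ k]
    simp only [incV, dif_pos, mul_zero, zero_add]
    by_cases hi : i = k
    · subst hi
      rw [dif_pos rfl]
      refine Finset.sum_eq_zero fun j _ => ?_
      rw [extG_val, extM_apply_left _ _ ne_restEmb, Matrix.one_apply_ne j.2.symm, zero_mul]
    · rw [dif_neg hi]
      refine Finset.sum_congr rfl fun j _ => ?_
      rw [dif_neg j.2, extG_val]
      congr 1
      exact extM_apply (restEmb k) _ ⟨i, hi⟩ j
  · show ∑ j, _ = _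
    rw [Fintype.sum_eq_add_sum_subtype_ne _ k]
    simp only [incV, dif_pos, zero_mul, zero_add]
    by_cases hi : i = k
    · subst hi
      rw [dif_pos rfl]
      refine Finset.sum_eq_zero fun j _ => ?_
      rw [extG_val, extM_apply_right _ _ ne_restEmb, Matrix.one_apply_ne j.2, mul_zero]
    · rw [dif_neg hi]
      refine Finset.sum_congr rfl fun j _ => ?_
      rw [dif_neg j.2, extG_val]
      congr 1
      exact extM_apply (restEmb k) _ j ⟨i, hi⟩

omit C in
theorem psiV_inc {k : ι} (hkp : k ≠ p) (hko : k ≠ o) (M : SL(2, F)) (v : Nat2 F (Rest k)) :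
    psiV p o M (incV k v) = incV k (psiV (⟨p, hkp.symm⟩ : Rest k) ⟨o, hko.symm⟩ M v) := by
  have hne : (⟨p, hkp.symm⟩ : Rest k) ≠ ⟨o, hko.symm⟩ := fun h => R.ne (congrArg Subtype.val h)
  refine Prod.ext (funext fun i => ?_) (funext fun i => ?_)
  · rw [psiV_x R.ne]
    show _ = if h : i = k then (0 : F) else _
    by_cases hi : i = k
    · subst hi; simp [incV, hkp, hko]
    · simp [incV, hi, psiV_x hne, hkp.symm, hko.symm, Subtype.ext_iff]
  · rw [psiV_y R.ne]
    show _ = if h : i = k then (0 : F) else _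
    by_cases hi : i = k
    · subst hi; simp [incV, hkp, hko]
    · simp [incV, hi, psiV_y hne, hkp.symm, hko.symm, Subtype.ext_iff]

theorem levi_fix {k : ι} (hkp : k ≠ p) (hko : k ≠ o) {g : G} (hg : g ∈ levi φ ψ k) :
    (∀ v, ∃ v', π g (incV k v) = incV k v') ∧ (∀ v, ∃ v', π g⁻¹ (incV k v) = incV k v') ∧
      π g (e F k, 0) = (e F k, 0) ∧ π g (0, e F k) = (0, e F k) := by
  induction hg using Subgroup.closure_induction with
  | mem x hx =>
    rcases hx with ⟨A, rfl⟩ | ⟨M, rfl⟩
    · rw [MonoidHom.comp_apply, ← map_inv, ← map_inv]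
      refine ⟨fun v => ⟨_, by rw [C.levi, toGL_extS, extG_act]⟩, fun v => ⟨_, by rw [C.levi, toGL_extS, extG_act]⟩, ?_, ?_⟩
      · have hb : Blk k (extG (restEmb k) (Matrix.SpecialLinearGroup.toGL A) : GL ι F) := extG_fix k _
        rw [C.levi, toGL_extS]
        simp only [act, Matrix.zero_mulVec, add_zero, Matrix.zero_vecMul]
        rw [show (_ : Matrix ι ι F) *ᵥ e F k = e F k from hb.1]
      · have hb : Blk k (extG (restEmb k) (Matrix.SpecialLinearGroup.toGL A) : GL ι F) := extG_fix k _
        rw [C.levi, toGL_extS]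
        simp only [act, Matrix.zero_mulVec, add_zero, Matrix.mulVec_zero]
        rw [show e F k ᵥ* (((extG (restEmb k) (Matrix.SpecialLinearGroup.toGL A))⁻¹ : GL ι F) : Matrix ι ι F) = e F k
          from hb.inv.2]
    · rw [← map_inv]
      refine ⟨fun v => ⟨_, by rw [C.root, psiV_inc R hkp hko]⟩, fun v => ⟨_, by rw [C.root, psiV_inc R hkp hko]⟩, ?_, ?_⟩
      · rw [C.root]; simp [psiV, hkp, hkp.symm, hko, hko.symm]
      · rw [C.root]; simp [psiV, hkp, hkp.symm, hko, hko.symm]
  | one => exact ⟨fun v => ⟨v, C.one _⟩, fun v => ⟨v, by rw [inv_one, C.one]⟩, C.one _, C.one _⟩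
  | mul x y _ _ hx hy =>
    refine ⟨fun v => ?_, fun v => ?_, by rw [C.mul, hy.2.2.1, hx.2.2.1], by rw [C.mul, hy.2.2.2, hx.2.2.2]⟩
    · obtain ⟨a, ha⟩ := hy.1 v
      obtain ⟨b, hb⟩ := hx.1 a
      exact ⟨b, by rw [C.mul, ha, hb]⟩
    · obtain ⟨a, ha⟩ := hx.2.1 v
      obtain ⟨b, hb⟩ := hy.2.1 a
      exact ⟨b, by rw [_root_.mul_inv_rev, C.mul, ha, hb]⟩
  | inv x _ hx =>
    refine ⟨hx.2.1, by rw [inv_inv]; exact hx.1, ?_, ?_⟩
    · conv_lhs => rw [← hx.2.2.1, pi_cancel R C]
    · conv_lhs => rw [← hx.2.2.2, pi_cancel R C]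

omit C R in
theorem faithful_two {p o : ι} {φ : Matrix.SpecialLinearGroup ι F →* G} {ψ : SL(2, F) →* G} (R : DRels p o φ ψ)
    {π : G → Nat2 F ι → Nat2 F ι} (C : Compat p o φ ψ π) (hι : ∀ i, i = p ∨ i = o)
    (hgen : Subgroup.closure (Set.range φ ∪ Set.range ψ) = ⊤) (g : G) (hg : ∀ v, π g v = v) : g = 1 := by
  have hform : ∀ B : Matrix.SpecialLinearGroup ι F, ∃ N : SL(2, F), B = emb R.ne N := by
    intro B
    have hd : ((B : Matrix ι ι F).submatrix ![p, o] ![p, o]).det = 1 := by
      have hb : Function.Bijective ![p, o] := by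
        refine ⟨?_, fun i => ?_⟩
        · intro a b hab
          fin_cases a <;> fin_cases b <;> simp_all [R.ne, R.ne.symm]
        · rcases hι i with rfl | rfl
          exacts [⟨0, rfl⟩, ⟨1, rfl⟩]
      have := Matrix.det_submatrix_equiv_self (Equiv.ofBijective _ hb) (B : Matrix ι ι F)
      rw [B.2] at this
      exact this
    obtain ⟨N, hN⟩ : ∃ N : SL(2, F), (N : Matrix (Fin 2) (Fin 2) F) = (B : Matrix ι ι F).submatrix ![p, o] ![p, o] :=
      ⟨⟨_, hd⟩, rfl⟩
    refine ⟨N, Subtype.ext (Matrix.ext fun i j => ?_)⟩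
    change (B : Matrix ι ι F) i j = ((emb R.ne N : Matrix.SpecialLinearGroup ι F) : Matrix ι ι F) i j
    rw [emb_entry]
    rcases hι i with rfl | rfl <;> rcases hι j with rfl | rfl <;> simp [hN, R.ne, R.ne.symm]
  obtain ⟨N, M, rfl⟩ : ∃ N M, g = φ (emb R.ne N) * ψ M := by
    have hall : ∀ x ∈ Subgroup.closure (Set.range φ ∪ Set.range ψ), ∃ N M, x = φ (emb R.ne N) * ψ M := by
      intro x hx
      induction hx using Subgroup.closure_induction with
      | mem y hy =>
        rcases hy with ⟨B, rfl⟩ | ⟨M, rfl⟩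
        · obtain ⟨N, rfl⟩ := hform B
          exact ⟨N, 1, by rw [map_one ψ, mul_one]⟩
        · exact ⟨1, M, by rw [map_one, map_one, one_mul]⟩
      | one => exact ⟨1, 1, by simp⟩
      | mul a b _ _ ha hb =>
        obtain ⟨N, M, rfl⟩ := ha
        obtain ⟨N', M', rfl⟩ := hb
        refine ⟨N * N', M * M', ?_⟩
        rw [map_mul (emb (F := F) R.ne), map_mul φ, map_mul ψ, mul_assoc (φ (emb R.ne N)),
          ← mul_assoc (ψ M), ← (R.pc R.ne N' M).eq]
        group
      | inv a _ ha =>
        obtain ⟨N, M, rfl⟩ := ha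
        refine ⟨N⁻¹, M⁻¹, ?_⟩
        rw [map_inv (emb (F := F) R.ne), map_inv φ, map_inv ψ, _root_.mul_inv_rev,
          ((R.pc R.ne N M).inv_inv).eq]
    exact hall g (hgen ▸ Subgroup.mem_top g)
  have happ : ∀ v, act 0 (Matrix.SpecialLinearGroup.toGL (emb R.ne N)) (psiV p o M v) = v := fun v => by
    rw [← C.root, ← C.levi, ← C.mul, hg]
  have hx : ∀ v i, (((emb R.ne N : Matrix.SpecialLinearGroup ι F) : Matrix ι ι F) *ᵥ (psiV p o M v).1) i = v.1 i :=
    fun v i => by simpa [act] using congrFun (congrArg Prod.fst (happ v)) i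
  have hy : ∀ v i, ((psiV p o M v).2 ᵥ*
      (((Matrix.SpecialLinearGroup.toGL (emb R.ne N))⁻¹ : GL ι F) : Matrix ι ι F)) i = v.2 i := fun v i =>
    congrFun (congrArg Prod.snd (happ v)) i
  have a1 := hx (e F p, 0) p
  have a2 := hx (e F p, 0) o
  have a3 := hy (e F p, 0) o
  have a4 := hx (e F o, 0) p
  have a5 := hx (e F o, 0) o
  have a6 := hx (0, e F o) p
  rw [emb_inv_vecMul_apply] at a3
  simp [emb_mulVec_apply, psiV_x R.ne, psiV_y R.ne, R.ne, R.ne.symm] at a1 a2 a3 a4 a5 a6
  have hN00 : N.1 0 0 ≠ 0 := fun h => by rw [h, zero_mul] at a1; exact zero_ne_one a1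
  have hM00 : M.1 0 0 ≠ 0 := fun h => by rw [h, mul_zero] at a1; exact zero_ne_one a1
  have hN10 : N.1 1 0 = 0 := a2.resolve_right hM00
  have hM10 : M.1 1 0 = 0 := a3.resolve_left hN00
  have hN01 : N.1 0 1 = 0 := a4.resolve_right hM00
  have hM01 : M.1 0 1 = 0 := a6.resolve_left hN00
  have hdN := N.2
  have hdM := M.2
  rw [Matrix.det_fin_two, hN10, mul_zero, sub_zero] at hdN
  rw [Matrix.det_fin_two, hM10, mul_zero, sub_zero] at hdM
  have hNM : N.1 0 0 = N.1 1 1 := mul_right_cancel₀ hM00 (a1.trans a5.symm)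
  rw [← hNM] at hdN
  have hMval : M.1 0 0 = N.1 0 0 := mul_left_cancel₀ hN00 (a1.trans hdN.symm)
  have hM11 : M.1 1 1 = N.1 0 0 := mul_left_cancel₀ hM00 (hdM.trans (by rw [hMval]; exact hdN.symm))
  rcases mul_self_eq_one_iff.1 hdN with h | h
  · obtain rfl : N = 1 := Subtype.ext (Matrix.ext fun i j => by
      fin_cases i <;> fin_cases j <;> simp [hN10, hN01, ← hNM, h])
    obtain rfl : M = 1 := Subtype.ext (Matrix.ext fun i j => by
      fin_cases i <;> fin_cases j <;> simp [hM10, hM01, hM11, hMval])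
    simp
  · obtain rfl : N = -1 := Subtype.ext (Matrix.ext fun i j => by
      fin_cases i <;> fin_cases j <;> simp [hN10, hN01, ← hNM, h])
    obtain rfl : M = -1 := Subtype.ext (Matrix.ext fun i j => by
      fin_cases i <;> fin_cases j <;> simp [hM10, hM01, hM11, hMval])
    rw [R.neg R.ne, ← map_mul, ← map_mul, neg_one_mul, neg_neg, map_one, map_one]

omit C R in
/-- A group with the relations acts faithfully. -/
theorem faithful {F : Type u} [Field F] : ∀ (n : ℕ) (ι : Type) [Fintype ι] [DecidableEq ι],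
    Fintype.card ι = n + 2 → ∀ (G : Type v) [Group G] (p o : ι) (φ : Matrix.SpecialLinearGroup ι F →* G)
    (ψ : SL(2, F) →* G) (π : G → Nat2 F ι → Nat2 F ι), DRels p o φ ψ → Compat p o φ ψ π →
      Subgroup.closure (Set.range φ ∪ Set.range ψ) = ⊤ → ∀ g : G, (∀ v, π g v = v) → g = 1 := by
  intro n
  induction n with
  | zero =>
    intro ι _ _ hn G _ p o φ ψ π R C hgen g hg
    refine faithful_two R C (fun i => ?_) hgen g hg
    by_contra hi
    simp only [not_or] at hi
    have h3 : ({i, p, o} : Finset ι).card = 3 := by simp [hi.1, hi.2, R.ne]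
    have := Finset.card_le_univ ({i, p, o} : Finset ι)
    omega
  | succ n ih =>
    intro ι _ _ hn G _ p o φ ψ π R C hgen g hg
    obtain ⟨k, hk⟩ := Finset.exists_mem_notMem_of_card_lt_card
      (show ({p, o} : Finset ι).card < (Finset.univ : Finset ι).card by
        rw [Finset.card_univ, hn, Finset.card_pair R.ne]; omega)
    have hkp : k ≠ p := fun h => hk.2 (by simp [h])
    have hko : k ≠ o := fun h => hk.2 (by simp [h])
    obtain ⟨v, hv, hcos⟩ := cos_surjective R hkp hko hgen (g : G ⧸ stab R k)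
    have hvk := pi_cos R C hkp hko hv hcos
    rw [hg] at hvk
    subst hvk
    have h1 := cos_one R hkp hko (isAlt_zero (F := F) (ι := ι)) sqd_one
    rw [sG_zero, lam_one, one_mul, act_one, hcos] at h1
    have hgs : g ∈ stab R k := by
      have := QuotientGroup.eq.1 h1.symm
      simpa using this
    have hg' : g ∈ (↑(radical R k ⊔ levi φ ψ k) : Set G) := stab_le R hkp hko hgs
    rw [Subgroup.coe_mul_of_right_le_normalizer_left _ _ (levi_le_normalizer R hkp hko)] at hg'
    obtain ⟨q, hq, l, hl, hql⟩ := Set.mem_mul.1 hg'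
    obtain ⟨hl1, -, -, hl4⟩ := levi_fix R C hkp hko hl
    have hq1 : q = 1 := by
      obtain ⟨S, r, hS, hS0, hr, rfl⟩ := hq
      have h2 : act S (loG k r) ((0 : ι → F), e F k) = (0, e F k) := by
        have := hg (0, e F k)
        rwa [← hql, C.mul, hl4, C.mul, pi_lam R C (sqd_loG hr), pi_sG R C hS, act_act, one_mul, Units.val_one,
          Matrix.one_mul, Matrix.transpose_one, Matrix.mul_one, add_zero] at this
      simp only [act, Matrix.mulVec_zero, zero_add, ← loG_neg hr, loG_val (show (-r) k = 0 by simp [hr]), loM,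
        Matrix.vecMul_add, Matrix.vecMul_one, Matrix.vecMul_vecMulVec] at h2
      simp only [Prod.mk.injEq, single_one_dotProduct, Pi.single_eq_same, one_smul] at h2
      obtain ⟨hx2, hy2⟩ := h2
      have hr0 : r = 0 := by
        funext i
        have := congrFun hy2 i
        simpa using this
      subst hr0
      rw [neg_zero, add_zero, Matrix.mulVec_single_one] at hx2
      have hS1 : S = 0 := by
        ext i j
        rcases eq_or_ne j k with rfl | hj
        · exact congrFun hx2 i
        rcases eq_or_ne i k with rfl | hi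
        · rw [hS.apply j i, show S j i = 0 from congrFun hx2 j, neg_zero]; rfl
        · exact hS0 i j hi hj
      rw [hS1, sG_zero, loG_zero, lam_one, one_mul]
    rw [hq1, one_mul] at hql
    subst hql
    have hR' := dRels_rest R hkp hko
    have hφ : ∀ A, (φ.comp (extS (restEmb k))) A ∈ levi φ ψ k := fun A => Subgroup.subset_closure (Or.inl ⟨A, rfl⟩)
    have hψ : ∀ M, ψ M ∈ levi φ ψ k := fun M => Subgroup.subset_closure (Or.inr ⟨M, rfl⟩)
    let π' : levi φ ψ k → Nat2 F (Rest k) → Nat2 F (Rest k) := fun x v =>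
      ((levi_fix R C hkp hko x.2).1 v).choose
    have hπ' : ∀ (x : levi φ ψ k) v, π (x : G) (incV k v) = incV k (π' x v) := fun x v =>
      ((levi_fix R C hkp hko x.2).1 v).choose_spec
    have C' : Compat (⟨p, hkp.symm⟩ : Rest k) ⟨o, hko.symm⟩ ((φ.comp (extS (restEmb k))).codRestrict _ hφ)
        (ψ.codRestrict _ hψ) π' :=
      { one := fun v => incV_injective k (by rw [← hπ', Subgroup.coe_one, C.one])
        mul := fun x y v => incV_injective k (by rw [← hπ', ← hπ', ← hπ', Subgroup.coe_mul, C.mul])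
        levi := fun B v => incV_injective k (by
          rw [← hπ', ← extG_act, ← toGL_extS, ← C.levi]
          rfl)
        root := fun M v => incV_injective k (by
          rw [← hπ', ← psiV_inc R hkp hko, ← C.root]
          rfl) }
    have := ih (Rest k) (by rw [Fintype.card_subtype_compl, Fintype.card_subtype_eq, hn]; omega) (levi φ ψ k)
      ⟨p, hkp.symm⟩ ⟨o, hko.symm⟩ _ _ π' (dRels_codRestrict hR' (levi φ ψ k) hφ hψ) C' (by
        rw [eq_top_iff, ← Subgroup.map_le_map_iff_of_injective (f := (levi φ ψ k).subtype) Subtype.val_injective,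
          MonoidHom.map_closure, ← MonoidHom.range_eq_map, Subgroup.range_subtype, Set.image_union, ← Set.range_comp,
          ← Set.range_comp]
        exact le_refl _) ⟨l, hl⟩ (fun v => incV_injective k (by rw [← hπ', hg]))
    exact congrArg Subtype.val this

end CfsgLib.Pres.DnN
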