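import Cfsg.Agent.Lib.Pres.DnSiegel

/-!
# The Levi part, and moving past the Weyl element
-/

set_option autoImplicit false

namespace CfsgLib.Pres.DnN

open Matrix
open scoped MatrixGroups
open CfsgLib.Classical (uElt uElt_val uElt_add)
open CfsgLib.Pres.SpN

variable {F : Type*} [Field F] {ι : Type*} [Fintype ι] [DecidableEq ι]

theorem dg2_det {p o : ι} (c : Fˣ) : Matrix.GeneralLinearGroup.det (dg2 p o c) = c * c := by
  show Matrix.GeneralLinearGroup.det (dg p c * dg o c) = _
  rw [map_mul, dg_det, dg_det]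

theorem dg2_mulVec {p o : ι} (h : p ≠ o) (c : Fˣ) (i : ι) :
    (dg2 p o c : Matrix ι ι F) *ᵥ e F i = (if i = p ∨ i = o then (c : F) else 1) • e F i := by
  funext j
  rw [dg2_val h, Matrix.mulVec_diagonal, Pi.smul_apply, smul_eq_mul]
  rcases eq_or_ne j i with rfl | hji <;> simp [*]

theorem dg2_neg_one {p o : ι} (h : p ≠ o) :
    (Matrix.SpecialLinearGroup.toGL (emb h (-1)) : GL ι F) = dg2 p o (-1) := by
  rw [← SpFour.dElt_neg_one, emb_dElt]
  show dg p (-1) * (dg o (-1))⁻¹ = dg p (-1) * dg o (-1)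
  rw [← map_inv]
  simp

/-- Conjugation by the torus of two indices, on `SL`. -/
def slD2 (p o : ι) (c : Fˣ) : Matrix.SpecialLinearGroup ι F →* Matrix.SpecialLinearGroup ι F :=
  MonoidHom.mk' (fun A => ⟨((dg2 p o c * Matrix.SpecialLinearGroup.toGL A * (dg2 p o c)⁻¹ : GL ι F) : Matrix ι ι F), by
    rw [← Matrix.GeneralLinearGroup.val_det_apply, map_mul, map_mul, map_inv, mul_comm _ (Matrix.GeneralLinearGroup.det
      (Matrix.SpecialLinearGroup.toGL A)), mul_inv_cancel_right, Matrix.GeneralLinearGroup.val_det_apply]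
    exact A.2⟩) fun A B => toGL_inj (by
      refine Units.ext ?_
      show ((dg2 p o c * Matrix.SpecialLinearGroup.toGL (A * B) * (dg2 p o c)⁻¹ : GL ι F) : Matrix ι ι F) =
        ((dg2 p o c * Matrix.SpecialLinearGroup.toGL A * (dg2 p o c)⁻¹) *
          (dg2 p o c * Matrix.SpecialLinearGroup.toGL B * (dg2 p o c)⁻¹) : GL ι F).val
      rw [map_mul]
      congr 1
      group)

theorem toGL_slD2 (p o : ι) (c : Fˣ) (A : Matrix.SpecialLinearGroup ι F) :
    (Matrix.SpecialLinearGroup.toGL (slD2 p o c A) : GL ι F) =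
      dg2 p o c * Matrix.SpecialLinearGroup.toGL A * (dg2 p o c)⁻¹ := Units.ext rfl

/-- The determinant is a square. -/
def Sqd (A : GL ι F) : Prop := ∃ c : Fˣ, Matrix.GeneralLinearGroup.det A = c * c

theorem sqd_sl (B : Matrix.SpecialLinearGroup ι F) : Sqd (Matrix.SpecialLinearGroup.toGL B : GL ι F) :=
  ⟨1, Units.ext (by rw [Matrix.GeneralLinearGroup.val_det_apply, mul_one]; exact B.2)⟩

theorem sqd_one : Sqd (1 : GL ι F) := ⟨1, by rw [map_one, mul_one]⟩

theorem sqd_dg2 (p o : ι) (c : Fˣ) : Sqd (dg2 p o c) := ⟨c, dg2_det c⟩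

theorem Sqd.mul {A B : GL ι F} (hA : Sqd A) (hB : Sqd B) : Sqd (A * B) := by
  obtain ⟨a, ha⟩ := hA
  obtain ⟨b, hb⟩ := hB
  exact ⟨a * b, by rw [map_mul, ha, hb, mul_mul_mul_comm]⟩

theorem Sqd.inv {A : GL ι F} (hA : Sqd A) : Sqd A⁻¹ := by
  obtain ⟨a, ha⟩ := hA
  exact ⟨a⁻¹, by rw [map_inv, ha, mul_inv]⟩

theorem Sqd.decomp {A : GL ι F} (hA : Sqd A) (p o : ι) :
    ∃ (B : Matrix.SpecialLinearGroup ι F) (c : Fˣ), Matrix.SpecialLinearGroup.toGL B * dg2 p o c = A := by
  obtain ⟨c, hc⟩ := hA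
  refine ⟨⟨((A * (dg2 p o c)⁻¹ : GL ι F) : Matrix ι ι F), ?_⟩, c, ?_⟩
  · rw [← Matrix.GeneralLinearGroup.val_det_apply, map_mul, map_inv, hc, dg2_det, mul_inv_cancel, Units.val_one]
  · rw [show Matrix.SpecialLinearGroup.toGL (⟨((A * (dg2 p o c)⁻¹ : GL ι F) : Matrix ι ι F), _⟩ :
      Matrix.SpecialLinearGroup ι F) = A * (dg2 p o c)⁻¹ from Units.ext rfl, inv_mul_cancel_right]

/-- Erasing two rows and columns. -/
def erase2 (p o : ι) (S : Matrix ι ι F) : Matrix ι ι F :=
  Matrix.of fun i j => if i = p ∨ i = o ∨ j = p ∨ j = o then 0 else S i j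

theorem erase2_add (p o : ι) (S T : Matrix ι ι F) : erase2 p o (S + T) = erase2 p o S + erase2 p o T := by
  ext i j; simp [erase2]; split_ifs <;> simp

theorem erase2_zero (p o : ι) : erase2 p o (0 : Matrix ι ι F) = 0 := by ext i j; simp [erase2]

theorem erase2_isAlt (p o : ι) {S : Matrix ι ι F} (hS : IsAlt S) : IsAlt (erase2 p o S) := by
  refine ⟨?_, fun i => ?_⟩
  · ext i j
    simp only [erase2, Matrix.transpose_apply, Matrix.neg_apply, Matrix.of_apply]
    by_cases h : i = p ∨ i = o ∨ j = p ∨ j = o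
    · rw [if_pos h, if_pos (by tauto), neg_zero]
    · rw [if_neg h, if_neg (by tauto), hS.apply]
  · simp [erase2, hS.2]

theorem alt_apply (v w : ι → F) (t : F) (i j : ι) : alt v w t i j = t * (v i * w j - w i * v j) := by
  simp [alt, Matrix.vecMulVec_apply]

theorem alt_mulVec (v w : ι → F) (t : F) (y : ι → F) :
    alt v w t *ᵥ y = (t * (w ⬝ᵥ y)) • v - (t * (v ⬝ᵥ y)) • w := by
  rw [alt, Matrix.smul_mulVec, Matrix.sub_mulVec, Matrix.vecMulVec_mulVec, Matrix.vecMulVec_mulVec]
  funext i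
  simp
  ring

/-- An alternating matrix without entry at the pair splits. -/
theorem split_alt {p o : ι} (hne : p ≠ o) {S : Matrix ι ι F} (hS : IsAlt S) (h0 : S p o = 0) :
    S = erase2 p o S + (alt (fun i => S i p) (e F p) 1 + alt (fun i => S i o) (e F o) 1) := by
  have h0' : S o p = 0 := by rw [hS.apply, h0, neg_zero]
  ext i j
  simp only [erase2, Matrix.add_apply, Matrix.of_apply, alt_apply, Pi.single_apply, one_mul]
  rcases eq_or_ne i p with rfl | a
  · rcases eq_or_ne j i with rfl | c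
    · simp [hS.2, hne]
    rcases eq_or_ne j o with rfl | d
    · simp [hne, hne.symm, h0, h0', hS.2]
    · simp [hne, hne.symm, c, d, hS.apply j i]
  rcases eq_or_ne i o with rfl | b
  · rcases eq_or_ne j p with rfl | c
    · simp [hne, hne.symm, h0, h0', hS.2]
    rcases eq_or_ne j i with rfl | d
    · simp [hne.symm, hS.2]
    · simp [hne, hne.symm, c, d, hS.apply j i]
  rcases eq_or_ne j p with rfl | c
  · simp [hne, hne.symm, a, b]
  rcases eq_or_ne j o with rfl | d
  · simp [hne, hne.symm, a, b]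
  · simp [a, b, c, d]

theorem congr_alt {S : Matrix ι ι F} (hS : IsAlt S) (A : Matrix ι ι F) : IsAlt (A * S * Aᵀ) :=
  alt_induction (P := fun S => IsAlt (A * S * Aᵀ)) (by simpa using isAlt_zero)
    (fun X Y _ _ hX hY => by rw [Matrix.mul_add, Matrix.add_mul]; exact hX.add hY)
    (fun i j t _ => by
      rw [show A * alt (e F i) (e F j) t * Aᵀ = alt (A *ᵥ e F i) (A *ᵥ e F j) t by
        simp only [alt, Matrix.mul_smul, Matrix.smul_mul, Matrix.mul_sub, Matrix.sub_mul, Matrix.mul_vecMulVec,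
          Matrix.vecMulVec_mul, Matrix.vecMul_transpose]]
      exact isAlt_alt _ _ _) hS

theorem congr_alt_alt (A : Matrix ι ι F) (v w : ι → F) (t : F) :
    A * alt v w t * Aᵀ = alt (A *ᵥ v) (A *ᵥ w) t := by
  simp only [alt, Matrix.mul_smul, Matrix.smul_mul, Matrix.mul_sub, Matrix.sub_mul, Matrix.mul_vecMulVec,
    Matrix.vecMulVec_mul, Matrix.vecMul_transpose]

variable {G : Type*} [Group G] {p o : ι} {φ : Matrix.SpecialLinearGroup ι F →* G} {ψ : SL(2, F) →* G}
  (R : DRels p o φ ψ)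
include R

local notation "X" => SpFour.X ψ

theorem conjD' (c : Fˣ) (B : Matrix.SpecialLinearGroup ι F) :
    ψ (dElt c) * φ B * (ψ (dElt c))⁻¹ = φ (slD2 p o c B) := R.conjD c B _ (toGL_slD2 p o c B)

theorem lam_wd {B B' : Matrix.SpecialLinearGroup ι F} {c c' : Fˣ}
    (h : Matrix.SpecialLinearGroup.toGL B * dg2 p o c = Matrix.SpecialLinearGroup.toGL B' * dg2 p o c') :
    φ B * ψ (dElt c) = φ B' * ψ (dElt c') := by
  have hd := congrArg (fun A : GL ι F => Matrix.GeneralLinearGroup.det A) h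
  have hdet : ∀ C : Matrix.SpecialLinearGroup ι F,
      Matrix.GeneralLinearGroup.det (Matrix.SpecialLinearGroup.toGL C : GL ι F) = 1 := fun C =>
    Units.ext (by rw [Matrix.GeneralLinearGroup.val_det_apply]; exact C.2)
  simp only [map_mul, hdet, one_mul, dg2_det] at hd
  rcases mul_self_eq_mul_self_iff.1 (congrArg Units.val hd : (c : F) * c = c' * c') with hc | hc
  · obtain rfl := Units.ext hc
    rw [mul_left_inj] at h
    rw [toGL_inj h]
  · have hc' : c = -1 * c' := Units.ext (by rw [Units.val_mul, Units.val_neg, Units.val_one, neg_one_mul]; exact hc)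
    subst hc'
    rw [map_mul, ← mul_assoc, mul_left_inj, ← dg2_neg_one R.ne, ← map_mul] at h
    rw [← toGL_inj h, map_mul φ, mul_assoc, ← R.neg R.ne, ← map_mul ψ, ← SpFour.dElt_mul, SpFour.dElt_neg_one]

omit R in
/-- The Levi part. -/
noncomputable def lam (R : DRels p o φ ψ) (A : GL ι F) : G :=
  have _hne := R.ne
  haveI := Classical.dec (∃ (B : Matrix.SpecialLinearGroup ι F) (c : Fˣ),
    Matrix.SpecialLinearGroup.toGL B * dg2 p o c = A)
  if h : ∃ (B : Matrix.SpecialLinearGroup ι F) (c : Fˣ), Matrix.SpecialLinearGroup.toGL B * dg2 p o c = A then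
    φ h.choose * ψ (dElt h.choose_spec.choose) else 1

theorem lam_mk (B : Matrix.SpecialLinearGroup ι F) (c : Fˣ) :
    lam R (Matrix.SpecialLinearGroup.toGL B * dg2 p o c) = φ B * ψ (dElt c) := by
  have h : ∃ (B' : Matrix.SpecialLinearGroup ι F) (c' : Fˣ), Matrix.SpecialLinearGroup.toGL B' * dg2 p o c' =
      Matrix.SpecialLinearGroup.toGL B * dg2 p o c := ⟨B, c, rfl⟩
  rw [lam, dif_pos h]
  exact lam_wd R h.choose_spec.choose_spec

omit R in
theorem dElt_one' : dElt (1 : Fˣ) = (1 : SL(2, F)) := Subtype.ext (by simp [dElt, Matrix.one_fin_two])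

theorem lam_sl (B : Matrix.SpecialLinearGroup ι F) : lam R (Matrix.SpecialLinearGroup.toGL B) = φ B := by
  have h := lam_mk R B 1
  rwa [map_one, mul_one, show dElt (1 : Fˣ) = (1 : SL(2, F)) from dElt_one', map_one, mul_one] at h

theorem lam_dg2 (c : Fˣ) : lam R (dg2 p o c) = ψ (dElt c) := by
  have h := lam_mk R 1 c
  rwa [map_one, map_one, one_mul, one_mul] at h

theorem lam_one : lam R (1 : GL ι F) = 1 := by
  have h := lam_sl R 1
  rwa [map_one, map_one] at h

theorem lam_mul {A A' : GL ι F} (hA : Sqd A) (hA' : Sqd A') : lam R (A * A') = lam R A * lam R A' := by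
  obtain ⟨B, c, rfl⟩ := hA.decomp p o
  obtain ⟨B', c', rfl⟩ := hA'.decomp p o
  rw [show Matrix.SpecialLinearGroup.toGL B * dg2 p o c * (Matrix.SpecialLinearGroup.toGL B' * dg2 p o c') =
    Matrix.SpecialLinearGroup.toGL (B * slD2 p o c B') * dg2 p o (c * c') by
      rw [toGL_mul, toGL_slD2, map_mul (dg2 p o)]; group,
    lam_mk, lam_mk, lam_mk, map_mul, ← conjD' R, ← SpFour.dElt_mul, map_mul]
  group

theorem lam_inv {A : GL ι F} (hA : Sqd A) : lam R A⁻¹ = (lam R A)⁻¹ :=
  eq_inv_of_mul_eq_one_left (by rw [← lam_mul R hA.inv hA, inv_mul_cancel, lam_one])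

theorem torus_X (c : Fˣ) (t : F) : ψ (dElt c) * X t * (ψ (dElt c))⁻¹ = X ((c : F) * c * t) := by
  rw [SpFour.X, ← map_inv, ← map_mul, ← map_mul]
  congr 1
  rw [SpFour.dElt_inv]
  refine Subtype.ext ?_
  rw [Matrix.SpecialLinearGroup.coe_mul, Matrix.SpecialLinearGroup.coe_mul, uElt_val, uElt_val]
  ext i j
  fin_cases i <;> fin_cases j <;> simp [dElt, Matrix.mul_apply, Fin.sum_univ_two] <;> ring

theorem torus_biv (c : Fˣ) (v w : ι → F) (t : F) :
    ψ (dElt c) * biv R v w t * (ψ (dElt c))⁻¹ =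
      biv R ((dg2 p o c : Matrix ι ι F) *ᵥ v) ((dg2 p o c : Matrix ι ι F) *ᵥ w) t := by
  rcases eq_or_ne v 0 with rfl | hv
  · rw [biv_zero_left, Matrix.mulVec_zero, biv_zero_left, mul_one, mul_inv_cancel]
  rcases exists_pair R.ne hv w with ⟨d, rfl⟩ | ⟨B, c', rfl, rfl⟩
  · rw [biv_dep, Matrix.mulVec_smul, biv_dep, mul_one, mul_inv_cancel]
  set B' := slD2 p o c B with hB'
  have hval : ∀ i, (dg2 p o c : Matrix ι ι F) *ᵥ ((B : Matrix ι ι F) *ᵥ e F i) =
      (if i = p ∨ i = o then (c : F) else 1) • ((B' : Matrix ι ι F) *ᵥ e F i) := fun i => by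
    rw [← Matrix.mulVec_smul, ← dg2_mulVec R.ne, Matrix.mulVec_mulVec, Matrix.mulVec_mulVec]
    congr 1
    have h := congrArg Units.val (toGL_slD2 p o c B)
    show _ = ((Matrix.SpecialLinearGroup.toGL B' : GL ι F) : Matrix ι ι F) * _
    rw [h, ← Units.val_mul, inv_mul_cancel_right, Units.val_mul]
    rfl
  rw [Matrix.mulVec_smul, hval, hval, if_pos (Or.inl rfl), if_pos (Or.inr rfl), biv_eq,
    show ∀ a x : G, ψ (dElt c) * (a * x * a⁻¹) * (ψ (dElt c))⁻¹ =
      (ψ (dElt c) * a * (ψ (dElt c))⁻¹) * (ψ (dElt c) * x * (ψ (dElt c))⁻¹) * (ψ (dElt c) * a * (ψ (dElt c))⁻¹)⁻¹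
      from fun a x => by group, conjD' R, torus_X R, biv_smul_left, smul_smul, show ((c' : F) * c) = ((c' * c : Fˣ) : F) from rfl,
    biv_eq, Units.val_mul]
  congr 3
  ring

theorem lam_biv {A : GL ι F} (hA : Sqd A) (v w : ι → F) (t : F) :
    lam R A * biv R v w t * (lam R A)⁻¹ = biv R ((A : Matrix ι ι F) *ᵥ v) ((A : Matrix ι ι F) *ᵥ w) t := by
  obtain ⟨B, c, rfl⟩ := hA.decomp p o
  rw [lam_mk, show ∀ a b x : G, a * b * x * (a * b)⁻¹ = a * (b * x * b⁻¹) * a⁻¹ from fun a b x => by group,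
    torus_biv, biv_conj, Units.val_mul, Matrix.mulVec_mulVec, Matrix.mulVec_mulVec]
  rfl

theorem lam_sG {A : GL ι F} (hA : Sqd A) {S : Matrix ι ι F} (hS : IsAlt S) :
    lam R A * sG R S * (lam R A)⁻¹ = sG R ((A : Matrix ι ι F) * S * (A : Matrix ι ι F)ᵀ) := by
  refine alt_induction (P := fun S => lam R A * sG R S * (lam R A)⁻¹ =
    sG R ((A : Matrix ι ι F) * S * (A : Matrix ι ι F)ᵀ)) ?_ (fun U V _ _ hU hV => ?_) (fun i j t _ => ?_) hS
  · simp [sG_zero]
  · rw [mul_add, add_mul, sG_add, sG_add, ← hU, ← hV]; group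
  · rw [congr_alt_alt, sG_alt, sG_alt, lam_biv R hA]

theorem w_far {S : Matrix ι ι F} (hS : IsAlt S) : Commute (ψ (wElt F)) (sG R (erase2 p o S)) := by
  refine alt_induction (P := fun S => Commute (ψ (wElt F)) (sG R (erase2 p o S))) ?_ (fun A B _ _ hA hB => ?_)
    (fun i j t hij => ?_) hS
  · rw [erase2_zero, sG_zero]; exact Commute.one_right _
  · rw [erase2_add, sG_add]; exact hA.mul_right hB
  · by_cases h : i = p ∨ i = o ∨ j = p ∨ j = o
    · rw [show erase2 p o (alt (e F i) (e F j) t) = 0 by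
        ext a b
        simp only [erase2, Matrix.of_apply, Matrix.zero_apply, alt_apply]
        split_ifs with hab
        · rfl
        · simp only [not_or] at hab
          obtain ⟨a1, a2, a3, a4⟩ := hab
          rcases h with rfl | rfl | rfl | rfl <;> simp [a1, a2, a3, a4], sG_zero]
      exact Commute.one_right _
    · simp only [not_or] at h
      rw [show erase2 p o (alt (e F i) (e F j) t) = alt (e F i) (e F j) t by
        ext a b
        simp only [erase2, Matrix.of_apply, alt_apply]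
        split_ifs with hab
        · rcases hab with rfl | rfl | rfl | rfl <;>
            simp [Ne.symm h.1, Ne.symm h.2.1, Ne.symm h.2.2.1, Ne.symm h.2.2.2]
        · rfl, sG_alt]
      exact mul_inv_eq_iff_eq_mul.1 (w_biv_far R h.1 h.2.1 h.2.2.1 h.2.2.2 hij t)

omit R in
/-- Two additive maps on vectors vanishing at the pair agree if they agree on basis vectors. -/
theorem ext_col {M : Type*} [Monoid M] {p o : ι} {f g : (ι → F) → M} (h0 : f 0 = g 0)
    (hf : ∀ u u' : ι → F, u p = 0 → u o = 0 → u' p = 0 → u' o = 0 → f (u + u') = f u * f u')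
    (hg : ∀ u u' : ι → F, u p = 0 → u o = 0 → u' p = 0 → u' o = 0 → g (u + u') = g u * g u')
    (h : ∀ (k : ι) (c : F), k ≠ p → k ≠ o → f (Pi.single k c) = g (Pi.single k c)) {u : ι → F} (hp : u p = 0)
    (ho : u o = 0) : f u = g u := by
  have hz : ∀ (s : Finset ι) (a : ι), u a = 0 → (∑ k ∈ s, Pi.single k (u k) : ι → F) a = 0 := fun s a ha => by
    rw [Finset.sum_apply]
    refine Finset.sum_eq_zero fun k _ => ?_
    rcases eq_or_ne k a with rfl | hk
    · simp [ha]
    · simp [hk.symm]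
  have key : ∀ s : Finset ι, f (∑ k ∈ s, Pi.single k (u k)) = g (∑ k ∈ s, Pi.single k (u k)) := by
    intro s
    induction s using Finset.induction_on with
    | empty => rw [Finset.sum_empty, h0]
    | insert k s hks ih =>
      rw [Finset.sum_insert hks]
      rcases eq_or_ne (u k) 0 with hu | hu
      · rwa [hu, Pi.single_zero, zero_add]
      have hkp : k ≠ p := fun hh => hu (hh ▸ hp)
      have hko : k ≠ o := fun hh => hu (hh ▸ ho)
      rw [hf _ _ (by simp [hkp.symm]) (by simp [hko.symm]) (hz s p hp) (hz s o ho),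
        hg _ _ (by simp [hkp.symm]) (by simp [hko.symm]) (hz s p hp) (hz s o ho), ih, h k _ hkp hko]
  have := key Finset.univ
  rwa [Finset.univ_sum_single] at this

theorem lam_trG_add (a : ι) {u u' : ι → F} (hu : u a = 0) (hu' : u' a = 0) :
    lam R (trG a (u + u')) = lam R (trG a u) * lam R (trG a u') := by
  have hd : ∀ z : ι → F, z a = 0 → Sqd (trG a z : GL ι F) := fun z hz => ⟨1, Units.ext (by
    rw [Matrix.GeneralLinearGroup.val_det_apply, trG_val hz, trM, Matrix.vecMulVec_eq Unit,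
      Matrix.det_one_add_replicateCol_mul_replicateRow]
    simp [hz])⟩
  rw [trG_add hu hu', lam_mul R (hd u hu) (hd u' hu')]

theorem w_col_p {u : ι → F} (hp : u p = 0) (ho : u o = 0) :
    ψ (wElt F) * biv R u (e F p) 1 * (ψ (wElt F))⁻¹ = lam R (trG o (-u)) := by
  refine ext_col (f := fun u => ψ (wElt F) * biv R u (e F p) 1 * (ψ (wElt F))⁻¹) (g := fun u => lam R (trG o (-u)))
    (p := p) (o := o) ?_ (fun a b _ _ _ _ => ?_) (fun a b _ hao _ hbo => ?_) (fun k c hkp hko => ?_) hp ho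
  · rw [neg_zero, trG_zero, lam_one, biv_zero_left, mul_one, mul_inv_cancel]
  · rw [biv_add_left]; group
  · rw [neg_add, lam_trG_add R o (by simp [hao]) (by simp [hbo])]
  · rw [show (Pi.single k c : ι → F) = c • e F k by rw [← Pi.single_smul, smul_eq_mul, mul_one], biv_smul_left,
      w_biv_p R hkp hko, ← Pi.single_smul, smul_eq_mul, mul_one, ← Pi.single_neg, trG_single hko, lam_sl]

theorem w_col_o {u : ι → F} (hp : u p = 0) (ho : u o = 0) :
    ψ (wElt F) * biv R u (e F o) 1 * (ψ (wElt F))⁻¹ = lam R (trG p u) := by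
  refine ext_col (f := fun u => ψ (wElt F) * biv R u (e F o) 1 * (ψ (wElt F))⁻¹) (g := fun u => lam R (trG p u))
    (p := p) (o := o) ?_ (fun a b _ _ _ _ => ?_) (fun a b hap _ hbp _ => ?_) (fun k c hkp hko => ?_) hp ho
  · rw [trG_zero, lam_one, biv_zero_left, mul_one, mul_inv_cancel]
  · rw [biv_add_left]; group
  · rw [lam_trG_add R p hap hbp]
  · rw [show (Pi.single k c : ι → F) = c • e F k by rw [← Pi.single_smul, smul_eq_mul, mul_one], biv_smul_left,
      w_biv_o R hkp hko, ← Pi.single_smul, smul_eq_mul, mul_one, trG_single hkp, lam_sl]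

theorem w_tr_p {u : ι → F} (hp : u p = 0) (ho : u o = 0) :
    ψ (wElt F) * lam R (trG p u) * (ψ (wElt F))⁻¹ = biv R u (e F o) (-1) := by
  refine ext_col (f := fun u => ψ (wElt F) * lam R (trG p u) * (ψ (wElt F))⁻¹) (g := fun u => biv R u (e F o) (-1))
    (p := p) (o := o) ?_ (fun a b hap _ hbp _ => ?_) (fun a b _ _ _ _ => ?_) (fun k c hkp hko => ?_) hp ho
  · rw [trG_zero, lam_one, biv_zero_left, mul_one, mul_inv_cancel]
  · rw [lam_trG_add R p hap hbp]; group
  · rw [biv_add_left]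
  · rw [trG_single hkp, lam_sl, w_up_p R hkp hko, show (Pi.single k c : ι → F) = c • e F k by
      rw [← Pi.single_smul, smul_eq_mul, mul_one], biv_smul_left, mul_neg, mul_one]

theorem w_tr_o {u : ι → F} (hp : u p = 0) (ho : u o = 0) :
    ψ (wElt F) * lam R (trG o u) * (ψ (wElt F))⁻¹ = biv R u (e F p) 1 := by
  refine ext_col (f := fun u => ψ (wElt F) * lam R (trG o u) * (ψ (wElt F))⁻¹) (g := fun u => biv R u (e F p) 1)
    (p := p) (o := o) ?_ (fun a b _ hao _ hbo => ?_) (fun a b _ _ _ _ => ?_) (fun k c hkp hko => ?_) hp ho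
  · rw [trG_zero, lam_one, biv_zero_left, mul_one, mul_inv_cancel]
  · rw [lam_trG_add R o hao hbo]; group
  · rw [biv_add_left]
  · rw [trG_single hko, lam_sl, w_up_o R hkp hko, show (Pi.single k c : ι → F) = c • e F k by
      rw [← Pi.single_smul, smul_eq_mul, mul_one], biv_smul_left, mul_one]

/-- Moving alternating matrices past the Weyl element. -/
theorem w_sG {S : Matrix ι ι F} (hS : IsAlt S) (h0 : S p o = 0) :
    ψ (wElt F) * sG R S = sG R (erase2 p o S) * lam R (trG o (-fun i => S i p) * trG p fun i => S i o) * ψ (wElt F) := by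
  have hop : S o p = 0 := by rw [hS.apply, h0, neg_zero]
  conv_lhs => rw [split_alt R.ne hS h0, sG_add, sG_add, sG_alt, sG_alt, ← mul_assoc, (w_far R hS).eq]
  have hu : ∀ (a : ι) (z : ι → F), z a = 0 → Sqd (trG a z : GL ι F) := fun a z hz => ⟨1, Units.ext (by
    rw [Matrix.GeneralLinearGroup.val_det_apply, trG_val hz, trM, Matrix.vecMulVec_eq Unit,
      Matrix.det_one_add_replicateCol_mul_replicateRow]
    simp [hz])⟩
  rw [lam_mul R (hu _ _ (by simp [hS.2 p, hop])) (hu _ _ (by simp [h0, hS.2 o])),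
    ← w_col_p R (u := fun i => S i p) (hS.2 p) hop, ← w_col_o R (u := fun i => S i o) h0 (hS.2 o)]
  group

theorem w_torus_p {k : ι} (hkp : k ≠ p) (hko : k ≠ o) (c : Fˣ) :
    ψ (wElt F) * φ (emb hkp (dElt c)) = φ (emb hkp (dElt c)) * ψ (dElt c) * ψ (wElt F) := by
  obtain ⟨χ, h1, h2⟩ := R.triple k hkp hko
  rw [← h1, ← h2, ← h2, ← map_mul, ← map_mul, ← map_mul, three_torus]

theorem w_torus_o {k : ι} (hkp : k ≠ p) (hko : k ≠ o) (c : Fˣ) :
    ψ (wElt F) * φ (emb hko (dElt c)) = φ (emb hko (dElt c)) * ψ (dElt c) * ψ (wElt F) := by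
  have h := congrArg (fun x => (φ (emb R.ne (wElt F)))⁻¹ * x * φ (emb R.ne (wElt F))) (w_torus_p R hkp hko c)
  beta_reduce at h
  rw [show ∀ a b d : G, d⁻¹ * (a * b) * d = (d⁻¹ * a * d) * (d⁻¹ * b * d) from fun a b d => by group,
    show ∀ a b z d : G, d⁻¹ * (a * b * z) * d = (d⁻¹ * a * d) * (d⁻¹ * b * d) * (d⁻¹ * z * d) from
      fun a b z d => by group, pw_conj_psi R, pw_conj_psi R, pw_conj_emb R hkp hko] at h
  exact h

theorem w_blk {A : GL ι F} (hA : Sqd A) (hp : Blk p A) (ho : Blk o A) : Commute (ψ (wElt F)) (lam R A) := by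
  by_cases hk : ∃ k, k ≠ p ∧ k ≠ o
  · obtain ⟨k, hkp, hko⟩ := hk
    obtain ⟨c, hc⟩ := hA
    set E := emb hkp (dElt c) * emb hko (dElt c) with hE
    set T : GL ι F := Matrix.SpecialLinearGroup.toGL E * dg2 p o c with hT
    have hTdet : Matrix.GeneralLinearGroup.det T = c * c := by
      rw [hT, map_mul, dg2_det, show Matrix.GeneralLinearGroup.det (Matrix.SpecialLinearGroup.toGL E : GL ι F) = 1 from
        Units.ext (by rw [Matrix.GeneralLinearGroup.val_det_apply]; exact E.2), one_mul]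
    have hTv : T = dg k (c * c) := by
      rw [hT, hE, map_mul, emb_dElt, emb_dElt]
      show dg k c * (dg p c)⁻¹ * (dg k c * (dg o c)⁻¹) * (dg p c * dg o c) = _
      rw [map_mul (dg k), ← map_inv, ← map_inv]
      refine Units.ext ?_
      simp only [Units.val_mul, dg_val, Matrix.diagonal_mul_diagonal]
      congr 1
      funext i
      by_cases a : i = k <;> by_cases b : i = p <;> by_cases d : i = o <;> simp_all [R.ne, R.ne.symm] <;> ring
    have hTb : ∀ a, a ≠ k → Blk a T := fun a ha => by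
      rw [hTv]
      refine ⟨?_, ?_⟩
      · exact (dg_mulVec k (c * c) a).trans (by rw [if_neg ha, one_smul])
      · funext i
        rcases eq_or_ne i a with rfl | hi
        · simp [dg_val, Matrix.vecMul_diagonal, ha]
        · simp [dg_val, Matrix.vecMul_diagonal, hi]
    have hC : Matrix.GeneralLinearGroup.det (A * T⁻¹) = 1 := by rw [map_mul, map_inv, hTdet, hc, mul_inv_cancel]
    obtain ⟨C, hCe⟩ : ∃ C : Matrix.SpecialLinearGroup ι F, Matrix.SpecialLinearGroup.toGL C = A * T⁻¹ :=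
      ⟨⟨((A * T⁻¹ : GL ι F) : Matrix ι ι F), by rw [← Matrix.GeneralLinearGroup.val_det_apply, hC, Units.val_one]⟩,
        Units.ext rfl⟩
    have h1 : Commute (ψ (wElt F)) (φ C) := (R.comm C _ (hCe ▸ hp.mul (hTb p hkp.symm).inv)
      (hCe ▸ ho.mul (hTb o hko.symm).inv)).symm
    rw [show A = Matrix.SpecialLinearGroup.toGL (C * E) * dg2 p o c by
      rw [map_mul, hCe, mul_assoc, ← hT, inv_mul_cancel_right], lam_mk, map_mul, mul_assoc]
    refine h1.mul_right ?_
    show _ = _
    rw [hE, map_mul]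
    have hd : ψ (wElt F) * ψ (dElt c) = (ψ (dElt c))⁻¹ * ψ (wElt F) := by
      rw [eq_inv_mul_iff_mul_eq, ← map_mul, ← map_mul]
      congr 1
      refine Subtype.ext ?_
      simp only [Matrix.SpecialLinearGroup.coe_mul]
      ext i j
      fin_cases i <;> fin_cases j <;> simp [dElt, wElt, Matrix.mul_apply, Fin.sum_univ_two]
    have hcd : slD2 p o c (emb hko (dElt c)) = emb hko (dElt c) := toGL_inj (by
      rw [toGL_slD2, emb_dElt, mul_inv_eq_iff_eq_mul, ← map_inv]
      refine Units.ext ?_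
      simp only [Units.val_mul, dg_val, dg2_val R.ne, Matrix.diagonal_mul_diagonal]
      congr 1
      funext i
      ring)
    have hcm : ψ (dElt c) * φ (emb hko (dElt c)) = φ (emb hko (dElt c)) * ψ (dElt c) := by
      have h := conjD' R c (emb hko (dElt c))
      rw [hcd, mul_inv_eq_iff_eq_mul] at h
      exact h
    calc ψ (wElt F) * (φ (emb hkp (dElt c)) * φ (emb hko (dElt c)) * ψ (dElt c))
        = φ (emb hkp (dElt c)) * ψ (dElt c) * (ψ (wElt F) * φ (emb hko (dElt c))) * ψ (dElt c) := by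
          rw [← mul_assoc, ← mul_assoc, w_torus_p R hkp hko]; group
      _ = φ (emb hkp (dElt c)) * (ψ (dElt c) * φ (emb hko (dElt c))) * ψ (dElt c) * (ψ (wElt F) * ψ (dElt c)) := by
          rw [w_torus_o R hkp hko]; group
      _ = _ := by rw [hcm, hd]; group
  · simp only [not_exists, not_and, not_not] at hk
    rw [show A = 1 from Units.ext (Matrix.ext fun i j => by
      by_cases hjp : j = p
      · subst hjp
        have := congrFun hp.1 i
        rw [Matrix.mulVec_single_one, Matrix.col_apply] at this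
        rw [this, Units.val_one, Matrix.one_apply, Pi.single_apply]
      · obtain rfl := hk j hjp
        have := congrFun ho.1 i
        rw [Matrix.mulVec_single_one, Matrix.col_apply] at this
        rw [this, Units.val_one, Matrix.one_apply, Pi.single_apply]), lam_one]
    exact Commute.one_right _

end CfsgLib.Pres.DnN
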