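import Cfsg.Agent.Lib.Pres.DnInduct
import Cfsg.Agent.Lib.Classical.OrthOmega
import Cfsg.Agent.Lib.Classical.SLGen
import Cfsg.Agent.Lib.KnownB.ClassicalEmbed

/-!
# The relations of `Ω⁺_{2n}` in the orthogonal group
-/

set_option autoImplicit false

namespace CfsgLib.Pres.DnN

open Matrix
open scoped MatrixGroups
open CfsgLib.Classical (uElt uElt_val qfPlus qfPlus_apply)
open CfsgLib.Geom (quadIsoms mem_isometryGroup_iff orEquiv orEquiv_mulVec)
open CfsgLib.Pres.SpN
open QuadraticMap (polar)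

universe u v

variable {F : Type u} [Field F] {n : ℕ}

/-- The isometries of the hyperbolic form. -/
noncomputable abbrev OP (F : Type u) [Field F] (n : ℕ) := Cfsg.isometryGroup F (⇑(qfPlus n F))

/-- Their action on pairs of vectors. -/
noncomputable def piO (g : OP F n) (v : Nat2 F (Fin n)) : Nat2 F (Fin n) :=
  ((g.1.1 *ᵥ Sum.elim v.1 v.2) ∘ Sum.inl, (g.1.1 *ᵥ Sum.elim v.1 v.2) ∘ Sum.inr)

theorem piO_one (v : Nat2 F (Fin n)) : piO 1 v = v := by simp [piO]

theorem piO_mul (g h : OP F n) (v : Nat2 F (Fin n)) : piO (g * h) v = piO g (piO h v) := by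
  simp only [piO, Sum.elim_comp_inl_inr, Subgroup.coe_mul, Units.val_mul, Matrix.mulVec_mulVec]

theorem piO_ext {g h : OP F n} (H : ∀ v, piO g v = piO h v) : g = h := by
  refine Subtype.ext (Units.ext (Matrix.ext_iff_mulVec.2 fun z => ?_))
  have e := H (z ∘ Sum.inl, z ∘ Sum.inr)
  simp only [piO, Sum.elim_comp_inl_inr, Prod.mk.injEq] at e
  funext i
  rcases i with i | i
  · exact congrFun e.1 i
  · exact congrFun e.2 i

/-- The Levi part `SL_n`. -/
noncomputable def levO : SL(n, F) →* OP F n :=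
  KnownB.toIsometry _ ((KnownB.glDiagMat n).comp Matrix.SpecialLinearGroup.toGL) fun A v => by
    rw [qfPlus_apply, qfPlus_apply]
    exact KnownB.quadFormPlus_glDiagMat _ v

theorem piO_levO (A : SL(n, F)) (v : Nat2 F (Fin n)) :
    piO (levO A) v = act 0 (Matrix.SpecialLinearGroup.toGL A) v := by
  show (((KnownB.glDiagMat n (Matrix.SpecialLinearGroup.toGL A)) *ᵥ Sum.elim v.1 v.2) ∘ Sum.inl,
    ((KnownB.glDiagMat n (Matrix.SpecialLinearGroup.toGL A)) *ᵥ Sum.elim v.1 v.2) ∘ Sum.inr) = _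
  simp only [KnownB.glDiagMat, MonoidHom.coe_mk, OneHom.coe_mk, Matrix.fromBlocks_mulVec, Sum.elim_comp_inl,
    Sum.elim_comp_inr, Matrix.zero_mulVec, add_zero, zero_add, Matrix.mulVec_transpose, act]

/-- Exchange of `x` and `y` at two indices. -/
def swP (z o : Fin n) : Equiv.Perm (Fin n ⊕ Fin n) :=
  Equiv.swap (.inl z) (.inr z) * Equiv.swap (.inl o) (.inr o)

theorem swP_inl {z o : Fin n} (h : z ≠ o) (i : Fin n) :
    swP z o (.inl i) = if i = z ∨ i = o then .inr i else .inl i := by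
  rcases eq_or_ne i z with rfl | hz
  · simp [swP, Equiv.swap_apply_of_ne_of_ne, h]
  rcases eq_or_ne i o with rfl | ho <;> simp [swP, Equiv.swap_apply_of_ne_of_ne, *, h.symm]

theorem swP_inr {z o : Fin n} (h : z ≠ o) (i : Fin n) :
    swP z o (.inr i) = if i = z ∨ i = o then .inl i else .inr i := by
  rcases eq_or_ne i z with rfl | hz
  · simp [swP, Equiv.swap_apply_of_ne_of_ne, h]
  rcases eq_or_ne i o with rfl | ho <;> simp [swP, Equiv.swap_apply_of_ne_of_ne, *, h.symm]

/-- The graph element. -/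
noncomputable def swO {z o : Fin n} (h : z ≠ o) : OP F n :=
  ⟨permG (swP z o), (mem_isometryGroup_iff _ _).2 fun v => by
    rw [permG_mulVec, qfPlus_apply, qfPlus_apply]
    refine Finset.sum_congr rfl fun i _ => ?_
    simp only [Function.comp_apply, swP_inl h, swP_inr h]
    split_ifs <;> ring⟩

/-- Its action. -/
def sv (z o : Fin n) (v : Nat2 F (Fin n)) : Nat2 F (Fin n) :=
  (fun i => if i = z ∨ i = o then v.2 i else v.1 i, fun i => if i = z ∨ i = o then v.1 i else v.2 i)

theorem piO_swO {z o : Fin n} (h : z ≠ o) (v : Nat2 F (Fin n)) : piO (swO h) v = sv z o v := by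
  refine Prod.ext (funext fun i => ?_) (funext fun i => ?_)
  · show (((permG (swP z o) : GL (Fin n ⊕ Fin n) F) : Matrix (Fin n ⊕ Fin n) (Fin n ⊕ Fin n) F) *ᵥ
      Sum.elim v.1 v.2) (Sum.inl i) = _
    rw [permG_mulVec, Function.comp_apply, swP_inl h]
    simp only [sv]
    split_ifs <;> rfl
  · show (((permG (swP z o) : GL (Fin n ⊕ Fin n) F) : Matrix (Fin n ⊕ Fin n) (Fin n ⊕ Fin n) F) *ᵥ
      Sum.elim v.1 v.2) (Sum.inr i) = _
    rw [permG_mulVec, Function.comp_apply, swP_inr h]
    simp only [sv]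
    split_ifs <;> rfl

theorem swO_sq {z o : Fin n} (h : z ≠ o) : swO (F := F) h * swO h = 1 :=
  piO_ext fun v => by
    rw [piO_mul, piO_swO, piO_swO, piO_one]
    refine Prod.ext (funext fun i => ?_) (funext fun i => ?_) <;> simp only [sv] <;> split_ifs <;> rfl

theorem swO_inv {z o : Fin n} (h : z ≠ o) : (swO (F := F) h)⁻¹ = swO h := inv_eq_of_mul_eq_one_right (swO_sq h)

/-- The root `SL₂`. -/
noncomputable def psiO {z p o : Fin n} (hzo : z ≠ o) (hpo : p ≠ o) : SL(2, F) →* OP F n :=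
  (MulAut.conj (swO hzo)).toMonoidHom.comp (levO.comp (emb hpo))

theorem piO_psiO {z p o : Fin n} (hzo : z ≠ o) (hzp : z ≠ p) (hpo : p ≠ o) (M : SL(2, F)) (v : Nat2 F (Fin n)) :
    piO (psiO hzo hpo M) v = psiV p o M v := by
  show piO (swO hzo * levO (emb hpo M) * (swO hzo)⁻¹) v = _
  rw [swO_inv, piO_mul, piO_mul, piO_swO, piO_levO, piO_swO]
  refine Prod.ext (funext fun i => ?_) (funext fun i => ?_)
  · rw [psiV_x hpo]
    simp only [sv, act, Matrix.zero_mulVec, add_zero, toGL_coe', emb_mulVec_apply, emb_inv_vecMul_apply]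
    rcases eq_or_ne i p with rfl | hp
    · simp [hzp.symm, hpo]
    rcases eq_or_ne i o with rfl | ho
    · simp [hpo, hpo.symm, hzp, hzp.symm, hzo, hzo.symm]
    rcases eq_or_ne i z with rfl | hz <;> simp [*, hpo.symm, hzp.symm, hzo.symm]
  · rw [psiV_y hpo]
    simp only [sv, act, Matrix.zero_mulVec, add_zero, toGL_coe', emb_mulVec_apply, emb_inv_vecMul_apply]
    rcases eq_or_ne i p with rfl | hp
    · simp [hzp.symm, hpo]
    rcases eq_or_ne i o with rfl | ho
    · simp [hpo, hpo.symm, hzp, hzp.symm, hzo, hzo.symm]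
    rcases eq_or_ne i z with rfl | hz <;> simp [*, hpo.symm, hzp.symm, hzo.symm]

/-- The graph element from the Levi part and the root `SL₂`. -/
theorem swO_eq {z p o : Fin n} (hzo : z ≠ o) (hzp : z ≠ p) (hpo : p ≠ o) :
    swO (F := F) hzo = (levO (emb hzp (wElt F)))⁻¹ * (levO (emb hpo (wElt F)))⁻¹ * psiO hzo hpo (wElt F) *
      levO (emb hzp (wElt F)) := by
  rw [← map_inv, ← map_inv, ← map_inv, ← map_inv]
  refine piO_ext fun v => ?_
  rw [piO_mul, piO_mul, piO_mul, piO_levO, piO_levO, piO_levO, piO_psiO hzo hzp, piO_swO]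
  refine Prod.ext (funext fun i => ?_) (funext fun i => ?_)
  · simp only [sv, act, Matrix.zero_mulVec, add_zero, toGL_coe', emb_mulVec_apply, emb_inv_vecMul_apply,
      psiV_x hpo, psiV_y hpo, wElt_inv_val']
    rcases eq_or_ne i z with rfl | hz
    · simp [wElt, hzp, hzp.symm, hpo, hpo.symm, hzo, hzo.symm]
    rcases eq_or_ne i p with rfl | hp
    · simp [wElt, hzp, hzp.symm, hpo, hpo.symm, hzo, hzo.symm]
    rcases eq_or_ne i o with rfl | ho <;> simp [wElt, *, hzp.symm, hpo.symm, hzo.symm]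
  · simp only [sv, act, Matrix.zero_mulVec, add_zero, toGL_coe', emb_mulVec_apply, emb_inv_vecMul_apply,
      psiV_x hpo, psiV_y hpo, wElt_inv_val']
    rcases eq_or_ne i z with rfl | hz
    · simp [wElt, hzp, hzp.symm, hpo, hpo.symm, hzo, hzo.symm]
    rcases eq_or_ne i p with rfl | hp
    · simp [wElt, hzp, hzp.symm, hpo, hpo.symm, hzo, hzo.symm]
    rcases eq_or_ne i o with rfl | ho <;> simp [wElt, *, hzp.symm, hpo.symm, hzo.symm]

theorem swO_blk {z o : Fin n} (h : z ≠ o) {A : SL(n, F)} (hz : Blk z (Matrix.SpecialLinearGroup.toGL A : GL (Fin n) F))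
    (ho : Blk o (Matrix.SpecialLinearGroup.toGL A : GL (Fin n) F)) : Commute (swO h) (levO A) := by
  refine piO_ext fun v => ?_
  rw [piO_mul, piO_mul, piO_levO, piO_levO, piO_swO, piO_swO]
  set B : GL (Fin n) F := Matrix.SpecialLinearGroup.toGL A with hB
  have hsv : ∀ v : Nat2 F (Fin n), sv z o v =
      (v.1 + (v.2 z - v.1 z) • e F z + (v.2 o - v.1 o) • e F o,
        v.2 + (v.1 z - v.2 z) • e F z + (v.1 o - v.2 o) • e F o) := by
    intro v
    refine Prod.ext (funext fun i => ?_) (funext fun i => ?_) <;> simp only [sv]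
    all_goals
      rcases eq_or_ne i z with rfl | hiz
      · simp [h]
      rcases eq_or_ne i o with rfl | hio <;> simp [*, h.symm]
  have e1 : ∀ {a : Fin n}, Blk a B → ∀ x : Fin n → F, ((B : Matrix (Fin n) (Fin n) F) *ᵥ x) a = x a := by
    intro a ha x
    rw [← single_one_dotProduct a ((B : Matrix (Fin n) (Fin n) F) *ᵥ x), Matrix.dotProduct_mulVec, ha.2,
      single_one_dotProduct]
  have e2 : ∀ {a : Fin n}, Blk a B → ∀ y : Fin n → F, (y ᵥ* ((B⁻¹ : GL (Fin n) F) : Matrix (Fin n) (Fin n) F)) a = y a := by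
    intro a ha y
    rw [← dotProduct_single_one (y ᵥ* _) a, ← Matrix.dotProduct_mulVec, ha.inv.1, dotProduct_single_one]
  rw [hsv, hsv]
  simp only [act, Matrix.zero_mulVec, add_zero, Matrix.mulVec_add, Matrix.mulVec_smul, Matrix.add_vecMul,
    Matrix.smul_vecMul, hz.1, ho.1, hz.inv.2, ho.inv.2, e1 hz, e1 ho, e2 hz, e2 ho, smul_zero, add_zero]

theorem wElt_conj (M : SL(2, F)) :
    ((wElt F * M * (wElt F)⁻¹ : SL(2, F)) : Matrix (Fin 2) (Fin 2) F) = !![M.1 1 1, -M.1 1 0; -M.1 0 1, M.1 0 0] := by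
  rw [Matrix.SpecialLinearGroup.coe_mul, Matrix.SpecialLinearGroup.coe_mul, wElt_inv_val']
  ext i j
  fin_cases i <;> fin_cases j <;> simp [wElt, Matrix.mul_apply, Fin.sum_univ_two, Matrix.vecMul, dotProduct]

theorem swO_emb {z o : Fin n} (h : z ≠ o) (M : SL(2, F)) :
    swO h * levO (emb h M) * (swO h)⁻¹ = levO (emb h (wElt F * M * (wElt F)⁻¹)) := by
  refine piO_ext fun v => ?_
  rw [swO_inv, piO_mul, piO_mul, piO_levO, piO_levO, piO_swO, piO_swO]
  refine Prod.ext (funext fun i => ?_) (funext fun i => ?_) <;>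
    simp only [sv, act, Matrix.zero_mulVec, add_zero, toGL_coe', emb_mulVec_apply, emb_inv_vecMul_apply,
      wElt_conj]
  all_goals
    rcases eq_or_ne i z with rfl | hz
    · simp [h, h.symm, sub_eq_add_neg]
    rcases eq_or_ne i o with rfl | ho <;> simp [*, h.symm, sub_eq_add_neg] <;> ring

theorem levO_comm_psiO {z p o : Fin n} (hzo : z ≠ o) (hzp : z ≠ p) (hpo : p ≠ o) {A : SL(n, F)}
    (hp : Blk p (Matrix.SpecialLinearGroup.toGL A : GL (Fin n) F))
    (ho : Blk o (Matrix.SpecialLinearGroup.toGL A : GL (Fin n) F)) (M : SL(2, F)) :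
    Commute (levO A) (psiO hzo hpo M) := by
  refine piO_ext fun v => ?_
  rw [piO_mul, piO_mul, piO_levO, piO_levO, piO_psiO hzo hzp, piO_psiO hzo hzp]
  set B : GL (Fin n) F := Matrix.SpecialLinearGroup.toGL A with hB
  have e1 : ∀ {a : Fin n}, Blk a B → ∀ x : Fin n → F, ((B : Matrix (Fin n) (Fin n) F) *ᵥ x) a = x a := by
    intro a ha x
    rw [← single_one_dotProduct a ((B : Matrix (Fin n) (Fin n) F) *ᵥ x), Matrix.dotProduct_mulVec, ha.2,
      single_one_dotProduct]
  have e2 : ∀ {a : Fin n}, Blk a B → ∀ y : Fin n → F, (y ᵥ* ((B⁻¹ : GL (Fin n) F) : Matrix (Fin n) (Fin n) F)) a = y a := by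
    intro a ha y
    rw [← dotProduct_single_one (y ᵥ* _) a, ← Matrix.dotProduct_mulVec, ha.inv.1, dotProduct_single_one]
  simp only [psiV, act, Matrix.zero_mulVec, add_zero, Matrix.mulVec_add, Matrix.mulVec_smul, Matrix.add_vecMul,
    Matrix.smul_vecMul, hp.1, ho.1, hp.inv.2, ho.inv.2, e1 hp, e1 ho, e2 hp, e2 ho, smul_zero, add_zero]

theorem levO_x_comm {z p o : Fin n} (hzo : z ≠ o) (hzp : z ≠ p) (hpo : p ≠ o) (s t : F) :
    Commute (levO (emb hpo (uElt s))) (psiO hzo hpo (uElt t)) := by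
  refine piO_ext fun v => ?_
  rw [piO_mul, piO_mul, piO_levO, piO_levO, piO_psiO hzo hzp, piO_psiO hzo hzp, psiV_u hpo, psiV_u hpo, act_act,
    act_act, congr_alt_alt, Matrix.mul_zero, Matrix.zero_mul, add_zero, zero_add, mul_one, one_mul]
  congr 1
  have hp : ((emb hpo (uElt s) : SL(n, F)) : Matrix (Fin n) (Fin n) F) *ᵥ e F p = e F p := by
    funext i
    rw [emb_mulVec_apply]
    rcases eq_or_ne i p with rfl | hp
    · simp [uElt_val, hpo]
    rcases eq_or_ne i o with rfl | ho <;> simp [uElt_val, *, hpo.symm]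
  have ho : ((emb hpo (uElt s) : SL(n, F)) : Matrix (Fin n) (Fin n) F) *ᵥ e F o = e F o + s • e F p := by
    funext i
    rw [emb_mulVec_apply]
    rcases eq_or_ne i p with rfl | hp
    · simp [uElt_val, hpo, hpo.symm]
    rcases eq_or_ne i o with rfl | ho <;> simp [uElt_val, *, hpo.symm]
  rw [toGL_coe', hp, ho]
  simp only [alt, Matrix.vecMulVec_add, Matrix.add_vecMulVec, Matrix.vecMulVec_smul, Matrix.smul_vecMulVec]
  abel_nf

section omega

variable [Fintype F]

theorem levO_mem (hn : 3 ≤ n) (A : SL(n, F)) : levO A ∈ Cfsg.Omega F (⇑(qfPlus n F)) := by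
  have h : commutator SL(n, F) = ⊤ := CfsgLib.Classical.commutator_sl_eq_top (by simpa using hn)
  have hle : (commutator SL(n, F)).map levO ≤ commutator (OP F n) := by
    rw [commutator_def, Subgroup.map_commutator, commutator_def]
    exact Subgroup.commutator_mono le_top le_top
  rw [h] at hle
  exact hle ⟨A, Subgroup.mem_top A, rfl⟩

theorem psiO_mem (hn : 3 ≤ n) {z p o : Fin n} (hzo : z ≠ o) (hpo : p ≠ o) (M : SL(2, F)) :
    psiO hzo hpo M ∈ Cfsg.Omega F (⇑(qfPlus n F)) :=
  (inferInstance : (commutator (OP F n)).Normal).conj_mem _ (levO_mem hn _) _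

theorem swO_mem (hn : 3 ≤ n) {z p o : Fin n} (hzo : z ≠ o) (hzp : z ≠ p) (hpo : p ≠ o) :
    swO hzo ∈ Cfsg.Omega F (⇑(qfPlus n F)) := by
  rw [swO_eq hzo hzp hpo]
  exact mul_mem (mul_mem (mul_mem (inv_mem (levO_mem hn _)) (inv_mem (levO_mem hn _))) (psiO_mem hn _ _ _))
    (levO_mem hn _)

variable {G : Type v} [Group G] {p o : Fin n} {φ : SL(n, F) →* G} {ψ : SL(2, F) →* G} (R : DRels p o φ ψ)
  {Φ : G →* OP F n} (C : Compat p o φ ψ fun g => piO (Φ g))
include R C

/-- The image is transitive on singular vectors. -/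
theorem exists_move {k : Fin n} (hkp : k ≠ p) (hko : k ≠ o) {v : Nat2 F (Fin n)} (hv : Sing v) :
    ∃ g : G, piO (Φ g) (e F k, 0) = v := by
  obtain ⟨S, A, hS, hA, rfl | rfl⟩ := exists_rep R hkp hko hv
  · refine ⟨sG R S * lam R A, ?_⟩
    rw [map_mul, piO_mul]
    have h1 := pi_lam R C hA (e F k, 0)
    have h2 := fun w => pi_sG R C hS w
    beta_reduce at h1 h2
    rw [h1, h2, act_act]
    simp
  · refine ⟨sG R S * lam R A * other φ ψ hkp hko, ?_⟩
    rw [map_mul, map_mul, piO_mul, piO_mul]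
    have h0 := pi_other R C hkp hko
    have h1 := pi_lam R C hA (0, e F k)
    have h2 := fun w => pi_sG R C hS w
    beta_reduce at h0 h1 h2
    rw [h0, h1, h2, act_act]
    simp

/-- The image contains `Ω`. -/
theorem omega_le (hn : 3 ≤ n) : Cfsg.Omega F (⇑(qfPlus n F)) ≤ Φ.range := by
  obtain ⟨k, hk⟩ := Finset.exists_mem_notMem_of_card_lt_card
    (show ({p, o} : Finset (Fin n)).card < (Finset.univ : Finset (Fin n)).card by
      rw [Finset.card_univ, Fintype.card_fin, Finset.card_pair R.ne]; omega)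
  have hkp : k ≠ p := fun h => hk.2 (by simp [h])
  have hko : k ≠ o := fun h => hk.2 (by simp [h])
  have key : Classical.siegelGroup (qfPlus n F) ≤ Φ.range.comap (orEquiv (qfPlus n F)).toMonoidHom := by
    rw [Classical.siegelGroup, Subgroup.closure_le]
    rintro _ ⟨⟨x, w⟩, rfl⟩
    show orEquiv _ (Classical.siegel (qfPlus n F) x w) ∈ Φ.range
    by_cases hxw : qfPlus n F x = 0 ∧ polar (qfPlus n F) x w = 0
    swap
    · rw [Classical.siegel_of_not _ hxw, map_one]; exact one_mem _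
    rcases eq_or_ne x 0 with rfl | hx
    · rw [show Classical.siegel (qfPlus n F) 0 w = 1 from Classical.quadIsoms_ext _ fun z => by
        rw [Classical.siegel_apply _ hxw.1 hxw.2]; simp, map_one]
      exact one_mem _
    set e1 : Fin n ⊕ Fin n → F := Sum.elim (e F k) 0 with he1
    obtain ⟨g, hg⟩ := exists_move R C hkp hko (v := (x ∘ Sum.inl, x ∘ Sum.inr)) ⟨fun h => hx (funext fun i => by
      rcases i with i | i
      · exact congrFun (congrArg Prod.fst h) i
      · exact congrFun (congrArg Prod.snd h) i), by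
      have := hxw.1
      rwa [qfPlus_apply] at this⟩
    set h := (orEquiv (qfPlus n F)).symm (Φ g) with hh
    have hhx : h.1 e1 = x := by
      rw [← orEquiv_mulVec, hh, MulEquiv.apply_symm_apply]
      simp only [piO, Prod.mk.injEq] at hg
      funext i
      rcases i with i | i
      · exact congrFun hg.1 i
      · exact congrFun hg.2 i
    set w' := h.1.symm w with hw'
    have hww : h.1 w' = w := LinearEquiv.apply_symm_apply _ _
    rw [← hhx, ← hww, ← Classical.siegel_conj, map_mul, map_mul, map_inv, hh, MulEquiv.apply_symm_apply]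
    refine mul_mem (mul_mem ⟨g, rfl⟩ ?_) (inv_mem ⟨g, rfl⟩)
    have hq1 : qfPlus n F e1 = 0 := by simp [qfPlus_apply, Cfsg.quadFormPlus, he1]
    by_cases hp1 : polar (qfPlus n F) e1 w' = 0
    swap
    · rw [Classical.siegel_of_not _ (fun h => hp1 h.2), map_one]; exact one_mem _
    set a : Fin n → F := w' ∘ Sum.inl with ha
    set b : Fin n → F := w' ∘ Sum.inr with hb
    have hbk : b k = 0 := by
      rw [Classical.polar_qfPlus] at hp1
      simpa [he1, Pi.single_apply, hb] using hp1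
    have hbk' : (-b) k = 0 := by simp [hbk]
    refine ⟨sG R (alt (e F k) a (-1)) * lam R (loG k (-b)), piO_ext fun v => ?_⟩
    rw [map_mul, piO_mul]
    have h1 := pi_lam R C (sqd_loG hbk') v
    have h2 := fun u => pi_sG R C (isAlt_alt (e F k) a (-1)) u
    beta_reduce at h1 h2
    rw [h1, h2, act_act]
    simp only [Units.val_one, one_mul, Matrix.mul_zero, Matrix.zero_mul, add_zero]
    simp only [piO, orEquiv_mulVec]
    rw [Classical.siegel_apply _ hq1 hp1, Classical.polar_qfPlus, Classical.polar_qfPlus, qfPlus_apply]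
    have hS1 : ∑ i, (e1 (.inl i) * Sum.elim v.1 v.2 (.inr i) + Sum.elim v.1 v.2 (.inl i) * e1 (.inr i)) = v.2 k := by
      simp [he1, Pi.single_apply]
    have hS2 : ∑ i, (w' (.inl i) * Sum.elim v.1 v.2 (.inr i) + Sum.elim v.1 v.2 (.inl i) * w' (.inr i)) =
        a ⬝ᵥ v.2 + v.1 ⬝ᵥ b := by
      rw [Finset.sum_add_distrib]; rfl
    rw [hS1, hS2, show Cfsg.quadFormPlus n F w' = a ⬝ᵥ b from rfl]
    simp only [act, ← loG_neg hbk', neg_neg, loG_val hbk', loG_val hbk, loM, Matrix.add_mulVec, Matrix.one_mulVec,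
      Matrix.vecMul_add, Matrix.vecMul_one, Matrix.vecMulVec_mulVec, Matrix.vecMul_vecMulVec, alt_mulVec]
    refine Prod.ext (funext fun i => ?_) (funext fun i => ?_)
    · have hk0 : w' (Sum.inr k) = 0 := hbk
      simp [he1, ha, hb, single_one_dotProduct, dotProduct_add, dotProduct_smul, neg_dotProduct, hk0,
        dotProduct_comm (w' ∘ Sum.inr) v.1, Pi.single_apply]
      split_ifs <;> ring
    · simp [he1, hb]
  intro g hg
  obtain ⟨g', hg', rfl⟩ : g ∈ (commutator (quadIsoms (qfPlus n F))).map (orEquiv (qfPlus n F)).toMonoidHom := by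
    rw [commutator_def, Subgroup.map_commutator,
      Subgroup.map_top_of_surjective (orEquiv (qfPlus n F)).toMonoidHom (orEquiv (qfPlus n F)).surjective,
      ← commutator_def]
    exact hg
  rw [Classical.commutator_eq_siegelGroup _ (Classical.qfPlus_sep n) (by
    rw [Module.finrank_fintype_fun_eq_card]; simp; omega)] at hg'
  exact key hg'

end omega

end CfsgLib.Pres.DnN
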