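import Cfsg.Agent.Lib.Pres.DnModel
import Cfsg.Agent.Lib.Pres.DnFew
import Cfsg.Agent.Lib.Pres.SLTwoPairs
import Cfsg.Agent.S2278
import Cfsg.Agent.S2279

/-!
# Short presentations of `Ω⁺_{2n}` and `PΩ⁺_{2n}`
-/

set_option autoImplicit false

namespace CfsgLib.Pres.DnN

open Matrix
open scoped MatrixGroups
open CfsgLib.Classical (uElt uElt_val uElt_add qfPlus qfPlus_coe)
open CfsgLib.Pres.SpN

variable {F : Type*} [Field F]

theorem uElt_pow_eq_one [Fintype F] (k : ℕ) (h : Fintype.card F ∣ k) : (uElt (1 : F)) ^ k = 1 := by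
  obtain ⟨d, rfl⟩ := h
  rw [uElt_pow, nsmul_eq_mul, mul_one, Nat.cast_mul, FiniteField.cast_card_eq_zero, zero_mul, uElt_zero]

theorem sep_perfect {H : Type*} [Group H] (hH : commutator H = ⊤) {a b : H} (hgen : Subgroup.closure {a, b} = ⊤)
    (z : Fˣ) (g : H) :
    (g, (1 : SL(2, F))) ∈ Subgroup.closure ({(a, uElt 1), (b, dElt z)} : Set (H × SL(2, F))) := by
  set K := Subgroup.closure ({(a, uElt 1), (b, dElt z)} : Set (H × SL(2, F))) with hK
  have hB : ∀ k ∈ K, k.2.1 1 0 = 0 := by
    intro k hk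
    induction hk using Subgroup.closure_induction with
    | mem x hx =>
      rcases hx with rfl | rfl
      · simp [uElt_val]
      · simp [dElt]
    | one => simp
    | mul x y _ _ hx hy =>
      rw [Prod.snd_mul, Matrix.SpecialLinearGroup.coe_mul, Matrix.mul_apply, Fin.sum_univ_two, hx, hy]; ring
    | inv x _ hx =>
      rw [Prod.snd_inv, Matrix.SpecialLinearGroup.coe_inv, Matrix.adjugate_fin_two]
      simp [hx]
  have hd : ∀ k ∈ K, k.2.1 0 0 * k.2.1 1 1 = 1 := fun k hk => by
    have := k.2.2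
    rw [Matrix.det_fin_two, hB k hk, mul_zero, sub_zero] at this
    exact this
  have h1 : ∀ k ∈ ⁅K, K⁆, k.2.1 0 0 = 1 ∧ k.2.1 1 0 = 0 ∧ k.2.1 1 1 = 1 := by
    intro k hk
    have hkK : k ∈ K := Subgroup.commutator_le_self K hk
    have h00 : k.2.1 0 0 = 1 := by
      rw [Subgroup.commutator_def] at hk
      clear hkK
      suffices h : k ∈ K ∧ k.2.1 0 0 = 1 from h.2
      induction hk using Subgroup.closure_induction with
      | mem x hx =>
        obtain ⟨c, hc, d, hd', rfl⟩ := hx
        refine ⟨Subgroup.commutator_le_self K (Subgroup.commutator_mem_commutator hc hd'), ?_⟩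
        have hm : ∀ x ∈ K, ∀ y ∈ K, (x * y).2.1 0 0 = x.2.1 0 0 * y.2.1 0 0 := fun x _ y hy => by
          rw [Prod.snd_mul, Matrix.SpecialLinearGroup.coe_mul, Matrix.mul_apply, Fin.sum_univ_two, hB y hy, mul_zero,
            add_zero]
        have hi : ∀ x ∈ K, (x⁻¹).2.1 0 0 = x.2.1 1 1 := fun x _ => by
          rw [Prod.snd_inv, Matrix.SpecialLinearGroup.coe_inv, Matrix.adjugate_fin_two]; rfl
        rw [commutatorElement_def, hm _ (mul_mem (mul_mem hc hd') (inv_mem hc)) _ (inv_mem hd'),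
          hm _ (mul_mem hc hd') _ (inv_mem hc), hm _ hc _ hd', hi _ hc, hi _ hd']
        linear_combination (d.2.1 0 0 * d.2.1 1 1) * hd c hc + hd d hd'
      | one => exact ⟨one_mem _, by simp⟩
      | mul x y _ _ hx hy =>
        refine ⟨mul_mem hx.1 hy.1, ?_⟩
        rw [Prod.snd_mul, Matrix.SpecialLinearGroup.coe_mul, Matrix.mul_apply, Fin.sum_univ_two, hB y hy.1, mul_zero,
          add_zero, hx.2, hy.2, mul_one]
      | inv x _ hx =>
        refine ⟨inv_mem hx.1, ?_⟩
        rw [Prod.snd_inv, Matrix.SpecialLinearGroup.coe_inv, Matrix.adjugate_fin_two]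
        have := hd x hx.1
        rw [hx.2, one_mul] at this
        simpa using this
    refine ⟨h00, hB k hkK, ?_⟩
    have := hd k hkK
    rwa [h00, one_mul] at this
  have h2 : ⁅⁅K, K⁆, ⁅K, K⁆⁆ ≤ (MonoidHom.snd H SL(2, F)).ker := by
    refine Subgroup.commutator_le.2 fun x hx y hy => ?_
    obtain ⟨x0, x1, x2⟩ := h1 x hx
    obtain ⟨y0, y1, y2⟩ := h1 y hy
    rw [MonoidHom.mem_ker, map_commutatorElement, commutatorElement_eq_one_iff_mul_comm]
    refine Subtype.ext ?_
    show (x.2 * y.2).1 = (y.2 * x.2).1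
    rw [Matrix.SpecialLinearGroup.coe_mul, Matrix.SpecialLinearGroup.coe_mul]
    ext i j
    fin_cases i <;> fin_cases j <;> simp [Matrix.mul_apply, Fin.sum_univ_two, x0, x1, x2, y0, y1, y2, add_comm]
  have hmap : ∀ L : Subgroup (H × SL(2, F)), L.map (MonoidHom.fst H SL(2, F)) = ⊤ →
      (⁅L, L⁆).map (MonoidHom.fst H SL(2, F)) = ⊤ := fun L hL => by
    rw [Subgroup.map_commutator, hL, ← commutator_def, hH]
  have hfst : K.map (MonoidHom.fst H SL(2, F)) = ⊤ := by
    rw [hK, MonoidHom.map_closure, Set.image_pair]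
    exact hgen
  have h3 := hmap _ (hmap _ hfst)
  obtain ⟨k, hk, rfl⟩ : g ∈ (⁅⁅K, K⁆, ⁅K, K⁆⁆).map (MonoidHom.fst H SL(2, F)) := by rw [h3]; exact Subgroup.mem_top g
  have hk2 : k.2 = 1 := h2 hk
  have : (MonoidHom.fst H SL(2, F) k, (1 : SL(2, F))) = k := Prod.ext rfl hk2.symm
  rw [this]
  exact Subgroup.commutator_le_self K (Subgroup.commutator_mono (Subgroup.commutator_le_self K)
    (Subgroup.commutator_le_self K) hk)

theorem sep_of_mem {H : Type*} [Group H] {a b : H} (hgen : Subgroup.closure {a, b} = ⊤)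
    {K : Subgroup (H × SL(2, F))} (ha : (a, 1) ∈ K) (hb : (b, 1) ∈ K) (g : H) : (g, (1 : SL(2, F))) ∈ K := by
  have : Subgroup.closure {a, b} ≤ K.comap (MonoidHom.inl H SL(2, F)) := by
    rw [Subgroup.closure_le]
    rintro x (rfl | rfl)
    exacts [ha, hb]
  exact this (hgen ▸ Subgroup.mem_top g)

/-- Two elements separating a middle `SL_m` from the Borel subgroup. -/
theorem exists_sep [Fintype F] (m : ℕ) (hm : 2 ≤ m) (z : Fˣ) :
    ∃ a b : SL(m, F), ∀ g : SL(m, F),
      (g, (1 : SL(2, F))) ∈ Subgroup.closure ({(a, uElt 1), (b, dElt z)} : Set (SL(m, F) × SL(2, F))) := by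
  by_cases h3 : 3 ≤ m
  · have hperf : commutator SL(m, F) = ⊤ := CfsgLib.Classical.commutator_sl_eq_top (by simpa using h3)
    obtain ⟨a, b, hab⟩ : ∃ a b : SL(m, F), Subgroup.closure {a, b} = ⊤ := by
      rcases (show m = 3 ∨ 4 ≤ m by omega) with rfl | h4
      · obtain ⟨u, g, -, -, h⟩ := Cfsg.Agent.S2278.result (F := F)
        exact ⟨_, _, h⟩
      · obtain ⟨⟨u, v, -, -, h⟩, -⟩ := Cfsg.Agent.S2279.result (F := F) m h4
        exact ⟨_, _, h⟩
    exact ⟨a, b, sep_perfect hperf hab z⟩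
  obtain rfl : m = 2 := by omega
  by_cases h4 : 4 ≤ Fintype.card F
  · obtain ⟨c, hc, hc2⟩ : ∃ c : F, c ≠ 0 ∧ c ^ 2 ≠ 1 := by
      by_contra hcon
      simp only [not_exists, not_and, not_not] at hcon
      classical
      have hsub : (Finset.univ : Finset F) ⊆ {0, 1, -1} := fun x _ => by
        rcases eq_or_ne x 0 with rfl | hx
        · simp
        · rcases sq_eq_one_iff.1 (hcon x hx) with rfl | rfl <;> simp
      have := (Finset.card_le_card hsub).trans Finset.card_le_three
      rw [Finset.card_univ] at this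
      omega
    obtain ⟨ω, hω⟩ := IsCyclic.exists_generator (α := Fˣ)
    exact ⟨_, _, sep_perfect (SL2.commutator_eq_top hc hc2) (pair_gen ω hω).1 z⟩
  classical
  have h1 : 2 ≤ Fintype.card F := Fintype.one_lt_card
  have hgen : ∀ K : Subgroup SL(2, F), wElt F ∈ K → uElt (1 : F) ∈ K → K = ⊤ := by
    intro K hw hu
    refine sl_two_w_u hw fun c => ?_
    have hc : c ^ Fintype.card F = c := FiniteField.pow_card c
    rcases (show Fintype.card F = 2 ∨ Fintype.card F = 3 by omega) with h | h <;> rw [h] at hc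
    · have : c * (c - 1) = 0 := by linear_combination hc
      rcases mul_eq_zero.1 this with h0 | h0
      · rw [h0, uElt_zero]; exact one_mem _
      · rw [sub_eq_zero.1 h0]; exact hu
    · have : c * ((c - 1) * (c + 1)) = 0 := by linear_combination hc
      rcases mul_eq_zero.1 this with h0 | h0
      · rw [h0, uElt_zero]; exact one_mem _
      rcases mul_eq_zero.1 h0 with h0 | h0
      · rw [sub_eq_zero.1 h0]; exact hu
      · rw [eq_neg_of_add_eq_zero_left h0, uElt_neg]; exact inv_mem hu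
  have hd : (dElt z) ^ (Fintype.card F - 1) = 1 := by
    rw [dElt_pow, show z ^ (Fintype.card F - 1) = 1 from Units.ext (by
      rw [Units.val_pow_eq_pow_val]; exact FiniteField.pow_card_sub_one_eq_one _ z.ne_zero), dElt_one']
  rcases (show Fintype.card F = 2 ∨ Fintype.card F = 3 by omega) with h2 | h2
  · have h0 : (2 : F) = 0 := by
      have := FiniteField.cast_card_eq_zero F
      rwa [h2, Nat.cast_ofNat] at this
    have ha3 : (wElt F * uElt 1) ^ 3 = 1 := by
      refine Subtype.ext ?_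
      rw [Matrix.SpecialLinearGroup.coe_pow, Matrix.SpecialLinearGroup.coe_mul, Matrix.SpecialLinearGroup.coe_one]
      ext i j
      fin_cases i <;> fin_cases j <;>
        simp [pow_succ, pow_zero, wElt, uElt_val, Matrix.mul_apply, Fin.sum_univ_two, Matrix.vecMul, dotProduct] <;>
        linear_combination h0
    refine ⟨wElt F * uElt 1, wElt F, fun g => sep_of_mem (a := wElt F * uElt 1) (b := wElt F) ?_ ?_ ?_ g⟩
    · rw [eq_top_iff, ← hgen (Subgroup.closure {wElt F * uElt 1, wElt F}) (Subgroup.subset_closure (by simp)) ?_]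
      rw [← inv_mul_cancel_left (wElt F) (uElt (1 : F))]
      exact mul_mem (inv_mem (Subgroup.subset_closure (by simp))) (Subgroup.subset_closure (by simp))
    · have := pow_mem (Subgroup.subset_closure (Set.mem_insert (wElt F * uElt 1, uElt (1 : F)) {(wElt F, dElt z)})) 4
      rwa [Prod.pow_mk, pow_succ, ha3, one_mul, uElt_pow_eq_one 4 (by rw [h2]; norm_num)] at this
    · rw [h2, pow_one] at hd
      have := Subgroup.subset_closure
        (Set.mem_insert_of_mem (wElt F * uElt 1, uElt (1 : F)) (Set.mem_singleton (wElt F, dElt z)))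
      rwa [hd] at this ⊢
  · have hw4 : (wElt F) ^ 4 = 1 := by
      rw [show (4 : ℕ) = 2 * 2 from rfl, pow_mul, sq, sq, wElt_sq, neg_mul_neg, one_mul]
    have hb4 : uElt (1 : F) ^ 4 = uElt 1 := by
      rw [pow_succ, uElt_pow_eq_one 3 (by rw [h2]), one_mul]
    refine ⟨wElt F, uElt 1, fun g => sep_of_mem (a := wElt F) (b := uElt 1) ?_ ?_ ?_ g⟩
    · exact hgen _ (Subgroup.subset_closure (by simp)) (Subgroup.subset_closure (by simp))
    · have hm := Subgroup.subset_closure (Set.mem_insert (wElt F, uElt (1 : F)) {(uElt (1 : F), dElt z)})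
      have := mul_mem hm (inv_mem (pow_mem hm 4))
      rwa [Prod.pow_mk, hw4, hb4, Prod.inv_mk, inv_one, Prod.mk_mul_mk, mul_one, mul_inv_cancel] at this
    · rw [h2] at hd
      have hd' : dElt z * dElt z = 1 := by rw [← sq]; exact hd
      have := pow_mem (Subgroup.subset_closure
        (Set.mem_insert_of_mem (wElt F, uElt (1 : F)) (Set.mem_singleton (uElt (1 : F), dElt z)))) 4
      rwa [Prod.pow_mk, hb4, show dElt z ^ 4 = 1 by rw [show (4 : ℕ) = 2 * 2 from rfl, pow_mul, sq (dElt z), hd',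
        one_pow]] at this

set_option maxHeartbeats 1600000 in
/-- The presentation from one of `SL_n`. -/
theorem omega_pres [Fintype F] {m l K : ℕ} (hm : 2 ≤ m) (hL : PresBy l SL(m + 2, F) K) :
    PresBy (l + 1) ↥(Cfsg.Omega F (⇑(qfPlus (m + 2) F))) (K + (6 + if m = 2 then 1 else 0)) := by
  classical
  obtain ⟨relsL, hcL, ⟨eL⟩⟩ := hL
  obtain ⟨ζ, hζ⟩ := IsCyclic.exists_generator (α := Fˣ)
  obtain ⟨hstd, -⟩ := sl_two_seven.{_, 0} ζ hζ
  obtain ⟨a, b, hab⟩ := exists_sep (F := F) m hm ζ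
  set z : Fin (m + 2) := ⟨0, by omega⟩ with hz'
  set j : Fin (m + 2) := ⟨1, by omega⟩ with hj'
  set p : Fin (m + 2) := ⟨m, by omega⟩ with hp'
  set o : Fin (m + 2) := ⟨m + 1, by omega⟩ with ho'
  have hzo : z ≠ o := by simp [hz', ho', Fin.ext_iff]
  have hzp : z ≠ p := by simp [hz', hp', Fin.ext_iff]; omega
  have hpo : p ≠ o := by simp [hp', ho', Fin.ext_iff]
  have hzj : z ≠ j := by simp [hz', hj', Fin.ext_iff]
  have hjp : j ≠ p := by simp [hj', hp', Fin.ext_iff]; omega
  have hjo : j ≠ o := by simp [hj', ho', Fin.ext_iff]; omega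
  -- middle
  let mid : Fin m ↪ Fin (m + 2) := ⟨fun i => ⟨i + 1, by omega⟩, fun x y h => by simpa [Fin.ext_iff] using h⟩
  have hmz : ∀ i, z ≠ mid i := fun i => by simp [hz', mid, Fin.ext_iff]
  have hmo : ∀ i, o ≠ mid i := fun i h => by
    have h1 : m + 1 = (i : ℕ) + 1 := congrArg Fin.val h
    have := i.2
    omega
  have hblk : ∀ g : SL(m, F), Blk z (Matrix.SpecialLinearGroup.toGL (extS mid g) : GL (Fin (m + 2)) F) ∧
      Blk o (Matrix.SpecialLinearGroup.toGL (extS mid g) : GL (Fin (m + 2)) F) := fun g =>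
    ⟨blk_of_entries (fun i => by rw [extS_val, extM_apply_right _ _ hmz])
        (fun i => by rw [extS_val, extM_apply_left _ _ hmz]),
      blk_of_entries (fun i => by rw [extS_val, extM_apply_right _ _ hmo])
        (fun i => by rw [extS_val, extM_apply_left _ _ hmo])⟩
  let f : SL(m, F) × SL(2, F) →* SL(m + 2, F) := (extS mid).noncommCoprod (emb hzo) fun g M =>
    blk_comm_emb hzo (hblk g).1 (hblk g).2 M
  let θ : SL(m, F) × SL(2, F) → SL(m + 2, F) := fun x => f (x.1, wElt F * x.2 * (wElt F)⁻¹)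
  -- the generators of `SL`
  let g : Fin l → SL(m + 2, F) := fun i => eL (PresentedGroup.of i)
  have hlift : ∀ w, FreeGroup.lift g w = eL (PresentedGroup.mk _ w) := fun w =>
    congrArg (fun χ : FreeGroup (Fin l) →* SL(m + 2, F) => χ w)
      (show FreeGroup.lift g = eL.toMonoidHom.comp (PresentedGroup.mk _) from
        FreeGroup.ext_hom _ _ fun i => by rw [FreeGroup.lift_apply_of]; rfl)
  have hrelsL : ∀ x ∈ relsL, FreeGroup.lift g x = 1 := fun x hx => by
    rw [hlift, PresentedGroup.one_of_mem hx, map_one]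
  choose wd hwd using fun M : SL(m + 2, F) =>
    PresentedGroup.mk_surjective (↑relsL : Set (FreeGroup (Fin l))) (eL.symm M)
  have hwd' : ∀ M, FreeGroup.lift g (wd M) = M := fun M => by rw [hlift, hwd, MulEquiv.apply_symm_apply]
  -- words
  let iL : FreeGroup (Fin l) →* FreeGroup (Fin (l + 1)) := FreeGroup.map (Fin.castAdd 1)
  let U : FreeGroup (Fin (l + 1)) := FreeGroup.of (Fin.natAdd l 0)
  let A_ : SL(m + 2, F) → FreeGroup (Fin (l + 1)) := fun M => iL (wd M)
  let Ψ : SL(2, F) → FreeGroup (Fin (l + 1)) := fun M => U * A_ (emb hpo M) * U⁻¹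
  let eqs : List (FreeGroup (Fin (l + 1)) × FreeGroup (Fin (l + 1))) :=
    [(U * U, 1),
      (U, (A_ (emb hzp (wElt F)))⁻¹ * (A_ (emb hpo (wElt F)))⁻¹ * Ψ (wElt F) * A_ (emb hzp (wElt F))),
      (U * A_ (f (a, uElt 1)) * U⁻¹, A_ (θ (a, uElt 1))),
      (U * A_ (f (b, dElt ζ)) * U⁻¹, A_ (θ (b, dElt ζ))),
      (A_ (emb hzj (wElt F)) * Ψ (uElt 1), Ψ (uElt 1) * A_ (emb hzj (wElt F))),
      (A_ (emb hpo (uElt 1)) * Ψ (uElt 1), Ψ (uElt 1) * A_ (emb hpo (uElt 1)))] ++
    if m = 2 then [(A_ (emb hzj (uElt 1)) * Ψ (uElt 1), Ψ (uElt 1) * A_ (emb hzj (uElt 1)))] else []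
  let rels : Finset (FreeGroup (Fin (l + 1))) := relsL.image iL ∪ (eqs.map fun p => p.1 * p.2⁻¹).toFinset
  refine ⟨rels, ?_, ?_⟩
  · refine (Finset.card_union_le _ _).trans ?_
    refine (Nat.add_le_add (Finset.card_image_le.trans hcL) (List.toFinset_card_le _)).trans ?_
    by_cases h : m = 2 <;> simp [eqs, h]
  -- the model
  set φ₀ := levO (F := F) (n := m + 2) with hφ₀
  let t : Fin (l + 1) → OP F (m + 2) := Fin.append (fun i => φ₀ (g i)) fun _ => swO hzo
  have htA : ∀ w, FreeGroup.lift t (iL w) = φ₀ (FreeGroup.lift g w) := fun w =>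
    congrArg (fun χ : FreeGroup (Fin l) →* OP F (m + 2) => χ w)
      (show (FreeGroup.lift t).comp iL = φ₀.comp (FreeGroup.lift g) from FreeGroup.ext_hom _ _ fun i => by
        simp only [iL, MonoidHom.comp_apply, FreeGroup.map.of, FreeGroup.lift_apply_of]
        exact Fin.append_left _ _ i)
  have htU : FreeGroup.lift t U = swO hzo := by
    show FreeGroup.lift t (FreeGroup.of (Fin.natAdd l 0)) = _
    rw [FreeGroup.lift_apply_of]
    exact Fin.append_right _ _ 0
  have hθ : ∀ (x : SL(m, F)) (M : SL(2, F)), swO hzo * φ₀ (f (x, M)) * (swO hzo)⁻¹ = φ₀ (θ (x, M)) := by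
    intro x M
    show swO hzo * φ₀ (extS mid x * emb hzo M) * (swO hzo)⁻¹ =
      φ₀ (extS mid x * emb hzo (wElt F * M * (wElt F)⁻¹))
    rw [map_mul, map_mul, ← swO_emb hzo M, ← mul_assoc, (swO_blk hzo (hblk x).1 (hblk x).2).eq]
    group
    rfl
  have hold : ∀ x ∈ rels, FreeGroup.lift t x = 1 := by
    intro x hx
    rw [Finset.mem_union, Finset.mem_image, List.mem_toFinset, List.mem_map] at hx
    rcases hx with ⟨x, hx, rfl⟩ | ⟨q, hq, rfl⟩
    · rw [htA, hrelsL x hx, map_one]
    rw [map_mul, map_inv, mul_inv_eq_one]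
    simp only [eqs, List.mem_append, List.mem_cons, List.not_mem_nil, or_false] at hq
    rcases hq with (rfl | rfl | rfl | rfl | rfl | rfl) | hq
    all_goals try simp only [Ψ, A_, map_mul, map_inv, map_one, htA, htU, hwd']
    · exact swO_sq hzo
    · exact swO_eq hzo hzp hpo
    · exact hθ a (uElt 1)
    · exact hθ b (dElt ζ)
    · exact (levO_comm_psiO hzo hzp hpo (blk_emb hzj hzp hjp _) (blk_emb hzj hzo hjo _) _).eq
    · exact (levO_x_comm hzo hzp hpo 1 1).eq
    · split_ifs at hq with h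
      · rw [List.mem_singleton] at hq
        subst hq
        simp only [Ψ, A_, map_mul, map_inv, htA, htU, hwd']
        exact (levO_comm_psiO hzo hzp hpo (blk_emb hzj hzp hjp _) (blk_emb hzj hzo hjo _) _).eq
      · simp at hq
  let Φ : PresentedGroup (↑rels : Set (FreeGroup (Fin (l + 1)))) →* OP F (m + 2) := PresentedGroup.toGroup hold
  -- the abstract group
  let π : FreeGroup (Fin (l + 1)) →* PresentedGroup (↑rels : Set (FreeGroup (Fin (l + 1)))) := PresentedGroup.mk _
  have hone : ∀ x ∈ rels, π x = 1 := fun x hx => PresentedGroup.one_of_mem hx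
  have heq : ∀ q ∈ eqs, π q.1 = π q.2 := fun q hq => by
    have := hone _ (Finset.mem_union_right _ (List.mem_toFinset.2 (List.mem_map.2 ⟨q, hq, rfl⟩)))
    rwa [map_mul, map_inv, mul_inv_eq_one] at this
  have hφrel : ∀ x ∈ relsL, FreeGroup.lift (fun i => π (iL (FreeGroup.of i))) x = 1 := by
    intro x hx
    rw [show FreeGroup.lift (fun i => π (iL (FreeGroup.of i))) = π.comp iL from
      FreeGroup.ext_hom _ _ fun i => by rw [FreeGroup.lift_apply_of]; rfl]
    exact hone _ (Finset.mem_union_left _ (Finset.mem_image.2 ⟨x, hx, rfl⟩))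
  let φ : SL(m + 2, F) →* PresentedGroup (↑rels : Set (FreeGroup (Fin (l + 1)))) :=
    (PresentedGroup.toGroup (rels := (↑relsL : Set (FreeGroup (Fin l)))) hφrel).comp eL.symm.toMonoidHom
  have hφ : ∀ w, π (iL w) = φ (FreeGroup.lift g w) := fun w => by
    show π (iL w) = PresentedGroup.toGroup hφrel (eL.symm (FreeGroup.lift g w))
    rw [hlift, MulEquiv.symm_apply_apply]
    show _ = FreeGroup.lift (fun i => π (iL (FreeGroup.of i))) w
    exact congrArg (fun χ : FreeGroup (Fin l) →* _ => χ w)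
      (show π.comp iL = FreeGroup.lift (fun i => π (iL (FreeGroup.of i))) from
        FreeGroup.ext_hom _ _ fun i => by rw [FreeGroup.lift_apply_of]; rfl)
  set u := π U with hu
  simp only [eqs, List.forall_mem_append, List.forall_mem_cons, List.not_mem_nil, IsEmpty.forall_iff, implies_true,
    and_true] at heq
  obtain ⟨⟨q1, q2, q3, q4, q5, q6⟩, q7⟩ := heq
  simp only [Ψ, A_, map_mul, map_inv, map_one, hφ, hwd', ← hu] at q1 q2 q3 q4 q5 q6
  -- `u` on the middle and the pair
  let D : Subgroup (SL(m, F) × SL(2, F)) := MonoidHom.eqLocus ((MulAut.conj u).toMonoidHom.comp (φ.comp f))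
    (φ.comp (f.comp ((MonoidHom.id SL(m, F)).prodMap (MulAut.conj (wElt F)).toMonoidHom)))
  have hD : ∀ x M, (x, M) ∈ D ↔ u * φ (f (x, M)) * u⁻¹ = φ (θ (x, M)) := fun x M => Iff.rfl
  have hle : Subgroup.closure ({(a, uElt 1), (b, dElt ζ)} : Set (SL(m, F) × SL(2, F))) ≤ D := by
    rw [Subgroup.closure_le]
    rintro _ (rfl | rfl)
    exacts [(hD _ _).2 q3, (hD _ _).2 q4]
  have hx1 : ∀ x, (x, (1 : SL(2, F))) ∈ D := fun x => hle (hab x)
  have hu1 : ((1 : SL(m, F)), uElt (1 : F)) ∈ D := by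
    have := mul_mem (inv_mem (hx1 a)) ((hD a (uElt 1)).2 q3)
    simpa using this
  have hd1 : ((1 : SL(m, F)), dElt ζ) ∈ D := by
    have := mul_mem (inv_mem (hx1 b)) ((hD b (dElt ζ)).2 q4)
    simpa using this
  have hui : u⁻¹ = u := inv_eq_of_mul_eq_one_right q1
  have hflip : ∀ M, ((1 : SL(m, F)), M) ∈ D → ((1 : SL(m, F)), wElt F * M * (wElt F)⁻¹) ∈ D := by
    intro M hM
    rw [hD] at hM ⊢
    show u * φ (f (1, wElt F * M * (wElt F)⁻¹)) * u⁻¹ = φ (f (1, wElt F * (wElt F * M * (wElt F)⁻¹) * (wElt F)⁻¹))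
    rw [w_sq_conj, ← show φ (θ (1, M)) = φ (f (1, wElt F * M * (wElt F)⁻¹)) from rfl, ← hM, hui,
      show u * (u * φ (f (1, M)) * u) * u = (u * u) * φ (f (1, M)) * (u * u) by group, q1, one_mul, mul_one]
  have hw1 : ((1 : SL(m, F)), wElt F) ∈ D := by
    have h : wElt F = uElt (1 : F) * (wElt F * uElt 1 * (wElt F)⁻¹) * uElt 1 := by
      rw [wElt_uElt_one]; group
    have := mul_mem (mul_mem hu1 (hflip _ hu1)) hu1
    rw [h]
    simpa using this
  have hM1 : ∀ M, ((1 : SL(m, F)), M) ∈ D := by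
    have h : Subgroup.closure (Set.range (std ζ)) ≤ D.comap (MonoidHom.inr SL(m, F) SL(2, F)) := by
      rw [Subgroup.closure_le]
      rintro _ ⟨i, rfl⟩
      fin_cases i
      exacts [hu1, hd1, hw1]
    exact fun M => h (hstd ▸ Subgroup.mem_top M)
  have hmid : ∀ A : SL(m + 2, F), Blk z (Matrix.SpecialLinearGroup.toGL A : GL (Fin (m + 2)) F) →
      Blk o (Matrix.SpecialLinearGroup.toGL A : GL (Fin (m + 2)) F) → Commute u (φ A) := by
    intro A hAz hAo
    obtain ⟨x, rfl⟩ : ∃ x, A = extS mid x := by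
      have hcov : ∀ i, i ≠ z → i ≠ o → ∃ c, i = mid c := fun i hiz hio => by
        have h1 : (i : ℕ) ≠ 0 := fun h => hiz (Fin.ext h)
        have h2 : (i : ℕ) ≠ m + 1 := fun h => hio (Fin.ext h)
        have := i.2
        exact ⟨⟨i - 1, by omega⟩, Fin.ext (show (i : ℕ) = (i : ℕ) - 1 + 1 by omega)⟩
      have he : extM mid ((A : Matrix (Fin (m + 2)) (Fin (m + 2)) F).submatrix mid mid) =
          (A : Matrix (Fin (m + 2)) (Fin (m + 2)) F) := by
        ext i k
        rcases eq_or_ne i z with rfl | hiz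
        · rw [extM_apply_left _ _ hmz]; exact ((blk_entries hAz).2 k).symm
        rcases eq_or_ne i o with rfl | hio
        · rw [extM_apply_left _ _ hmo]; exact ((blk_entries hAo).2 k).symm
        rcases eq_or_ne k z with rfl | hkz
        · rw [extM_apply_right _ _ hmz]; exact ((blk_entries hAz).1 i).symm
        rcases eq_or_ne k o with rfl | hko
        · rw [extM_apply_right _ _ hmo]; exact ((blk_entries hAo).1 i).symm
        obtain ⟨c, rfl⟩ := hcov i hiz hio
        obtain ⟨d, rfl⟩ := hcov k hkz hko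
        exact extM_apply mid _ c d
      exact ⟨⟨(A : Matrix (Fin (m + 2)) (Fin (m + 2)) F).submatrix mid mid, by rw [← extM_det mid, he]; exact A.2⟩,
        Subtype.ext he.symm⟩
    have h := (hD x 1).1 (hx1 x)
    simp only [θ, mul_one, mul_inv_cancel] at h
    rw [show f (x, 1) = extS mid x by simp [f], mul_inv_eq_iff_eq_mul] at h
    exact h
  have hzoR : ∀ M : SL(2, F), u * φ (emb hzo M) * u⁻¹ = φ (emb hzo (wElt F * M * (wElt F)⁻¹)) := fun M => by
    have h := (hD 1 M).1 (hM1 M)
    simp only [θ] at h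
    rwa [show ∀ N, f ((1 : SL(m, F)), N) = emb hzo N from fun N => by simp [f],
      show ∀ N, f ((1 : SL(m, F)), N) = emb hzo N from fun N => by simp [f]] at h
  have Hf : Few hzo hzp hpo hzj φ u :=
    { sq := q1
      mid := hmid
      zo := hzoR
      word := q2
      hw := q5
      hx := q6
      h4 := fun hall => by
        have hm2 : m = 2 := by
          have h4c : Fintype.card (Fin (m + 2)) ≤ ({z, j, p, o} : Finset (Fin (m + 2))).card :=
            Finset.card_le_card fun i _ => by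
              rcases hall i with rfl | rfl | rfl | rfl <;> simp
          rw [Fintype.card_fin] at h4c
          have := h4c.trans Finset.card_le_four
          omega
        rw [if_pos hm2] at q7
        have h7 := q7 _ (List.mem_singleton_self _)
        simp only [Ψ, A_, map_mul, map_inv, hφ, hwd', ← hu] at h7
        exact h7 }
  have R := dRels_of_few hzo hzp hpo hzj hjp hjo Hf
  have hgen : Subgroup.closure (Set.range φ ∪ Set.range (psiU hpo φ u)) = ⊤ := by
    rw [← top_le_iff]
    refine le_trans ?_ (closure_of_few hzo hzp hpo hzj Hf)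
    rw [← PresentedGroup.closure_range_of (↑rels : Set (FreeGroup (Fin (l + 1)))), Subgroup.closure_le]
    rintro _ ⟨i, rfl⟩
    induction i using Fin.addCases (m := l) (n := 1) with
    | left i =>
      refine Subgroup.subset_closure (Or.inl ⟨FreeGroup.lift g (FreeGroup.of i), ?_⟩)
      rw [← hφ]
      simp only [iL, FreeGroup.map.of]
      rfl
    | right i =>
      obtain rfl : i = 0 := Subsingleton.elim _ _
      exact Subgroup.subset_closure (Or.inr rfl)
  have hΦφ : ∀ B, Φ (φ B) = φ₀ B := fun B => by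
    rw [← hwd' B, ← hφ]
    exact htA (wd B)
  have hΦu : Φ u = swO hzo := htU
  have C : Compat p o φ (psiU hpo φ u) (fun x => piO (Φ x)) :=
    { one := fun v => by rw [map_one, piO_one]
      mul := fun x y v => by rw [map_mul, piO_mul]
      levi := fun B v => by rw [hΦφ, piO_levO]
      root := fun M v => by
        rw [psiU_apply, map_mul, map_mul, map_inv, hΦu, hΦφ]
        exact piO_psiO hzo hzp hpo M v }
  have hinj : Function.Injective Φ := by
    rw [injective_iff_map_eq_one]
    intro x hx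
    exact faithful m (Fin (m + 2)) (Fintype.card_fin _) _ p o φ (psiU hpo φ u) _ R C hgen x fun v => by
      rw [hx, piO_one]
  have hrange : Φ.range = Cfsg.Omega F (⇑(qfPlus (m + 2) F)) := by
    refine le_antisymm ?_ (omega_le R C (by omega))
    rw [MonoidHom.range_eq_map, ← PresentedGroup.closure_range_of, MonoidHom.map_closure, Subgroup.closure_le]
    rintro _ ⟨_, ⟨i, rfl⟩, rfl⟩
    rw [show Φ (PresentedGroup.of i) = t i from PresentedGroup.toGroup.of hold]
    induction i using Fin.addCases (m := l) (n := 1) with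
    | left i => rw [show t (Fin.castAdd 1 i) = φ₀ (g i) from Fin.append_left _ _ i]; exact levO_mem (by omega) _
    | right i =>
      rw [show t (Fin.natAdd l i) = swO hzo from Fin.append_right _ _ i]
      exact swO_mem (by omega) hzo hzp hpo
  exact ⟨(MonoidHom.ofInjective hinj).trans (MulEquiv.subgroupCongr hrange)⟩

/-- The central quotient costs one more relator. -/
theorem pOmega_of_omega [Fintype F] {n k K : ℕ} (hn : 3 ≤ n)
    (h : PresBy k ↥(Cfsg.Omega F (⇑(qfPlus n F))) K) : PresBy k (Cfsg.POmega F (⇑(qfPlus n F))) (K + 1) := by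
  classical
  have hc := CfsgLib.Classical.mem_center_omega_iff (qfPlus n F) (CfsgLib.Classical.qfPlus_sep n)
    (by rw [Fintype.card_sum, Fintype.card_fin]; omega)
  by_cases hneg : ∃ g : ↥(Cfsg.Omega F (⇑(qfPlus n F))),
      ((g.1 : GL (Fin n ⊕ Fin n) F) : Matrix (Fin n ⊕ Fin n) (Fin n ⊕ Fin n) F) = -1
  · obtain ⟨g, hg⟩ := hneg
    refine h.quot _ g (le_antisymm (fun x hx => ?_) (Subgroup.zpowers_le.2 ((hc g).2 (Or.inr hg))))
    rcases (hc x).1 hx with hx | hx
    · rw [show x = 1 from Subtype.ext (Subtype.ext (Units.ext hx))]; exact one_mem _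
    · rw [show x = g from Subtype.ext (Subtype.ext (Units.ext (hx.trans hg.symm)))]; exact Subgroup.mem_zpowers _
  · refine h.quot _ 1 (le_antisymm (fun x hx => ?_) (Subgroup.zpowers_le.2 (one_mem _)))
    rcases (hc x).1 hx with hx | hx
    · rw [show x = 1 from Subtype.ext (Subtype.ext (Units.ext hx))]; exact one_mem _
    · exact absurd ⟨x, hx⟩ hneg

/-- The presentations with eight generators. -/
theorem omega_eight (F : Type*) [Field F] [Fintype F] {n : ℕ} (hn : 4 ≤ n) :
    PresBy 8 ↥(Cfsg.Omega F (⇑(qfPlus n F))) 30 ∧ (n ≤ 5 → PresBy 8 ↥(Cfsg.Omega F (⇑(qfPlus n F))) 29) := by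
  obtain ⟨m, rfl⟩ : ∃ m, n = m + 2 := ⟨n - 2, by omega⟩
  rcases (show m = 2 ∨ m = 3 ∨ 4 ≤ m by omega) with rfl | rfl | h4
  · exact ⟨((omega_pres (m := 2) le_rfl sl_four).pad.pad).mono (by simp),
      fun _ => ((omega_pres (m := 2) le_rfl sl_four).pad.pad).mono (by simp)⟩
  · exact ⟨((omega_pres (m := 3) (by omega) sl_five).pad.pad).mono (by simp),
      fun _ => ((omega_pres (m := 3) (by omega) sl_five).pad.pad).mono (by simp)⟩
  · exact ⟨((omega_pres (by omega) (sl_n (by omega))).pad.pad).mono (by simp [show m ≠ 2 by omega]), fun h => by omega⟩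

end CfsgLib.Pres.DnN
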