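import Cfsg.Agent.Lib.Pres.SpRoots

/-!
# The Siegel radical in a group with the relations of `Ω⁺_{2n}`

`φ` is the Levi part `SL_n`, `ψ` the root `SL₂` at the pair of indices `p, o`.
-/

set_option autoImplicit false

namespace CfsgLib.Pres.DnN

open Matrix
open scoped MatrixGroups
open CfsgLib.Classical (uElt uElt_val uElt_add)
open CfsgLib.Pres.SpN

variable {F : Type*} [Field F] {ι : Type*} [Fintype ι] [DecidableEq ι] {G : Type*} [Group G]

theorem wElt_inv_val' : (((wElt F)⁻¹ : SL(2, F)) : Matrix (Fin 2) (Fin 2) F) = !![0, -1; 1, 0] := by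
  rw [Matrix.SpecialLinearGroup.coe_inv]
  simp [wElt, Matrix.adjugate_fin_two]

/-- The torus of the long root at two indices. -/
def dg2 (p o : ι) : Fˣ →* GL ι F where
  toFun c := dg p c * dg o c
  map_one' := by simp
  map_mul' a b := by
    rw [map_mul, map_mul]
    refine Units.ext ?_
    simp only [Units.val_mul, dg_val, Matrix.diagonal_mul_diagonal]
    congr 1
    funext i
    ring

theorem dg2_val {p o : ι} (h : p ≠ o) (c : Fˣ) :
    (dg2 p o c : Matrix ι ι F) = Matrix.diagonal (fun i => if i = p ∨ i = o then (c : F) else 1) := by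
  show ((dg p c * dg o c : GL ι F) : Matrix ι ι F) = _
  rw [Units.val_mul, dg_val, dg_val, Matrix.diagonal_mul_diagonal]
  congr 1
  funext i
  by_cases h1 : i = p <;> by_cases h2 : i = o <;> simp_all

/-- The first two indices of three. -/
abbrev h01 : (0 : Fin 3) ≠ 1 := by decide

/-- The last two indices of three. -/
abbrev h12 : (1 : Fin 3) ≠ 2 := by decide

/-- The outer two indices of three. -/
abbrev h02 : (0 : Fin 3) ≠ 2 := by decide

/-- The relations. -/
structure DRels (p o : ι) (φ : Matrix.SpecialLinearGroup ι F →* G) (ψ : SL(2, F) →* G) : Prop where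
  ne : p ≠ o
  comm : ∀ (B : Matrix.SpecialLinearGroup ι F) (M : SL(2, F)),
    Blk p (Matrix.SpecialLinearGroup.toGL B) → Blk o (Matrix.SpecialLinearGroup.toGL B) → Commute (φ B) (ψ M)
  pc : ∀ (h : p ≠ o) (M M' : SL(2, F)), Commute (φ (emb h M)) (ψ M')
  conjD : ∀ (c : Fˣ) (A B : Matrix.SpecialLinearGroup ι F),
    (Matrix.SpecialLinearGroup.toGL B : GL ι F) = dg2 p o c * Matrix.SpecialLinearGroup.toGL A * (dg2 p o c)⁻¹ →
      ψ (dElt c) * φ A * (ψ (dElt c))⁻¹ = φ B
  neg : ∀ h : p ≠ o, ψ (-1) = φ (emb h (-1))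
  triple : ∀ (k : ι) (hp : k ≠ p), k ≠ o →
    ∃ χ : SL(3, F) →* G, (∀ M, χ (emb h01 M) = φ (emb hp M)) ∧ ∀ M, χ (emb h12 M) = ψ M

theorem dg_mulVec (a : ι) (c : Fˣ) (i : ι) :
    (dg a c : Matrix ι ι F) *ᵥ e F i = (if i = a then (c : F) else 1) • e F i := by
  funext j
  rw [dg_val, Matrix.mulVec_diagonal, Pi.smul_apply, smul_eq_mul]
  rcases eq_or_ne j i with rfl | hji
  · rcases eq_or_ne j a with rfl | hja <;> simp [*]
  · simp [hji]

/-- A pair of independent vectors as two columns. -/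
theorem exists_pair {p o : ι} (h : p ≠ o) {v : ι → F} (hv : v ≠ 0) (w : ι → F) :
    (∃ c : F, w = c • v) ∨ ∃ (B : Matrix.SpecialLinearGroup ι F) (c : Fˣ),
      (B : Matrix ι ι F) *ᵥ e F p = v ∧ (c : F) • ((B : Matrix ι ι F) *ᵥ e F o) = w := by
  rcases exists_two p hv w with hc | ⟨A, k, hk, hAp, hAk⟩
  · exact Or.inl hc
  refine Or.inr ?_
  set A' := A * permG (Equiv.swap o k) with hA'
  set c := Matrix.GeneralLinearGroup.det A' with hc
  have h1 : (A' : Matrix ι ι F) *ᵥ e F p = v := by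
    rw [hA', Units.val_mul, ← Matrix.mulVec_mulVec]
    have hfix : ((permG (Equiv.swap o k) : GL ι F) : Matrix ι ι F) *ᵥ e F p = e F p := by
      funext i
      rw [permG_mulVec, Function.comp_apply, e, Pi.single_apply, Pi.single_apply]
      refine if_congr ?_ rfl rfl
      rw [← Equiv.eq_symm_apply, Equiv.symm_swap, Equiv.swap_apply_of_ne_of_ne h hk.symm]
    rw [hfix, hAp]
  have h2 : (A' : Matrix ι ι F) *ᵥ e F o = w := by
    rw [hA', Units.val_mul, ← Matrix.mulVec_mulVec, permG_swap_mulVec, hAk]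
  refine ⟨slPart o A', c, ?_, ?_⟩
  · show ((A' * (dg o c)⁻¹ : GL ι F) : Matrix ι ι F) *ᵥ e F p = v
    rw [← map_inv, Units.val_mul, ← Matrix.mulVec_mulVec, dg_mulVec, if_neg h, one_smul, h1]
  · show (c : F) • (((A' * (dg o c)⁻¹ : GL ι F) : Matrix ι ι F) *ᵥ e F o) = w
    rw [← map_inv, Units.val_mul, ← Matrix.mulVec_mulVec, dg_mulVec, if_pos rfl, Matrix.mulVec_smul, h2, smul_smul,
      Units.mul_inv, one_smul]

theorem sl_mulVec_ne_zero (B : Matrix.SpecialLinearGroup ι F) (i : ι) : (B : Matrix ι ι F) *ᵥ e F i ≠ 0 := fun h =>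
  one_ne_zero (α := F) (by
    simpa using congrFun ((mulVec_eq_zero_iff (Matrix.SpecialLinearGroup.toGL B) (e F i)).1 h) i)

variable {p o : ι} {φ : Matrix.SpecialLinearGroup ι F →* G} {ψ : SL(2, F) →* G} (R : DRels p o φ ψ)
include R

local notation "X" => SpFour.X ψ

theorem pc_X (M : SL(2, F)) (t : F) : Commute (φ (emb R.ne M)) (X t) := R.pc R.ne M _

theorem conj_pw_emb {k : ι} (hp : k ≠ p) (ho : k ≠ o) (M : SL(2, F)) :
    φ (emb ho M) = φ (emb R.ne (wElt F))⁻¹ * φ (emb hp M) * φ (emb R.ne (wElt F)) := by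
  rw [← map_mul, ← map_mul]
  congr 1
  let t : Fin 3 ↪ ι := ⟨![k, p, o], by
    intro a b hab
    fin_cases a <;> fin_cases b <;> simp_all [R.ne, R.ne.symm, hp.symm, ho.symm]⟩
  have he : ∀ {a b : Fin 3} (h : a ≠ b) (h' : t a ≠ t b) (M : SL(2, F)), emb h' M = extS t (emb h M) := by
    intro a b h h' M
    rw [emb, emb, extS_extS]
    congr 2
    ext x
    fin_cases x <;> rfl
  have key : (emb h12 (wElt F) * emb h02 M : SL(3, F)) = emb h01 M * emb h12 (wElt F) := by
    refine Subtype.ext ?_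
    rw [Matrix.SpecialLinearGroup.coe_mul, Matrix.SpecialLinearGroup.coe_mul]
    ext i j
    rw [Matrix.mul_apply, Matrix.mul_apply, Fin.sum_univ_three, Fin.sum_univ_three]
    simp only [emb_entry]
    fin_cases i <;> fin_cases j <;> simp [wElt, Matrix.one_apply]
  rw [show emb R.ne (wElt F) = extS t (emb h12 (wElt F)) from he h12 R.ne _,
    show emb hp M = extS t (emb h01 M) from he h01 hp M, show emb ho M = extS t (emb h02 M) from he h02 ho M,
    mul_assoc, eq_inv_mul_iff_mul_eq, ← map_mul, ← map_mul, key]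

theorem comm_lo_p {k : ι} (hp : k ≠ p) (ho : k ≠ o) (s t : F) : Commute (φ (emb hp (lElt s))) (X t) := by
  obtain ⟨χ, h1, h2⟩ := R.triple k hp ho
  rw [← h1, SpFour.X, ← h2]
  refine Commute.map ?_ χ
  refine Subtype.ext ?_
  rw [Matrix.SpecialLinearGroup.coe_mul, Matrix.SpecialLinearGroup.coe_mul]
  ext i j
  rw [Matrix.mul_apply, Matrix.mul_apply, Fin.sum_univ_three, Fin.sum_univ_three]
  simp only [emb_entry]
  fin_cases i <;> fin_cases j <;> simp [uElt_val, lElt_val, Matrix.one_apply]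

theorem comm_lo_o {k : ι} (hp : k ≠ p) (ho : k ≠ o) (s t : F) : Commute (φ (emb ho (lElt s))) (X t) := by
  rw [conj_pw_emb R hp ho]
  have hw := pc_X R (wElt F) t
  have := (hw.inv_left.mul_left (comm_lo_p R hp ho s t)).mul_left hw
  rwa [← map_inv] at this

theorem comm_loG {i : ι} (hi : i = p ∨ i = o) {r : ι → F} (hrp : r p = 0) (hro : r o = 0)
    {B : Matrix.SpecialLinearGroup ι F} (hB : (Matrix.SpecialLinearGroup.toGL B : GL ι F) = loG i r) (t : F) :
    Commute (φ B) (X t) := by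
  have key : ∀ s : Finset ι, ∃ C : Matrix.SpecialLinearGroup ι F,
      (Matrix.SpecialLinearGroup.toGL C : GL ι F) = loG i (∑ k ∈ s, Pi.single k (r k)) ∧ Commute (φ C) (X t) := by
    intro s
    induction s using Finset.induction_on with
    | empty => exact ⟨1, by rw [map_one, Finset.sum_empty, loG_zero], by rw [map_one]; exact Commute.one_left _⟩
    | insert k s hks ih =>
      obtain ⟨C, hC, hC'⟩ := ih
      rcases eq_or_ne (r k) 0 with h0 | h0
      · exact ⟨C, by rw [Finset.sum_insert hks, h0, Pi.single_zero, zero_add, hC], hC'⟩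
      have hkp : k ≠ p := fun h => h0 (h ▸ hrp)
      have hko : k ≠ o := fun h => h0 (h ▸ hro)
      have hki : k ≠ i := by rcases hi with rfl | rfl <;> assumption
      refine ⟨emb hki (lElt (r k)) * C, ?_, ?_⟩
      · rw [map_mul, ← loG_single hki, hC, Finset.sum_insert hks, loG_add (by simp [hki.symm])]
        rw [Finset.sum_apply]
        refine Finset.sum_eq_zero fun j _ => ?_
        rcases eq_or_ne j i with rfl | hj
        · rcases hi with rfl | rfl <;> simp [hrp, hro]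
        · simp [hj.symm]
      · rw [map_mul]
        refine Commute.mul_left ?_ hC'
        rcases hi with rfl | rfl
        · exact comm_lo_p R hkp hko _ _
        · exact comm_lo_o R hkp hko _ _
  obtain ⟨C, hC, hC'⟩ := key Finset.univ
  rw [Finset.univ_sum_single] at hC
  rwa [toGL_inj (hB.trans hC.symm)]

/-- Elements fixing both columns centralise the root group. -/
theorem comm_fix {C : Matrix.SpecialLinearGroup ι F} (h1 : (C : Matrix ι ι F) *ᵥ e F p = e F p)
    (h2 : (C : Matrix ι ι F) *ᵥ e F o = e F o) (t : F) : Commute (φ C) (X t) := by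
  obtain ⟨r, hr, B, hB, hAB⟩ := exists_lo_blk (o := p) (A := Matrix.SpecialLinearGroup.toGL C) h1
  have hBe : B = (loG p r)⁻¹ * Matrix.SpecialLinearGroup.toGL C := by rw [hAB, inv_mul_cancel_left]
  have hBo : (B : Matrix ι ι F) *ᵥ e F o = e F o - r o • e F p := by
    rw [hBe, ← loG_neg hr, Units.val_mul, ← Matrix.mulVec_mulVec]
    show (loG p (-r) : Matrix ι ι F) *ᵥ ((C : Matrix ι ι F) *ᵥ e F o) = _
    rw [h2, loG_val (show (-r) p = 0 by simp [hr]), loM, Matrix.add_mulVec, Matrix.one_mulVec,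
      Matrix.vecMulVec_mulVec]
    funext i
    simp [sub_eq_add_neg, mul_comm]
  have hro : r o = 0 := by
    have h3 := congrFun hB.2 o
    rw [Matrix.single_one_vecMul, Matrix.row_apply, Pi.single_eq_of_ne R.ne.symm] at h3
    have h4 := congrFun hBo p
    rw [Matrix.mulVec_single_one, Matrix.col_apply] at h4
    rw [h3] at h4
    simpa [R.ne] using h4.symm
  rw [hro, zero_smul, sub_zero] at hBo
  obtain ⟨r', hr', B', hB', hBB⟩ := exists_lo_blk (o := o) (A := B) hBo
  have hB'e : B' = (loG o r')⁻¹ * B := by rw [hBB, inv_mul_cancel_left]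
  have hB'p : (B' : Matrix ι ι F) *ᵥ e F p = e F p - r' p • e F o := by
    rw [hB'e, ← loG_neg hr', Units.val_mul, ← Matrix.mulVec_mulVec, hB.1,
      loG_val (show (-r') o = 0 by simp [hr']), loM, Matrix.add_mulVec, Matrix.one_mulVec, Matrix.vecMulVec_mulVec]
    funext i
    simp [sub_eq_add_neg, mul_comm]
  have hr'p : r' p = 0 := by
    have h3 := congrFun hB'.2 p
    rw [Matrix.single_one_vecMul, Matrix.row_apply, Pi.single_eq_of_ne R.ne] at h3
    have h4 := congrFun hB'p o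
    rw [Matrix.mulVec_single_one, Matrix.col_apply] at h4
    rw [h3] at h4
    simpa [R.ne.symm] using h4.symm
  rw [hr'p, zero_smul, sub_zero] at hB'p
  have hB'2 : Blk p B' := ⟨hB'p, by
    funext i
    rw [Matrix.single_one_vecMul, Matrix.row_apply, hB'e, ← loG_neg hr', Units.val_mul,
      loG_val (show (-r') o = 0 by simp [hr']), Matrix.mul_apply]
    rw [Finset.sum_eq_single p (fun j _ hj => by simp [loM, Matrix.vecMulVec_apply, R.ne, hj.symm])
      (fun h => absurd (Finset.mem_univ p) h)]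
    have h3 := congrFun hB.2 i
    rw [Matrix.single_one_vecMul, Matrix.row_apply] at h3
    rw [h3]
    simp [loM, Matrix.vecMulVec_apply, R.ne]⟩
  -- back in `SL`
  have hdet : ∀ (j : ι) (s : ι → F), s j = 0 → (loG j s : Matrix ι ι F).det = 1 := fun j s hs => by
    rw [loG_val hs]
    show (1 + Matrix.vecMulVec (Pi.single j 1) s).det = 1
    rw [Matrix.vecMulVec_eq Unit, Matrix.det_one_add_replicateCol_mul_replicateRow]
    simp [hs]
  let L1 : Matrix.SpecialLinearGroup ι F := ⟨(loG p r : Matrix ι ι F), hdet p r hr⟩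
  let L2 : Matrix.SpecialLinearGroup ι F := ⟨(loG o r' : Matrix ι ι F), hdet o r' hr'⟩
  have e1 : (Matrix.SpecialLinearGroup.toGL L1 : GL ι F) = loG p r := Units.ext rfl
  have e2 : (Matrix.SpecialLinearGroup.toGL L2 : GL ι F) = loG o r' := Units.ext rfl
  have e3 : (Matrix.SpecialLinearGroup.toGL (L2⁻¹ * (L1⁻¹ * C)) : GL ι F) = B' := by
    rw [map_mul, map_mul, map_inv, map_inv, e1, e2, hB'e, hBe]
  have hc3 : Commute (φ (L2⁻¹ * (L1⁻¹ * C))) (X t) := R.comm _ _ (e3.symm ▸ hB'2) (e3.symm ▸ hB')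
  have hc1 := comm_loG R (Or.inl rfl) hr hro e1 t
  have hc2 := comm_loG R (Or.inr rfl) hr'p hr' e2 t
  have := hc1.mul_left (hc2.mul_left hc3)
  rwa [← map_mul, ← map_mul, mul_inv_cancel_left, mul_inv_cancel_left] at this

/-- Scaling of the root group by the stabiliser of the pair. -/
theorem scale_fix {C : Matrix.SpecialLinearGroup ι F} {a : Fˣ} (h1 : (C : Matrix ι ι F) *ᵥ e F p = e F p)
    (h2 : (C : Matrix ι ι F) *ᵥ e F o = (a : F) • e F o) (t : F) :
    φ C * X t * (φ C)⁻¹ = X ((a : F) * t) := by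
  by_cases hk : ∃ k, k ≠ p ∧ k ≠ o
  · obtain ⟨k, hkp, hko⟩ := hk
    have hdec : emb hko (dElt a⁻¹) = emb hkp (dElt a⁻¹) * emb R.ne (dElt a⁻¹) := toGL_inj (by
      rw [map_mul, emb_dElt, emb_dElt, emb_dElt]; group)
    have hT : φ (emb hko (dElt a⁻¹)) * X t * (φ (emb hko (dElt a⁻¹)))⁻¹ = X ((a : F) * t) := by
      obtain ⟨χ, c1, c2⟩ := R.triple k hkp hko
      have hc := (pc_X R (dElt a⁻¹) t).eq
      rw [hdec, map_mul, show φ (emb hkp (dElt a⁻¹)) * φ (emb R.ne (dElt a⁻¹)) * X t *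
          (φ (emb hkp (dElt a⁻¹)) * φ (emb R.ne (dElt a⁻¹)))⁻¹ =
        φ (emb hkp (dElt a⁻¹)) * (φ (emb R.ne (dElt a⁻¹)) * X t * (φ (emb R.ne (dElt a⁻¹)))⁻¹) *
          (φ (emb hkp (dElt a⁻¹)))⁻¹ by group, hc, mul_inv_cancel_right, SpFour.X, SpFour.X, ← c2, ← c2, ← c1,
        mul_inv_eq_iff_eq_mul, ← map_mul, ← map_mul]
      congr 1
      refine Subtype.ext ?_
      rw [Matrix.SpecialLinearGroup.coe_mul, Matrix.SpecialLinearGroup.coe_mul]
      ext i j
      rw [Matrix.mul_apply, Matrix.mul_apply, Fin.sum_univ_three, Fin.sum_univ_three]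
      simp only [emb_entry]
      fin_cases i <;> fin_cases j <;> simp [uElt_val, dElt, Matrix.one_apply, mul_comm]
    have hval : ∀ j, ((emb hko (dElt a⁻¹) : Matrix.SpecialLinearGroup ι F) : Matrix ι ι F) *ᵥ e F j =
        ((if j = k then ((a⁻¹ : Fˣ) : F) else if j = o then (a : F) else 1) : F) • e F j := fun j => by
      show ((Matrix.SpecialLinearGroup.toGL (emb hko (dElt a⁻¹)) : GL ι F) : Matrix ι ι F) *ᵥ e F j = _
      rw [emb_dElt, ← map_inv, inv_inv, Units.val_mul, ← Matrix.mulVec_mulVec, dg_mulVec, Matrix.mulVec_smul,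
        dg_mulVec, smul_smul]
      congr 1
      rcases eq_or_ne j k with rfl | hjk
      · simp [hko]
      · rcases eq_or_ne j o with rfl | hjo <;> simp [*]
    have hfix := comm_fix R (C := (emb hko (dElt a⁻¹))⁻¹ * C) (by
      rw [Matrix.SpecialLinearGroup.coe_mul, ← Matrix.mulVec_mulVec, h1]
      conv_lhs => rw [show e F p = ((emb hko (dElt a⁻¹) : Matrix.SpecialLinearGroup ι F) : Matrix ι ι F) *ᵥ e F p by
        rw [hval, if_neg hkp.symm, if_neg R.ne, one_smul]]
      rw [Matrix.mulVec_mulVec, ← Matrix.SpecialLinearGroup.coe_mul, inv_mul_cancel,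
        Matrix.SpecialLinearGroup.coe_one, Matrix.one_mulVec]) (by
      rw [Matrix.SpecialLinearGroup.coe_mul, ← Matrix.mulVec_mulVec, h2]
      conv_lhs => rw [show (a : F) • e F o = ((emb hko (dElt a⁻¹) : Matrix.SpecialLinearGroup ι F) : Matrix ι ι F) *ᵥ e F o by
        rw [hval, if_neg hko.symm, if_pos rfl]]
      rw [Matrix.mulVec_mulVec, ← Matrix.SpecialLinearGroup.coe_mul, inv_mul_cancel,
        Matrix.SpecialLinearGroup.coe_one, Matrix.one_mulVec]) t
    rw [show C = emb hko (dElt a⁻¹) * ((emb hko (dElt a⁻¹))⁻¹ * C) from (mul_inv_cancel_left _ _).symm, map_mul,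
      show ∀ x y : G, x * y * X t * (x * y)⁻¹ = x * (y * X t * y⁻¹) * x⁻¹ from fun x y => by group, hfix.eq,
      mul_inv_cancel_right, hT]
  · simp only [not_exists, not_and, not_not] at hk
    have ha : a = 1 := by
      have hdet := C.2
      have huniv : (C : Matrix ι ι F) = Matrix.diagonal (fun i => if i = o then (a : F) else 1) := by
        ext i j
        by_cases hjp : j = p
        · subst hjp
          have := congrFun h1 i
          rw [Matrix.mulVec_single_one, Matrix.col_apply] at this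
          rw [this, Matrix.diagonal_apply]
          show (Pi.single j (1 : F) : ι → F) i = _
          rw [Pi.single_apply]
          by_cases hij : i = j
          · subst hij; simp [R.ne]
          · simp [hij]
        · obtain rfl : j = o := hk j hjp
          have := congrFun h2 i
          rw [Matrix.mulVec_single_one, Matrix.col_apply] at this
          rw [this, Matrix.diagonal_apply]
          by_cases hij : i = j
          · subst hij; simp
          · simp [hij]
      rw [huniv, Matrix.det_diagonal, Finset.prod_ite_eq' Finset.univ o (fun _ => (a : F))] at hdet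
      exact Units.ext (by simpa using hdet)
    subst ha
    rw [Units.val_one, one_smul] at h2
    rw [(comm_fix R h1 h2 t).eq, mul_inv_cancel_right, Units.val_one, one_mul]

/-- The root elements of the Siegel radical. -/
noncomputable def biv (v w : ι → F) (t : F) : G :=
  have _hne := R.ne
  haveI := Classical.dec (∃ (B : Matrix.SpecialLinearGroup ι F) (c : Fˣ),
    (B : Matrix ι ι F) *ᵥ e F p = v ∧ (c : F) • ((B : Matrix ι ι F) *ᵥ e F o) = w)
  if h : ∃ (B : Matrix.SpecialLinearGroup ι F) (c : Fˣ),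
      (B : Matrix ι ι F) *ᵥ e F p = v ∧ (c : F) • ((B : Matrix ι ι F) *ᵥ e F o) = w then
    φ h.choose * X ((h.choose_spec.choose : F) * t) * (φ h.choose)⁻¹
  else 1

theorem biv_eq (B : Matrix.SpecialLinearGroup ι F) (c : Fˣ) (t : F) :
    biv R ((B : Matrix ι ι F) *ᵥ e F p) ((c : F) • ((B : Matrix ι ι F) *ᵥ e F o)) t =
      φ B * X ((c : F) * t) * (φ B)⁻¹ := by
  have hex : ∃ (B' : Matrix.SpecialLinearGroup ι F) (c' : Fˣ), (B' : Matrix ι ι F) *ᵥ e F p = (B : Matrix ι ι F) *ᵥ e F p ∧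
      (c' : F) • ((B' : Matrix ι ι F) *ᵥ e F o) = (c : F) • ((B : Matrix ι ι F) *ᵥ e F o) := ⟨B, c, rfl, rfl⟩
  rw [biv, dif_pos hex]
  obtain ⟨g1, g2⟩ := hex.choose_spec.choose_spec
  set B' := hex.choose with hB'
  set c' := hex.choose_spec.choose with hc'
  have h1 : ((B'⁻¹ * B : Matrix.SpecialLinearGroup ι F) : Matrix ι ι F) *ᵥ e F p = e F p := by
    rw [Matrix.SpecialLinearGroup.coe_mul, ← Matrix.mulVec_mulVec, ← g1, Matrix.mulVec_mulVec,
      ← Matrix.SpecialLinearGroup.coe_mul, inv_mul_cancel, Matrix.SpecialLinearGroup.coe_one, Matrix.one_mulVec]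
  have h2 : ((B'⁻¹ * B : Matrix.SpecialLinearGroup ι F) : Matrix ι ι F) *ᵥ e F o = ((c' * c⁻¹ : Fˣ) : F) • e F o := by
    have g3 : (B : Matrix ι ι F) *ᵥ e F o = ((c' * c⁻¹ : Fˣ) : F) • ((B' : Matrix ι ι F) *ᵥ e F o) := by
      rw [Units.val_mul, mul_comm, mul_smul, g2, smul_smul, Units.inv_mul, one_smul]
    rw [Matrix.SpecialLinearGroup.coe_mul, ← Matrix.mulVec_mulVec, g3, Matrix.mulVec_smul, Matrix.mulVec_mulVec,
      ← Matrix.SpecialLinearGroup.coe_mul, inv_mul_cancel, Matrix.SpecialLinearGroup.coe_one, Matrix.one_mulVec]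
  show φ B' * X ((c' : F) * t) * (φ B')⁻¹ = _
  have h3 := scale_fix R h1 h2 ((c : F) * t)
  rw [show ((c' * c⁻¹ : Fˣ) : F) * ((c : F) * t) = (c' : F) * t by
    rw [Units.val_mul, mul_assoc, ← mul_assoc ((c⁻¹ : Fˣ) : F), Units.inv_mul, one_mul]] at h3
  rw [← h3, map_mul, map_inv]
  group

theorem biv_dep (v : ι → F) (d : F) (t : F) : biv R v (d • v) t = 1 := by
  rw [biv, dif_neg]
  rintro ⟨B, c, h1, h2⟩
  have h3 : (B : Matrix ι ι F) *ᵥ ((c : F) • e F o) = (B : Matrix ι ι F) *ᵥ (d • e F p) := by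
    rw [Matrix.mulVec_smul, Matrix.mulVec_smul, h1, h2]
  have h4 := congrFun (Matrix.mulVec_injective_iff_isUnit.2
    ((Matrix.isUnit_iff_isUnit_det _).2 (by rw [B.2]; exact isUnit_one)) h3) o
  simp [R.ne.symm] at h4

theorem biv_zero_left (w : ι → F) (t : F) : biv R 0 w t = 1 := by
  rw [biv, dif_neg]
  rintro ⟨B, c, h1, -⟩
  exact sl_mulVec_ne_zero B p h1

theorem biv_add (v w : ι → F) (s t : F) : biv R v w (s + t) = biv R v w s * biv R v w t := by
  by_cases h : ∃ (B : Matrix.SpecialLinearGroup ι F) (c : Fˣ),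
      (B : Matrix ι ι F) *ᵥ e F p = v ∧ (c : F) • ((B : Matrix ι ι F) *ᵥ e F o) = w
  · obtain ⟨B, c, rfl, rfl⟩ := h
    rw [biv_eq, biv_eq, biv_eq, mul_add, SpFour.X_add]
    group
  · rw [biv, biv, biv, dif_neg h, dif_neg h, dif_neg h, one_mul]

theorem biv_zero (v w : ι → F) : biv R v w 0 = 1 := by
  have h := biv_add R v w 0 0
  rwa [add_zero, left_eq_mul] at h

theorem biv_conj (A : Matrix.SpecialLinearGroup ι F) (v w : ι → F) (t : F) :
    φ A * biv R v w t * (φ A)⁻¹ = biv R ((A : Matrix ι ι F) *ᵥ v) ((A : Matrix ι ι F) *ᵥ w) t := by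
  rcases eq_or_ne v 0 with rfl | hv
  · rw [Matrix.mulVec_zero, biv_zero_left, biv_zero_left, mul_one, mul_inv_cancel]
  rcases exists_pair R.ne hv w with ⟨d, rfl⟩ | ⟨B, c, rfl, rfl⟩
  · rw [Matrix.mulVec_smul, biv_dep, biv_dep, mul_one, mul_inv_cancel]
  rw [Matrix.mulVec_smul, Matrix.mulVec_mulVec, Matrix.mulVec_mulVec, ← Matrix.SpecialLinearGroup.coe_mul, biv_eq,
    biv_eq, map_mul]
  group

theorem biv_po (t : F) : biv R (e F p) (e F o) t = X t := by
  have h := biv_eq R 1 1 t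
  rwa [Matrix.SpecialLinearGroup.coe_one, Matrix.one_mulVec, Matrix.one_mulVec, Units.val_one, one_smul, one_mul,
    map_one, one_mul, inv_one, mul_one] at h

theorem biv_smul_right (v w : ι → F) (c t : F) : biv R v (c • w) t = biv R v w (c * t) := by
  rcases eq_or_ne c 0 with rfl | hc
  · rw [zero_smul, zero_mul, biv_zero, show (0 : ι → F) = (0 : F) • v from (zero_smul _ _).symm, biv_dep]
  rcases eq_or_ne v 0 with rfl | hv
  · rw [biv_zero_left, biv_zero_left]
  rcases exists_pair R.ne hv w with ⟨d, rfl⟩ | ⟨B, c', rfl, rfl⟩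
  · rw [smul_smul, biv_dep, biv_dep]
  rw [smul_smul, show c * (c' : F) = ((Units.mk0 c hc * c' : Fˣ) : F) from rfl, biv_eq, biv_eq]
  congr 3
  show c * (c' : F) * t = (c' : F) * (c * t)
  ring

theorem emb_mulVec {a b : ι} (h : a ≠ b) (M : SL(2, F)) :
    ((emb h M : Matrix.SpecialLinearGroup ι F) : Matrix ι ι F) *ᵥ e F a = M.1 0 0 • e F a + M.1 1 0 • e F b ∧
      ((emb h M : Matrix.SpecialLinearGroup ι F) : Matrix ι ι F) *ᵥ e F b = M.1 0 1 • e F a + M.1 1 1 • e F b ∧
        ∀ j, j ≠ a → j ≠ b → ((emb h M : Matrix.SpecialLinearGroup ι F) : Matrix ι ι F) *ᵥ e F j = e F j := by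
  refine ⟨?_, ?_, fun j hja hjb => ?_⟩ <;> funext i <;>
    rw [Matrix.mulVec_single_one, Matrix.col_apply, emb_entry]
  · by_cases h1 : i = a <;> by_cases h2 : i = b <;> simp_all [h, h.symm]
  · by_cases h1 : i = a <;> by_cases h2 : i = b <;> simp_all [h, h.symm]
  · by_cases h1 : i = a <;> by_cases h2 : i = b <;> simp_all [h, h.symm, Matrix.one_apply, Pi.single_apply, eq_comm]

theorem biv_swap (v w : ι → F) (t : F) : biv R w v t = biv R v w (-t) := by
  rcases eq_or_ne v 0 with rfl | hv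
  · rw [biv_zero_left, show (0 : ι → F) = (0 : F) • w from (zero_smul _ _).symm, biv_dep]
  rcases exists_pair R.ne hv w with ⟨d, rfl⟩ | ⟨B, c, rfl, rfl⟩
  · rcases eq_or_ne d 0 with rfl | hd
    · rw [zero_smul, biv_zero_left, show (0 : ι → F) = (0 : F) • v from (zero_smul _ _).symm, biv_dep]
    conv_lhs => arg 3; rw [show v = d⁻¹ • (d • v) by rw [smul_smul, inv_mul_cancel₀ hd, one_smul]]
    rw [biv_dep, biv_dep]
  obtain ⟨hwp, hwo, -⟩ := emb_mulVec R R.ne (wElt F)
  have hw1 : ((B * emb R.ne (wElt F) : Matrix.SpecialLinearGroup ι F) : Matrix ι ι F) *ᵥ e F o =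
      (B : Matrix ι ι F) *ᵥ e F p := by
    rw [Matrix.SpecialLinearGroup.coe_mul, ← Matrix.mulVec_mulVec, hwo]; simp [wElt]
  have hw2 : ((B * emb R.ne (wElt F) : Matrix.SpecialLinearGroup ι F) : Matrix ι ι F) *ᵥ e F p =
      -((B : Matrix ι ι F) *ᵥ e F o) := by
    rw [Matrix.SpecialLinearGroup.coe_mul, ← Matrix.mulVec_mulVec, hwp]; simp [wElt, Matrix.mulVec_neg]
  rw [biv_eq]
  -- move the scalar off the first slot
  set c' : Fˣ := -c with hc'
  have hpc : (c : F) • ((B : Matrix ι ι F) *ᵥ e F o) =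
      (c' : F) • (((B * emb R.ne (wElt F) : Matrix.SpecialLinearGroup ι F) : Matrix ι ι F) *ᵥ e F p) := by
    rw [hw2, hc', Units.val_neg, neg_smul, smul_neg, neg_neg]
  rw [hpc, ← hw1]
  set B' := B * emb R.ne (wElt F) with hB'
  obtain ⟨dp, do', -⟩ := emb_mulVec R R.ne (dElt c')
  have e1 : ((B' * emb R.ne (dElt c') : Matrix.SpecialLinearGroup ι F) : Matrix ι ι F) *ᵥ e F p =
      (c' : F) • ((B' : Matrix ι ι F) *ᵥ e F p) := by
    rw [Matrix.SpecialLinearGroup.coe_mul, ← Matrix.mulVec_mulVec, dp]; simp [dElt, Matrix.mulVec_smul]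
  have e2 : (c' : F) • (((B' * emb R.ne (dElt c') : Matrix.SpecialLinearGroup ι F) : Matrix ι ι F) *ᵥ e F o) =
      (B' : Matrix ι ι F) *ᵥ e F o := by
    rw [Matrix.SpecialLinearGroup.coe_mul, ← Matrix.mulVec_mulVec, do']; simp [dElt, Matrix.mulVec_smul, smul_smul]
  rw [← e1, ← e2, biv_eq, hB', map_mul, map_mul,
    show ∀ x y z w : G, x * y * z * w * (x * y * z)⁻¹ = x * (y * (z * w * z⁻¹) * y⁻¹) * x⁻¹ from fun _ _ _ _ => by
      group, (pc_X R (dElt c') _).eq, mul_inv_cancel_right, (pc_X R (wElt F) _).eq, mul_inv_cancel_right, hc',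
    Units.val_neg, neg_mul, mul_neg]

theorem biv_k_o {k : ι} (hp : k ≠ p) (ho : k ≠ o) (t : F) :
    biv R (e F k) (e F o) t = φ (emb hp (wElt F)) * X t * (φ (emb hp (wElt F)))⁻¹ := by
  have h := biv_eq R (emb hp (wElt F)) 1 t
  obtain ⟨-, h1, h2⟩ := emb_mulVec R hp (wElt F)
  rw [h1, h2 o ho.symm R.ne.symm, Units.val_one, one_smul, one_mul] at h
  simpa [wElt] using h

theorem biv_three {k : ι} (hp : k ≠ p) (ho : k ≠ o) (s t : F) :
    biv R (e F p + s • e F k) (e F o) t = biv R (e F p) (e F o) t * biv R (e F k) (e F o) (s * t) := by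
  obtain ⟨χ, h1, h2⟩ := R.triple k hp ho
  have h := biv_eq R (emb hp (uElt s)) 1 t
  obtain ⟨-, e1, e2⟩ := emb_mulVec R hp (uElt s)
  rw [e1, e2 o ho.symm R.ne.symm, Units.val_one, one_smul, one_mul] at h
  rw [show e F p + s • e F k = (uElt s).1 0 1 • e F k + (uElt s).1 1 1 • e F p by
    simp [uElt_val, add_comm], h, biv_k_o R hp ho, biv_po, SpFour.X, SpFour.X, ← h1, ← h1, ← h2, ← h2,
    mul_inv_eq_iff_eq_mul]
  simp only [← map_mul, ← map_inv]
  congr 1
  refine Subtype.ext ?_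
  simp only [Matrix.SpecialLinearGroup.coe_mul]
  ext i j
  simp only [Matrix.mul_apply, Fin.sum_univ_three, emb_entry, uElt_val, wElt_inv_val']
  fin_cases i <;> fin_cases j <;> simp [wElt, Matrix.one_apply, mul_comm]

theorem biv_add_left (v₁ v₂ w : ι → F) (t : F) : biv R (v₁ + v₂) w t = biv R v₁ w t * biv R v₂ w t := by
  rcases eq_or_ne w 0 with rfl | hw
  · have hz : ∀ v : ι → F, biv R v 0 t = 1 := fun v => by
      rw [show (0 : ι → F) = (0 : F) • v from (zero_smul _ _).symm, biv_dep]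
    rw [hz, hz, hz, one_mul]
  have hflip : ∀ v : ι → F, biv R v w t = biv R w v (-t) := fun v => biv_swap R w v t
  rw [hflip, hflip v₁, hflip v₂]
  have hsw : ∀ (v : ι → F) (a : F), biv R w (a • w + v) (-t) = biv R w v (-t) := by
    intro v a
    rcases exists_pair R.ne hw v with ⟨d, rfl⟩ | ⟨B, c, hB1, hB2⟩
    · rw [← add_smul, biv_dep, biv_dep]
    subst hB1 hB2
    set c0 : F := a * ((c⁻¹ : Fˣ) : F) with hc0
    obtain ⟨u1, u2, -⟩ := emb_mulVec R R.ne (uElt c0)
    have e1 : ((B * emb R.ne (uElt c0) : Matrix.SpecialLinearGroup ι F) : Matrix ι ι F) *ᵥ e F p =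
        (B : Matrix ι ι F) *ᵥ e F p := by
      rw [Matrix.SpecialLinearGroup.coe_mul, ← Matrix.mulVec_mulVec, u1]; simp [uElt_val]
    have e2 : (c : F) • (((B * emb R.ne (uElt c0) : Matrix.SpecialLinearGroup ι F) : Matrix ι ι F) *ᵥ e F o) =
        a • ((B : Matrix ι ι F) *ᵥ e F p) + (c : F) • ((B : Matrix ι ι F) *ᵥ e F o) := by
      rw [Matrix.SpecialLinearGroup.coe_mul, ← Matrix.mulVec_mulVec, u2]
      simp [uElt_val, Matrix.mulVec_add, Matrix.mulVec_smul, smul_smul, hc0]
      rw [mul_comm a, ← mul_assoc, mul_inv_cancel₀ c.ne_zero, one_mul]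
    rw [← e2]
    conv_lhs => arg 2; rw [← e1]
    rw [biv_eq, biv_eq, map_mul,
      show ∀ x y z : G, x * y * z * (x * y)⁻¹ = x * (y * z * y⁻¹) * x⁻¹ from fun _ _ _ => by group,
      (pc_X R (uElt c0) _).eq, mul_inv_cancel_right]
  rcases exists_pair R.ne hw v₁ with ⟨d, rfl⟩ | ⟨B, c, hB1, hB2⟩
  · rw [biv_dep, one_mul, hsw]
  by_cases hspan : ∃ a b : F, v₂ = a • w + b • v₁
  · obtain ⟨a, b, rfl⟩ := hspan
    rw [show v₁ + (a • w + b • v₁) = a • w + (1 + b) • v₁ by rw [add_smul, one_smul]; abel, hsw, hsw,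
      biv_smul_right, biv_smul_right, add_mul, one_mul, biv_add]
  subst hB1 hB2
  set z := ((B⁻¹ : Matrix.SpecialLinearGroup ι F) : Matrix ι ι F) *ᵥ v₂ with hz
  have hBz : (B : Matrix ι ι F) *ᵥ z = v₂ := by
    rw [hz, Matrix.mulVec_mulVec, ← Matrix.SpecialLinearGroup.coe_mul, mul_inv_cancel,
      Matrix.SpecialLinearGroup.coe_one, Matrix.one_mulVec]
  obtain ⟨k, hk, hkp, hko⟩ : ∃ k, z k ≠ 0 ∧ k ≠ p ∧ k ≠ o := by
    by_contra hcon
    simp only [not_exists, not_and, not_not] at hcon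
    have hz' : z = z p • e F p + z o • e F o := funext fun i => by
      by_cases h1 : i = p
      · subst h1; simp [R.ne]
      by_cases h2 : i = o
      · subst h2; simp [R.ne.symm]
      · by_cases h3 : z i = 0
        · simp [h1, h2, h3]
        · exact absurd (hcon i h3 h1) h2
    refine hspan ⟨z p, z o * ((c⁻¹ : Fˣ) : F), ?_⟩
    conv_lhs => rw [← hBz, hz', Matrix.mulVec_add, Matrix.mulVec_smul, Matrix.mulVec_smul]
    rw [smul_smul, mul_assoc, Units.inv_mul, mul_one]
  set C := colG (F := F) k z with hC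
  set D := dg (F := F) k (Matrix.GeneralLinearGroup.det C) with hD
  obtain ⟨S, hS⟩ : ∃ S : Matrix.SpecialLinearGroup ι F,
      (Matrix.SpecialLinearGroup.toGL S : GL ι F) = C * D⁻¹ :=
    ⟨⟨((C * D⁻¹ : GL ι F) : Matrix ι ι F), by
      rw [← Matrix.GeneralLinearGroup.val_det_apply, map_mul, map_inv, hD, dg_det, mul_inv_cancel, Units.val_one]⟩,
      Units.ext rfl⟩
  set d := Matrix.GeneralLinearGroup.det C with hd
  have hSval : (S : Matrix ι ι F) = (C : Matrix ι ι F) * (dg k d⁻¹ : Matrix ι ι F) := by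
    have := congrArg Units.val hS
    rw [hD, ← map_inv, Units.val_mul] at this
    exact this
  have hdg : ∀ j, (dg k d⁻¹ : Matrix ι ι F) *ᵥ e F j = (if j = k then ((d⁻¹ : Fˣ) : F) else 1) • e F j := fun j => dg_mulVec k d⁻¹ j
  have hSp : (S : Matrix ι ι F) *ᵥ e F p = e F p := by
    rw [hSval, ← Matrix.mulVec_mulVec, hdg, if_neg hkp.symm, one_smul, hC, colG_mulVec_ne hk hkp.symm]
  have hSo : (S : Matrix ι ι F) *ᵥ e F o = e F o := by
    rw [hSval, ← Matrix.mulVec_mulVec, hdg, if_neg hko.symm, one_smul, hC, colG_mulVec_ne hk hko.symm]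
  have hSk : (S : Matrix ι ι F) *ᵥ ((d : F) • e F k) = z := by
    rw [hSval, ← Matrix.mulVec_mulVec, Matrix.mulVec_smul, hdg, if_pos rfl, smul_smul, Units.mul_inv, one_smul,
      hC, colG_mulVec_self hk]
  have key : biv R (e F p) ((c : F) • e F o + (d : F) • e F k) (-t) =
      biv R (e F p) ((c : F) • e F o) (-t) * biv R (e F p) ((d : F) • e F k) (-t) := by
    rw [show (c : F) • e F o + (d : F) • e F k = (c : F) • (e F o + (((c⁻¹ : Fˣ) : F) * d) • e F k) by
      rw [smul_add, smul_smul, ← mul_assoc, Units.mul_inv, one_mul], biv_smul_right, biv_smul_right, biv_smul_right]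
    -- exchange the two indices
    have hflip2 : ∀ (s : F) (τ : F), biv R (e F p) (e F o + (-s) • e F k) τ =
        biv R (e F p) (e F o) τ * biv R (e F p) (e F k) (-(s * τ)) := by
      intro s τ
      have h3 := biv_three R hkp hko s τ
      obtain ⟨w1, w2, w3⟩ := emb_mulVec R R.ne (wElt F)
      have a1 : ((emb R.ne (wElt F) : Matrix.SpecialLinearGroup ι F) : Matrix ι ι F) *ᵥ e F p = -e F o := by
        rw [w1]; simp [wElt]
      have a2 : ((emb R.ne (wElt F) : Matrix.SpecialLinearGroup ι F) : Matrix ι ι F) *ᵥ e F o = e F p := by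
        rw [w2]; simp [wElt]
      have h4 := congrArg (fun x : G => φ (emb R.ne (wElt F)) * x * (φ (emb R.ne (wElt F)))⁻¹) h3
      rw [show ∀ a b : G, φ (emb R.ne (wElt F)) * (a * b) * (φ (emb R.ne (wElt F)))⁻¹ =
          (φ (emb R.ne (wElt F)) * a * (φ (emb R.ne (wElt F)))⁻¹) * (φ (emb R.ne (wElt F)) * b * (φ (emb R.ne (wElt F)))⁻¹)
          from fun a b => by group, biv_conj, biv_conj, biv_conj, Matrix.mulVec_add, Matrix.mulVec_smul, a1, a2,
        w3 k hkp hko] at h4
      have x1 : biv R (-e F o + s • e F k) (e F p) τ = biv R (e F p) (e F o + (-s) • e F k) τ := by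
        rw [show -e F o + s • e F k = (-1 : F) • (e F o + (-s) • e F k) by
          rw [smul_add, smul_smul]; simp, biv_swap R (e F p), biv_smul_right]
        simp
      have x2 : biv R (-e F o) (e F p) τ = biv R (e F p) (e F o) τ := by
        rw [show -e F o = (-1 : F) • e F o by simp, biv_swap R (e F p), biv_smul_right]
        simp
      rw [x1, x2, biv_swap R (e F p) (e F k)] at h4
      exact h4
    have hf : ∀ (s : F) (τ : F), biv R (e F p) (e F o + s • e F k) τ =
        biv R (e F p) (e F o) τ * biv R (e F p) (e F k) (s * τ) := fun s τ => by simpa using hflip2 (-s) τ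
    rw [hf]
    congr 2
    rw [mul_comm ((c⁻¹ : Fˣ) : F), mul_assoc, ← mul_assoc ((c⁻¹ : Fˣ) : F), Units.inv_mul, one_mul]
  have h6 := congrArg (fun x : G => φ (B * S) * x * (φ (B * S))⁻¹) key
  rw [show ∀ a b : G, φ (B * S) * (a * b) * (φ (B * S))⁻¹ =
      (φ (B * S) * a * (φ (B * S))⁻¹) * (φ (B * S) * b * (φ (B * S))⁻¹) from fun a b => by group, biv_conj,
    biv_conj, biv_conj] at h6
  simp only [Matrix.SpecialLinearGroup.coe_mul, ← Matrix.mulVec_mulVec, Matrix.mulVec_add, hSp] at h6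
  rw [Matrix.mulVec_smul (S : Matrix ι ι F) (c : F), hSo, hSk, hBz, Matrix.mulVec_smul] at h6
  exact h6

end CfsgLib.Pres.DnN
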