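import Cfsg.Agent.Lib.Pres.SpRoots

/-!
# A group with the relations of `Sp_{2n}` is no larger than `Sp_{2n}`

The cosets of the stabiliser of a vector are named by the nonzero vectors of the natural module.
-/

set_option autoImplicit false

namespace CfsgLib.Pres.SpN

open Matrix
open scoped MatrixGroups
open CfsgLib.Classical (uElt uElt_val uElt_add)

universe v

section

variable {F : Type*} [Field F] {ι : Type*} [Fintype ι] [DecidableEq ι]

theorem wElt_inv' : (((wElt F)⁻¹ : SL(2, F)) : Matrix (Fin 2) (Fin 2) F) = !![0, -1; 1, 0] := by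
  rw [Matrix.SpecialLinearGroup.coe_inv]
  simp [wElt, Matrix.adjugate_fin_two]

/-- Symmetric matrix with one row and column. -/
def colT (o : ι) (u : ι → F) : Matrix ι ι F :=
  Matrix.vecMulVec u (e F o) + Matrix.vecMulVec (e F o) u

theorem colT_symm (o : ι) (u : ι → F) : (colT o u)ᵀ = colT o u := by
  rw [colT, Matrix.transpose_add, Matrix.transpose_vecMulVec, Matrix.transpose_vecMulVec, add_comm]

theorem colT_add (o : ι) (u u' : ι → F) : colT o (u + u') = colT o u + colT o u' := by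
  rw [colT, colT, colT, Matrix.add_vecMulVec, Matrix.vecMulVec_add]; abel

theorem colT_zero (o : ι) : colT o (0 : ι → F) = 0 := by simp [colT]

theorem colT_mulVec (o : ι) (u y : ι → F) : colT o u *ᵥ y = y o • u + (u ⬝ᵥ y) • e F o := by
  rw [colT, Matrix.add_mulVec, Matrix.vecMulVec_mulVec, Matrix.vecMulVec_mulVec]
  simp

/-- The transpose. -/
def trpG (A : GL ι F) : GL ι F :=
  ⟨(A : Matrix ι ι F)ᵀ, ((A⁻¹ : GL ι F) : Matrix ι ι F)ᵀ, by rw [← Matrix.transpose_mul, Units.inv_mul, Matrix.transpose_one],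
    by rw [← Matrix.transpose_mul, Units.mul_inv, Matrix.transpose_one]⟩

theorem Blk.trp {o : ι} {A : GL ι F} (h : Blk o A) : Blk o (trpG A) :=
  ⟨by rw [show (trpG A : Matrix ι ι F) = (A : Matrix ι ι F)ᵀ from rfl, Matrix.mulVec_transpose]; exact h.2,
    by rw [show (trpG A : Matrix ι ι F) = (A : Matrix ι ι F)ᵀ from rfl, Matrix.vecMul_transpose]; exact h.1⟩

theorem blk_colG {o i : ι} (hio : i ≠ o) {v : ι → F} (hi : v i ≠ 0) (ho : v o = 0) : Blk o (colG i v) := by
  refine ⟨colG_mulVec_ne hi hio.symm, ?_⟩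
  funext j
  rw [Matrix.single_one_vecMul, colG_val hi, Matrix.row_apply]
  rcases eq_or_ne j i with rfl | hj
  · simp [ho, hio]
  · simp [Matrix.updateCol_ne hj, Matrix.one_apply, Pi.single_apply, eq_comm]

theorem blk_swap {o a b : ι} (ha : a ≠ o) (hb : b ≠ o) : Blk o (permG (F := F) (Equiv.swap a b)) := by
  have h1 : ((permG (Equiv.swap a b) : GL ι F) : Matrix ι ι F) *ᵥ e F o = e F o := by
    funext i
    rw [permG_mulVec, Function.comp_apply, e, Pi.single_apply, Pi.single_apply]
    refine if_congr ?_ rfl rfl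
    rw [← Equiv.eq_symm_apply, Equiv.symm_swap, Equiv.swap_apply_of_ne_of_ne ha.symm hb.symm]
  refine ⟨h1, ?_⟩
  rw [← Matrix.mulVec_transpose,
    show ((permG (Equiv.swap a b) : GL ι F) : Matrix ι ι F)ᵀ = ((permG (Equiv.swap a b) : GL ι F) : Matrix ι ι F) from by
      show (Equiv.Perm.permMatrix F _)ᵀ = Equiv.Perm.permMatrix F _
      rw [Matrix.transpose_permMatrix, Equiv.swap_inv]]
  exact h1

theorem exists_blk_col {o k : ι} (hk : k ≠ o) {v : ι → F} (hv : v ≠ 0) (ho : v o = 0) :
    ∃ B : GL ι F, Blk o B ∧ (B : Matrix ι ι F) *ᵥ e F k = v := by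
  obtain ⟨i, hi⟩ := Function.ne_iff.1 hv
  have hio : i ≠ o := fun h => hi (h ▸ ho)
  refine ⟨colG i v * permG (Equiv.swap k i), (blk_colG hio hi ho).mul (blk_swap hk hio), ?_⟩
  rw [Units.val_mul, ← Matrix.mulVec_mulVec, permG_swap_mulVec, colG_mulVec_self hi]

/-- Erasing a row and a column. -/
def eraseRC (o : ι) (S : Matrix ι ι F) : Matrix ι ι F :=
  Matrix.of fun i j => if i = o ∨ j = o then 0 else S i j

theorem eraseRC_add (o : ι) (S T : Matrix ι ι F) : eraseRC o (S + T) = eraseRC o S + eraseRC o T := by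
  ext i j; simp [eraseRC]; split_ifs <;> simp

theorem eraseRC_zero (o : ι) : eraseRC o (0 : Matrix ι ι F) = 0 := by ext i j; simp [eraseRC]

theorem eraseRC_symm (o : ι) {S : Matrix ι ι F} (hS : Sᵀ = S) : (eraseRC o S)ᵀ = eraseRC o S := by
  ext i j
  simp [eraseRC, or_comm, show S j i = S i j from congrFun (congrFun hS i) j]

theorem eraseRC_sq (o : ι) (v : ι → F) (t : F) : eraseRC o (t • Matrix.vecMulVec v v) =
    t • Matrix.vecMulVec (Function.update v o 0) (Function.update v o 0) := by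
  ext i j
  simp only [eraseRC, Matrix.of_apply, Matrix.smul_apply, Matrix.vecMulVec_apply, Function.update_apply]
  by_cases h1 : i = o <;> by_cases h2 : j = o <;> simp [h1, h2]

/-- A symmetric matrix without a diagonal entry splits. -/
theorem split_sym {o : ι} {S : Matrix ι ι F} (hS : Sᵀ = S) (ho : S o o = 0) :
    S = eraseRC o S + colT o (fun i => S i o) := by
  ext i j
  simp only [eraseRC, colT, Matrix.add_apply, Matrix.of_apply, Matrix.vecMulVec_apply, e, Pi.single_apply]
  by_cases h1 : i = o <;> by_cases h2 : j = o <;> simp [h1, h2, ho]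
  exact congrFun (congrFun hS j) o

/-- Pairs acting on the natural module. -/
def act (S : Matrix ι ι F) (A : GL ι F) (v : (ι → F) × (ι → F)) : (ι → F) × (ι → F) :=
  ((A : Matrix ι ι F) *ᵥ v.1 + S *ᵥ (v.2 ᵥ* ((A⁻¹ : GL ι F) : Matrix ι ι F)),
    v.2 ᵥ* ((A⁻¹ : GL ι F) : Matrix ι ι F))

theorem act_act (S S' : Matrix ι ι F) (A A' : GL ι F) (v : (ι → F) × (ι → F)) :
    act S A (act S' A' v) = act (S + (A : Matrix ι ι F) * S' * (A : Matrix ι ι F)ᵀ) (A * A') v := by
  simp only [act, _root_.mul_inv_rev, Units.val_mul, Matrix.vecMul_vecMul, Matrix.mulVec_add, Matrix.add_mulVec,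
    ← Matrix.mulVec_mulVec]
  refine Prod.ext ?_ rfl
  simp only [Matrix.mulVec_transpose, Matrix.vecMul_vecMul, Matrix.mul_assoc, Units.inv_mul, Matrix.mul_one]
  abel

theorem act_eq_zero_iff (S : Matrix ι ι F) (A : GL ι F) (v : (ι → F) × (ι → F)) : act S A v = 0 ↔ v = 0 := by
  refine ⟨fun h => ?_, fun h => by subst h; simp [act]⟩
  have h2 : v.2 ᵥ* ((A⁻¹ : GL ι F) : Matrix ι ι F) = 0 := congrArg Prod.snd h
  have h3 : v.2 = 0 := by
    have := congrArg (fun w => w ᵥ* (A : Matrix ι ι F)) h2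
    simpa [Matrix.vecMul_vecMul, ← Units.val_mul] using this
  have h1 : (A : Matrix ι ι F) *ᵥ v.1 + S *ᵥ (v.2 ᵥ* ((A⁻¹ : GL ι F) : Matrix ι ι F)) = 0 := congrArg Prod.fst h
  rw [h3, Matrix.zero_vecMul, Matrix.mulVec_zero, add_zero] at h1
  exact Prod.ext ((mulVec_eq_zero_iff A _).1 h1) h3

theorem act_one (v : (ι → F) × (ι → F)) : act (0 : Matrix ι ι F) 1 v = v := by
  simp [act]

/-- The Weyl element of the long root on the natural module. -/
def wv (o : ι) (v : (ι → F) × (ι → F)) : (ι → F) × (ι → F) :=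
  (v.1 + (v.2 o - v.1 o) • e F o, v.2 + (-v.1 o - v.2 o) • e F o)

theorem wv_eq_zero (o : ι) {v : (ι → F) × (ι → F)} (h : wv o v = 0) : v = 0 := by
  have hx := fun i => congrFun (congrArg Prod.fst h) i
  have hy := fun i => congrFun (congrArg Prod.snd h) i
  have hxo := hx o
  have hyo := hy o
  simp [wv] at hxo hyo
  refine Prod.ext (funext fun i => ?_) (funext fun i => ?_) <;> rcases eq_or_ne i o with rfl | hi
  · exact hyo
  · simpa [wv, hi] using hx i
  · exact hxo
  · simpa [wv, hi] using hy i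

/-- A symmetric matrix with one prescribed value. -/
theorem exists_sym {y : ι → F} {i : ι} (hi : y i ≠ 0) (x : ι → F) :
    ∃ S : Matrix ι ι F, Sᵀ = S ∧ S *ᵥ y = x ∧ ∀ o, i ≠ o → S o o = 0 := by
  set z : ι → F := Pi.single i (y i)⁻¹ with hz
  have hzy : z ⬝ᵥ y = 1 := by rw [hz, single_dotProduct, inv_mul_cancel₀ hi]
  refine ⟨Matrix.vecMulVec x z + Matrix.vecMulVec z x - (x ⬝ᵥ y) • Matrix.vecMulVec z z, ?_, ?_, fun o ho => ?_⟩
  · rw [Matrix.transpose_sub, Matrix.transpose_add, Matrix.transpose_smul, Matrix.transpose_vecMulVec,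
      Matrix.transpose_vecMulVec, Matrix.transpose_vecMulVec, add_comm]
  · rw [Matrix.sub_mulVec, Matrix.add_mulVec, Matrix.smul_mulVec, Matrix.vecMulVec_mulVec,
      Matrix.vecMulVec_mulVec, Matrix.vecMulVec_mulVec, hzy]
    simp
  · simp [Matrix.vecMulVec_apply, hz, ho.symm]

/-- The order of `Sp_{2n}` over `q` elements. -/
def spc (q : ℕ) : ℕ → ℕ
  | 0 => 1
  | n + 1 => (q ^ (2 * n + 2) - 1) * (q ^ (2 * n + 1) * spc q n)

/-- The symmetric matrices with one row and column. -/
def rowSym (k : ι) (z : ι → F) : Matrix ι ι F :=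
  Matrix.of fun i j => if i = k then z j else if j = k then z i else 0

theorem mul_apply_zero {k : ι} {A S : Matrix ι ι F} (hS : ∀ i j, i ≠ k → j ≠ k → S i j = 0)
    (hA : ∀ i, i ≠ k → A i k = 0) : ∀ i j, i ≠ k → j ≠ k → (A * S * Aᵀ) i j = 0 := by
  intro i j hi hj
  simp only [Matrix.mul_apply, Matrix.transpose_apply, Finset.sum_mul]
  refine Finset.sum_eq_zero fun b _ => Finset.sum_eq_zero fun a _ => ?_
  rcases eq_or_ne a k with rfl | ha
  · rw [hA i hi, zero_mul, zero_mul]
  rcases eq_or_ne b k with rfl | hb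
  · rw [hA j hj, mul_zero]
  rw [hS a b ha hb, mul_zero, zero_mul]

end

section

variable {F : Type*} [Field F] {ι : Type*} [Fintype ι] [DecidableEq ι] {G : Type*} [Group G]
  {o : ι} {φ : Matrix.SpecialLinearGroup ι F →* G} {ψ : SL(2, F) →* G} (R : SpRels o φ ψ)

local notation "W" => ψ (wElt F)

theorem w_sq : W * W = lam o R (dg o (-1)) := by
  rw [lam_dg, ← map_mul, SpFour.dElt_neg_one, ← wElt_sq]

theorem rootL_w {v : ι → F} (ho : v o = 0) (t : F) : Commute W (rootL R v t) := by
  rcases eq_or_ne v 0 with rfl | hv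
  · rw [rootL_zero_vec]; exact Commute.one_right _
  obtain ⟨i, hi⟩ := Function.ne_iff.1 hv
  have hio : i ≠ o := fun h => hi (h ▸ ho)
  rw [← colG_mulVec_self hi, ← rootL_conj, rootL_k R hio]
  have h1 := (comm_blk R (blk_colG hio hi ho) (wElt F)).symm
  have h2 : Commute W (SpFour.R (φ.comp (emb hio)) ψ t) := mul_inv_eq_iff_eq_mul.1 ((R.pair i hio).wbR t)
  exact (h1.mul_right h2).mul_right h1.inv_right

theorem sG_w {S : Matrix ι ι F} (hS : Sᵀ = S) : Commute W (sG R (eraseRC o S)) := by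
  refine sym_induction (P := fun S => Commute W (sG R (eraseRC o S))) ?_ (fun A B hA hB => ?_) (fun v t => ?_) hS
  · rw [eraseRC_zero, sG_zero]; exact Commute.one_right _
  · rw [eraseRC_add, sG_add]; exact hA.mul_right hB
  · rw [eraseRC_sq, sG_sq]; exact rootL_w R (Function.update_self o (0 : F) v) t

theorem w_tr {u : ι → F} (hu : u o = 0) :
    W * lam o R (trG o u) * W⁻¹ = sG R (colT o (-u)) := by
  have key : ∀ s : Finset ι, W * lam o R (trG o (∑ k ∈ s, Pi.single k (u k))) * W⁻¹ =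
      sG R (colT o (-∑ k ∈ s, Pi.single k (u k))) := by
    intro s
    induction s using Finset.induction_on with
    | empty => rw [Finset.sum_empty, trG_zero, map_one, neg_zero, colT_zero, sG_zero, mul_one, mul_inv_cancel]
    | insert k s hks ih =>
      rw [Finset.sum_insert hks]
      rcases eq_or_ne k o with rfl | hk
      · rwa [hu, Pi.single_zero, zero_add]
      have h0 : (∑ j ∈ s, Pi.single j (u j) : ι → F) o = 0 := by
        rw [Finset.sum_apply]
        refine Finset.sum_eq_zero fun j _ => ?_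
        rcases eq_or_ne j o with rfl | hj
        · simp [hu]
        · simp [hj.symm]
      rw [trG_add (by simp [hk.symm]) h0, map_mul, neg_add, colT_add, sG_add, ← ih]
      have h1 : sG R (colT o (-Pi.single k (u k))) = W * lam o R (trG o (Pi.single k (u k))) * W⁻¹ := by
        have h2 := pol_o_single R hk (-u k)
        rw [neg_neg] at h2
        rw [← h2, sG, ← sU_sym R hk.symm]
        congr 2
        ext i j
        simp only [colT, e, Matrix.add_apply, Matrix.vecMulVec_apply, Pi.neg_apply, Pi.single_apply,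
          Matrix.single_apply]
        by_cases a : i = k <;> by_cases b : j = o <;> by_cases c : i = o <;> by_cases d : j = k <;>
          simp_all [hk, hk.symm, eq_comm, add_comm]
      rw [h1]
      group
  have := key Finset.univ
  rwa [Finset.univ_sum_single] at this

theorem w_colT {u : ι → F} (hu : u o = 0) :
    W * sG R (colT o u) * W⁻¹ = lam o R (trG o u) := by
  have h1 := w_tr R (u := -u) (by simp [hu])
  rw [neg_neg] at h1
  rw [← h1, show W * (W * lam o R (trG o (-u)) * W⁻¹) * W⁻¹ = (W * W) * lam o R (trG o (-u)) * (W * W)⁻¹ by group,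
    w_sq R, ← map_inv, ← map_mul, ← map_mul]
  congr 1
  refine Units.ext ?_
  rw [Units.val_mul, Units.val_mul, ← map_inv, dg_val, dg_val, trG_val (by simp [hu]), trG_val hu]
  ext i j
  rw [Matrix.mul_diagonal, Matrix.diagonal_mul]
  simp only [trM, Matrix.add_apply, Matrix.vecMulVec_apply, Matrix.one_apply, Pi.single_apply,
    Function.update_apply, Pi.one_apply, Pi.neg_apply, inv_neg_one, Units.val_neg, Units.val_one]
  by_cases a : i = o <;> by_cases b : j = o <;> by_cases c : i = j <;> simp_all [hu]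

/-- Moving past the Weyl element. -/
theorem w_sG {S : Matrix ι ι F} (hS : Sᵀ = S) (ho : S o o = 0) :
    W * sG R S = sG R (eraseRC o S) * lam o R (trG o fun i => S i o) * W := by
  conv_lhs => rw [split_sym hS ho, sG_add, ← mul_assoc, (sG_w R hS).eq, mul_assoc,
    mul_inv_eq_iff_eq_mul.1 (w_colT R (u := fun i => S i o) ho)]
  rw [mul_assoc]

section Cosets

variable {k : ι} (hk : k ≠ o)

/-- The stabiliser of a basis vector. -/
noncomputable def stab (k : ι) : Subgroup G :=
  Subgroup.closure ({g | ∃ S : Matrix ι ι F, Sᵀ = S ∧ g = sG R S} ∪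
    {g | ∃ A : GL ι F, (A : Matrix ι ι F) *ᵥ e F k = e F k ∧ g = lam o R A} ∪ Set.range ψ)

theorem sG_mem_stab {S : Matrix ι ι F} (hS : Sᵀ = S) : sG R S ∈ stab R k :=
  Subgroup.subset_closure (Or.inl (Or.inl ⟨S, hS, rfl⟩))

theorem lam_mem_stab {A : GL ι F} (h : (A : Matrix ι ι F) *ᵥ e F k = e F k) : lam o R A ∈ stab R k :=
  Subgroup.subset_closure (Or.inl (Or.inr ⟨A, h, rfl⟩))

theorem psi_mem_stab (M : SL(2, F)) : ψ M ∈ stab R k := Subgroup.subset_closure (Or.inr ⟨M, rfl⟩)

/-- The element leading to the second orbit. -/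
noncomputable def other (k : ι) : G :=
  lam o R (permG (Equiv.swap o k)) * W⁻¹ * (lam o R (permG (Equiv.swap o k)))⁻¹

theorem perm_sq (a b : ι) :
    (permG (Equiv.swap a b) : GL ι F) * permG (Equiv.swap a b) = 1 := by
  rw [mul_eq_one_iff_eq_inv, permG_inv, Equiv.swap_inv]

include hk in
theorem w_other : Commute W (other R k) := by
  set wa := (φ.comp (emb hk)) (wElt F) with hwa
  have hm : (Matrix.SpecialLinearGroup.toGL (emb hk (wElt F)) : GL ι F) = dg o (-1) * permG (Equiv.swap o k) := by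
    refine Units.ext ?_
    rw [Units.val_mul, dg_val]
    show (emb hk (wElt F) : Matrix ι ι F) = _ * Equiv.Perm.permMatrix F _
    ext i j
    rw [Matrix.diagonal_mul, emb_entry, Equiv.Perm.permMatrix, PEquiv.toMatrix_apply]
    simp only [Equiv.toPEquiv_apply, Option.mem_def, Option.some.injEq, Function.update_apply, Pi.one_apply,
      Units.val_neg, Units.val_one, Matrix.one_apply, wElt]
    by_cases a : i = k <;> by_cases b : j = o <;> by_cases c : i = o <;> by_cases d : j = k <;>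
      simp_all [hk, hk.symm, Equiv.swap_apply_of_ne_of_ne, eq_comm] <;> (intro hh; exact hk (by simp_all))
  have e1 : lam o R (permG (Equiv.swap o k)) = (ψ (dElt (-1)))⁻¹ * wa := by
    rw [← lam_dg R, hwa, MonoidHom.comp_apply, ← lam_sl R, hm, map_mul, inv_mul_cancel_left]
  have hd : Commute (ψ (dElt (-1))) W := by
    rw [SpFour.dElt_neg_one]
    exact (Commute.neg_one_left (wElt F)).map ψ
  have Rl := R.pair k hk
  have hz : Commute (wa * wa) W := by
    have h := Rl.ha_b (-1) (wElt F)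
    rw [show ((-1 : Fˣ) ^ 2)⁻¹ = 1 by simp, SpFour.dConj_one, ← Rl.wa_sq] at h
    exact mul_inv_eq_iff_eq_mul.1 h
  have h1 : Commute W (wa * W * wa⁻¹) := by
    show _ = _
    calc W * (wa * W * wa⁻¹) = (W * wa * W * wa) * (wa * wa)⁻¹ := by group
      _ = (wa * W * wa * W) * (wa * wa)⁻¹ := by rw [Rl.braid]
      _ = wa * W * wa * (W * (wa * wa)⁻¹) := by group
      _ = wa * W * wa * ((wa * wa)⁻¹ * W) := by rw [hz.inv_left.eq]
      _ = _ := by group
  rw [other, e1, show (ψ (dElt (-1)))⁻¹ * wa * W⁻¹ * ((ψ (dElt (-1)))⁻¹ * wa)⁻¹ =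
    (ψ (dElt (-1)))⁻¹ * (wa * W * wa⁻¹)⁻¹ * ψ (dElt (-1)) by group]
  exact ((hd.symm.inv_right).mul_right h1.inv_right).mul_right hd.symm

theorem exists_data (k : ι) {y : ι → F} (hy : y ≠ 0) (x : ι → F) :
    ∃ p : Matrix ι ι F × GL ι F, p.1ᵀ = p.1 ∧ e F k ᵥ* ((p.2⁻¹ : GL ι F) : Matrix ι ι F) = y ∧ p.1 *ᵥ y = x := by
  obtain ⟨C, hC⟩ := exists_col k hy
  obtain ⟨i, hi⟩ := Function.ne_iff.1 hy
  obtain ⟨S, hS, hSy, -⟩ := exists_sym hi x
  refine ⟨(S, (trpG C)⁻¹), hS, ?_, hSy⟩
  rw [inv_inv]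
  show e F k ᵥ* (C : Matrix ι ι F)ᵀ = y
  rw [Matrix.vecMul_transpose, hC]

/-- The coset of a vector. -/
noncomputable def cos (k : ι) (v : (ι → F) × (ι → F)) : G ⧸ stab R k :=
  haveI := Classical.dec (v.2 = 0)
  haveI := Classical.dec (v.1 = 0)
  if hy : v.2 = 0 then (if hx : v.1 = 0 then ((1 : G) : G ⧸ stab R k) else
    ((lam o R (exists_col k hx).choose : G) : G ⧸ stab R k))
  else ((sG R (exists_data k hy v.1).choose.1 * lam o R (exists_data k hy v.1).choose.2 * other R k : G) :
    G ⧸ stab R k)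

theorem cos_one {S : Matrix ι ι F} (hS : Sᵀ = S) (A : GL ι F) :
    cos R k (act S A (e F k, 0)) = ((sG R S * lam o R A : G) : G ⧸ stab R k) := by
  have hv : act S A (e F k, 0) = ((A : Matrix ι ι F) *ᵥ e F k, 0) := by simp [act]
  have hne : (A : Matrix ι ι F) *ᵥ e F k ≠ 0 := fun h =>
    one_ne_zero (α := F) (by simpa using congrFun ((mulVec_eq_zero_iff A _).1 h) k)
  rw [hv, cos, dif_pos rfl, dif_neg hne]
  set C := (exists_col k hne).choose with hC
  have hC' := (exists_col k hne).choose_spec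
  rw [← hC] at hC'
  refine QuotientGroup.eq.2 ?_
  rw [show (lam o R C)⁻¹ * (sG R S * lam o R A) =
    (lam o R C⁻¹ * sG R S * (lam o R C⁻¹)⁻¹) * lam o R (C⁻¹ * A) by rw [map_mul, map_inv]; group, sG_conj R _ hS]
  refine mul_mem (sG_mem_stab R ?_) (lam_mem_stab R ?_)
  · rw [Matrix.transpose_mul, Matrix.transpose_mul, Matrix.transpose_transpose, hS, Matrix.mul_assoc]
  · rw [Units.val_mul, ← Matrix.mulVec_mulVec, ← hC', Matrix.mulVec_mulVec, Units.inv_mul, Matrix.one_mulVec]

include hk in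
theorem cos_two {S : Matrix ι ι F} (hS : Sᵀ = S) (A : GL ι F) :
    cos R k (act S A (0, e F k)) = ((sG R S * lam o R A * other R k : G) : G ⧸ stab R k) := by
  set y := e F k ᵥ* ((A⁻¹ : GL ι F) : Matrix ι ι F) with hy
  have hv : act S A (0, e F k) = (S *ᵥ y, y) := by simp [act, hy]
  have hne : y ≠ 0 := fun h => by
    have h2 := congrArg (fun w => w ᵥ* (A : Matrix ι ι F)) h
    rw [hy] at h2
    exact one_ne_zero (α := F) (by simpa only [Matrix.vecMul_vecMul, Units.inv_mul, Matrix.vecMul_one, Matrix.zero_vecMul, e, Pi.single_eq_same, Pi.zero_apply] using congrFun h2 k)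
  rw [hv, cos, dif_neg hne]
  obtain ⟨hS1, hA1, hy1⟩ := (exists_data k hne (S *ᵥ y, y).1).choose_spec
  generalize (exists_data k hne (S *ᵥ y, y).1).choose = p at hS1 hA1 hy1 ⊢
  obtain ⟨S₁, A₁⟩ := p
  simp only at hS1 hA1 hy1 ⊢
  refine QuotientGroup.eq.2 ?_
  set B := A₁⁻¹ * A with hB
  set S₀ : Matrix ι ι F :=
    ((A₁⁻¹ : GL ι F) : Matrix ι ι F) * (-S₁ + S) * ((A₁⁻¹ : GL ι F) : Matrix ι ι F)ᵀ with hS₀
  have hsym : (-S₁ + S)ᵀ = -S₁ + S := by rw [Matrix.transpose_add, Matrix.transpose_neg, hS1, hS]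
  have hS₀s : S₀ᵀ = S₀ := by
    rw [hS₀, Matrix.transpose_mul, Matrix.transpose_mul, Matrix.transpose_transpose, hsym, Matrix.mul_assoc]
  rw [show (sG R S₁ * lam o R A₁ * other R k)⁻¹ * (sG R S * lam o R A * other R k) =
    (other R k)⁻¹ * (lam o R A₁⁻¹ * ((sG R S₁)⁻¹ * sG R S) * (lam o R A₁⁻¹)⁻¹ * lam o R B) * other R k by
      rw [hB, map_mul, map_inv]; group, ← sG_neg, ← sG_add, sG_conj R _ hsym, ← hS₀]
  set τ := permG (F := F) (Equiv.swap o k) with hτ
  have hτ2 : τ * τ = 1 := perm_sq o k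
  have hτi : τ⁻¹ = τ := inv_eq_of_mul_eq_one_right hτ2
  have hτT : (τ : Matrix ι ι F)ᵀ = (τ : Matrix ι ι F) := by
    show (Equiv.Perm.permMatrix F _)ᵀ = Equiv.Perm.permMatrix F _
    rw [Matrix.transpose_permMatrix, Equiv.swap_inv]
  have hτo : (τ : Matrix ι ι F) *ᵥ e F o = e F k := permG_swap_mulVec o k
  have hτk : (τ : Matrix ι ι F) *ᵥ e F k = e F o := by
    rw [← hτo, Matrix.mulVec_mulVec, ← Units.val_mul, hτ2, Units.val_one, Matrix.one_mulVec]
  -- the stabiliser of the second base vector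
  have hBk : e F k ᵥ* (B : Matrix ι ι F) = e F k := by
    rw [hB, Units.val_mul, ← Matrix.vecMul_vecMul, hA1, hy, Matrix.vecMul_vecMul, Units.inv_mul, Matrix.vecMul_one]
  have hS₀k : S₀ *ᵥ e F k = 0 := by
    rw [hS₀, ← Matrix.mulVec_mulVec, ← Matrix.mulVec_mulVec, Matrix.mulVec_transpose, hA1, Matrix.add_mulVec,
      Matrix.neg_mulVec, hy1, neg_add_cancel, Matrix.mulVec_zero]
  set S' : Matrix ι ι F := (τ : Matrix ι ι F) * S₀ * (τ : Matrix ι ι F)ᵀ with hS'
  have hS's : S'ᵀ = S' := by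
    conv_lhs => rw [hS', Matrix.transpose_mul, Matrix.transpose_mul, Matrix.transpose_transpose, hS₀s, ← Matrix.mul_assoc]
  have hS'o : eraseRC o S' = S' := by
    have h : S' *ᵥ e F o = 0 := by
      rw [hS', ← Matrix.mulVec_mulVec, ← Matrix.mulVec_mulVec, hτT, hτo, hS₀k, Matrix.mulVec_zero]
    have hcol : ∀ i, S' i o = 0 := fun i => by
      have := congrFun h i
      rwa [Matrix.mulVec_single_one] at this
    ext i j
    simp only [eraseRC, Matrix.of_apply]
    split_ifs with hij
    · rcases hij with rfl | rfl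
      · rw [← show S' j i = S' i j from congrFun (congrFun hS's i) j, hcol]
      · rw [hcol]
    · rfl
  obtain ⟨u, hu, B', hB', hτB⟩ := exists_tr_blk (o := o) (A := τ * B * τ) (by
    rw [Units.val_mul, Units.val_mul, ← Matrix.vecMul_vecMul, ← Matrix.vecMul_vecMul]
    show e F o ᵥ* (τ : Matrix ι ι F) ᵥ* (B : Matrix ι ι F) ᵥ* (τ : Matrix ι ι F) = e F o
    rw [← Matrix.mulVec_transpose (τ : Matrix ι ι F) (e F o), hτT, hτo, hBk,
      ← Matrix.mulVec_transpose (τ : Matrix ι ι F) (e F k), hτT, hτk])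
  have hother : (other R k)⁻¹ = lam o R τ * W * (lam o R τ)⁻¹ := by rw [other, ← hτ]; group
  have hgoal : (other R k)⁻¹ * (sG R S₀ * lam o R B) * other R k =
      (lam o R τ * (W * sG R (eraseRC o S') * W⁻¹) * (lam o R τ)⁻¹) *
        ((lam o R τ * (W * lam o R (trG o u) * W⁻¹) * (lam o R τ)⁻¹) *
        (lam o R τ * (W * lam o R B' * W⁻¹) * (lam o R τ)⁻¹)) := by
    have e1 : sG R S' = lam o R τ * sG R S₀ * (lam o R τ)⁻¹ := by rw [hS', sG_conj R _ hS₀s]
    have e2 : lam o R (trG o u) * lam o R B' = lam o R τ * lam o R B * (lam o R τ)⁻¹ := by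
      rw [← map_mul, ← hτB, map_mul, map_mul, ← map_inv, hτi]
    have e3 : lam o R τ * lam o R τ = 1 := by rw [← map_mul, hτ2, map_one]
    have e4 : (lam o R τ)⁻¹ = lam o R τ := inv_eq_of_mul_eq_one_right e3
    rw [show other R k = ((other R k)⁻¹)⁻¹ from (inv_inv _).symm, inv_inv (other R k)⁻¹, hother]
    symm
    calc _ = lam o R τ * W * (sG R (eraseRC o S') * (lam o R (trG o u) * lam o R B')) * W⁻¹ * (lam o R τ)⁻¹ := by
          group
      _ = _ := by
          have e1' : sG R S' = (lam o R τ)⁻¹ * sG R S₀ * lam o R τ := by rw [e1, e4]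
          have e2' : lam o R (trG o u) * lam o R B' = (lam o R τ)⁻¹ * lam o R B * lam o R τ := by rw [e2, e4]
          rw [hS'o, e1', e2']
          group
  rw [hgoal]
  refine mul_mem ?_ (mul_mem ?_ ?_)
  · rw [(sG_w R hS's).eq, mul_inv_cancel_right, sG_conj R _ (eraseRC_symm o hS's)]
    refine sG_mem_stab R ?_
    rw [Matrix.transpose_mul, Matrix.transpose_mul, Matrix.transpose_transpose, eraseRC_symm o hS's, Matrix.mul_assoc]
  · rw [w_tr R hu, sG_conj R _ (colT_symm o _)]
    refine sG_mem_stab R ?_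
    rw [Matrix.transpose_mul, Matrix.transpose_mul, Matrix.transpose_transpose, colT_symm, Matrix.mul_assoc]
  · rw [(comm_blk R hB' (wElt F)).symm.eq, mul_inv_cancel_right, ← map_inv, ← map_mul, ← map_mul, hτi]
    refine lam_mem_stab R ?_
    rw [Units.val_mul, Units.val_mul, ← Matrix.mulVec_mulVec, ← Matrix.mulVec_mulVec, hτk, hB'.1, hτo]

include hk in
theorem exists_rep {v : (ι → F) × (ι → F)} (hv : v ≠ 0) :
    ∃ S A, Sᵀ = S ∧ (v = act S A (e F k, 0) ∨ v = act S A (0, e F k)) := by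
  obtain ⟨x, y⟩ := v
  rcases eq_or_ne y 0 with rfl | hy
  · have hx : x ≠ 0 := fun h => hv (by rw [h]; rfl)
    obtain ⟨A, hA⟩ := exists_col k hx
    exact ⟨0, A, Matrix.transpose_zero, Or.inl (by simp [act, hA])⟩
  · obtain ⟨⟨S, A⟩, h1, h2, h3⟩ := exists_data k hy x
    exact ⟨S, A, h1, Or.inr (by simp only [act, Matrix.mulVec_zero, zero_add, h2, h3])⟩

include hk in
theorem cos_act {S : Matrix ι ι F} (hS : Sᵀ = S) (A : GL ι F) {v : (ι → F) × (ι → F)} (hv : v ≠ 0) :
    cos R k (act S A v) = (sG R S * lam o R A) • cos R k v := by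
  obtain ⟨S', A', hS', h⟩ := exists_rep hk hv
  have hs : (S + (A : Matrix ι ι F) * S' * (A : Matrix ι ι F)ᵀ)ᵀ = S + (A : Matrix ι ι F) * S' * (A : Matrix ι ι F)ᵀ := by
    rw [Matrix.transpose_add, Matrix.transpose_mul, Matrix.transpose_mul, Matrix.transpose_transpose, hS, hS',
      Matrix.mul_assoc]
  have key : sG R (S + (A : Matrix ι ι F) * S' * (A : Matrix ι ι F)ᵀ) * lam o R (A * A') =
      sG R S * lam o R A * (sG R S' * lam o R A') := by
    rw [sG_add, ← sG_conj R A hS', map_mul]; group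
  rcases h with rfl | rfl
  · rw [act_act, cos_one R hs, cos_one R hS', key]; rfl
  · rw [act_act, cos_two R hk hs, cos_two R hk hS', key]
    exact congrArg QuotientGroup.mk (mul_assoc _ _ _)

/-- The Weyl element agrees with its action. -/
def Agree (k : ι) (v : (ι → F) × (ι → F)) : Prop := W • cos R k v = cos R k (wv o v)

include hk in
theorem agree_move {S S' : Matrix ι ι F} (hS : Sᵀ = S) (hS' : S'ᵀ = S') {A A' : GL ι F}
    {v : (ι → F) × (ι → F)} (hv : v ≠ 0) (hG : W * (sG R S * lam o R A) = sG R S' * lam o R A' * W)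
    (hV : wv o (act S A v) = act S' A' (wv o v)) (h : Agree R k v) : Agree R k (act S A v) := by
  rw [Agree, cos_act R hk hS A hv, hV, cos_act R hk hS' A' (fun hh => hv (wv_eq_zero o hh)), ← mul_smul, hG,
    mul_smul, h]

include hk in
theorem agree_sG {S : Matrix ι ι F} (hS : Sᵀ = S) (ho : S o o = 0) {v : (ι → F) × (ι → F)} (hv : v ≠ 0)
    (h : Agree R k v) : Agree R k (act S 1 v) := by
  refine agree_move R hk hS (eraseRC_symm o hS) (A' := trG o fun i => S i o) hv
    (by rw [map_one, mul_one, w_sG R hS ho]) ?_ h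
  have hu : (fun i => S i o) o = (0 : F) := ho
  set u := fun i => S i o with hudef
  obtain ⟨x, y⟩ := v
  have hinv : ((trG o u)⁻¹ : GL ι F) = trG o (-u) := (trG_neg hu).symm
  have hu' : u ⬝ᵥ e F o = 0 := by rw [dotProduct_single_one]; exact hu
  have hz : ∀ c : F, eraseRC o S *ᵥ (c • e F o) = 0 := fun c => by
    rw [Matrix.mulVec_smul, Matrix.mulVec_single_one, show (eraseRC o S).col o = 0 from funext fun i => by
      simp [eraseRC, Matrix.col_apply], smul_zero]
  have hSy : S *ᵥ y = eraseRC o S *ᵥ y + (y o • u + (u ⬝ᵥ y) • e F o) := by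
    conv_lhs => rw [split_sym hS ho, Matrix.add_mulVec, colT_mulVec]
  have hEo : (eraseRC o S *ᵥ y) o = 0 := by simp [Matrix.mulVec, dotProduct, eraseRC]
  simp only [act, inv_one, Units.val_one, Matrix.vecMul_one, Matrix.one_mulVec, hinv, trG_val hu,
    trG_val (show (-u) o = 0 by simp [hu]), trM, Matrix.add_mulVec, Matrix.vecMul_add, Matrix.vecMul_vecMulVec,
    Matrix.vecMulVec_mulVec, wv, hSy]
  refine Prod.ext (funext fun i => ?_) (funext fun i => ?_)
  · simp only [Matrix.mulVec_add, hz, Matrix.mulVec_neg, add_dotProduct, smul_dotProduct, Pi.add_apply,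
      Pi.smul_apply, smul_eq_mul, single_dotProduct, dotProduct_single_one,
      Pi.single_eq_same, dotProduct_neg, dotProduct_comm y u, dotProduct_comm (e F o) u, hu']
    rcases eq_or_ne i o with rfl | hi <;> simp [hu, hEo, Pi.single_apply, *] <;> ring
  · simp only [add_dotProduct, smul_dotProduct, Pi.add_apply, Pi.smul_apply, smul_eq_mul, dotProduct_neg,
      dotProduct_comm y u, dotProduct_comm (e F o) u, hu']
    rcases eq_or_ne i o with rfl | hi <;> simp [hu, hEo, Pi.single_apply, *] <;> ring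

include hk in
theorem agree_tr {u : ι → F} (hu : u o = 0) {v : (ι → F) × (ι → F)} (hv : v ≠ 0)
    (h : Agree R k v) : Agree R k (act 0 (trG o u) v) := by
  refine agree_move R hk Matrix.transpose_zero (colT_symm o (-u)) (A' := 1) hv
    (by rw [sG_zero, one_mul, map_one, mul_one, ← w_tr R hu, inv_mul_cancel_right]) ?_ h
  obtain ⟨x, y⟩ := v
  have hinv : ((trG o u)⁻¹ : GL ι F) = trG o (-u) := (trG_neg hu).symm
  have hu' : u ⬝ᵥ e F o = 0 := by rw [dotProduct_single_one]; exact hu
  simp only [act, inv_one, Units.val_one, Matrix.vecMul_one, Matrix.one_mulVec, hinv, trG_val hu,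
    trG_val (show (-u) o = 0 by simp [hu]), trM, Matrix.add_mulVec, Matrix.vecMul_add, Matrix.vecMul_vecMulVec,
    Matrix.vecMulVec_mulVec, wv, Matrix.zero_mulVec, add_zero, colT_mulVec]
  refine Prod.ext (funext fun i => ?_) (funext fun i => ?_)
  · simp only [neg_dotProduct, dotProduct_add, dotProduct_smul, Pi.add_apply, Pi.smul_apply, Pi.neg_apply,
      smul_eq_mul, dotProduct_neg, single_dotProduct, dotProduct_comm y u, hu']
    rcases eq_or_ne i o with rfl | hi <;> simp [hu, Pi.single_apply, *] <;> ring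
  · simp only [add_dotProduct, smul_dotProduct, Pi.add_apply, Pi.smul_apply, smul_eq_mul, dotProduct_neg,
      dotProduct_comm y u, single_dotProduct, hu']
    rcases eq_or_ne i o with rfl | hi <;> simp [hu, Pi.single_apply, *] <;> ring

include hk in
theorem agree_blk {B : GL ι F} (hB : Blk o B) {v : (ι → F) × (ι → F)} (hv : v ≠ 0)
    (h : Agree R k v) : Agree R k (act 0 B v) := by
  refine agree_move R hk Matrix.transpose_zero (Matrix.transpose_zero (m := ι) (n := ι)) (A' := B) hv
    (by rw [sG_zero, one_mul]; exact (comm_blk R hB _).symm.eq) ?_ h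
  obtain ⟨x, y⟩ := v
  have h2 : e F o ᵥ* ((B⁻¹ : GL ι F) : Matrix ι ι F) = e F o := hB.inv.2
  have h1 : (B : Matrix ι ι F) *ᵥ e F o = e F o := hB.1
  have hxo : ((B : Matrix ι ι F) *ᵥ x) o = x o := by
    rw [← single_one_dotProduct o ((B : Matrix ι ι F) *ᵥ x), Matrix.dotProduct_mulVec, hB.2, single_one_dotProduct]
  have hyo : (y ᵥ* ((B⁻¹ : GL ι F) : Matrix ι ι F)) o = y o := by
    rw [← dotProduct_single_one (y ᵥ* ((B⁻¹ : GL ι F) : Matrix ι ι F)) o, ← Matrix.dotProduct_mulVec, hB.inv.1,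
      dotProduct_single_one]
  simp only [act, wv, Matrix.zero_mulVec, add_zero, Matrix.mulVec_add, Matrix.mulVec_smul, h1,
    Matrix.add_vecMul, Matrix.smul_vecMul, h2, hxo, hyo, smul_zero, add_zero, zero_add, Matrix.mulVec_zero]

include hk in
theorem cos_plane (g : SL(2, F)) :
    cos R k (g.1 0 0 • e F o, g.1 1 0 • e F o) =
      ((ψ g * lam o R (permG (Equiv.swap o k)) : G) : G ⧸ stab R k) := by
  set τ := permG (F := F) (Equiv.swap o k) with hτ
  have hτ2 : τ * τ = 1 := perm_sq o k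
  have hτk : (τ : Matrix ι ι F) *ᵥ e F k = e F o := by
    rw [hτ, Equiv.swap_comm]; exact permG_swap_mulVec k o
  have hd : ∀ c : Fˣ, (dg o c : Matrix ι ι F) *ᵥ e F o = (c : F) • e F o := fun c => by
    funext i
    rcases eq_or_ne i o with rfl | hi <;> simp [dg_val, Matrix.mulVec_diagonal, *]
  have fix : ∀ z : F, ((ψ (uElt z) * lam o R τ : G) : G ⧸ stab R k) = (lam o R τ : G ⧸ stab R k) := fun z => by
    refine (QuotientGroup.eq.2 ?_).symm
    rw [show ψ (uElt z) = SpFour.X ψ z from rfl, ← sG_o R z,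
      show (lam o R τ)⁻¹ * (sG R (Matrix.single o o z) * lam o R τ) =
        lam o R τ⁻¹ * sG R (Matrix.single o o z) * (lam o R τ⁻¹)⁻¹ by rw [map_inv]; group,
      sG_conj R _ (Matrix.transpose_single o o z)]
    refine sG_mem_stab R ?_
    rw [Matrix.transpose_mul, Matrix.transpose_mul, Matrix.transpose_transpose, Matrix.transpose_single,
      Matrix.mul_assoc]
  have hdet := g.2
  rw [Matrix.det_fin_two] at hdet
  by_cases hb : g.1 1 0 = 0
  · rw [hb, mul_zero, sub_zero] at hdet
    set c := Units.mk0 (g.1 0 0) (fun h => one_ne_zero (α := F) (by rw [← hdet, h, zero_mul])) with hc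
    have hg : g = dElt c * uElt (g.1 0 1 / g.1 0 0) := by
      have h0 : g.1 0 0 ≠ 0 := c.ne_zero
      refine Subtype.ext ?_
      rw [Matrix.SpecialLinearGroup.coe_mul, uElt_val]
      ext i j
      fin_cases i <;> fin_cases j <;> simp [dElt, hc, Matrix.mul_apply, Fin.sum_univ_two, h0, hb]
      · field_simp
      · exact eq_inv_of_mul_eq_one_right hdet
    rw [hb, zero_smul, show (g.1 0 0 • e F o, (0 : ι → F)) = act 0 (dg o c * τ) (e F k, 0) by
      simp only [act, Units.val_mul, ← Matrix.mulVec_mulVec, hτk, hd, hc, Units.val_mk0, Matrix.zero_mulVec,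
        Matrix.zero_vecMul, add_zero], cos_one R Matrix.transpose_zero,
      sG_zero, one_mul, map_mul, lam_dg]
    conv_rhs => rw [hg, map_mul, mul_assoc]
    exact congrArg (fun z => ψ (dElt c) • z) (fix _).symm
  · set b := Units.mk0 (g.1 1 0) hb with hb'
    have hg : g = uElt (g.1 0 0 / g.1 1 0) * (wElt F * dElt (-b)) * uElt (g.1 1 1 / g.1 1 0) := by
      refine Subtype.ext ?_
      rw [Matrix.SpecialLinearGroup.coe_mul, Matrix.SpecialLinearGroup.coe_mul, Matrix.SpecialLinearGroup.coe_mul,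
        uElt_val, uElt_val]
      ext i j
      fin_cases i <;> fin_cases j <;> simp [dElt, wElt, hb', Matrix.mul_apply, Fin.sum_univ_two] <;>
        field_simp <;> linear_combination (-1 : F) * hdet
    have hA : e F k ᵥ* (((dg o b⁻¹ * τ)⁻¹ : GL ι F) : Matrix ι ι F) = (b : F) • e F o := by
      rw [_root_.mul_inv_rev, inv_eq_of_mul_eq_one_right hτ2, ← map_inv, inv_inv, Units.val_mul,
        ← Matrix.vecMul_vecMul, ← Matrix.mulVec_transpose (τ : Matrix ι ι F),
        show (τ : Matrix ι ι F)ᵀ = (τ : Matrix ι ι F) by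
          show (Equiv.Perm.permMatrix F _)ᵀ = Equiv.Perm.permMatrix F _
          rw [Matrix.transpose_permMatrix, Equiv.swap_inv], hτk]
      funext i
      rcases eq_or_ne i o with rfl | hi
      · simp [dg_val, Matrix.vecMul_diagonal]
      · simp [dg_val, Matrix.vecMul_diagonal, hi]
    rw [show (g.1 0 0 • e F o, g.1 1 0 • e F o) =
      act (Matrix.single o o (g.1 0 0 / g.1 1 0)) (dg o b⁻¹ * τ) (0, e F k) by
        simp only [act, Matrix.mulVec_zero, zero_add, hA, Matrix.mulVec_smul, Matrix.mulVec_single_one]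
        refine Prod.ext (funext fun i => ?_) rfl
        rcases eq_or_ne i o with rfl | hi
        · simp [hb', Matrix.col_apply]; field_simp
        · simp [hb', Matrix.col_apply, hi, hi.symm, Matrix.single_apply],
      cos_two R hk (Matrix.transpose_single o o _), sG_o, SpFour.X]
    conv_rhs => rw [hg, map_mul, mul_assoc]
    refine Eq.trans ?_ (congrArg (fun z => ψ (uElt (g.1 0 0 / g.1 1 0) * (wElt F * dElt (-b))) • z) (fix _).symm)
    refine congrArg QuotientGroup.mk ?_
    have e2 : dElt b⁻¹ * (wElt F)⁻¹ = wElt F * dElt (-b) := by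
      refine Subtype.ext ?_
      rw [Matrix.SpecialLinearGroup.coe_mul, Matrix.SpecialLinearGroup.coe_mul, wElt_inv']
      ext i j
      fin_cases i <;> fin_cases j <;> simp [dElt, wElt, hb', Matrix.mul_apply, Fin.sum_univ_two]
    have e3 : lam o R τ * lam o R τ = 1 := by rw [← map_mul, hτ2, map_one]
    rw [map_mul ψ (uElt _), ← e2, map_mul ψ (dElt b⁻¹), map_inv ψ, map_mul (lam o R), lam_dg, other, ← hτ,
      inv_eq_of_mul_eq_one_right e3]
    simp only [mul_assoc]
    rw [← mul_assoc (lam o R τ) (lam o R τ), e3, one_mul, smul_eq_mul]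
    group

include hk in
theorem agree_all {v : (ι → F) × (ι → F)} (hv : v ≠ 0) : Agree R k v := by
  have hek : e F k ≠ 0 := fun h => one_ne_zero (α := F) (by simpa using congrFun h k)
  have hfix1 : wv o (e F k, (0 : ι → F)) = (e F k, 0) := by simp [wv, hk, hk.symm]
  have hfix2 : wv o ((0 : ι → F), e F k) = (0, e F k) := by simp [wv, hk, hk.symm]
  have h1e : (1 : GL ι F) * 1 = 1 := one_mul 1
  have base1 : Agree R k (e F k, 0) := by
    have h := cos_one R (k := k) (Matrix.transpose_zero (m := ι) (n := ι) (α := F)) 1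
    rw [sG_zero, map_one, one_mul, act_one] at h
    rw [Agree, hfix1, h]
    exact (QuotientGroup.eq.2 (by rw [inv_one, one_mul]; exact mul_mem (psi_mem_stab R _) (one_mem _))).symm
  have base2 : Agree R k (0, e F k) := by
    have h := cos_two R hk (Matrix.transpose_zero (m := ι) (n := ι) (α := F)) 1
    rw [sG_zero, map_one, one_mul, one_mul, act_one] at h
    rw [Agree, hfix2, h]
    refine (QuotientGroup.eq.2 ?_).symm
    show (other R k)⁻¹ * (W * other R k) ∈ _
    rw [(w_other R hk).eq, inv_mul_cancel_left]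
    exact psi_mem_stab R _
  obtain ⟨x, y⟩ := v
  by_cases hy : ∃ i, i ≠ o ∧ y i ≠ 0
  · obtain ⟨i, hio, hi⟩ := hy
    obtain ⟨C, hC, hCk⟩ := exists_blk_col (F := F) hk (v := Function.update y o 0)
      (fun h => hi (by simpa [hio] using congrFun h i)) (Function.update_self o 0 y)
    obtain ⟨S, hS, hSy, hS0⟩ := exists_sym hi x
    set u : ι → F := Pi.single k (-(y o)) with hu
    have huo : u o = 0 := by simp [hu, hk.symm]
    have hne2 : ((0 : ι → F), e F k) ≠ 0 := fun h => hek (congrArg Prod.snd h)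
    have hT := agree_tr R hk huo hne2 base2
    have hne3 : act 0 (trG o u) ((0 : ι → F), e F k) ≠ 0 := fun h => hne2 ((act_eq_zero_iff _ _ _).1 h)
    have hBl := agree_blk R hk hC.trp.inv hne3 hT
    have hne4 : act 0 (trpG C)⁻¹ (act 0 (trG o u) ((0 : ι → F), e F k)) ≠ 0 :=
      fun h => hne3 ((act_eq_zero_iff _ _ _).1 h)
    have hfin := agree_sG R hk hS (hS0 o hio) hne4 hBl
    have hval : act S 1 (act 0 (trpG C)⁻¹ (act 0 (trG o u) ((0 : ι → F), e F k))) = (x, y) := by
      have hCo : e F o ᵥ* (trpG C : Matrix ι ι F) = e F o := hC.trp.2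
      have hCk' : e F k ᵥ* (trpG C : Matrix ι ι F) = Function.update y o 0 := by
        show e F k ᵥ* (C : Matrix ι ι F)ᵀ = _
        rw [Matrix.vecMul_transpose, hCk]
      simp only [act, Matrix.mulVec_zero, Matrix.zero_mulVec, add_zero, zero_add, inv_one, inv_inv, Units.val_one,
        Matrix.vecMul_one, ← trG_neg huo, trG_val (show (-u) o = 0 by simp [huo]), trM, Matrix.vecMul_add,
        Matrix.vecMul_vecMulVec, Matrix.add_vecMul, Matrix.smul_vecMul, hCo, hCk']
      have hy' : Function.update y o 0 + (e F k ⬝ᵥ -u) • e F o = y := by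
        funext j
        rcases eq_or_ne j o with rfl | hj <;> simp [hu, Pi.single_apply, *]
      rw [hy', hSy]
    rwa [hval] at hfin
  simp only [not_exists, not_and, not_not] at hy
  have hy' : y = y o • e F o := funext fun i => by
    rcases eq_or_ne i o with rfl | hi
    · simp
    · simp [hy i hi, hi]
  by_cases h0 : x o = 0 ∧ y o = 0
  · obtain ⟨hx0, hy0⟩ := h0
    rw [hy', hy0, zero_smul] at hv ⊢
    have hx : x ≠ 0 := fun h => hv (by rw [h]; rfl)
    obtain ⟨B, hB, hBk⟩ := exists_blk_col hk hx hx0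
    have h := agree_blk R hk hB (v := (e F k, 0)) (fun h => hek (congrArg Prod.fst h)) base1
    rwa [show act 0 B (e F k, (0 : ι → F)) = (x, 0) by
      simp only [act, hBk, Matrix.zero_mulVec, add_zero, Matrix.zero_vecMul]] at h
  -- the plane
  have plane : ∀ a b : F, (a, b) ≠ 0 → Agree R k (a • e F o, b • e F o) := by
    intro a b hab
    obtain ⟨g, hga, hgb⟩ : ∃ g : SL(2, F), g.1 0 0 = a ∧ g.1 1 0 = b := by
      by_cases ha : a = 0
      · subst ha
        have hb : b ≠ 0 := fun h => hab (by rw [h]; rfl)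
        exact ⟨⟨!![0, -b⁻¹; b, 0], by simp [Matrix.det_fin_two, hb]⟩, rfl, rfl⟩
      · exact ⟨⟨!![a, 0; b, a⁻¹], by simp [Matrix.det_fin_two, ha]⟩, rfl, rfl⟩
    subst hga hgb
    rw [Agree, cos_plane R hk g, show wv o (g.1 0 0 • e F o, g.1 1 0 • e F o) =
      ((wElt F * g).1 0 0 • e F o, (wElt F * g).1 1 0 • e F o) by
        simp only [wv, Matrix.SpecialLinearGroup.coe_mul, Matrix.mul_apply, Fin.sum_univ_two,
          Pi.smul_apply, Pi.single_eq_same, smul_eq_mul, mul_one]
        simp only [← add_smul]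
        congr 1 <;> congr 1 <;> simp [wElt], cos_plane R hk (wElt F * g), map_mul, mul_assoc]
    rfl
  by_cases hxo : x o = 0
  · have hyo : y o ≠ 0 := fun h => h0 ⟨hxo, h⟩
    set u : ι → F := (y o)⁻¹ • x with hu
    have huo : u o = 0 := by simp [hu, hxo]
    have h := agree_sG R hk (colT_symm o u) (by simp [colT, Matrix.vecMulVec_apply, huo])
      (v := ((0 : F) • e F o, y o • e F o))
      (fun h => hyo (by simpa using congrFun (congrArg Prod.snd h) o)) (plane 0 (y o) (by simp [hyo]))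
    have hval : act (colT o u) 1 ((0 : F) • e F o, y o • e F o) = (x, y) := by
      simp only [act, inv_one, Units.val_one, Matrix.vecMul_one, zero_smul, Matrix.mulVec_zero, zero_add,
        colT_mulVec, dotProduct_smul, dotProduct_single_one, huo, smul_eq_mul, mul_zero, zero_smul, add_zero,
        Pi.smul_apply, Pi.single_eq_same, mul_one]
      rw [← hy', hu, smul_smul, mul_inv_cancel₀ hyo, one_smul]
    rwa [hval] at h
  · set u : ι → F := Function.update ((x o)⁻¹ • x) o 0 with hu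
    have huo : u o = 0 := by simp [hu]
    have h := agree_tr R hk huo (v := (x o • e F o, y o • e F o))
      (fun h => hxo (by simpa using congrFun (congrArg Prod.fst h) o)) (plane (x o) (y o) (by simp [hxo]))
    have hval : act 0 (trG o u) (x o • e F o, y o • e F o) = (x, y) := by
      simp only [act, Matrix.zero_mulVec, add_zero, ← trG_neg huo, trG_val huo,
        trG_val (show (-u) o = 0 by simp [huo]), trM, Matrix.add_mulVec, Matrix.vecMul_add, Matrix.one_mulVec,
        Matrix.vecMul_one, Matrix.vecMulVec_mulVec, Matrix.vecMul_vecMulVec, smul_dotProduct,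
        single_one_dotProduct, Pi.neg_apply, huo, neg_zero, smul_zero, zero_smul, add_zero]
      refine Prod.ext (funext fun i => ?_) hy'.symm
      rcases eq_or_ne i o with rfl | hi
      · simp [huo]
      · simp [hu, hi]
        field_simp
    rwa [hval] at h

variable (hgen : Subgroup.closure (Set.range φ ∪ Set.range ψ) = ⊤)

include hk hgen in
theorem cos_surjective (z : G ⧸ stab R k) : ∃ v, v ≠ 0 ∧ cos R k v = z := by
  set Ω : Set (G ⧸ stab R k) := {z | ∃ v, v ≠ 0 ∧ cos R k v = z} with hΩ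
  have hp : ∀ (S : Matrix ι ι F), Sᵀ = S → ∀ A : GL ι F, SpFour.Stab Ω (sG R S * lam o R A) := by
    rintro S hS A _ ⟨v, hv, rfl⟩
    exact ⟨act S A v, fun h => hv ((act_eq_zero_iff _ _ _).1 h), cos_act R hk hS A hv⟩
  have hlam : ∀ A : GL ι F, SpFour.Stab Ω (lam o R A) := fun A => by
    simpa [sG_zero] using hp 0 Matrix.transpose_zero A
  have hw : SpFour.Stab Ω W := by
    rintro _ ⟨v, hv, rfl⟩
    exact ⟨wv o v, fun h => hv (wv_eq_zero o h), (agree_all R hk hv).symm⟩
  have hw' : SpFour.Stab Ω W⁻¹ := fun z hz => by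
    have e : W⁻¹ = (lam o R (dg o (-1)))⁻¹ * W := by rw [← w_sq R]; group
    rw [e, mul_smul, ← map_inv]
    exact hlam _ _ (hw z hz)
  have hx : ∀ t, SpFour.Stab Ω (ψ (uElt t)) := fun t => by
    have := hp _ (Matrix.transpose_single o o t) 1
    rwa [map_one, mul_one, sG_o R] at this
  have hx' : ∀ t, SpFour.Stab Ω (ψ (uElt t))⁻¹ := fun t => by rw [← map_inv, ← uElt_neg]; exact hx _
  let H : Subgroup G :=
    Subgroup.closure (Set.range φ ∪ Set.range (fun t : F => ψ (uElt t)) ∪ {W})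
  have hH : H = ⊤ := by
    rw [← top_le_iff, ← hgen, Subgroup.closure_le]
    rintro _ (⟨B, rfl⟩ | ⟨M, rfl⟩)
    · exact Subgroup.subset_closure (Or.inl (Or.inl ⟨B, rfl⟩))
    refine KnownB.SLnSt.range_le (fun t => ?_) (fun t => ?_) M
    · rw [show KnownB.SLnSt.up t = uElt t from Subtype.ext (by rw [uElt_val]; rfl)]
      exact Subgroup.subset_closure (Or.inl (Or.inr ⟨t, rfl⟩))
    · rw [show KnownB.SLnSt.lo t = wElt F * uElt (-t) * (wElt F)⁻¹ from Subtype.ext (by
        rw [← lElt, lElt_val]; rfl), map_mul, map_mul, map_inv]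
      exact mul_mem (mul_mem (Subgroup.subset_closure (Or.inr rfl))
        (Subgroup.subset_closure (Or.inl (Or.inr ⟨_, rfl⟩)))) (inv_mem (Subgroup.subset_closure (Or.inr rfl)))
  obtain ⟨g, rfl⟩ := QuotientGroup.mk_surjective z
  have hg : SpFour.Stab Ω g := by
    refine SpFour.stab_closure ?_ ?_ g (show g ∈ H from hH ▸ Subgroup.mem_top g)
    · rintro _ ((⟨B, rfl⟩ | ⟨t, rfl⟩) | rfl)
      exacts [lam_sl R B ▸ hlam _, hx t, hw]
    · rintro _ ((⟨B, rfl⟩ | ⟨t, rfl⟩) | rfl)
      exacts [by rw [← map_inv, ← lam_sl R B⁻¹]; exact hlam _, hx' t, hw']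
  have h1 : ((1 : G) : G ⧸ stab R k) ∈ Ω := by
    refine ⟨(e F k, 0), fun h => one_ne_zero (α := F) (by simpa using congrFun (congrArg Prod.fst h) k), ?_⟩
    have h := cos_one R (k := k) (Matrix.transpose_zero (m := ι) (n := ι) (α := F)) 1
    rwa [sG_zero, map_one, one_mul, act_one] at h
  have h2 := hg _ h1
  rwa [show g • ((1 : G) : G ⧸ stab R k) = ((g * 1 : G) : G ⧸ stab R k) from rfl, mul_one] at h2

include hk hgen in
theorem index_stab_le [Fintype F] :
    Finite (G ⧸ stab R k) ∧ (stab R k).index ≤ Fintype.card F ^ (2 * Fintype.card ι) - 1 := by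
  classical
  let f : {v : (ι → F) × (ι → F) // v ≠ 0} → G ⧸ stab R k := fun v => cos R k v.1
  have hf : Function.Surjective f := fun z => by
    obtain ⟨v, hv, h⟩ := cos_surjective R hk hgen z
    exact ⟨⟨v, hv⟩, h⟩
  refine ⟨Finite.of_surjective f hf, ?_⟩
  rw [Subgroup.index_eq_card]
  refine (Nat.card_le_card_of_surjective f hf).trans (le_of_eq ?_)
  rw [Nat.card_eq_fintype_card, Fintype.card_subtype_compl, Fintype.card_subtype_eq, Fintype.card_prod,
    Fintype.card_fun, ← pow_add, two_mul]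

end Cosets

end

end CfsgLib.Pres.SpN
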