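import Cfsg.Agent.Lib.Pres.DnRoots
import Cfsg.Agent.Lib.Pres.SpBound

/-!
# The Siegel radical and the Levi part in a group with the relations of `Ω⁺_{2n}`
-/

set_option autoImplicit false

namespace CfsgLib.Pres.DnN

open Matrix
open scoped MatrixGroups
open CfsgLib.Classical (uElt uElt_val uElt_add)
open CfsgLib.Pres.SpN

section

variable {F : Type*} [Field F]

theorem three_e02 (t : F) :
    (emb h01 (wElt F) * emb h12 (uElt t) * (emb h01 (wElt F))⁻¹ : SL(3, F)) = emb h02 (uElt t) := by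
  rw [mul_inv_eq_iff_eq_mul]
  refine Subtype.ext ?_
  rw [Matrix.SpecialLinearGroup.coe_mul, Matrix.SpecialLinearGroup.coe_mul]
  ext i j
  rw [Matrix.mul_apply, Matrix.mul_apply, Fin.sum_univ_three, Fin.sum_univ_three]
  simp only [emb_entry]
  fin_cases i <;> fin_cases j <;> simp [uElt_val, wElt, Matrix.one_apply]

theorem three_w_up (s : F) :
    (emb h12 (wElt F) * emb h01 (uElt s) : SL(3, F)) = emb h02 (uElt (-s)) * emb h12 (wElt F) := by
  refine Subtype.ext ?_
  rw [Matrix.SpecialLinearGroup.coe_mul, Matrix.SpecialLinearGroup.coe_mul]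
  ext i j
  rw [Matrix.mul_apply, Matrix.mul_apply, Fin.sum_univ_three, Fin.sum_univ_three]
  simp only [emb_entry]
  fin_cases i <;> fin_cases j <;> simp [uElt_val, wElt, Matrix.one_apply]

theorem three_w_out (t : F) :
    (emb h12 (wElt F) * emb h02 (uElt t) : SL(3, F)) = emb h01 (uElt t) * emb h12 (wElt F) := by
  refine Subtype.ext ?_
  rw [Matrix.SpecialLinearGroup.coe_mul, Matrix.SpecialLinearGroup.coe_mul]
  ext i j
  rw [Matrix.mul_apply, Matrix.mul_apply, Fin.sum_univ_three, Fin.sum_univ_three]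
  simp only [emb_entry]
  fin_cases i <;> fin_cases j <;> simp [uElt_val, wElt, Matrix.one_apply]

theorem three_lo_up (r s : F) :
    (emb h12 (lElt r) * emb h01 (uElt s) : SL(3, F)) = emb h01 (uElt s) * emb h12 (lElt r) := by
  refine Subtype.ext ?_
  rw [Matrix.SpecialLinearGroup.coe_mul, Matrix.SpecialLinearGroup.coe_mul]
  ext i j
  rw [Matrix.mul_apply, Matrix.mul_apply, Fin.sum_univ_three, Fin.sum_univ_three]
  simp only [emb_entry]
  fin_cases i <;> fin_cases j <;> simp [uElt_val, lElt_val, Matrix.one_apply]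

theorem three_lo_out (r t : F) :
    (emb h12 (lElt r) * emb h02 (uElt t) : SL(3, F)) = emb h01 (uElt (-(r * t))) * emb h02 (uElt t) * emb h12 (lElt r) := by
  refine Subtype.ext ?_
  simp only [Matrix.SpecialLinearGroup.coe_mul]
  ext i j
  simp only [Matrix.mul_apply, Fin.sum_univ_three, emb_entry]
  fin_cases i <;> fin_cases j <;> simp [uElt_val, lElt_val, Matrix.one_apply] <;> ring

theorem three_up_out (s t : F) :
    (emb h12 (uElt s) * emb h02 (uElt t) : SL(3, F)) = emb h02 (uElt t) * emb h12 (uElt s) := by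
  refine Subtype.ext ?_
  rw [Matrix.SpecialLinearGroup.coe_mul, Matrix.SpecialLinearGroup.coe_mul]
  ext i j
  rw [Matrix.mul_apply, Matrix.mul_apply, Fin.sum_univ_three, Fin.sum_univ_three]
  simp only [emb_entry]
  fin_cases i <;> fin_cases j <;> simp [uElt_val, Matrix.one_apply, add_comm]

theorem three_torus (c : Fˣ) :
    (emb h12 (wElt F) * emb h01 (dElt c) : SL(3, F)) = emb h01 (dElt c) * emb h12 (dElt c) * emb h12 (wElt F) := by
  refine Subtype.ext ?_
  simp only [Matrix.SpecialLinearGroup.coe_mul]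
  ext i j
  simp only [Matrix.mul_apply, Fin.sum_univ_three, emb_entry]
  fin_cases i <;> fin_cases j <;> simp [dElt, wElt, Matrix.one_apply]

end

variable {F : Type*} [Field F] {ι : Type*} [Fintype ι] [DecidableEq ι]

/-- The alternating matrix of two vectors. -/
def alt (v w : ι → F) (t : F) : Matrix ι ι F := t • (Matrix.vecMulVec v w - Matrix.vecMulVec w v)

/-- Alternating matrices. -/
def IsAlt (S : Matrix ι ι F) : Prop := Sᵀ = -S ∧ ∀ i, S i i = 0

theorem isAlt_zero : IsAlt (0 : Matrix ι ι F) := ⟨by simp, fun i => rfl⟩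

theorem isAlt_alt (v w : ι → F) (t : F) : IsAlt (alt v w t) := by
  refine ⟨?_, fun i => ?_⟩
  · rw [alt, Matrix.transpose_smul, Matrix.transpose_sub, Matrix.transpose_vecMulVec, Matrix.transpose_vecMulVec,
      ← smul_neg, neg_sub]
  · simp [alt, Matrix.vecMulVec_apply, mul_comm]

theorem IsAlt.add {S T : Matrix ι ι F} (hS : IsAlt S) (hT : IsAlt T) : IsAlt (S + T) :=
  ⟨by rw [Matrix.transpose_add, hS.1, hT.1, neg_add], fun i => by rw [Matrix.add_apply, hS.2, hT.2, add_zero]⟩

theorem IsAlt.neg {S : Matrix ι ι F} (hS : IsAlt S) : IsAlt (-S) :=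
  ⟨by rw [Matrix.transpose_neg, hS.1], fun i => by rw [Matrix.neg_apply, hS.2, neg_zero]⟩

theorem IsAlt.apply {S : Matrix ι ι F} (hS : IsAlt S) (i j : ι) : S j i = -S i j := congrFun (congrFun hS.1 i) j

theorem alt_single (i j : ι) (t : F) : alt (e F i) (e F j) t = Matrix.single i j t - Matrix.single j i t := by
  rcases eq_or_ne i j with rfl | hij
  · simp [alt]
  ext a b
  simp only [alt, Matrix.smul_apply, Matrix.sub_apply, Matrix.vecMulVec_apply, Matrix.single_apply, Pi.single_apply,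
    smul_eq_mul]
  by_cases h1 : a = i <;> by_cases h2 : b = j <;> by_cases h3 : a = j <;> by_cases h4 : b = i <;>
    simp_all [eq_comm]

/-- The pairs of indices in increasing order. -/
noncomputable def upPairs : Finset (ι × ι) :=
  Finset.univ.filter fun q => Fintype.equivFin ι q.1 < Fintype.equivFin ι q.2

theorem alt_decomp {S : Matrix ι ι F} (hS : IsAlt S) :
    S = ∑ q ∈ upPairs, alt (e F q.1) (e F q.2) (S q.1 q.2) := by
  ext a b
  simp only [Matrix.sum_apply, alt_single, Matrix.sub_apply, Finset.sum_sub_distrib]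
  have h1 : ∑ q ∈ upPairs, Matrix.single q.1 q.2 (S q.1 q.2) a b =
      if Fintype.equivFin ι a < Fintype.equivFin ι b then S a b else 0 := by
    rw [upPairs, Finset.sum_filter, Finset.sum_eq_single (a, b)]
    · simp
    · rintro ⟨i, j⟩ _ hne
      have hn := fun h : i = a ∧ j = b => hne (Prod.ext h.1 h.2)
      simp only [Matrix.single_apply, if_neg hn, ite_self]
    · exact fun h => absurd (Finset.mem_univ _) h
  have h2 : ∑ q ∈ upPairs, Matrix.single q.2 q.1 (S q.1 q.2) a b =
      if Fintype.equivFin ι b < Fintype.equivFin ι a then S b a else 0 := by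
    rw [upPairs, Finset.sum_filter, Finset.sum_eq_single (b, a)]
    · simp
    · rintro ⟨i, j⟩ _ hne
      have hn := fun h : j = a ∧ i = b => hne (Prod.ext h.2 h.1)
      simp only [Matrix.single_apply, if_neg hn, ite_self]
    · exact fun h => absurd (Finset.mem_univ _) h
  rw [h1, h2]
  rcases lt_trichotomy (Fintype.equivFin ι a) (Fintype.equivFin ι b) with h | h | h
  · simp [h, not_lt.2 h.le]
  · obtain rfl := (Fintype.equivFin ι).injective h
    simp [hS.2]
  · simp [h, not_lt.2 h.le, hS.apply a b]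

/-- Alternating matrices are sums of rank two ones. -/
theorem alt_induction {P : Matrix ι ι F → Prop} (h0 : P 0)
    (hadd : ∀ A B, IsAlt A → IsAlt B → P A → P B → P (A + B))
    (hsq : ∀ (i j : ι) (t : F), i ≠ j → P (alt (e F i) (e F j) t)) {S : Matrix ι ι F} (hS : IsAlt S) : P S := by
  have key : ∀ s : Finset (ι × ι), s ⊆ upPairs → IsAlt (∑ q ∈ s, alt (e F q.1) (e F q.2) (S q.1 q.2)) ∧
      P (∑ q ∈ s, alt (e F q.1) (e F q.2) (S q.1 q.2)) := by
    intro s
    induction s using Finset.induction_on with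
    | empty => intro _; rw [Finset.sum_empty]; exact ⟨isAlt_zero, h0⟩
    | insert q s hq ih =>
      intro hs
      rw [Finset.insert_subset_iff] at hs
      obtain ⟨i1, i2⟩ := ih hs.2
      rw [Finset.sum_insert hq]
      refine ⟨(isAlt_alt _ _ _).add i1, hadd _ _ (isAlt_alt _ _ _) i1 (hsq _ _ _ fun h => ?_) i2⟩
      have := hs.1
      rw [upPairs, Finset.mem_filter, h] at this
      exact lt_irrefl _ this.2
  rw [alt_decomp hS]
  exact (key _ subset_rfl).2

variable {G : Type*} [Group G] {p o : ι} {φ : Matrix.SpecialLinearGroup ι F →* G} {ψ : SL(2, F) →* G}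
  (R : DRels p o φ ψ)
include R

local notation "X" => SpFour.X ψ

theorem biv_add_right (v w₁ w₂ : ι → F) (t : F) : biv R v (w₁ + w₂) t = biv R v w₁ t * biv R v w₂ t := by
  rw [biv_swap R (w₁ + w₂), biv_add_left, ← biv_swap, ← biv_swap]

theorem biv_smul_left (v w : ι → F) (c t : F) : biv R (c • v) w t = biv R v w (c * t) := by
  rw [biv_swap R w, biv_smul_right, mul_neg, ← biv_swap]

theorem biv_self (v : ι → F) (t : F) : biv R v v t = 1 := by
  have h := biv_dep R v 1 t
  rwa [one_smul] at h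

theorem biv_zero_right (v : ι → F) (t : F) : biv R v 0 t = 1 := by
  rw [show (0 : ι → F) = (0 : F) • v from (zero_smul _ _).symm, biv_dep]

theorem biv_neg (v w : ι → F) (t : F) : biv R v w (-t) = (biv R v w t)⁻¹ :=
  eq_inv_of_mul_eq_one_left (by rw [← biv_add, neg_add_cancel, biv_zero])

theorem biv_induction {P : G → Prop} (h1 : P 1) (hmul : ∀ a b, P a → P b → P (a * b))
    (hb : ∀ (i j : ι) (t : F), i ≠ j → P (biv R (e F i) (e F j) t)) (v w : ι → F) (t : F) : P (biv R v w t) := by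
  have hb' : ∀ (i j : ι) (t : F), P (biv R (e F i) (e F j) t) := fun i j t => by
    rcases eq_or_ne i j with rfl | h
    · rw [biv_self]; exact h1
    · exact hb i j t h
  have s1 : ∀ (i : ι) (w : ι → F) (t : F), P (biv R (e F i) w t) := by
    intro i w
    rw [← Finset.univ_sum_single w]
    induction (Finset.univ : Finset ι) using Finset.induction_on with
    | empty => intro t; rw [Finset.sum_empty, biv_zero_right]; exact h1
    | insert j s hj ih =>
      intro t
      rw [Finset.sum_insert hj, biv_add_right,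
        show (Pi.single j (w j) : ι → F) = w j • e F j by rw [← Pi.single_smul, smul_eq_mul, mul_one], biv_smul_right]
      exact hmul _ _ (hb' _ _ _) (ih t)
  rw [← Finset.univ_sum_single v]
  generalize hu : (Finset.univ : Finset ι) = s
  clear hu
  induction s using Finset.induction_on generalizing t with
  | empty => rw [Finset.sum_empty, biv_zero_left]; exact h1
  | insert j s hj ih =>
    rw [Finset.sum_insert hj, biv_add_left,
      show (Pi.single j (v j) : ι → F) = v j • e F j by rw [← Pi.single_smul, smul_eq_mul, mul_one], biv_smul_left]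
    exact hmul _ _ (s1 _ _ _) (ih t)

theorem biv_ko {k : ι} (hp : k ≠ p) (ho : k ≠ o) {χ : SL(3, F) →* G}
    (h1 : ∀ M, χ (emb h01 M) = φ (emb hp M)) (h2 : ∀ M, χ (emb h12 M) = ψ M) (t : F) :
    χ (emb h02 (uElt t)) = biv R (e F k) (e F o) t := by
  rw [← three_e02, map_mul, map_mul, map_inv, h1, h2, biv_k_o R hp ho]
  rfl

theorem w_up_p {k : ι} (hp : k ≠ p) (ho : k ≠ o) (s : F) :
    ψ (wElt F) * φ (emb hp (uElt s)) * (ψ (wElt F))⁻¹ = biv R (e F k) (e F o) (-s) := by
  obtain ⟨χ, h1, h2⟩ := R.triple k hp ho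
  rw [← biv_ko R hp ho h1 h2, ← h1, ← h2, mul_inv_eq_iff_eq_mul, ← map_mul, ← map_mul, three_w_up]

theorem w_biv_o {k : ι} (hp : k ≠ p) (ho : k ≠ o) (t : F) :
    ψ (wElt F) * biv R (e F k) (e F o) t * (ψ (wElt F))⁻¹ = φ (emb hp (uElt t)) := by
  obtain ⟨χ, h1, h2⟩ := R.triple k hp ho
  rw [← biv_ko R hp ho h1 h2, ← h1, ← h2, mul_inv_eq_iff_eq_mul, ← map_mul, ← map_mul, three_w_out]

theorem lo_comm_p {k : ι} (hp : k ≠ p) (ho : k ≠ o) (r s : F) :
    Commute (ψ (lElt r)) (φ (emb hp (uElt s))) := by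
  obtain ⟨χ, h1, h2⟩ := R.triple k hp ho
  show _ = _
  rw [← h1, ← h2, ← map_mul, ← map_mul, three_lo_up]

theorem lo_biv_o {k : ι} (hp : k ≠ p) (ho : k ≠ o) (r t : F) :
    ψ (lElt r) * biv R (e F k) (e F o) t * (ψ (lElt r))⁻¹ =
      φ (emb hp (uElt (-(r * t)))) * biv R (e F k) (e F o) t := by
  obtain ⟨χ, h1, h2⟩ := R.triple k hp ho
  rw [← biv_ko R hp ho h1 h2, ← h1, ← h2, mul_inv_eq_iff_eq_mul, ← map_mul, ← map_mul, ← map_mul, three_lo_out]

theorem X_biv_o {k : ι} (hp : k ≠ p) (ho : k ≠ o) (s t : F) : Commute (X s) (biv R (e F k) (e F o) t) := by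
  obtain ⟨χ, h1, h2⟩ := R.triple k hp ho
  show _ = _
  rw [← biv_ko R hp ho h1 h2, SpFour.X, ← h2, ← map_mul, ← map_mul, three_up_out]

theorem pw_conj_psi (M : SL(2, F)) :
    (φ (emb R.ne (wElt F)))⁻¹ * ψ M * φ (emb R.ne (wElt F)) = ψ M := by
  rw [mul_assoc, ← (R.pc R.ne (wElt F) M).eq, inv_mul_cancel_left]

theorem pw_conj_biv {k : ι} (hp : k ≠ p) (ho : k ≠ o) (t : F) :
    (φ (emb R.ne (wElt F)))⁻¹ * biv R (e F k) (e F o) t * φ (emb R.ne (wElt F)) = biv R (e F k) (e F p) (-t) := by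
  have h := biv_conj R ((emb R.ne (wElt F))⁻¹) (e F k) (e F o) t
  rw [map_inv, inv_inv] at h
  rw [h, ← map_inv (emb (F := F) R.ne)]
  obtain ⟨-, w2, w3⟩ := emb_mulVec R R.ne ((wElt F)⁻¹)
  rw [w2, w3 k hp ho, wElt_inv_val']
  simp
  rw [show -e F p = (-1 : F) • e F p by simp, biv_smul_right]
  simp

theorem pw_conj_emb {k : ι} (hp : k ≠ p) (ho : k ≠ o) (M : SL(2, F)) :
    (φ (emb R.ne (wElt F)))⁻¹ * φ (emb hp M) * φ (emb R.ne (wElt F)) = φ (emb ho M) := by
  rw [conj_pw_emb R hp ho, map_inv]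

theorem w_up_o {k : ι} (hp : k ≠ p) (ho : k ≠ o) (s : F) :
    ψ (wElt F) * φ (emb ho (uElt s)) * (ψ (wElt F))⁻¹ = biv R (e F k) (e F p) s := by
  have h := congrArg (fun x => (φ (emb R.ne (wElt F)))⁻¹ * x * φ (emb R.ne (wElt F))) (w_up_p R hp ho s)
  beta_reduce at h
  rw [pw_conj_biv R hp ho, neg_neg, show ∀ a b c d : G, d⁻¹ * (a * b * c) * d = (d⁻¹ * a * d) * (d⁻¹ * b * d) * (d⁻¹ * c * d)
    from fun a b c d => by group, ← map_inv ψ, pw_conj_psi R, pw_conj_psi R, pw_conj_emb R hp ho] at h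
  rwa [← map_inv ψ]

theorem w_biv_p {k : ι} (hp : k ≠ p) (ho : k ≠ o) (t : F) :
    ψ (wElt F) * biv R (e F k) (e F p) t * (ψ (wElt F))⁻¹ = φ (emb ho (uElt (-t))) := by
  have h := congrArg (fun x => (φ (emb R.ne (wElt F)))⁻¹ * x * φ (emb R.ne (wElt F))) (w_biv_o R hp ho (-t))
  beta_reduce at h
  rw [show ∀ a b c d : G, d⁻¹ * (a * b * c) * d = (d⁻¹ * a * d) * (d⁻¹ * b * d) * (d⁻¹ * c * d)
    from fun a b c d => by group, ← map_inv ψ, pw_conj_psi R, pw_conj_psi R, pw_conj_biv R hp ho, neg_neg,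
    pw_conj_emb R hp ho] at h
  rwa [← map_inv ψ]

theorem lo_biv_p {k : ι} (hp : k ≠ p) (ho : k ≠ o) (r t : F) :
    ψ (lElt r) * biv R (e F k) (e F p) t * (ψ (lElt r))⁻¹ =
      φ (emb ho (uElt (r * t))) * biv R (e F k) (e F p) t := by
  have h := congrArg (fun x => (φ (emb R.ne (wElt F)))⁻¹ * x * φ (emb R.ne (wElt F))) (lo_biv_o R hp ho r (-t))
  beta_reduce at h
  rw [show ∀ a b c d : G, d⁻¹ * (a * b * c) * d = (d⁻¹ * a * d) * (d⁻¹ * b * d) * (d⁻¹ * c * d)
    from fun a b c d => by group, ← map_inv ψ, pw_conj_psi R, pw_conj_psi R, pw_conj_biv R hp ho, neg_neg,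
    show ∀ a b d : G, d⁻¹ * (a * b) * d = (d⁻¹ * a * d) * (d⁻¹ * b * d) from fun a b d => by group,
    pw_conj_biv R hp ho, neg_neg, pw_conj_emb R hp ho, mul_neg, neg_neg] at h
  rwa [← map_inv ψ]

theorem biv_far_eq {k l : ι} (hkp : k ≠ p) (hlp : l ≠ p) (t : F) :
    biv R (e F k) (e F l) t =
      φ (emb hkp (uElt 1)) * biv R (e F p) (e F l) t * (φ (emb hkp (uElt 1)))⁻¹ * (biv R (e F p) (e F l) t)⁻¹ := by
  rcases eq_or_ne k l with rfl | hkl
  · rw [biv_self, biv_conj]
    obtain ⟨e0, e1, e2⟩ := emb_mulVec R hkp (uElt (1 : F))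
    rw [e1, e0, uElt_val]
    simp [biv_add_left, biv_self]
  rw [biv_conj]
  obtain ⟨-, e1, e2⟩ := emb_mulVec R hkp (uElt (1 : F))
  rw [e1, e2 l (Ne.symm hkl) hlp, uElt_val]
  simp [biv_add_left]

theorem w_biv_far {k l : ι} (hkp : k ≠ p) (hko : k ≠ o) (hlp : l ≠ p) (hlo : l ≠ o) (hkl : k ≠ l) (t : F) :
    ψ (wElt F) * biv R (e F k) (e F l) t * (ψ (wElt F))⁻¹ = biv R (e F k) (e F l) t := by
  rw [biv_far_eq R hkp hlp]
  rw [show ∀ a b d : G, d * (a * b * a⁻¹ * b⁻¹) * d⁻¹ =
      (d * a * d⁻¹) * (d * b * d⁻¹) * (d * a * d⁻¹)⁻¹ * (d * b * d⁻¹)⁻¹ from fun a b d => by group,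
    w_up_p R hkp hko, biv_swap R (e F l) (e F p), w_biv_p R hlp hlo, neg_neg,
    show ∀ a b : G, a * b * a⁻¹ * b⁻¹ = a * (b * a * b⁻¹)⁻¹ from fun a b => by group, biv_conj]
  obtain ⟨-, e1, e2⟩ := emb_mulVec R hlo (uElt t)
  rw [e1, e2 k hkl hko, uElt_val]
  obtain ⟨-, f1, f2⟩ := emb_mulVec R hkp (uElt (1 : F))
  simp [biv_add_right, biv_smul_right]
  rw [biv_neg, inv_inv]
  rw [← biv_swap R (e F l) (e F p), ← biv_far_eq R hkp hlp]

theorem lo_biv_far {k l : ι} (hkp : k ≠ p) (hko : k ≠ o) (hlp : l ≠ p) (hlo : l ≠ o) (hkl : k ≠ l) (r t : F) :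
    Commute (ψ (lElt r)) (biv R (e F k) (e F l) t) := by
  refine mul_inv_eq_iff_eq_mul.1 ?_
  conv_lhs => rw [biv_far_eq R hkp hlp]
  rw [show ∀ a b d : G, d * (a * b * a⁻¹ * b⁻¹) * d⁻¹ =
      (d * a * d⁻¹) * (d * b * d⁻¹) * (d * a * d⁻¹)⁻¹ * (d * b * d⁻¹)⁻¹ from fun a b d => by group,
    (lo_comm_p R hkp hko r 1).eq, mul_inv_cancel_right, biv_swap R (e F l) (e F p), lo_biv_p R hlp hlo]
  set a := φ (emb hkp (uElt (1 : F))) with ha
  set b := biv R (e F l) (e F p) (-t) with hb
  set y := φ (emb hlo (uElt (r * -t))) with hy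
  have hay : Commute a y := by
    rw [ha, hy]
    refine Commute.map (toGL_inj ?_) φ
    rw [map_mul, map_mul, ← trG_single hkp, ← trG_single hlo]
    refine Units.ext ?_
    rw [Units.val_mul, Units.val_mul, trG_val (by simp [hkp.symm]), trG_val (by simp [hlo.symm])]
    simp [trM, mul_add, add_mul, Matrix.vecMulVec_mul_vecMulVec, hkl, hko, hlp, hkl.symm, hko.symm, hlp.symm, add_comm,
      add_left_comm, add_assoc]
  rw [show a * (y * b) * a⁻¹ * (y * b)⁻¹ = (a * y) * b * a⁻¹ * b⁻¹ * y⁻¹ by group, hay.eq,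
    show y * a * b * a⁻¹ * b⁻¹ * y⁻¹ = y * (a * b * a⁻¹ * b⁻¹) * y⁻¹ by group, hb, ← biv_swap R (e F l) (e F p),
    ha, ← biv_far_eq R hkp hlp, hy, biv_conj]
  obtain ⟨e0, -, e2⟩ := emb_mulVec R hlo (uElt (r * -t))
  rw [e0, e2 k hkl hko, uElt_val]
  simp

theorem X_biv (i j : ι) (s t : F) : Commute (X s) (biv R (e F i) (e F j) t) := by
  have hk_o : ∀ k, k ≠ p → k ≠ o → ∀ t, Commute (X s) (biv R (e F k) (e F o) t) := fun k h1 h2 t => X_biv_o R h1 h2 s t
  have hk_p : ∀ k, k ≠ p → k ≠ o → ∀ t, Commute (X s) (biv R (e F k) (e F p) t) := fun k h1 h2 t => by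
    rw [← neg_neg t, ← pw_conj_biv R h1 h2]
    have hc : Commute (X s) (φ (emb R.ne (wElt F))) := (pc_X R (wElt F) s).symm
    exact (hc.inv_right.mul_right (hk_o k h1 h2 _)).mul_right hc
  have hX : ∀ t, Commute (X s) (X t) := fun t => by
    show _ = _
    rw [← SpFour.X_add, ← SpFour.X_add, add_comm]
  have hrev : ∀ a b, (∀ t, Commute (X s) (biv R (e F a) (e F b) t)) → ∀ t, Commute (X s) (biv R (e F b) (e F a) t) :=
    fun a b h t => by rw [biv_swap]; exact h _
  have hpo : ∀ t, Commute (X s) (biv R (e F p) (e F o) t) := fun t => by rw [biv_po]; exact hX t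
  rcases eq_or_ne i j with rfl | hij
  · rw [biv_self]; exact Commute.one_right _
  by_cases hip : i = p <;> by_cases hio : i = o <;> by_cases hjp : j = p <;> by_cases hjo : j = o
  all_goals first
    | exact absurd (hip.symm.trans hio) R.ne
    | exact absurd (hjp.symm.trans hjo) R.ne
    | exact absurd (hip.trans hjp.symm) hij
    | exact absurd (hio.trans hjo.symm) hij
    | (subst hip hjo; exact hpo t)
    | (subst hio hjp; exact hrev _ _ hpo t)
    | (subst hip; exact hrev _ _ (hk_p j hjp hjo) t)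
    | (subst hio; exact hrev _ _ (hk_o j hjp hjo) t)
    | (subst hjp; exact hk_p i hip hio t)
    | (subst hjo; exact hk_o i hip hio t)
    | skip
  -- both away from the pair
  have e1 : X s = ψ (wElt F) * ψ (lElt (-s)) * (ψ (wElt F))⁻¹ := by
    rw [SpFour.X, ← map_mul, ← map_inv, ← map_mul]
    congr 1
    rw [eq_mul_inv_iff_mul_eq]
    refine Subtype.ext ?_
    rw [Matrix.SpecialLinearGroup.coe_mul, Matrix.SpecialLinearGroup.coe_mul, lElt_val, uElt_val]
    simp [wElt]
  rw [e1, ← w_biv_far R hip hio hjp hjo hij t]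
  have hc := lo_biv_far R hip hio hjp hjo hij (-s) t
  exact (Commute.conj_iff (ψ (wElt F))).2 hc

theorem biv_comm (v w v' w' : ι → F) (s t : F) : Commute (biv R v w s) (biv R v' w' t) := by
  rcases eq_or_ne v 0 with rfl | hv
  · rw [biv_zero_left]; exact Commute.one_left _
  rcases exists_pair R.ne hv w with ⟨d, rfl⟩ | ⟨B, c, rfl, rfl⟩
  · rw [biv_dep]; exact Commute.one_left _
  have hX : ∀ v'' w'' : ι → F, Commute (X ((c : F) * s)) (biv R v'' w'' t) := fun v'' w'' =>
    biv_induction R (P := fun g => Commute (X ((c : F) * s)) g) (Commute.one_right _)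
      (fun a b ha hb => ha.mul_right hb) (fun i j t _ => X_biv R i j _ t) v'' w'' t
  have hb : biv R v' w' t = φ B * biv R (((B⁻¹ : Matrix.SpecialLinearGroup ι F) : Matrix ι ι F) *ᵥ v')
      (((B⁻¹ : Matrix.SpecialLinearGroup ι F) : Matrix ι ι F) *ᵥ w') t * (φ B)⁻¹ := by
    rw [biv_conj]
    simp only [Matrix.mulVec_mulVec, ← Matrix.SpecialLinearGroup.coe_mul, mul_inv_cancel,
      Matrix.SpecialLinearGroup.coe_one, Matrix.one_mulVec]
  rw [biv_eq, hb]
  exact (Commute.conj_iff (φ B)).2 (hX _ _)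

omit R in
/-- The Siegel radical. -/
def siegel (R : DRels p o φ ψ) : Subgroup G := Subgroup.closure {g | ∃ v w t, g = biv R v w t}

theorem biv_mem (v w : ι → F) (t : F) : biv R v w t ∈ siegel R := Subgroup.subset_closure ⟨v, w, t, rfl⟩

theorem siegel_comm {a b : G} (ha : a ∈ siegel R) (hb : b ∈ siegel R) : Commute a b := by
  have h1 : siegel R ≤ Subgroup.centralizer {g | ∃ v w t, g = biv R v w t} := by
    rw [siegel, Subgroup.closure_le]
    rintro _ ⟨v, w, t, rfl⟩ _ ⟨v', w', t', rfl⟩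
    exact (biv_comm R v' w' v w t' t).eq
  have h2 : siegel R ≤ Subgroup.centralizer (siegel R : Set G) := by
    conv_lhs => rw [siegel]
    rw [Subgroup.closure_le]
    rintro _ ⟨v, w, t, rfl⟩ x hx
    exact (Subgroup.mem_centralizer_iff.1 (h1 hx) _ ⟨v, w, t, rfl⟩).symm
  exact (Subgroup.mem_centralizer_iff.1 (h2 hb) a ha)

omit R in
noncomputable instance siegelCommGroup (R : DRels p o φ ψ) : CommGroup (siegel R) :=
  { (inferInstance : Group (siegel R)) with mul_comm := fun a b => Subtype.ext (siegel_comm R a.2 b.2).eq }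

omit R in
/-- A root element inside the radical. -/
noncomputable def bU (R : DRels p o φ ψ) (v w : ι → F) (t : F) : siegel R := ⟨biv R v w t, biv_mem R v w t⟩

theorem bU_add (v w : ι → F) (s t : F) : bU R v w (s + t) = bU R v w s * bU R v w t :=
  Subtype.ext (biv_add R v w s t)

theorem bU_zero (v w : ι → F) : bU R v w 0 = 1 := Subtype.ext (biv_zero R v w)

omit R in
/-- The product of the basic root elements of an alternating matrix. -/
noncomputable def sG (R : DRels p o φ ψ) (S : Matrix ι ι F) : G :=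
  ((∏ q ∈ upPairs, bU R (e F q.1) (e F q.2) (S q.1 q.2) : siegel R) : G)

theorem sG_mem (S : Matrix ι ι F) : sG R S ∈ siegel R := SetLike.coe_mem _

theorem sG_add (S T : Matrix ι ι F) : sG R (S + T) = sG R S * sG R T := by
  rw [sG, sG, sG, ← Subgroup.coe_mul, ← Finset.prod_mul_distrib]
  simp only [Matrix.add_apply, bU_add]

theorem sG_zero : sG R (0 : Matrix ι ι F) = 1 := by
  simp [sG, bU_zero]

theorem sG_neg (S : Matrix ι ι F) : sG R (-S) = (sG R S)⁻¹ :=
  eq_inv_of_mul_eq_one_left (by rw [← sG_add, neg_add_cancel, sG_zero])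

theorem sG_single (i j : ι) (t : F) : sG R (alt (e F i) (e F j) t) = biv R (e F i) (e F j) t := by
  rcases eq_or_ne i j with rfl | hij
  · rw [biv_self, show alt (e F i) (e F i) t = 0 by simp [alt], sG_zero]
  have hlo : ∀ i j : ι, Fintype.equivFin ι i < Fintype.equivFin ι j → ∀ t : F,
      sG R (alt (e F i) (e F j) t) = biv R (e F i) (e F j) t := by
    intro i j h t
    have hne : i ≠ j := fun hh => lt_irrefl _ (hh ▸ h)
    rw [sG, Finset.prod_eq_single (i, j)]
    · simp [bU, alt_single, Matrix.single_apply, hne, hne.symm]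
    · rintro ⟨a, b⟩ hq hne'
      have hab := (Finset.mem_filter.1 hq).2
      refine Subtype.ext ?_
      show biv R _ _ (alt (e F i) (e F j) t a b) = 1
      rw [alt_single, Matrix.sub_apply, Matrix.single_apply, Matrix.single_apply, if_neg, if_neg, sub_zero, biv_zero]
      · rintro ⟨rfl, rfl⟩; exact lt_asymm h hab
      · rintro ⟨rfl, rfl⟩; exact hne' rfl
    · exact fun hh => absurd (show (i, j) ∈ upPairs by simp [upPairs, h]) hh
  rcases lt_or_gt_of_ne (fun h => hij ((Fintype.equivFin ι).injective h)) with h | h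
  · exact hlo i j h t
  · have h1 := hlo j i h (-t)
    rw [biv_swap R (e F i) (e F j), neg_neg] at h1
    rw [← h1]
    congr 1
    simp [alt, ← smul_neg, neg_sub]

theorem sG_alt (v w : ι → F) (t : F) : sG R (alt v w t) = biv R v w t := by
  have hadd : ∀ v₁ v₂ w : ι → F, alt (v₁ + v₂) w t = alt v₁ w t + alt v₂ w t := fun v₁ v₂ w => by
    simp only [alt, Matrix.add_vecMulVec, Matrix.vecMulVec_add, ← smul_add]; congr 1; abel
  have hadd' : ∀ v w₁ w₂ : ι → F, alt v (w₁ + w₂) t = alt v w₁ t + alt v w₂ t := fun v w₁ w₂ => by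
    simp only [alt, Matrix.add_vecMulVec, Matrix.vecMulVec_add, ← smul_add]; congr 1; abel
  have hs : ∀ (i j : ι) (a b : F), sG R (alt (Pi.single i a) (Pi.single j b) t) =
      biv R (Pi.single i a) (Pi.single j b) t := fun i j a b => by
    rw [show (Pi.single i a : ι → F) = a • e F i by rw [← Pi.single_smul, smul_eq_mul, mul_one],
      show (Pi.single j b : ι → F) = b • e F j by rw [← Pi.single_smul, smul_eq_mul, mul_one], biv_smul_left,
      biv_smul_right, show alt (a • e F i) (b • e F j) t = alt (e F i) (e F j) (b * (a * t)) by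
        simp only [alt, Matrix.smul_vecMulVec, Matrix.vecMulVec_smul, smul_sub, smul_smul]; congr 2 <;> ring,
      sG_single]
  have h1 : ∀ (i : ι) (a : F), sG R (alt (Pi.single i a) w t) = biv R (Pi.single i a) w t := by
    intro i a
    rw [← Finset.univ_sum_single w]
    induction (Finset.univ : Finset ι) using Finset.induction_on with
    | empty => rw [Finset.sum_empty, biv_zero_right, show alt _ (0 : ι → F) t = 0 by simp [alt], sG_zero]
    | insert j s hj ih => rw [Finset.sum_insert hj, hadd', sG_add, biv_add_right, ih, hs]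
  rw [← Finset.univ_sum_single v]
  induction (Finset.univ : Finset ι) using Finset.induction_on with
  | empty => rw [Finset.sum_empty, biv_zero_left, show alt (0 : ι → F) w t = 0 by simp [alt], sG_zero]
  | insert j s hj ih => rw [Finset.sum_insert hj, hadd, sG_add, biv_add_left, ih, h1]

end CfsgLib.Pres.DnN
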