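import Cfsg.Agent.Lib.Pres.AGLAlt
import Cfsg.Agent.Lib.Pres.AltPerm

/-!
# Gluing two copies of `A_{p+2}` by an involution

`x = d²` and `c = d³`; `c g c⁻¹ = g'` identifies the overlap and one commutator relation makes
the two complements commute.
-/

set_option autoImplicit false

namespace CfsgLib.Pres.Short

open Equiv

universe u

variable {Ω : Type*} [DecidableEq Ω] [Fintype Ω] {G : Type u} [Group G]

theorem tri_swap {x y z : Ω} (hxy : x ≠ y) (hxz : x ≠ z) (hyz : y ≠ z) :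
    tri y x z = (tri x y z)⁻¹ := by
  rw [eq_comm, inv_eq_iff_mul_eq_one]
  refine Equiv.ext fun w => ?_
  rw [Perm.mul_apply, Perm.one_apply]
  by_cases h1 : w = x
  · subst h1; rw [tri_apply_snd hyz hxz, tri_apply_thd]
  by_cases h2 : w = y
  · subst h2; rw [tri_apply_fst hxy.symm hyz, tri_apply_fst hxy hxz]
  by_cases h3 : w = z
  · subst h3; rw [tri_apply_thd, tri_apply_snd hxz hyz]
  rw [tri_apply_other h2 h1 h3, tri_apply_other h1 h2 h3]

theorem tri_cube {x y z : Ω} (hxy : x ≠ y) (hxz : x ≠ z) (hyz : y ≠ z) : tri x y z ^ 3 = 1 := by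
  refine Equiv.ext fun w => ?_
  rw [pow_succ, pow_two, Perm.mul_apply, Perm.mul_apply, Perm.one_apply]
  by_cases h1 : w = x
  · subst h1; rw [tri_apply_fst hxy hxz, tri_apply_snd hxz hyz, tri_apply_thd]
  by_cases h2 : w = y
  · subst h2; rw [tri_apply_snd hxz hyz, tri_apply_thd, tri_apply_fst hxy hxz]
  by_cases h3 : w = z
  · subst h3; rw [tri_apply_thd, tri_apply_fst hxy hxz, tri_apply_snd hxz hyz]
  rw [tri_apply_other h1 h2 h3, tri_apply_other h1 h2 h3, tri_apply_other h1 h2 h3]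

theorem tri_pair {u v i j : Ω} (huv : u ≠ v) (hui : u ≠ i) (hvi : v ≠ i) (huj : u ≠ j)
    (hvj : v ≠ j) (hij : i ≠ j) :
    tri u v i * tri u v j * (tri u v i * tri u v j) = 1 := by
  have e : tri u v i * tri u v j = swap u i * swap v j := by
    refine Equiv.ext fun w => ?_
    rw [Perm.mul_apply, Perm.mul_apply]
    by_cases h1 : w = u
    · subst h1
      rw [tri_apply_fst huv huj, tri_apply_snd hui hvi, swap_apply_of_ne_of_ne huv huj,
        swap_apply_left]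
    by_cases h2 : w = v
    · subst h2
      rw [tri_apply_snd huj hvj, tri_apply_other huj.symm hvj.symm hij.symm, swap_apply_left,
        swap_apply_of_ne_of_ne huj.symm hij.symm]
    by_cases h3 : w = j
    · subst h3
      rw [tri_apply_thd, tri_apply_fst huv hui, swap_apply_right,
        swap_apply_of_ne_of_ne huv.symm hvi]
    by_cases h4 : w = i
    · subst h4
      rw [tri_apply_other h1 h2 h3, tri_apply_thd, swap_apply_of_ne_of_ne h2 h3, swap_apply_right]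
    rw [tri_apply_other h1 h2 h3, tri_apply_other h1 h2 h4, swap_apply_of_ne_of_ne h2 h3,
      swap_apply_of_ne_of_ne h1 h4]
  have hc : Commute (swap u i) (swap v j) :=
    (Perm.disjoint_iff_eq_or_eq.2 fun w => by
      by_cases h1 : w = u
      · subst h1; exact Or.inr (swap_apply_of_ne_of_ne huv huj)
      by_cases h2 : w = i
      · subst h2; exact Or.inr (swap_apply_of_ne_of_ne (Ne.symm hvi) hij)
      exact Or.inl (swap_apply_of_ne_of_ne h1 h2)).commute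
  rw [e, ← sq, hc.mul_pow, sq, sq, swap_mul_self, swap_mul_self, one_mul]

theorem commute_of_supp {σ τ : Perm Ω} (S : Set Ω) (hσ : ∀ w, σ w ≠ w → w ∈ S)
    (hτ : ∀ w, τ w ≠ w → w ∉ S) : Commute σ τ :=
  (Perm.disjoint_iff_eq_or_eq.2 fun w => by
    by_cases h : σ w = w
    · exact Or.inl h
    · exact Or.inr (by by_contra h'; exact hτ w h' (hσ w h))).commute

theorem tri_supp {x y z w : Ω} (h : tri x y z w ≠ w) : w = x ∨ w = y ∨ w = z := by
  by_contra hc
  simp only [not_or] at hc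
  exact h (tri_apply_other hc.1 hc.2.1 hc.2.2)

theorem four_ne {a b c e : Ω} (h : ({a, b, c, e} : Finset Ω).card = 4) :
    a ≠ b ∧ a ≠ c ∧ a ≠ e ∧ b ≠ c ∧ b ≠ e ∧ c ≠ e := by
  by_contra hc
  have key : ∃ x y w : Ω, ({a, b, c, e} : Finset Ω) ⊆ {x, y, w} := by
    simp only [not_and_or, not_not] at hc
    rcases hc with h | h | h | h | h | h <;> subst h
    exacts [⟨a, c, e, by grind⟩, ⟨a, b, e, by grind⟩, ⟨a, b, c, by grind⟩, ⟨a, b, e, by grind⟩,
      ⟨a, b, c, by grind⟩, ⟨a, b, c, by grind⟩]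
  obtain ⟨x, y, w, hs⟩ := key
  have h1 := Finset.card_le_card hs
  have h2 : ({x, y, w} : Finset Ω).card ≤ 3 := Finset.card_le_three
  omega

/-- The hypotheses on the abstract group and on the images. -/
structure Glue (φ : G →* Perm Ω) (p r : ℕ) (a b d g g' A A' : G) (u v z o₁ o₂ o₃ o₄ : Ω)
    (P : Finset Ω) : Prop where
  agl : AGL G p r a b (d ^ 2)
  gen : Subgroup.closure ({a, d} : Set G) = ⊤
  g_mem : g ∈ Subgroup.closure ({a, d ^ 2} : Set G)
  g'_mem : g' ∈ Subgroup.closure ({a, d ^ 2} : Set G)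
  A_mem : A ∈ Subgroup.closure ({a, d ^ 2} : Set G)
  A'_mem : A' ∈ Subgroup.closure ({a, d ^ 2} : Set G)
  rel_overlap : d ^ 3 * g * (d ^ 3)⁻¹ = g'
  rel_comm : A * (d ^ 3 * A' * (d ^ 3)⁻¹) = d ^ 3 * A' * (d ^ 3)⁻¹ * A
  huv : u ≠ v
  hu : u ∉ P
  hv : v ∉ P
  hz : z ∈ P
  hP : P.card = p
  x_img : φ (d ^ 2) = tri u v z
  a_even : φ a ∈ alternatingGroup Ω
  a_supp : ∀ w, φ a w ≠ w → w ∈ P
  a_trans : ∀ i ∈ P, ∃ n : ℕ, (φ a ^ n) z = i
  c_u : φ (d ^ 3) u = u
  c_v : φ (d ^ 3) v = v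
  c_z : φ (d ^ 3) z = z
  g_uv : φ g u = u ∧ φ g v = v ∨ φ g u = v ∧ φ g v = u
  g_trans : ∀ i ∈ P, φ (d ^ 3) i ∈ P → ∃ n : ℕ, (φ g ^ n) z = i
  o_mem : ∀ o ∈ ({o₁, o₂, o₃, o₄} : Finset Ω), o ∈ P ∧ φ (d ^ 3) o ∈ P
  o_card : ({o₁, o₂, o₃, o₄} : Finset Ω).card = 4
  A_supp : ∀ w, φ A w ≠ w → (w ∈ P ∧ φ (d ^ 3) w ∉ P) ∨ w = o₁ ∨ w = o₂
  A_trans : ∀ i ∈ P, φ (d ^ 3) i ∉ P → ∃ n : ℕ, (φ A ^ n) o₁ = i
  B_supp : ∀ w, φ (d ^ 3 * A' * (d ^ 3)⁻¹) w ≠ w →
    (φ (d ^ 3) w ∈ P ∧ w ∉ P) ∨ w = o₃ ∨ w = o₄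
  B_trans : ∀ i, φ (d ^ 3) i ∈ P → i ∉ P → ∃ n : ℕ, (φ (d ^ 3 * A' * (d ^ 3)⁻¹) ^ n) o₃ = i

variable {φ : G →* Perm Ω} {p r : ℕ} {a b d g g' A A' : G} {u v z o₁ o₂ o₃ o₄ : Ω} {P : Finset Ω}

/-- The glued group: a normal copy of the alternating group of index at most two. -/
theorem Glue.bound (h : Glue φ p r a b d g g' A A' u v z o₁ o₂ o₃ o₄ P) :
    ∃ M : Subgroup G, a ∈ M ∧ d ^ 2 ∈ M ∧ (∀ m ∈ M, d ^ 3 * m * (d ^ 3)⁻¹ ∈ M) ∧ Finite M ∧
      2 * Nat.card M ≤ ((P ∪ P.image (φ (d ^ 3))).card + 2).factorial ∧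
      ∀ w : G, w ∈ M ∨ w * d ^ 3 ∈ M := by
  classical
  obtain ⟨x, hx⟩ : ∃ x, x = d ^ 2 := ⟨_, rfl⟩
  obtain ⟨c, hc⟩ : ∃ c, c = d ^ 3 := ⟨_, rfl⟩
  obtain ⟨J, hJ⟩ : ∃ J, J = Subgroup.closure ({a, x} : Set G) := ⟨_, rfl⟩
  have haJ : a ∈ J := hJ ▸ Subgroup.subset_closure (Or.inl rfl)
  have hxJ : x ∈ J := hJ ▸ Subgroup.subset_closure (Or.inr rfl)
  obtain ⟨π, hπ⟩ : ∃ π, π = φ c := ⟨_, rfl⟩
  have hφx : φ x = tri u v z := hx ▸ h.x_img
  have huz : u ≠ z := fun e => h.hu (e ▸ h.hz)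
  have hvz : v ≠ z := fun e => h.hv (e ▸ h.hz)
  -- images of `J`
  have hsuppJ : ∀ j ∈ J, ∀ w, φ j w ≠ w → w = u ∨ w = v ∨ w ∈ P := by
    intro j hj
    rw [hJ] at hj
    induction hj using Subgroup.closure_induction with
    | mem y hy =>
      intro w hw
      rcases hy with hy | hy
      · exact Or.inr (Or.inr (h.a_supp w (hy ▸ hw)))
      · rw [show y = x from hy, hφx] at hw
        rcases tri_supp hw with e | e | e
        · exact Or.inl e
        · exact Or.inr (Or.inl e)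
        · exact Or.inr (Or.inr (e ▸ h.hz))
    | one => intro w hw; exact absurd (by rw [map_one]; rfl) hw
    | mul y y' _ _ h1 h2 =>
      intro w hw
      by_cases e : φ y' w = w
      · refine h1 w fun e' => hw ?_
        rw [map_mul, Perm.mul_apply, e, e']
      · exact h2 w e
    | inv y _ h1 =>
      intro w hw
      refine h1 w fun e => hw ?_
      rw [map_inv, Perm.inv_eq_iff_eq, e]
  have hevenJ : ∀ j ∈ J, φ j ∈ alternatingGroup Ω := by
    intro j hj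
    have : J ≤ (alternatingGroup Ω).comap φ := by
      rw [hJ, Subgroup.closure_le]
      rintro y (hy | hy)
      · exact hy ▸ h.a_even
      · show φ y ∈ alternatingGroup Ω
        rw [show y = x from hy, hφx]; exact tri_mem h.huv hvz
    exact this hj
  have htriJ : ∀ i ∈ P, tri u v i ∈ J.map φ := by
    intro i hi
    obtain ⟨n, hn⟩ := h.a_trans i hi
    refine ⟨a ^ n * x * (a ^ n)⁻¹, mul_mem (mul_mem (pow_mem haJ n) hxJ) (inv_mem (pow_mem haJ n)), ?_⟩
    rw [map_mul, map_mul, map_inv, map_pow, hφx, tri_conj, hn]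
    have hfix : ∀ w, w ∉ P → (φ a ^ n) w = w := fun w hw =>
      Perm.pow_apply_eq_self_of_apply_eq_self (by by_contra e; exact hw (h.a_supp w e)) n
    rw [hfix u h.hu, hfix v h.hv]
  obtain ⟨hfinJ, hcardJ⟩ : Finite J ∧ 2 * Nat.card J ≤ (p + 2).factorial := by
    rw [hJ, hx]; exact h.agl.bound
  have hinj : ∀ j ∈ J, ∀ k ∈ J, φ j = φ k → j = k := by
    have h1 := factorial_le h.huv P h.hu h.hv htriJ
    rw [h.hP] at h1
    have h2 : Nat.card (J.map φ) = Nat.card J := by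
      have h3 := Nat.card_le_card_of_surjective _ (φ.subgroupMap_surjective J)
      omega
    have hb := (Nat.bijective_iff_surjective_and_card (φ.subgroupMap J)).2
      ⟨φ.subgroupMap_surjective J, h2.symm⟩
    intro j hj k hk e
    exact congrArg Subtype.val (hb.1 (a₁ := ⟨j, hj⟩) (a₂ := ⟨k, hk⟩) (Subtype.ext e))
  have hliftJ : ∀ σ ∈ alternatingGroup Ω, (∀ w, σ w ≠ w → w = u ∨ w = v ∨ w ∈ P) →
      ∃ j ∈ J, φ j = σ := fun σ hσ hs =>
    mem_of_even h.huv (↑P) (fun i hi _ _ => htriJ i hi) hσ hs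
  have hx3 : x ^ 3 = 1 := hinj _ (pow_mem hxJ 3) _ (one_mem J) (by
    rw [map_pow, hφx, tri_cube h.huv huz hvz, map_one])
  have hd6 : d ^ 6 = 1 := by
    rw [show 6 = 2 * 3 by norm_num, pow_mul, ← hx, hx3]
  have hcc : c * c = 1 := by rw [hc, ← pow_add]; exact hd6
  have hci : c⁻¹ = c := inv_eq_of_mul_eq_one_right hcc
  have hcx : c * x * c⁻¹ = x := by
    rw [hc, hx, ← pow_add, add_comm, pow_add, mul_inv_cancel_right]
  have hππ : ∀ w, π (π w) = w := fun w => by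
    rw [hπ, ← Perm.mul_apply, ← map_mul, hcc, map_one, Perm.one_apply]
  have hπu : π u = u := by rw [hπ, hc]; exact h.c_u
  have hπv : π v = v := by rw [hπ, hc]; exact h.c_v
  have hπuv : ∀ w, π w = u ↔ w = u := fun w =>
    ⟨fun e => by rw [← hππ w, e, hπu], fun e => e ▸ hπu⟩
  have hπuv' : ∀ w, π w = v ↔ w = v := fun w =>
    ⟨fun e => by rw [← hππ w, e, hπv], fun e => e ▸ hπv⟩
  -- the second copy
  let J' : Subgroup G := J.map (MulAut.conj c).toMonoidHom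
  have hJ'_of : ∀ j ∈ J, c * j * c⁻¹ ∈ J' := fun j hj => ⟨j, hj, rfl⟩
  have hJ'back : ∀ k ∈ J', c * k * c⁻¹ ∈ J := by
    rintro _ ⟨j, hj, rfl⟩
    show c * (c * j * c⁻¹) * c⁻¹ ∈ J
    rw [hci, show c * (c * j * c) * c = (c * c) * j * (c * c) by group, hcc, one_mul, mul_one]
    exact hj
  have hconj : ∀ k, φ (c * k * c⁻¹) = π * φ k * π⁻¹ := fun k => by
    rw [map_mul, map_mul, map_inv, hπ]
  have hπinv : π⁻¹ = π := by rw [hπ, ← map_inv, hci]
  have hinj' : ∀ j ∈ J', ∀ k ∈ J', φ j = φ k → j = k := by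
    intro j hj k hk e
    have := hinj _ (hJ'back j hj) _ (hJ'back k hk) (by rw [hconj, hconj, e])
    exact mul_left_cancel (mul_right_cancel this)
  have hsuppJ' : ∀ k ∈ J', ∀ w, φ k w ≠ w → w = u ∨ w = v ∨ π w ∈ P := by
    intro k hk w hw
    have := hsuppJ _ (hJ'back k hk) (π w) (by
      rw [hconj, hπinv, Perm.mul_apply, Perm.mul_apply, hππ]
      exact fun e => hw (π.injective e))
    rw [hπuv, hπuv'] at this
    exact this
  have hevenJ' : ∀ k ∈ J', φ k ∈ alternatingGroup Ω := by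
    intro k hk
    have h1 := hevenJ _ (hJ'back k hk)
    rw [hconj, Perm.mem_alternatingGroup] at h1
    rw [Perm.mem_alternatingGroup]
    rw [map_mul, map_mul, map_inv, mul_comm (Perm.sign π), mul_inv_cancel_right] at h1
    exact h1
  -- the overlap
  have hgJ : g ∈ J := by rw [hJ, hx]; exact h.g_mem
  have hgJ' : g ∈ J' := by
    have h1 : c * g * c⁻¹ = g' := by rw [hc]; exact h.rel_overlap
    have h2 : g = c * g' * c⁻¹ := by
      rw [← h1, hci, show c * (c * g * c) * c = (c * c) * g * (c * c) by group, hcc, one_mul,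
        mul_one]
    rw [h2]
    exact hJ'_of _ (by rw [hJ, hx]; exact h.g'_mem)
  have hxJ' : x ∈ J' := hcx ▸ hJ'_of x hxJ
  have hov : ∀ j ∈ J, (∀ w, φ j w ≠ w → w = u ∨ w = v ∨ (w ∈ P ∧ π w ∈ P)) → j ∈ J' := by
    intro j hj hs
    have htri : ∀ i ∈ {i | i ∈ P ∧ π i ∈ P}, i ≠ u → i ≠ v → tri u v i ∈ (J ⊓ J').map φ := by
      rintro i ⟨hi, hi'⟩ hiu hiv
      obtain ⟨n, hn⟩ := h.g_trans i hi (by rw [← hc, ← hπ]; exact hi')
      have hmem : g ^ n * x * (g ^ n)⁻¹ ∈ J ⊓ J' :=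
        have hg2 : g ∈ J ⊓ J' := ⟨hgJ, hgJ'⟩
        mul_mem (mul_mem (pow_mem hg2 n) ⟨hxJ, hxJ'⟩) (inv_mem (pow_mem hg2 n))
      have e : φ (g ^ n * x * (g ^ n)⁻¹) = tri ((φ g ^ n) u) ((φ g ^ n) v) i := by
        rw [map_mul, map_mul, map_inv, map_pow, hφx, tri_conj, hn]
      have huvn : ∀ m : ℕ, (φ g ^ m) u = u ∧ (φ g ^ m) v = v ∨ (φ g ^ m) u = v ∧ (φ g ^ m) v = u := by
        intro m
        induction m with
        | zero => exact Or.inl ⟨rfl, rfl⟩
        | succ m ih =>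
          rw [pow_succ', Perm.mul_apply, Perm.mul_apply]
          rcases ih with ⟨e1, e2⟩ | ⟨e1, e2⟩ <;> rcases h.g_uv with ⟨f1, f2⟩ | ⟨f1, f2⟩ <;>
            simp [e1, e2, f1, f2]
      rcases huvn n with ⟨e1, e2⟩ | ⟨e1, e2⟩
      · exact ⟨_, hmem, by rw [e, e1, e2]⟩
      · refine ⟨(g ^ n * x * (g ^ n)⁻¹)⁻¹, inv_mem hmem, ?_⟩
        rw [map_inv, e, e1, e2, tri_swap h.huv (Ne.symm hiu) (Ne.symm hiv), inv_inv]
    obtain ⟨k, ⟨hk, hk'⟩, e⟩ := mem_of_even h.huv {i | i ∈ P ∧ π i ∈ P} htri (hevenJ j hj) hs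
    rw [hinj j hj k hk e.symm]
    exact hk'
  have hov' : ∀ k ∈ J', (∀ w, φ k w ≠ w → w = u ∨ w = v ∨ (w ∈ P ∧ π w ∈ P)) → k ∈ J := by
    intro k hk hs
    have h1 := hov _ (hJ'back k hk) fun w hw => by
      rw [hconj, hπinv, Perm.mul_apply, Perm.mul_apply] at hw
      have := hs (π w) fun e => hw (by rw [e, hππ])
      rw [hπuv, hπuv', hππ] at this
      tauto
    have h2 := hJ'back _ h1
    rwa [hci, show c * (c * k * c) * c = (c * c) * k * (c * c) by group, hcc, one_mul, mul_one] at h2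
  -- first commutation
  obtain ⟨ho1, ho2, ho3, ho4⟩ : (o₁ ∈ P ∧ π o₁ ∈ P) ∧ (o₂ ∈ P ∧ π o₂ ∈ P) ∧
      (o₃ ∈ P ∧ π o₃ ∈ P) ∧ (o₄ ∈ P ∧ π o₄ ∈ P) := by
    rw [hπ, hc]
    exact ⟨h.o_mem _ (by simp), h.o_mem _ (by simp), h.o_mem _ (by simp), h.o_mem _ (by simp)⟩
  obtain ⟨h12, h13, h14, h23, h24, h34⟩ := four_ne h.o_card
  have hPu : ∀ {w}, w ∈ P → w ≠ u ∧ w ≠ v := fun hw => ⟨fun e => h.hu (e ▸ hw), fun e => h.hv (e ▸ hw)⟩
  have hAJ : A ∈ J := by rw [hJ, hx]; exact h.A_mem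
  have hA'J : A' ∈ J := by rw [hJ, hx]; exact h.A'_mem
  obtain ⟨B, hB⟩ : ∃ B, B = c * A' * c⁻¹ := ⟨_, rfl⟩
  have hBJ' : B ∈ J' := hB ▸ hJ'_of A' hA'J
  have hAsupp : ∀ w, φ A w ≠ w → (w ∈ P ∧ π w ∉ P) ∨ w = o₁ ∨ w = o₂ := by
    rw [hπ, hc]; exact h.A_supp
  have hBsupp : ∀ w, φ B w ≠ w → (π w ∈ P ∧ w ∉ P) ∨ w = o₃ ∨ w = o₄ := by
    rw [hπ, hB, hc]; exact h.B_supp
  have step1 : ∀ k ∈ J', (∀ w, φ k w ≠ w → w = u ∨ w = v ∨
      (π w ∈ P ∧ w ≠ o₁ ∧ w ≠ o₂)) → A * k = k * A := by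
    intro k hk hs
    let Z : Subgroup G := J' ⊓ Subgroup.centralizer {A}
    have htri0 : ∀ i, i ∈ P → π i ∈ P → i ≠ o₁ → i ≠ o₂ → tri u v i ∈ Z.map φ := by
      intro i hi hi' h1 h2
      obtain ⟨j, hj, e⟩ := hliftJ (tri u v i) (tri_mem h.huv (hPu hi).2.symm) fun w hw => by
        rcases tri_supp hw with e | e | e
        exacts [Or.inl e, Or.inr (Or.inl e), Or.inr (Or.inr (e ▸ hi))]
      refine ⟨j, ⟨hov j hj fun w hw => ?_, Subgroup.mem_centralizer_singleton_iff.2 ?_⟩, e⟩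
      · rw [e] at hw
        rcases tri_supp hw with e | e | e
        exacts [Or.inl e, Or.inr (Or.inl e), Or.inr (Or.inr ⟨e ▸ hi, e ▸ hi'⟩)]
      · refine (hinj _ (mul_mem hAJ hj) _ (mul_mem hj hAJ) ?_).symm
        rw [map_mul, map_mul, e]
        refine (commute_of_supp ({u, v, i} : Set Ω) (σ := tri u v i) (τ := φ A)
          (fun w hw => tri_supp hw) fun w hw => ?_).symm.eq
        rintro (rfl | rfl | rfl)
        · rcases hAsupp _ hw with ⟨e', -⟩ | e' | e'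
          exacts [h.hu e', (hPu ho1.1).1 e'.symm, (hPu ho2.1).1 e'.symm]
        · rcases hAsupp _ hw with ⟨e', -⟩ | e' | e'
          exacts [h.hv e', (hPu ho1.1).2 e'.symm, (hPu ho2.1).2 e'.symm]
        · rcases hAsupp _ hw with ⟨-, e'⟩ | e' | e'
          exacts [e' hi', h1 e', h2 e']
    have hBZ : B ∈ Z := ⟨hBJ', Subgroup.mem_centralizer_singleton_iff.2 (by
      rw [hB, hc]; exact h.rel_comm.symm)⟩
    have htri : ∀ i ∈ {i | π i ∈ P ∧ i ≠ o₁ ∧ i ≠ o₂}, i ≠ u → i ≠ v →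
        tri u v i ∈ Z.map φ := by
      rintro i ⟨hi', h1, h2⟩ hiu hiv
      by_cases hi : i ∈ P
      · exact htri0 i hi hi' h1 h2
      obtain ⟨n, hn⟩ := h.B_trans i (by rw [← hc, ← hπ]; exact hi') hi
      obtain ⟨m, hm, e⟩ := htri0 o₃ ho3.1 ho3.2 h13.symm h23.symm
      refine ⟨B ^ n * m * (B ^ n)⁻¹, mul_mem (mul_mem (pow_mem hBZ n) hm) (inv_mem (pow_mem hBZ n)), ?_⟩
      have hfix : ∀ w, (w = u ∨ w = v) → (φ B ^ n) w = w := fun w hw =>
        Perm.pow_apply_eq_self_of_apply_eq_self (by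
          by_contra e'
          rcases hBsupp _ e' with ⟨e1, -⟩ | e1 | e1
          · rcases hw with rfl | rfl
            · rw [hπu] at e1; exact h.hu e1
            · rw [hπv] at e1; exact h.hv e1
          · rcases hw with rfl | rfl
            exacts [(hPu ho3.1).1 e1.symm, (hPu ho3.1).2 e1.symm]
          · rcases hw with rfl | rfl
            exacts [(hPu ho4.1).1 e1.symm, (hPu ho4.1).2 e1.symm]) n
      rw [map_mul, map_mul, map_inv, map_pow, e, tri_conj, hfix u (Or.inl rfl), hfix v (Or.inr rfl)]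
      congr 1
      rw [hB, hc]; exact hn
    obtain ⟨k', ⟨hk', hc'⟩, e⟩ := mem_of_even h.huv _ htri (hevenJ' k hk) hs
    rw [hinj' k hk k' hk' e.symm]
    exact (Subgroup.mem_centralizer_singleton_iff.1 hc').symm
  -- second commutation
  have step2 : ∀ j ∈ J, (∀ w, φ j w ≠ w → w = u ∨ w = v ∨ (w ∈ P ∧ w ≠ o₃ ∧ w ≠ o₄)) →
      ∀ k ∈ J', (∀ w, φ k w ≠ w → (π w ∈ P ∧ w ∉ P) ∨ w = o₃ ∨ w = o₄) → j * k = k * j := by
    intro j hj hjs k hk hks
    let Z : Subgroup G := J ⊓ Subgroup.centralizer {k}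
    have hAZ : A ∈ Z := ⟨hAJ, Subgroup.mem_centralizer_singleton_iff.2 (step1 k hk fun w hw => by
      rcases hks w hw with ⟨e1, e2⟩ | e1 | e1
      · exact Or.inr (Or.inr ⟨e1, fun e => e2 (e ▸ ho1.1), fun e => e2 (e ▸ ho2.1)⟩)
      · exact Or.inr (Or.inr ⟨e1 ▸ ho3.2, e1 ▸ h13.symm, e1 ▸ h23.symm⟩)
      · exact Or.inr (Or.inr ⟨e1 ▸ ho4.2, e1 ▸ h14.symm, e1 ▸ h24.symm⟩))⟩
    have htri0 : ∀ i, i ∈ P → π i ∈ P → i ≠ o₃ → i ≠ o₄ → tri u v i ∈ Z.map φ := by
      intro i hi hi' h1 h2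
      obtain ⟨m, hm, e⟩ := hliftJ (tri u v i) (tri_mem h.huv (hPu hi).2.symm) fun w hw => by
        rcases tri_supp hw with e | e | e
        exacts [Or.inl e, Or.inr (Or.inl e), Or.inr (Or.inr (e ▸ hi))]
      have hm' : m ∈ J' := hov m hm fun w hw => by
        rw [e] at hw
        rcases tri_supp hw with e | e | e
        exacts [Or.inl e, Or.inr (Or.inl e), Or.inr (Or.inr ⟨e ▸ hi, e ▸ hi'⟩)]
      refine ⟨m, ⟨hm, Subgroup.mem_centralizer_singleton_iff.2 ?_⟩, e⟩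
      refine hinj' _ (mul_mem hm' hk) _ (mul_mem hk hm') ?_
      rw [map_mul, map_mul, e]
      refine (commute_of_supp ({u, v, i} : Set Ω) (σ := tri u v i) (τ := φ k)
        (fun w hw => tri_supp hw) fun w hw => ?_).eq
      rintro (rfl | rfl | rfl)
      · rcases hks _ hw with ⟨e', -⟩ | e' | e'
        exacts [h.hu (by rwa [hπu] at e'), (hPu ho3.1).1 e'.symm, (hPu ho4.1).1 e'.symm]
      · rcases hks _ hw with ⟨e', -⟩ | e' | e'
        exacts [h.hv (by rwa [hπv] at e'), (hPu ho3.1).2 e'.symm, (hPu ho4.1).2 e'.symm]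
      · rcases hks _ hw with ⟨-, e'⟩ | e' | e'
        exacts [e' hi, h1 e', h2 e']
    have htri : ∀ i ∈ {i | i ∈ P ∧ i ≠ o₃ ∧ i ≠ o₄}, i ≠ u → i ≠ v → tri u v i ∈ Z.map φ := by
      rintro i ⟨hi, h1, h2⟩ hiu hiv
      by_cases hi' : π i ∈ P
      · exact htri0 i hi hi' h1 h2
      obtain ⟨n, hn⟩ := h.A_trans i hi (by rw [← hc, ← hπ]; exact hi')
      obtain ⟨m, hm, e⟩ := htri0 o₁ ho1.1 ho1.2 h13 h14
      refine ⟨A ^ n * m * (A ^ n)⁻¹, mul_mem (mul_mem (pow_mem hAZ n) hm) (inv_mem (pow_mem hAZ n)), ?_⟩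
      have hfix : ∀ w, (w = u ∨ w = v) → (φ A ^ n) w = w := fun w hw =>
        Perm.pow_apply_eq_self_of_apply_eq_self (by
          by_contra e'
          rcases hAsupp _ e' with ⟨e1, -⟩ | e1 | e1
          · rcases hw with rfl | rfl
            exacts [h.hu e1, h.hv e1]
          · rcases hw with rfl | rfl
            exacts [(hPu ho1.1).1 e1.symm, (hPu ho1.1).2 e1.symm]
          · rcases hw with rfl | rfl
            exacts [(hPu ho2.1).1 e1.symm, (hPu ho2.1).2 e1.symm]) n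
      rw [map_mul, map_mul, map_inv, map_pow, e, tri_conj, hfix u (Or.inl rfl), hfix v (Or.inr rfl),
        hn]
    obtain ⟨m, ⟨hm, hc'⟩, e⟩ := mem_of_even h.huv _ htri (hevenJ j hj) hjs
    rw [hinj j hj m hm e.symm]
    exact Subgroup.mem_centralizer_singleton_iff.1 hc'
  -- the generators of the big alternating group
  let T : Finset Ω := P ∪ P.image π
  have hT : ∀ i ∈ T, (i ∈ P ∨ π i ∈ P) := by
    intro i hi
    rcases Finset.mem_union.1 hi with hi | hi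
    · exact Or.inl hi
    · obtain ⟨w, hw, rfl⟩ := Finset.mem_image.1 hi
      exact Or.inr (by rwa [hππ])
  have hTuv : ∀ i ∈ T, u ≠ i ∧ v ≠ i := by
    intro i hi
    rcases hT i hi with hi | hi
    · exact ⟨(hPu hi).1.symm, (hPu hi).2.symm⟩
    · exact ⟨fun e => (hPu hi).1 (by rw [← e, hπu]), fun e => (hPu hi).2 (by rw [← e, hπv])⟩
  have hex : ∀ i : T, ∃ m, φ m = tri u v (i : Ω) ∧
      (((i : Ω) ∈ P → m ∈ J) ∧ (π (i : Ω) ∈ P → m ∈ J')) := by
    rintro ⟨i, hi⟩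
    by_cases hP1 : i ∈ P
    · obtain ⟨m, hm, e⟩ := hliftJ (tri u v i) (tri_mem h.huv (hTuv i hi).2) fun w hw => by
        rcases tri_supp hw with e | e | e
        exacts [Or.inl e, Or.inr (Or.inl e), Or.inr (Or.inr (e ▸ hP1))]
      refine ⟨m, e, fun _ => hm, fun hP2 => hov m hm fun w hw => ?_⟩
      rw [e] at hw
      rcases tri_supp hw with e | e | e
      exacts [Or.inl e, Or.inr (Or.inl e), Or.inr (Or.inr ⟨e ▸ hP1, e ▸ hP2⟩)]
    · have hP2 : π i ∈ P := (hT i hi).resolve_left hP1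
      obtain ⟨m, hm, e⟩ := hliftJ (tri u v (π i)) (tri_mem h.huv (hPu hP2).2.symm) fun w hw => by
        rcases tri_supp hw with e | e | e
        exacts [Or.inl e, Or.inr (Or.inl e), Or.inr (Or.inr (e ▸ hP2))]
      refine ⟨c * m * c⁻¹, ?_, fun hh => absurd hh hP1, fun _ => hJ'_of m hm⟩
      rw [hconj, e, tri_conj, hπu, hπv, hππ]
  choose X hXe hXJ hXJ' using hex
  have hpairs : ∀ i j : T, i ≠ j → X i * X j * (X i * X j) = 1 := by
    intro i j hij
    have hij' : (i : Ω) ≠ j := fun e => hij (Subtype.ext e)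
    have himg : φ (X i * X j * (X i * X j)) = φ 1 := by
      rw [map_mul, map_mul, hXe, hXe, map_one]
      exact tri_pair h.huv (hTuv _ i.2).1 (hTuv _ i.2).2 (hTuv _ j.2).1 (hTuv _ j.2).2 hij'
    -- the remaining case
    have key : ∀ i j : T, (i : Ω) ∈ P → π i ∉ P → π j ∈ P → (j : Ω) ∉ P →
        X i * X j * (X i * X j) = 1 := by
      intro i j hiP hiP' hjP hjP'
      have hi1 : (i : Ω) ≠ o₁ := fun e => hiP' (e ▸ ho1.2)
      have hi2 : (i : Ω) ≠ o₂ := fun e => hiP' (e ▸ ho2.2)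
      have hj3 : (j : Ω) ≠ o₃ := fun e => hjP' (e ▸ ho3.1)
      have hj4 : (j : Ω) ≠ o₄ := fun e => hjP' (e ▸ ho4.1)
      have hi3 : (i : Ω) ≠ o₃ := fun e => hiP' (e ▸ ho3.2)
      have hi4 : (i : Ω) ≠ o₄ := fun e => hiP' (e ▸ ho4.2)
      have hj1 : (j : Ω) ≠ o₁ := fun e => hjP' (e ▸ ho1.1)
      obtain ⟨s, hs, es⟩ := hliftJ (tri o₁ i o₂) (tri_mem hi1.symm hi2) fun w hw => by
        rcases tri_supp hw with e | e | e
        exacts [Or.inr (Or.inr (e ▸ ho1.1)), Or.inr (Or.inr (e ▸ hiP)), Or.inr (Or.inr (e ▸ ho2.1))]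
      obtain ⟨t₀, ht₀, et₀⟩ := hliftJ (tri (π o₃) (π j) (π o₄))
        (tri_mem (π.injective.ne hj3.symm) (π.injective.ne hj4)) fun w hw => by
        rcases tri_supp hw with e | e | e
        exacts [Or.inr (Or.inr (e ▸ ho3.2)), Or.inr (Or.inr (e ▸ hjP)), Or.inr (Or.inr (e ▸ ho4.2))]
      obtain ⟨t, ht⟩ : ∃ t, t = c * t₀ * c⁻¹ := ⟨_, rfl⟩
      have htJ' : t ∈ J' := ht ▸ hJ'_of t₀ ht₀
      have et : φ t = tri o₃ j o₄ := by
        rw [ht, hconj, et₀, tri_conj, hππ, hππ, hππ]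
      have hcm : s * t = t * s := by
        refine step2 s hs (fun w hw => ?_) t htJ' fun w hw => ?_
        · rw [es] at hw
          rcases tri_supp hw with e | e | e
          exacts [Or.inr (Or.inr ⟨e ▸ ho1.1, e ▸ h13, e ▸ h14⟩),
            Or.inr (Or.inr ⟨e ▸ hiP, e ▸ hi3, e ▸ hi4⟩),
            Or.inr (Or.inr ⟨e ▸ ho2.1, e ▸ h23, e ▸ h24⟩)]
        · rw [et] at hw
          rcases tri_supp hw with e | e | e
          exacts [Or.inr (Or.inl e), Or.inl ⟨e ▸ hjP, e ▸ hjP'⟩, Or.inr (Or.inr e)]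
      let i₁ : T := ⟨o₁, Finset.mem_union_left _ ho1.1⟩
      let i₃ : T := ⟨o₃, Finset.mem_union_left _ ho3.1⟩
      have hb : X i₁ * X i₃ * (X i₁ * X i₃) = 1 := by
        refine hinj _ (mul_mem (mul_mem (hXJ _ ho1.1) (hXJ _ ho3.1))
          (mul_mem (hXJ _ ho1.1) (hXJ _ ho3.1))) _ (one_mem J) ?_
        rw [map_mul, map_mul, hXe, hXe, map_one]
        exact tri_pair h.huv (hPu ho1.1).1.symm (hPu ho1.1).2.symm (hPu ho3.1).1.symm
          (hPu ho3.1).2.symm h13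
      have e1 : s * X i₁ * s⁻¹ = X i := by
        refine hinj _ (mul_mem (mul_mem hs (hXJ _ ho1.1)) (inv_mem hs)) _ (hXJ _ hiP) ?_
        rw [map_mul, map_mul, map_inv, es, hXe, hXe, tri_conj,
          tri_apply_other (hPu ho1.1).1.symm (hPu hiP).1.symm (hPu ho2.1).1.symm,
          tri_apply_other (hPu ho1.1).2.symm (hPu hiP).2.symm (hPu ho2.1).2.symm,
          tri_apply_fst hi1.symm h12]
      have e3 : t * X i₃ * t⁻¹ = X j := by
        refine hinj' _ (mul_mem (mul_mem htJ' (hXJ' _ ho3.2)) (inv_mem htJ')) _ (hXJ' _ hjP) ?_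
        rw [map_mul, map_mul, map_inv, et, hXe, hXe, tri_conj,
          tri_apply_other (hPu ho3.1).1.symm (hTuv _ j.2).1 (hPu ho4.1).1.symm,
          tri_apply_other (hPu ho3.1).2.symm (hTuv _ j.2).2 (hPu ho4.1).2.symm,
          tri_apply_fst hj3.symm h34]
      have f1 : s * X i₃ = X i₃ * s := by
        refine hinj _ (mul_mem hs (hXJ _ ho3.1)) _ (mul_mem (hXJ _ ho3.1) hs) ?_
        rw [map_mul, map_mul, es, hXe]
        refine (commute_of_supp ({o₁, (i : Ω), o₂} : Set Ω) (σ := tri o₁ i o₂) (τ := tri u v o₃)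
          (fun w hw => tri_supp hw) fun w hw => ?_).eq
        rintro (rfl | rfl | rfl)
        · rcases tri_supp hw with e | e | e
          exacts [(hPu ho1.1).1 e, (hPu ho1.1).2 e, h13 e]
        · rcases tri_supp hw with e | e | e
          exacts [(hPu hiP).1 e, (hPu hiP).2 e, hi3 e]
        · rcases tri_supp hw with e | e | e
          exacts [(hPu ho2.1).1 e, (hPu ho2.1).2 e, h23 e]
      have f3 : t * X i₁ = X i₁ * t := by
        refine hinj' _ (mul_mem htJ' (hXJ' _ ho1.2)) _ (mul_mem (hXJ' _ ho1.2) htJ') ?_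
        rw [map_mul, map_mul, et, hXe]
        refine (commute_of_supp ({o₃, (j : Ω), o₄} : Set Ω) (σ := tri o₃ j o₄) (τ := tri u v o₁)
          (fun w hw => tri_supp hw) fun w hw => ?_).eq
        rintro (rfl | rfl | rfl)
        · rcases tri_supp hw with e | e | e
          exacts [(hPu ho3.1).1 e, (hPu ho3.1).2 e, h13 e.symm]
        · rcases tri_supp hw with e | e | e
          exacts [(hTuv _ j.2).1 e.symm, (hTuv _ j.2).2 e.symm, hj1 e]
        · rcases tri_supp hw with e | e | e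
          exacts [(hPu ho4.1).1 e, (hPu ho4.1).2 e, h14 e.symm]
      have g1 : (s * t) * X i₁ * (s * t)⁻¹ = X i := by
        rw [← e1, mul_inv_rev, mul_assoc s t, f3]; group
      have g3 : (s * t) * X i₃ * (s * t)⁻¹ = X j := by
        rw [hcm, ← e3, mul_inv_rev, mul_assoc t s, f1]; group
      calc X i * X j * (X i * X j)
          = (s * t) * (X i₁ * X i₃ * (X i₁ * X i₃)) * (s * t)⁻¹ := by rw [← g1, ← g3]; group
        _ = 1 := by rw [hb]; group
    by_cases hiP : (i : Ω) ∈ P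
    · by_cases hjP : (j : Ω) ∈ P
      · exact hinj _ (mul_mem (mul_mem (hXJ i hiP) (hXJ j hjP)) (mul_mem (hXJ i hiP) (hXJ j hjP))) _
          (one_mem J) himg
      have hjP' := (hT _ j.2).resolve_left hjP
      by_cases hiP' : π i ∈ P
      · exact hinj' _ (mul_mem (mul_mem (hXJ' i hiP') (hXJ' j hjP')) (mul_mem (hXJ' i hiP') (hXJ' j hjP'))) _
          (one_mem J') himg
      exact key i j hiP hiP' hjP' hjP
    · have hiP' := (hT _ i.2).resolve_left hiP
      by_cases hjP' : π j ∈ P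
      · exact hinj' _ (mul_mem (mul_mem (hXJ' i hiP') (hXJ' j hjP')) (mul_mem (hXJ' i hiP') (hXJ' j hjP'))) _
          (one_mem J') himg
      have hjP := (hT _ j.2).resolve_right hjP'
      have := key j i hjP hjP' hiP' hiP
      calc X i * X j * (X i * X j) = (X j)⁻¹ * (X j * X i * (X j * X i)) * X j := by group
        _ = 1 := by rw [this]; group
  have hcube : ∀ i : T, X i ^ 3 = 1 := fun i => by
    have himg : φ (X i ^ 3) = φ 1 := by
      rw [map_pow, hXe, map_one, tri_cube h.huv (hTuv _ i.2).1 (hTuv _ i.2).2]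
    rcases hT _ i.2 with hi | hi
    · exact hinj _ (pow_mem (hXJ i hi) 3) _ (one_mem J) himg
    · exact hinj' _ (pow_mem (hXJ' i hi) 3) _ (one_mem J') himg
  obtain ⟨hfin, hcard⟩ := carmichael X hcube hpairs
  rw [Fintype.card_coe] at hcard
  obtain ⟨M, hM⟩ : ∃ M, M = Subgroup.closure (Set.range X) := ⟨_, rfl⟩
  have hJM : J ≤ M := by
    intro j hj
    obtain ⟨m, ⟨hmM, hmJ⟩, e⟩ := mem_of_even h.huv (↑P) (H := (M ⊓ J).map φ)
      (fun i hi _ _ => ⟨X ⟨i, Finset.mem_union_left _ hi⟩,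
        ⟨hM ▸ Subgroup.subset_closure ⟨_, rfl⟩, hXJ _ hi⟩, hXe _⟩) (hevenJ j hj) (hsuppJ j hj)
    rw [hinj j hj m hmJ e.symm]
    exact hmM
  have hcM : ∀ m ∈ M, c * m * c⁻¹ ∈ M := by
    have hle : M ≤ M.comap (MulAut.conj c).toMonoidHom := by
      conv_lhs => rw [hM]
      rw [Subgroup.closure_le]
      rintro _ ⟨i, rfl⟩
      show c * X i * c⁻¹ ∈ M
      by_cases hi : (i : Ω) ∈ P
      · have hmem : π i ∈ T := Finset.mem_union_right _ (Finset.mem_image_of_mem π hi)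
        have e : c * X i * c⁻¹ = X ⟨π i, hmem⟩ := by
          refine hinj' _ (hJ'_of _ (hXJ i hi)) _ (hXJ' ⟨π i, hmem⟩ (show π (π (i : Ω)) ∈ P by rwa [hππ])) ?_
          rw [hconj, hXe, hXe, tri_conj, hπu, hπv]
        rw [e, hM]
        exact Subgroup.subset_closure ⟨_, rfl⟩
      · exact hJM (hJ'back _ (hXJ' i ((hT _ i.2).resolve_left hi)))
    exact fun m hm => hle hm
  have hall : ∀ w : G, w ∈ M ∨ w * c ∈ M := by
    let L : Subgroup G :=
      { carrier := {w | w ∈ M ∨ w * c ∈ M}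
        one_mem' := Or.inl (one_mem _)
        mul_mem' := by
          rintro w w' (h1 | h1) (h2 | h2)
          · exact Or.inl (mul_mem h1 h2)
          · exact Or.inr (by rw [mul_assoc]; exact mul_mem h1 h2)
          · refine Or.inr ?_
            have := mul_mem h1 (hcM _ h2)
            rwa [hci, show w * c * (c * w' * c) = w * (c * c) * (w' * c) by group, hcc, mul_one,
              ← mul_assoc] at this
          · refine Or.inl ?_
            have := mul_mem h1 (hcM _ h2)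
            rwa [hci, show w * c * (c * (w' * c) * c) = w * (c * c) * w' * (c * c) by group, hcc,
              mul_one, mul_one] at this
        inv_mem' := by
          rintro w (h1 | h1)
          · exact Or.inl (inv_mem h1)
          · refine Or.inr ?_
            have := hcM _ (inv_mem h1)
            rwa [mul_inv_rev, hci, show c * (c * w⁻¹) * c = (c * c) * (w⁻¹ * c) by group, hcc,
              one_mul] at this }
    intro w
    have hle : (⊤ : Subgroup G) ≤ L := by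
      rw [← h.gen, Subgroup.closure_le]
      rintro y (rfl | rfl)
      · exact Or.inl (hJM haJ)
      · refine Or.inr ?_
        have e : y * c = x * x := by
          rw [hc, hx, ← pow_succ', ← pow_add]
        rw [e]
        exact mul_mem (hJM hxJ) (hJM hxJ)
    exact hle (Subgroup.mem_top w)
  rw [← hx, ← hc, ← hπ]
  exact ⟨M, hJM haJ, hJM hxJ, hcM, hM ▸ hfin, hM ▸ hcard, hall⟩

end CfsgLib.Pres.Short
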