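import Cfsg.Agent.Lib.Pres.SLnPres
import Mathlib.RingTheory.RootsOfUnity.Basic

/-!
# Presentations of `PSL_n` from those of `SL_n`
-/

set_option autoImplicit false

namespace CfsgLib.Pres

open Matrix
open scoped MatrixGroups

variable {F : Type*} [Field F]

theorem psl_of_sl {n k K : ℕ} (h : PresBy k SL(n, F) K) :
    PresBy k (Matrix.ProjectiveSpecialLinearGroup (Fin n) F) (K + 1) := by
  have : NeZero (max (Fintype.card (Fin n)) 1) := ⟨by omega⟩
  have hc : IsCyclic (Subgroup.center SL(n, F)) :=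
    (Matrix.SpecialLinearGroup.center_equiv_rootsOfUnity (n := Fin n) (R := F)).isCyclic.2 inferInstance
  obtain ⟨z, hz⟩ := hc.exists_generator
  refine h.quot (Subgroup.center SL(n, F)) (z : SL(n, F)) (le_antisymm ?_ (Subgroup.zpowers_le.2 z.2))
  intro x hx
  obtain ⟨m, hm⟩ := Subgroup.mem_zpowers_iff.1 (hz ⟨x, hx⟩)
  exact Subgroup.mem_zpowers_iff.2 ⟨m, by simpa using congrArg Subtype.val hm⟩

/-- A generating pair of `SL_n` gives one of `PSL_n`. -/
theorem psl_two_gens {n k K : ℕ} (h : PresBy k (Matrix.ProjectiveSpecialLinearGroup (Fin n) F) K) (a b : SL(n, F))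
    (hab : Subgroup.closure ({a, b} : Set SL(n, F)) = ⊤) :
    PresBy 2 (Matrix.ProjectiveSpecialLinearGroup (Fin n) F) (K + 2) := by
  refine h.gens (QuotientGroup.mk' (Subgroup.center SL(n, F)) ∘ ![a, b]) ?_
  rw [Set.range_comp, Matrix.range_cons_cons_empty, ← MonoidHom.map_closure, hab, ← MonoidHom.range_eq_map]
  exact MonoidHom.range_eq_top.2 (QuotientGroup.mk'_surjective _)

end CfsgLib.Pres
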