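import Cfsg.Agent.Lib.Classical.SUCenter
import Cfsg.Agent.Lib.Pres.PresTools

/-!
# The centre of `SU` is cyclic, and presentations of the quotient
-/

set_option autoImplicit false

namespace CfsgLib.Pres

variable {F : Type*} [Field F] [Fintype F] {q : ℕ}

/-- The centre of `SU` is cyclic. -/
theorem isCyclic_center_SU (hF : Fintype.card F = q ^ 2) {n : ℕ} (hn : 2 ≤ n) :
    IsCyclic (Subgroup.center (Cfsg.SU n F q)) := by
  let P : Subgroup Fˣ := (powMonoidHom (Nat.gcd n (q + 1)) : Fˣ →* Fˣ).ker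
  have hP : ∀ r : P, (((r : Fˣ) : F)) ^ n = 1 ∧ (((r : Fˣ) : F)) ^ (q + 1) = 1 := fun r => by
    have h : (((r : Fˣ) : F)) ^ Nat.gcd n (q + 1) = 1 := by
      rw [← Units.val_pow_eq_pow_val]
      exact congrArg Units.val (MonoidHom.mem_ker.1 r.2)
    exact pow_gcd_eq_one.1 h
  have hex : ∀ r : P, ∃ s : Cfsg.SU n F q,
      (s.1 : Matrix (Fin n) (Fin n) F) = Matrix.diagonal (fun _ => ((r : Fˣ) : F)) := fun r =>
    Classical.diagonal_mem_su hF _ (fun _ => (hP r).2) (by simpa using (hP r).1)
  choose sc hsc using hex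
  let f : P →* Subgroup.center (Cfsg.SU n F q) := MonoidHom.mk'
    (fun r => ⟨sc r, Subgroup.mem_center_iff.2 fun B => by
      refine Subtype.ext (Subtype.ext ?_)
      simp only [Subgroup.coe_mul, Matrix.SpecialLinearGroup.coe_mul, hsc, ← Matrix.scalar_apply]
      exact (Matrix.scalar_commute _ (Commute.all _) _).eq.symm⟩)
    (fun r s => by
      refine Subtype.ext (Subtype.ext (Subtype.ext ?_))
      simp [hsc, Matrix.diagonal_mul_diagonal])
  have hinj : Function.Injective f := fun r s h => by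
    have h' := congrArg (fun A : Subgroup.center (Cfsg.SU n F q) =>
      (A.1.1 : Matrix (Fin n) (Fin n) F) ⟨0, by omega⟩ ⟨0, by omega⟩) h
    simp only [f, MonoidHom.mk'_apply, hsc, Matrix.diagonal_apply_eq] at h'
    exact Subtype.ext (Units.ext h')
  have hbij : Function.Bijective f := (Nat.bijective_iff_injective_and_card f).2 ⟨hinj, by
    rw [Classical.card_center_su hF hn, IsCyclic.card_powMonoidHom_ker, Classical.units_card_sq hF, Nat.gcd_comm]
    exact Nat.gcd_eq_left ((Nat.gcd_dvd_right n (q + 1)).trans (dvd_mul_left _ _))⟩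
  exact isCyclic_of_surjective f hbij.2

/-- The quotient by the centre costs one relator. -/
theorem PresBy.psu (hF : Fintype.card F = q ^ 2) {n k K : ℕ} (hn : 2 ≤ n) (h : PresBy k (Cfsg.SU n F q) K) :
    PresBy k (Cfsg.PSU n F q) (K + 1) := by
  obtain ⟨z, hz⟩ := (Subgroup.isCyclic_iff_exists_zpowers_eq_top _).1 (isCyclic_center_SU hF hn)
  exact h.quot _ z hz.symm

end CfsgLib.Pres
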