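import Cfsg.Agent.Lib.Pres.SUFourModel
import Cfsg.Agent.Lib.Pres.PresTools
import Cfsg.Agent.Lib.Pres.SLTwo

/-!
# A short presentation of `SU₄`
-/

set_option autoImplicit false

namespace CfsgLib.Pres.SUFour

open Matrix
open scoped MatrixGroups
open CfsgLib.Classical (uElt uElt_val uElt_add qFrob)
open CfsgLib.Pres.SpFour (X)

/-- Words in six letters. -/
abbrev W6 := FreeGroup (Fin 6)

/-- The first three letters. -/
def inA : W3 →* W6 := FreeGroup.map (Fin.castAdd 3)

/-- The last three letters. -/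
def inB : W3 →* W6 := FreeGroup.map (Fin.natAdd 3)

set_option maxHeartbeats 1000000 in
/-- The group of the skew-hermitian form has six generators and thirty-one relators. -/
theorem ug_pres {F : Type*} [Field F] [Fintype F] {q : ℕ} (hF : Fintype.card F = q ^ 2) :
    PresBy 6 (Ug hF) 31 := by
  classical
  obtain ⟨relsF, hrF, ⟨eF⟩⟩ := (presentations F).1
  obtain ⟨relsK, hrK, ⟨eK⟩⟩ := (presentations (Kf hF)).1
  obtain ⟨ω, hω⟩ := IsCyclic.exists_generator (α := Fˣ)
  obtain ⟨ω', hω'⟩ := IsCyclic.exists_generator (α := (Kf hF)ˣ)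
  let D := data hF
  obtain ⟨c₀, hc₀N, hc₀⟩ := D.exists_twist (hFK hF) (hσ hF)
  let θ : F := (c₀ : F) ^ 2
  let g : Fin 3 → SL(2, F) := fun i => eF (PresentedGroup.of i)
  let g' : Fin 3 → SL(2, Kf hF) := fun i => eK (PresentedGroup.of i)
  have hlift : ∀ w, FreeGroup.lift g w = eF (PresentedGroup.mk _ w) := fun w =>
    congrArg (fun ψ : W3 →* SL(2, F) => ψ w)
      (show FreeGroup.lift g = eF.toMonoidHom.comp (PresentedGroup.mk _) from
        FreeGroup.ext_hom _ _ fun i => by rw [FreeGroup.lift_apply_of]; rfl)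
  have hlift' : ∀ w, FreeGroup.lift g' w = eK (PresentedGroup.mk _ w) := fun w =>
    congrArg (fun ψ : W3 →* SL(2, Kf hF) => ψ w)
      (show FreeGroup.lift g' = eK.toMonoidHom.comp (PresentedGroup.mk _) from
        FreeGroup.ext_hom _ _ fun i => by rw [FreeGroup.lift_apply_of]; rfl)
  have hrelsF : ∀ r ∈ relsF, FreeGroup.lift g r = 1 := fun r hr => by
    rw [hlift, PresentedGroup.one_of_mem hr, map_one]
  have hrelsK : ∀ r ∈ relsK, FreeGroup.lift g' r = 1 := fun r hr => by
    rw [hlift', PresentedGroup.one_of_mem hr, map_one]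
  choose wdF hwdF using fun M : SL(2, F) =>
    PresentedGroup.mk_surjective (↑relsF : Set W3) (eF.symm M)
  choose wdK hwdK using fun M : SL(2, Kf hF) =>
    PresentedGroup.mk_surjective (↑relsK : Set W3) (eK.symm M)
  have hwF : ∀ M, FreeGroup.lift g (wdF M) = M := fun M => by rw [hlift, hwdF, MulEquiv.apply_symm_apply]
  have hwK : ∀ M, FreeGroup.lift g' (wdK M) = M := fun M => by rw [hlift', hwdK, MulEquiv.apply_symm_apply]
  have hgenF : Subgroup.closure (Set.range g) = ⊤ := by
    rw [← FreeGroup.range_lift_eq_closure, MonoidHom.range_eq_top]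
    exact fun M => ⟨wdF M, hwF M⟩
  have hgenK : Subgroup.closure (Set.range g') = ⊤ := by
    rw [← FreeGroup.range_lift_eq_closure, MonoidHom.range_eq_top]
    exact fun M => ⟨wdK M, hwK M⟩
  -- words
  let Xa : F → W6 := fun t => inA (wdF (uElt t))
  let Xb : Kf hF → W6 := fun t => inB (wdK (uElt t))
  let WA : W6 := inA (wdF (wElt F))
  let WB : W6 := inB (wdK (wElt (Kf hF)))
  let PW : F → W6 := fun t => WB * Xa (-t) * WB⁻¹
  let RW : Kf hF → W6 := fun t => WA * Xb t * WA⁻¹
  let few : List (W6 × W6) :=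
    [(WA * WB * WA * WB, WB * WA * WB * WA), (WA * PW 1 * WA⁻¹, PW (-1)), (WB * RW 1 * WB⁻¹, RW 1),
      (Xa 1 * RW 1, RW 1 * Xa 1),
      (Xa 1 * PW 1, RW (D.Tr 1) * PW 1 * Xa 1), (Xa 1 * PW θ, RW (D.Tr (D.σ θ)) * PW θ * Xa 1),
      (Xa 1 * Xb 1, PW 1 * RW 1 * Xb 1 * Xa 1)]
  let torA : List (W6 × W6) := List.ofFn fun i : Fin 3 =>
    (inA (wdF (dElt ω)) * inB (FreeGroup.of i) * (inA (wdF (dElt ω)))⁻¹, inB (wdK (dConj (D.Nu ω)⁻¹ (g' i))))
  let torB : List (W6 × W6) := List.ofFn fun i : Fin 3 =>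
    (inB (wdK (dElt ω')) * inA (FreeGroup.of i) * (inB (wdK (dElt ω')))⁻¹, inA (wdF (dConj (D.ιu ω')⁻¹ (g i))))
  let eqs : List (W6 × W6) := few ++ torA ++ torB
  let rels : Finset W6 := relsF.image inA ∪ relsK.image inB ∪ (eqs.map fun p => p.1 * p.2⁻¹).toFinset
  refine ⟨rels, ?_, ?_⟩
  · refine (Finset.card_union_le _ _).trans ?_
    refine (Nat.add_le_add ((Finset.card_union_le _ _).trans
      (Nat.add_le_add (Finset.card_image_le.trans hrF) (Finset.card_image_le.trans hrK)))
      (List.toFinset_card_le _)).trans (le_of_eq ?_)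
    simp [eqs, few, torA, torB]
  -- the generators of the model
  let t : Fin 6 → Ug hF := Fin.append (fun i => φA hF (g i)) fun i => φB hF (g' i)
  have htA : ∀ w, FreeGroup.lift t (inA w) = φA hF (FreeGroup.lift g w) := fun w =>
    congrArg (fun ψ : W3 →* Ug hF => ψ w)
      (show (FreeGroup.lift t).comp inA = (φA hF).comp (FreeGroup.lift g) from FreeGroup.ext_hom _ _ fun i => by
        rw [MonoidHom.comp_apply, MonoidHom.comp_apply, inA, FreeGroup.map.of, FreeGroup.lift_apply_of,
          FreeGroup.lift_apply_of]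
        exact Fin.append_left _ _ i)
  have htB : ∀ w, FreeGroup.lift t (inB w) = φB hF (FreeGroup.lift g' w) := fun w =>
    congrArg (fun ψ : W3 →* Ug hF => ψ w)
      (show (FreeGroup.lift t).comp inB = (φB hF).comp (FreeGroup.lift g') from FreeGroup.ext_hom _ _ fun i => by
        rw [MonoidHom.comp_apply, MonoidHom.comp_apply, inB, FreeGroup.map.of, FreeGroup.lift_apply_of,
          FreeGroup.lift_apply_of]
        exact Fin.append_right _ _ i)
  have hold : ∀ r ∈ rels, FreeGroup.lift t r = 1 := by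
    intro r hr
    rw [Finset.mem_union, Finset.mem_union, Finset.mem_image, Finset.mem_image, List.mem_toFinset, List.mem_map] at hr
    rcases hr with (⟨r, hr, rfl⟩ | ⟨r, hr, rfl⟩) | ⟨p, hp, rfl⟩
    · rw [htA, hrelsF r hr, map_one]
    · rw [htB, hrelsK r hr, map_one]
    rw [map_mul, map_inv, mul_inv_eq_one]
    have mf := model_few hF θ
    simp only [eqs, few, torA, torB, List.mem_append, List.mem_cons, List.not_mem_nil, or_false, List.mem_ofFn] at hp
    rcases hp with ((rfl | rfl | rfl | rfl | rfl | rfl | rfl) | ⟨i, rfl⟩) | ⟨i, rfl⟩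
    all_goals simp only [PW, RW, Xa, Xb, WA, WB, map_mul, map_inv, htA, htB, hwF, hwK, FreeGroup.lift_apply_of]
    · exact mf.braid
    · exact mf.waP
    · exact mf.wbR
    · exact mf.cAR
    · exact mf.cAP
    · exact mf.cAPθ
    · exact mf.cAB
    · rw [← map_inv D.Nu]; exact (map_inv D.Nu ω).symm ▸ model_ha_b hF ω (g' i)
    · rw [← map_inv D.ιu]; exact (map_inv D.ιu ω').symm ▸ model_hb_a hF ω' (g i)
  let Φ : PresentedGroup (↑rels : Set W6) →* Ug hF := PresentedGroup.toGroup hold
  have hsurj : Function.Surjective Φ := by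
    rw [← MonoidHom.range_eq_top, ← top_le_iff, ← closure_ranges hF, Subgroup.closure_le]
    rintro _ (⟨M, rfl⟩ | ⟨M, rfl⟩)
    · exact ⟨PresentedGroup.mk _ (inA (wdF M)), by
        rw [show Φ (PresentedGroup.mk _ (inA (wdF M))) = FreeGroup.lift t (inA (wdF M)) from rfl, htA, hwF]⟩
    · exact ⟨PresentedGroup.mk _ (inB (wdK M)), by
        rw [show Φ (PresentedGroup.mk _ (inB (wdK M))) = FreeGroup.lift t (inB (wdK M)) from rfl, htB, hwK]⟩
  -- the bound
  let π : W6 →* PresentedGroup (↑rels : Set W6) := PresentedGroup.mk _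
  have hone : ∀ r ∈ rels, π r = 1 := fun r hr => PresentedGroup.one_of_mem hr
  obtain ⟨φa, hφa⟩ : ∃ φ : SL(2, F) →* PresentedGroup (↑rels : Set W6),
      ∀ w, φ (FreeGroup.lift g w) = π (inA w) := by
    let ψ : PresentedGroup (↑relsF : Set W3) →* PresentedGroup (↑rels : Set W6) :=
      PresentedGroup.toGroup (f := fun i => π (inA (FreeGroup.of i))) fun r hr => by
        rw [show FreeGroup.lift (fun i => π (inA (FreeGroup.of i))) r = π (inA r) from
          congrArg (fun χ : W3 →* _ => χ r)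
            (show FreeGroup.lift _ = π.comp inA from FreeGroup.ext_hom _ _ fun i => by
              rw [FreeGroup.lift_apply_of]; rfl)]
        exact hone _ (Finset.mem_union_left _ (Finset.mem_union_left _ (Finset.mem_image.2 ⟨r, hr, rfl⟩)))
    refine ⟨ψ.comp eF.symm.toMonoidHom, fun w => ?_⟩
    show ψ (eF.symm (FreeGroup.lift g w)) = _
    rw [hlift, MulEquiv.symm_apply_apply]
    exact congrArg (fun χ : W3 →* _ => χ w)
      (show ψ.comp (PresentedGroup.mk _) = π.comp inA from FreeGroup.ext_hom _ _ fun i => by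
        simp only [ψ, MonoidHom.comp_apply]; exact PresentedGroup.toGroup.of _)
  obtain ⟨φb, hφb⟩ : ∃ φ : SL(2, Kf hF) →* PresentedGroup (↑rels : Set W6),
      ∀ w, φ (FreeGroup.lift g' w) = π (inB w) := by
    let ψ : PresentedGroup (↑relsK : Set W3) →* PresentedGroup (↑rels : Set W6) :=
      PresentedGroup.toGroup (f := fun i => π (inB (FreeGroup.of i))) fun r hr => by
        rw [show FreeGroup.lift (fun i => π (inB (FreeGroup.of i))) r = π (inB r) from
          congrArg (fun χ : W3 →* _ => χ r)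
            (show FreeGroup.lift _ = π.comp inB from FreeGroup.ext_hom _ _ fun i => by
              rw [FreeGroup.lift_apply_of]; rfl)]
        exact hone _ (Finset.mem_union_left _ (Finset.mem_union_right _ (Finset.mem_image.2 ⟨r, hr, rfl⟩)))
    refine ⟨ψ.comp eK.symm.toMonoidHom, fun w => ?_⟩
    show ψ (eK.symm (FreeGroup.lift g' w)) = _
    rw [hlift', MulEquiv.symm_apply_apply]
    exact congrArg (fun χ : W3 →* _ => χ w)
      (show ψ.comp (PresentedGroup.mk _) = π.comp inB from FreeGroup.ext_hom _ _ fun i => by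
        simp only [ψ, MonoidHom.comp_apply]; exact PresentedGroup.toGroup.of _)
  have hA : ∀ M, π (inA (wdF M)) = φa M := fun M => by rw [← hφa, hwF]
  have hB : ∀ M, π (inB (wdK M)) = φb M := fun M => by rw [← hφb, hwK]
  have hA' : ∀ i, π (inA (FreeGroup.of i)) = φa (g i) := fun i => by rw [← hφa, FreeGroup.lift_apply_of]
  have hB' : ∀ i, π (inB (FreeGroup.of i)) = φb (g' i) := fun i => by rw [← hφb, FreeGroup.lift_apply_of]
  have heq : ∀ p ∈ eqs, π p.1 = π p.2 := fun p hp => by
    have := hone _ (Finset.mem_union_right _ (List.mem_toFinset.2 (List.mem_map.2 ⟨p, hp, rfl⟩)))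
    rwa [map_mul, map_inv, mul_inv_eq_one] at this
  simp only [eqs, few, List.forall_mem_append, List.forall_mem_cons, List.not_mem_nil, IsEmpty.forall_iff,
    implies_true, and_true] at heq
  obtain ⟨⟨⟨q1, q2, q3, q4, q6, q7, q9⟩, qA⟩, qB⟩ := heq
  simp only [PW, RW, Xa, Xb, WA, WB, map_mul, map_inv, hA, hB] at q1 q2 q3 q4 q6 q7 q9
  have hfew : Few D θ φa φb := ⟨q1, q2, q3, q4, q6, q7, q9⟩
  have hta : ∀ (c : Fˣ) (M : SL(2, Kf hF)),
      φa (dElt c) * φb M * (φa (dElt c))⁻¹ = φb (dConj (D.Nu c)⁻¹ M) := fun c M => by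
    have h := torus_all φa φb g' hgenK ω hω (D.Nu⁻¹) (fun i => ?_) c M
    · exact h
    · have h1 := qA _ (List.mem_ofFn.2 ⟨i, rfl⟩)
      simp only [map_mul, map_inv, hA, hB, hB'] at h1
      exact h1
  have htb : ∀ (c : (Kf hF)ˣ) (M : SL(2, F)),
      φb (dElt c) * φa M * (φb (dElt c))⁻¹ = φa (dConj (D.ιu c)⁻¹ M) := fun c M => by
    have h := torus_all φb φa g hgenF ω' hω' (D.ιu⁻¹) (fun i => ?_) c M
    · exact h
    · have h1 := qB _ (List.mem_ofFn.2 ⟨i, rfl⟩)
      simp only [map_mul, map_inv, hA, hB, hA'] at h1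
      exact h1
  have hgenP : Subgroup.closure ((φa.range : Set (PresentedGroup (↑rels : Set W6))) ∪ φb.range) = ⊤ := by
    rw [← top_le_iff, ← PresentedGroup.closure_range_of (↑rels : Set W6), Subgroup.closure_le]
    rintro _ ⟨i, rfl⟩
    induction i using Fin.addCases (m := 3) (n := 3) with
    | left i => exact Subgroup.subset_closure (Or.inl ⟨g i, by rw [← hA', inA, FreeGroup.map.of]; rfl⟩)
    | right i => exact Subgroup.subset_closure (Or.inr ⟨g' i, by rw [← hB', inB, FreeGroup.map.of]; rfl⟩)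
  obtain ⟨hfin, hcard⟩ := bound (hFK hF) D φa φb
    (rels_of_few D (hFK hF) (hσ hF) c₀ hc₀N hc₀ hta htb hfew) hgenP
  have hle : Nat.card (PresentedGroup (↑rels : Set W6)) ≤ Nat.card (Ug hF) := by
    refine hcard.trans (le_of_eq ?_)
    rw [card_ug, card_sl, fintype_card_Kf]
    ring
  exact ⟨MulEquiv.ofBijective Φ ((Nat.bijective_iff_surjective_and_card Φ).2
    ⟨hsurj, le_antisymm hle (Nat.card_le_card_of_surjective _ hsurj)⟩)⟩

/-- `SU₄` has six generators and thirty-one relators. -/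
theorem su_four_pres {F : Type*} [Field F] [Fintype F] {q : ℕ} (hF : Fintype.card F = q ^ 2) :
    PresBy 6 (Cfsg.SU 4 F q) 31 :=
  (ug_pres hF).congr (toSU hF)

end CfsgLib.Pres.SUFour
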