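import Cfsg.Agent.Lib.Pres.SUGlue

/-!
# The presentation of `SU_n` glued from `SU_4` and the alternating group
-/

set_option autoImplicit false

namespace CfsgLib.Pres.SUn

open Matrix Equiv

variable {F : Type*} [Field F] [Fintype F] {q n : ℕ} (hF : Fintype.card F = q ^ 2)

include hF in
theorem commute_of_disjoint {R R' : Finset (Fin n)} (hd : Disjoint R R') {a b : Cfsg.SU n F q} (ha : a ∈ SOn R)
    (hb : b ∈ SOn R') : Commute a b := by
  have hq := q_ne_zero hF
  refine eq_of_act fun v => ?_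
  rw [act_mul, act_mul]
  have hd1 : ∀ i, i ∈ R' → (act a v - v) i = 0 := fun i hi => by
    rw [Pi.sub_apply, act_apply_out hq ha v (Finset.disjoint_right.1 hd hi), sub_self]
  have hd2 : ∀ i, i ∈ R → (act b v - v) i = 0 := fun i hi => by
    rw [Pi.sub_apply, act_apply_out hq hb v (Finset.disjoint_left.1 hd hi), sub_self]
  calc act a (act b v) = act a (v + (act b v - v)) := by rw [add_sub_cancel]
    _ = act a v + (act b v - v) := by rw [act_add, act_eq_self hq ha hd2]
    _ = act b v + (act a v - v) := by abel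
    _ = act b (v + (act a v - v)) := by rw [act_add, act_eq_self hq hb hd1]
    _ = act b (act a v) := by rw [add_sub_cancel]

theorem eq_range_of_subset {k : ℕ} (f : Fin k ↪ Fin n) {R : Finset (Fin n)} (h : R = Finset.univ.map f) :
    (SOn R : Subgroup (Cfsg.SU n F q)) = SOn (Finset.univ.map f) := by rw [h]

set_option maxHeartbeats 4000000 in
include hF in
/-- The glueing. -/
theorem su_n_core (hn : 5 ≤ n) {k4 r4 k3 km m : ℕ} (h4 : PresBy k4 (Cfsg.SU 4 F q) r4)
    (g3 : Fin k3 → Cfsg.SU 3 F q) (hg3 : Subgroup.closure (Set.range g3) = ⊤)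
    (gm : Fin km → Cfsg.SU m F q) (hgm : Subgroup.closure (Set.range gm) = ⊤)
    (hm2 : 2 ≤ m) (hm3 : m ≤ 3) (hmn : m + 3 ≤ n) (hm : m = 3 ∨ n = 5) :
    PresBy (k4 + 2) (Cfsg.SU n F q) (r4 + 6 + 5 * k4 + k3 + k3 * km + 1) := by
  classical
  have hq := q_ne_zero hF
  have hn4 : 4 ≤ n := by omega
  obtain ⟨rels4, hr4, ⟨e4⟩⟩ := h4
  obtain ⟨ta, hta, relsA, hrA, eA, heA⟩ := Short.hasPres_alt_six (show 3 ≤ n by omega)
  obtain ⟨s, hs, hsgen⟩ := stab_four (n := n) hn4
  set T0 : Finset (Fin n) := Finset.univ.map (f0 hn4) with hT0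
  let e012 : Fin 3 ↪ Fin 4 := Fin.castLEEmb (by norm_num)
  let e123 : Fin 3 ↪ Fin 4 := Fin.succEmb 3
  let em : Fin m ↪ Fin 4 := Fin.castLEEmb (by omega)
  let fm : Fin m ↪ Fin n := ⟨fun i => ⟨3 + i, by omega⟩, fun i j h => Fin.ext (by simpa using congrArg Fin.val h)⟩
  obtain ⟨ρ, hρ⟩ : ∃ ρ : alternatingGroup (Fin n),
      Finset.univ.map ((em.trans (f0 hn4)).trans (ρ : Perm (Fin n)).toEmbedding) = Finset.univ.map fm := by
    obtain ⟨ρ, h | h⟩ := exists_even_map (em.trans (f0 hn4)) fm ⟨0, by omega⟩ ⟨1, by omega⟩ (by simp)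
    · exact ⟨ρ, by rw [h]⟩
    · exact ⟨ρ, by rw [h, ← Finset.map_map, Finset.map_univ_equiv]⟩
  let π5 : Perm (Fin 5) := swap 0 4 * swap 1 2
  have hne5 : ∀ a b : Fin 5, a ≠ b → f5 hn a ≠ f5 hn b := fun a b h => (f5 hn).injective.ne h
  let τ : alternatingGroup (Fin n) := ⟨swap (f5 hn 0) (f5 hn 4) * swap (f5 hn 1) (f5 hn 2),
    Perm.mem_alternatingGroup.2 (by
      rw [map_mul, Perm.sign_swap (hne5 0 4 (by decide)), Perm.sign_swap (hne5 1 2 (by decide))]; rfl)⟩
  have hτ : (f5 hn).trans (τ : Perm (Fin n)).toEmbedding = π5.toEmbedding.trans (f5 hn) := by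
    refine DFunLike.ext _ _ fun i => ?_
    show swap (f5 hn 0) (f5 hn 4) (swap (f5 hn 1) (f5 hn 2) (f5 hn i)) = f5 hn (swap 0 4 (swap 1 2 i))
    rw [(f5 hn).injective.swap_apply, (f5 hn).injective.swap_apply]
  have h0123 : T0 = (({0, 1, 2, 3} : Finset (Fin 5))).map (f5 hn) := by
    rw [hT0, show ({0, 1, 2, 3} : Finset (Fin 5)) = Finset.univ.map (Fin.castLEEmb (show 4 ≤ 5 by norm_num)) by decide,
      Finset.map_map]
    rfl
  have hτT0 : T0.map (τ : Perm (Fin n)).toEmbedding = (({1, 2, 3, 4} : Finset (Fin 5))).map (f5 hn) := by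
    rw [h0123, Finset.map_map, hτ, ← Finset.map_map,
      show (({0, 1, 2, 3} : Finset (Fin 5))).map π5.toEmbedding = {1, 2, 3, 4} by decide]
  have h123 : Finset.univ.map (e123.trans (f0 hn4)) = (({1, 2, 3} : Finset (Fin 5))).map (f5 hn) := by
    rw [show ({1, 2, 3} : Finset (Fin 5)) =
      Finset.univ.map (e123.trans (Fin.castLEEmb (show 4 ≤ 5 by norm_num))) by decide, Finset.map_map]
    rfl
  have hτ123 : (Finset.univ.map (e123.trans (f0 hn4))).map ((τ⁻¹ : alternatingGroup (Fin n)) : Perm (Fin n)).toEmbedding =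
      Finset.univ.map (e123.trans (f0 hn4)) := by
    refine Finset.map_injective (τ : Perm (Fin n)).toEmbedding ?_
    rw [Finset.map_map _ _ (Finset.univ.map (e123.trans (f0 hn4))),
      show ((τ⁻¹ : alternatingGroup (Fin n)) : Perm (Fin n)).toEmbedding.trans (τ : Perm (Fin n)).toEmbedding =
        Function.Embedding.refl _ from DFunLike.ext _ _ fun x => by simp, Finset.map_refl]
    rw [h123, Finset.map_map, hτ, ← Finset.map_map,
      show (({1, 2, 3} : Finset (Fin 5))).map π5.toEmbedding = {1, 2, 3} by decide]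
  -- targets
  let t4 : Fin k4 → Cfsg.SU 4 F q := fun j => e4 (PresentedGroup.of j)
  have ht4 : ∀ w, FreeGroup.lift t4 w = e4 (PresentedGroup.mk _ w) := fun w =>
    DFunLike.congr_fun (FreeGroup.ext_hom (FreeGroup.lift t4) (e4.toMonoidHom.comp (PresentedGroup.mk _))
      fun i => by simp [t4]; rfl) w
  have hs4 : Function.Surjective (FreeGroup.lift t4) := fun x => by
    obtain ⟨w, hw⟩ := PresentedGroup.mk_surjective _ (e4.symm x)
    exact ⟨w, by rw [ht4, hw, MulEquiv.apply_symm_apply]⟩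
  have hsA : Function.Surjective (FreeGroup.lift ta) := by
    rw [← MonoidHom.range_eq_top, FreeGroup.range_lift_eq_closure, hta]
  choose W4 hW4 using hs4
  choose Wa hWa using hsA
  have conj_mem : ∀ (σ : alternatingGroup (Fin n)) (f : Fin 4 ↪ Fin n) (x : Cfsg.SU 4 F q),
      permSU σ * blk f x * (permSU σ)⁻¹ ∈ SOn ((Finset.univ.map f).map (σ : Perm (Fin n)).toEmbedding) := by
    intro σ f x
    rw [permSU_blk, Finset.map_map, ← range_blk hq]
    exact ⟨x, rfl⟩
  have hy : ∀ i j, ∃ y, blk (f0 hn4) y = permSU (s i) * blk (f0 hn4) (t4 j) * (permSU (s i))⁻¹ := fun i j => by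
    have := conj_mem (s i) (f0 hn4) (t4 j)
    rw [hs i, ← range_blk hq] at this
    exact this
  choose y hy using hy
  have hz : ∀ j, ∃ z, blk (f0 hn4) z =
      permSU τ⁻¹ * blk (f0 hn4) (blk e123 (g3 j)) * (permSU τ⁻¹)⁻¹ := fun j => by
    have : permSU τ⁻¹ * blk (f0 hn4) (blk e123 (g3 j)) * (permSU τ⁻¹)⁻¹ ∈
        (SOn (Finset.univ.map (e123.trans (f0 hn4))) : Subgroup (Cfsg.SU n F q)) := by
      conv => arg 1; arg 1; rw [← hτ123]
      rw [blk_blk, permSU_blk, Finset.map_map, ← range_blk hq]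
      exact ⟨g3 j, rfl⟩
    have h2 := SOn_mono (by rw [← Finset.map_map]; exact Finset.map_subset_map.2 (Finset.subset_univ _) :
      Finset.univ.map (e123.trans (f0 hn4)) ⊆ T0) this
    rwa [hT0, ← range_blk hq] at h2
  choose z hz using hz
  obtain ⟨c, hc⟩ : ∃ c : Cfsg.SU 4 F q, blk (f0 hn4) c = permSU (cyc3 hn4) := by
    have : (permSU (cyc3 hn4) : Cfsg.SU n F q) ∈ SOn T0 := by
      intro i hi
      have hfix : (cyc3 hn4 : Perm (Fin n)) i = i := by
        have hne : ∀ a : Fin 4, i ≠ pt hn4 a := fun a e => hi (Finset.mem_map.2 ⟨a, Finset.mem_univ a, e.symm⟩)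
        simp [cyc3, swap_apply_of_ne_of_ne, hne]
      funext j
      obtain ⟨j, rfl⟩ := (cyc3 hn4 : Perm (Fin n)).surjective j
      rw [act_permSU]
      simp only [Pi.single_apply]
      conv_rhs => rw [← hfix]
      simp only [(cyc3 hn4 : Perm (Fin n)).injective.eq_iff]
    rwa [hT0, ← range_blk hq] at this
  -- relations
  let i4 : FreeGroup (Fin k4) →* FreeGroup (Fin (k4 + 2)) := FreeGroup.map (Fin.castAdd 2)
  let iA : FreeGroup (Fin 2) →* FreeGroup (Fin (k4 + 2)) := FreeGroup.map (Fin.natAdd k4)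
  let P : alternatingGroup (Fin n) → FreeGroup (Fin (k4 + 2)) := fun σ => iA (Wa σ)
  let Q : Cfsg.SU 4 F q → FreeGroup (Fin (k4 + 2)) := fun x => i4 (W4 x)
  let L1 : List (FreeGroup (Fin (k4 + 2)) × FreeGroup (Fin (k4 + 2))) :=
    (List.ofFn fun i : Fin 5 => List.ofFn fun j : Fin k4 =>
      (P (s i) * i4 (FreeGroup.of j) * (P (s i))⁻¹, Q (y i j))).flatten
  let L2 : List (FreeGroup (Fin (k4 + 2)) × FreeGroup (Fin (k4 + 2))) :=
    List.ofFn fun j => (P τ * Q (z j) * (P τ)⁻¹, Q (blk e123 (g3 j)))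
  let L3 : List (FreeGroup (Fin (k4 + 2)) × FreeGroup (Fin (k4 + 2))) :=
    (List.ofFn fun i : Fin k3 => List.ofFn fun j : Fin km =>
      (Q (blk e012 (g3 i)) * (P ρ * Q (blk em (gm j)) * (P ρ)⁻¹),
        P ρ * Q (blk em (gm j)) * (P ρ)⁻¹ * Q (blk e012 (g3 i)))).flatten
  let L4 : List (FreeGroup (Fin (k4 + 2)) × FreeGroup (Fin (k4 + 2))) := [(P (cyc3 hn4), Q c)]
  let LR : List (FreeGroup (Fin (k4 + 2)) × FreeGroup (Fin (k4 + 2))) :=
    rels4.toList.map (fun r => (i4 r, 1)) ++ (relsA.toList.map (fun r => (iA r, 1)) ++ (L1 ++ (L2 ++ (L3 ++ L4))))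
  have hlen : LR.length ≤ r4 + 6 + 5 * k4 + k3 + k3 * km + 1 := by
    have h1 : L1.length = 5 * k4 := by simp [L1]; omega
    have h2 : L3.length = k3 * km := by simp [L3, List.length_flatten, List.sum_ofFn]
    simp only [LR, List.length_append, List.length_map, Finset.length_toList, h1, h2, L2, L4, List.length_ofFn,
      List.length_cons, List.length_nil]
    omega
  let t : Fin (k4 + 2) → Cfsg.SU n F q := Fin.append (fun j => blk (f0 hn4) (t4 j)) fun i => permSU (ta i)
  have htL : ∀ w, FreeGroup.lift t (i4 w) = blk (f0 hn4) (FreeGroup.lift t4 w) := fun w =>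
    DFunLike.congr_fun (FreeGroup.ext_hom ((FreeGroup.lift t).comp i4) ((blk (f0 hn4)).comp (FreeGroup.lift t4))
      fun i => by simp [t, i4]) w
  have htA : ∀ w, FreeGroup.lift t (iA w) = permSU (FreeGroup.lift ta w) := fun w =>
    DFunLike.congr_fun (FreeGroup.ext_hom ((FreeGroup.lift t).comp iA) (permSU.comp (FreeGroup.lift ta))
      fun i => by simp [t, iA]) w
  have htQ : ∀ x, FreeGroup.lift t (Q x) = blk (f0 hn4) x := fun x => by rw [htL, hW4]
  have htP : ∀ σ, FreeGroup.lift t (P σ) = permSU σ := fun σ => by rw [htA, hWa]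
  have hR0 : Disjoint (Finset.univ.map (e012.trans (f0 hn4))) (Finset.univ.map fm) := by
    rw [Finset.disjoint_left]
    intro i hi hi'
    obtain ⟨a, -, rfl⟩ := Finset.mem_map.1 hi
    obtain ⟨b, -, hb⟩ := Finset.mem_map.1 hi'
    have := congrArg Fin.val hb
    change 3 + (b : ℕ) = (a : ℕ) at this
    omega
  have hold : ∀ e ∈ LR, FreeGroup.lift t e.1 = FreeGroup.lift t e.2 := by
    intro e he
    simp only [LR, List.mem_append, List.mem_map, Finset.mem_toList] at he
    rcases he with ⟨r, hr, rfl⟩ | ⟨r, hr, rfl⟩ | he | he | he | he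
    · rw [htL, ht4, PresentedGroup.one_of_mem hr, map_one, map_one, map_one]
    · have : FreeGroup.lift ta r = eA (PresentedGroup.mk _ r) :=
        DFunLike.congr_fun (FreeGroup.ext_hom (FreeGroup.lift ta)
          (eA.toMonoidHom.comp (PresentedGroup.mk _)) fun i => by simp [← heA i]; rfl) r
      rw [htA, this, PresentedGroup.one_of_mem hr, map_one, map_one, map_one]
    · simp only [L1, List.mem_flatten, List.mem_ofFn] at he
      obtain ⟨_, ⟨i, rfl⟩, he⟩ := he
      obtain ⟨j, rfl⟩ := List.mem_ofFn.1 he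
      rw [map_mul, map_mul, map_inv, htP, htQ, htL, FreeGroup.lift_apply_of, hy]
    · simp only [L2, List.mem_ofFn] at he
      obtain ⟨j, rfl⟩ := he
      rw [map_mul, map_mul, map_inv, htP, htQ, htQ, hz, map_inv, inv_inv]
      group
    · simp only [L3, List.mem_flatten, List.mem_ofFn] at he
      obtain ⟨_, ⟨i, rfl⟩, he⟩ := he
      obtain ⟨j, rfl⟩ := List.mem_ofFn.1 he
      simp only [map_mul, map_inv, htP, htQ]
      refine (commute_of_disjoint hF hR0 ?_ ?_).eq
      · rw [blk_blk, ← range_blk hq]; exact ⟨g3 i, rfl⟩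
      · rw [blk_blk, permSU_blk, ← hρ, ← range_blk hq]; exact ⟨gm j, rfl⟩
    · simp only [L4, List.mem_singleton] at he
      subst he
      rw [htP, htQ, hc]
  -- the presented group
  refine ⟨(LR.map fun e => e.1 * e.2⁻¹).toFinset,
    (List.toFinset_card_le _).trans ((List.length_map _).le.trans hlen), ?_⟩
  set rels : Set (FreeGroup (Fin (k4 + 2))) := ↑((LR.map fun e => e.1 * e.2⁻¹).toFinset) with hrels
  have hrel : ∀ r ∈ rels, FreeGroup.lift t r = 1 := by
    intro r hr
    rw [hrels, Finset.mem_coe, List.mem_toFinset, List.mem_map] at hr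
    obtain ⟨e, he', rfl⟩ := hr
    rw [map_mul, map_inv, hold e he', mul_inv_cancel]
  let Φ : PresentedGroup rels →* Cfsg.SU n F q := PresentedGroup.toGroup hrel
  set π := PresentedGroup.mk rels with hπdef
  have hπ : ∀ e ∈ LR, π e.1 = π e.2 := fun e he' => PresentedGroup.mk_eq_mk_of_mul_inv_mem (by
    rw [hrels, Finset.mem_coe, List.mem_toFinset, List.mem_map]
    exact ⟨e, he', rfl⟩)
  simp only [LR, List.forall_mem_append] at hπ
  obtain ⟨hπ4, hπA, hπ1, hπ2, hπ3, hπc⟩ := hπ
  let φ₀ : PresentedGroup (↑rels4 : Set (FreeGroup (Fin k4))) →* PresentedGroup rels :=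
    PresentedGroup.toGroup (f := fun i => π (i4 (FreeGroup.of i))) fun r hr => by
      have l : FreeGroup.lift (fun i => π (i4 (FreeGroup.of i))) = π.comp i4 :=
        FreeGroup.ext_hom _ _ fun i => by simp
      rw [l]
      simpa using hπ4 (i4 r, 1) (List.mem_map.2 ⟨r, Finset.mem_toList.2 hr, rfl⟩)
  let φ : Cfsg.SU 4 F q →* PresentedGroup rels := φ₀.comp e4.symm.toMonoidHom
  let ι₀ : PresentedGroup (↑relsA : Set (FreeGroup (Fin 2))) →* PresentedGroup rels :=
    PresentedGroup.toGroup (f := fun i => π (iA (FreeGroup.of i))) fun r hr => by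
      have l : FreeGroup.lift (fun i => π (iA (FreeGroup.of i))) = π.comp iA :=
        FreeGroup.ext_hom _ _ fun i => by simp
      rw [l]
      simpa using hπA (iA r, 1) (List.mem_map.2 ⟨r, Finset.mem_toList.2 hr, rfl⟩)
  let ι : alternatingGroup (Fin n) →* PresentedGroup rels := ι₀.comp eA.symm.toMonoidHom
  have hi4 : ∀ w, π (i4 w) = φ (FreeGroup.lift t4 w) := fun w =>
    DFunLike.congr_fun (FreeGroup.ext_hom (π.comp i4) (φ.comp (FreeGroup.lift t4)) fun i => by
      show π (i4 (FreeGroup.of i)) = φ₀ (e4.symm (FreeGroup.lift t4 (FreeGroup.of i)))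
      rw [FreeGroup.lift_apply_of, MulEquiv.symm_apply_apply, PresentedGroup.toGroup.of]) w
  have hiA : ∀ w, π (iA w) = ι (FreeGroup.lift ta w) := fun w =>
    DFunLike.congr_fun (FreeGroup.ext_hom (π.comp iA) (ι.comp (FreeGroup.lift ta)) fun i => by
      show π (iA (FreeGroup.of i)) = ι₀ (eA.symm (FreeGroup.lift ta (FreeGroup.of i)))
      rw [FreeGroup.lift_apply_of, ← heA i, MulEquiv.symm_apply_apply, PresentedGroup.toGroup.of]) w
  have hπQ : ∀ x, π (Q x) = φ x := fun x => by rw [hi4, hW4]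
  have hπP : ∀ σ, π (P σ) = ι σ := fun σ => by rw [hiA, hWa]
  have hΦφ : ∀ x, Φ (φ x) = blk (f0 hn4) x := fun x => by rw [← hπQ, ← htQ]; rfl
  have hΦι : ∀ σ, Φ (ι σ) = permSU σ := fun σ => by rw [← hπP, ← htP]; rfl
  have : Finite (Cfsg.SU 4 F q) := inferInstance
  -- the setwise stabiliser normalises the block
  have hnorm : ∀ σ : alternatingGroup (Fin n), T0.map (σ : Perm (Fin n)).toEmbedding = T0 →
      ι σ ∈ Subgroup.normalizer (φ.range : Set (PresentedGroup rels)) := by
    intro σ hσ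
    refine (Subgroup.closure_le ((Subgroup.normalizer (φ.range : Set (PresentedGroup rels))).comap ι)).2 ?_
      (hsgen σ hσ)
    rintro _ ⟨i, rfl⟩
    show ι (s i) ∈ Subgroup.normalizer (φ.range : Set (PresentedGroup rels))
    have hle : φ.range.map (MulAut.conj (ι (s i))).toMonoidHom ≤ φ.range := by
      rw [Subgroup.map_le_iff_le_comap]
      rintro _ ⟨x, rfl⟩
      refine (Subgroup.closure_le ((φ.range.comap (MulAut.conj (ι (s i))).toMonoidHom).comap φ)).2 ?_
        ((show Subgroup.closure (Set.range t4) = ⊤ by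
          rw [← FreeGroup.range_lift_eq_closure, MonoidHom.range_eq_top]
          exact fun x => ⟨W4 x, hW4 x⟩).ge (Subgroup.mem_top x))
      rintro _ ⟨j, rfl⟩
      show ι (s i) * φ (t4 j) * (ι (s i))⁻¹ ∈ φ.range
      have := hπ1 (P (s i) * i4 (FreeGroup.of j) * (P (s i))⁻¹, Q (y i j)) (List.mem_flatten.2
        ⟨_, List.mem_ofFn.2 ⟨i, rfl⟩, List.mem_ofFn.2 ⟨j, rfl⟩⟩)
      simp only [map_mul, map_inv, hπP, hπQ, hi4, FreeGroup.lift_apply_of] at this
      exact ⟨y i j, this.symm⟩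
    have : Finite φ.range := Finite.of_surjective φ.rangeRestrict φ.rangeRestrict_surjective
    have heq : φ.range.map (MulAut.conj (ι (s i))).toMonoidHom = φ.range :=
      Subgroup.eq_of_le_of_card_ge hle (Subgroup.card_map_of_injective (MulEquiv.injective _)).ge
    exact Subgroup.mem_normalizer_iff_map_conj_eq.2 heq
  have hex : ∀ T : Finset (Fin n), T.card = 4 → ∃ σ : alternatingGroup (Fin n),
      T0.map (σ : Perm (Fin n)).toEmbedding = T := fun T hT => exists_to_four hn4 hT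
  choose sel hsel using hex
  let B : Finset (Fin n) → Subgroup (PresentedGroup rels) := fun T =>
    if h : T.card = 4 then φ.range.map (MulAut.conj (ι (sel T h))).toMonoidHom else ⊥
  have hB : ∀ σ : alternatingGroup (Fin n),
      B (T0.map (σ : Perm (Fin n)).toEmbedding) = φ.range.map (MulAut.conj (ι σ)).toMonoidHom := by
    intro σ
    have h : (T0.map (σ : Perm (Fin n)).toEmbedding).card = 4 := by
      rw [Finset.card_map, hT0, Finset.card_map, Finset.card_univ, Fintype.card_fin]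
    simp only [B, dif_pos h]
    set σ' := sel _ h
    have hfix : T0.map ((σ⁻¹ * σ' : alternatingGroup (Fin n)) : Perm (Fin n)).toEmbedding = T0 := by
      refine Finset.map_injective (σ : Perm (Fin n)).toEmbedding ?_
      rw [Finset.map_map]
      refine Eq.trans ?_ (hsel _ h)
      congr 1
      refine DFunLike.ext _ _ fun x => ?_
      simp [σ']
    have := Subgroup.mem_normalizer_iff_map_conj_eq.1 (hnorm _ hfix)
    conv_rhs => rw [← this]
    rw [Subgroup.map_map]
    congr 1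
    refine MonoidHom.ext fun x => ?_
    simp [map_mul, map_inv, mul_assoc, σ']
  have memB : ∀ σ : alternatingGroup (Fin n), ∀ x, ι σ * φ x * (ι σ)⁻¹ ∈ B (T0.map (σ : Perm (Fin n)).toEmbedding) :=
    fun σ x => by rw [hB]; exact ⟨φ x, ⟨x, rfl⟩, rfl⟩
  have hBmem : ∀ T : Finset (Fin n), T.card = 4 → ∀ g ∈ B T, ∃ σ : alternatingGroup (Fin n), ∃ x,
      T0.map (σ : Perm (Fin n)).toEmbedding = T ∧ g = ι σ * φ x * (ι σ)⁻¹ ∧
      Φ g = blk ((f0 hn4).trans (σ : Perm (Fin n)).toEmbedding) x := by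
    intro T h g hg
    simp only [B, dif_pos h] at hg
    obtain ⟨_, ⟨x, rfl⟩, rfl⟩ := hg
    refine ⟨sel T h, x, hsel T h, rfl, ?_⟩
    show Φ (ι (sel T h) * φ x * (ι (sel T h))⁻¹) = _
    rw [map_mul, map_mul, map_inv, hΦι, hΦφ, permSU_blk]
  have hinj : ∀ T : Finset (Fin n), T.card = 4 → ∀ a ∈ B T, ∀ b ∈ B T, Φ a = Φ b → a = b := by
    intro T h a ha b hb e
    simp only [B, dif_pos h] at ha hb
    obtain ⟨_, ⟨x, rfl⟩, rfl⟩ := ha
    obtain ⟨_, ⟨x', rfl⟩, rfl⟩ := hb
    change Φ (ι (sel T h) * φ x * (ι (sel T h))⁻¹) = Φ (ι (sel T h) * φ x' * (ι (sel T h))⁻¹) at e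
    rw [map_mul, map_mul, map_inv, map_mul, map_mul, map_inv, mul_right_cancel_iff, mul_left_cancel_iff, hΦφ, hΦφ] at e
    rw [blk_injective _ e]
  have hsurjB : ∀ T : Finset (Fin n), T.card = 4 → ∀ x ∈ (SOn T : Subgroup (Cfsg.SU n F q)), ∃ g ∈ B T, Φ g = x := by
    intro T h x hx
    obtain ⟨σ, hσ⟩ := exists_to_four hn4 h
    rw [← hσ, Finset.map_map, ← range_blk hq] at hx
    obtain ⟨x, rfl⟩ := hx
    exact ⟨_, hσ ▸ memB σ x, by rw [map_mul, map_mul, map_inv, hΦι, hΦφ, permSU_blk]⟩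
  -- adjacent blocks
  have hadj : ∀ T T' : Finset (Fin n), T.card = 4 → T'.card = 4 → (T ∩ T').card = 3 →
      ∀ a ∈ B T, Φ a ∈ SOn (T ∩ T') → a ∈ B T' := by
    intro T T' h h' h3 a ha hsup
    obtain ⟨σ, hσT, hσT', hσI⟩ := exists_adjacent hn h h' h3
    rw [← hσT, hB] at ha
    obtain ⟨_, ⟨x, rfl⟩, rfl⟩ := ha
    change Φ (ι σ * φ x * (ι σ)⁻¹) ∈ _ at hsup
    have hx : ∃ x', blk e123 x' = x := by
      refine exists_sub hq ((f0 hn4).trans (σ : Perm (Fin n)).toEmbedding) e123 ?_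
      rw [map_mul, map_mul, map_inv, hΦι, hΦφ, permSU_blk, ← hσI, ← h123, Finset.map_map] at hsup
      rwa [← Function.Embedding.trans_assoc]
    obtain ⟨x', rfl⟩ := hx
    have hmem : φ (blk e123 x') ∈ φ.range.map (MulAut.conj (ι τ)).toMonoidHom := by
      refine (Subgroup.closure_le (((φ.range.map (MulAut.conj (ι τ)).toMonoidHom).comap φ).comap (blk e123))).2 ?_
        (hg3.ge (Subgroup.mem_top x'))
      rintro _ ⟨j, rfl⟩
      have := hπ2 (P τ * Q (z j) * (P τ)⁻¹, Q (blk e123 (g3 j))) (List.mem_ofFn.2 ⟨j, rfl⟩)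
      simp only [map_mul, map_inv, hπP, hπQ] at this
      exact ⟨φ (z j), ⟨z j, rfl⟩, this⟩
    obtain ⟨_, ⟨x'', rfl⟩, hx''⟩ := hmem
    change ι τ * φ x'' * (ι τ)⁻¹ = _ at hx''
    have : T' = T0.map ((σ * τ : alternatingGroup (Fin n)) : Perm (Fin n)).toEmbedding := by
      rw [← hσT', ← hτT0, Finset.map_map]
      congr 1
    show ι σ * φ (blk e123 x') * (ι σ)⁻¹ ∈ B T'
    rw [this, ← hx'']
    have := memB (σ * τ) x''
    convert this using 1
    rw [map_mul]; group
  have hagree : ∀ T T' : Finset (Fin n), T.card = 4 → T'.card = 4 → ∀ a ∈ B T, ∀ b ∈ B T', Φ a = Φ b → a = b := by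
    intro T T' h h' a ha b hb e
    induction hd : (T \ T').card generalizing T a with
    | zero =>
      obtain rfl : T = T' := Finset.eq_of_subset_of_card_le
        (Finset.sdiff_eq_empty_iff_subset.1 (Finset.card_eq_zero.1 hd)) (by omega)
      exact hinj T h a ha b hb e
    | succ d ih =>
      obtain ⟨u, hu⟩ : (T \ T').Nonempty := Finset.card_pos.1 (by omega)
      obtain ⟨w, hw⟩ : (T' \ T).Nonempty := Finset.card_pos.1 (by
        have h1 := Finset.card_sdiff_add_card_inter T T'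
        have h2 := Finset.card_sdiff_add_card_inter T' T
        rw [Finset.inter_comm] at h2
        omega)
      obtain ⟨huT, huT'⟩ := Finset.mem_sdiff.1 hu
      obtain ⟨hwT', hwT⟩ := Finset.mem_sdiff.1 hw
      set T2 := insert w (T.erase u) with hT2
      have h2 : T2.card = 4 := by
        rw [hT2, Finset.card_insert_of_notMem (fun hh => hwT (Finset.mem_of_mem_erase hh)),
          Finset.card_erase_of_mem huT]
        omega
      have hi : T ∩ T2 = T.erase u := by
        ext i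
        simp only [hT2, Finset.mem_inter, Finset.mem_insert, Finset.mem_erase]
        constructor
        · rintro ⟨hi, rfl | hi'⟩
          · exact absurd hi hwT
          · exact hi'
        · exact fun hi => ⟨hi.2, Or.inr hi⟩
      have h3 : (T ∩ T2).card = 3 := by rw [hi, Finset.card_erase_of_mem huT]; omega
      have hsup : Φ a ∈ SOn (T ∩ T2) := by
        have h12 : Φ a ∈ SOn (T ∩ T') := by
          obtain ⟨σ, x, hσ, -, hΦ⟩ := hBmem T h a ha
          obtain ⟨σ', x', hσ', -, hΦ'⟩ := hBmem T' h' b hb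
          refine SOn_inf ?_ ?_
          · rw [hΦ, ← hσ, Finset.map_map, ← range_blk hq]; exact ⟨x, rfl⟩
          · rw [e, hΦ', ← hσ', Finset.map_map, ← range_blk hq]; exact ⟨x', rfl⟩
        refine SOn_mono ?_ h12
        rw [hi]
        intro i hi'
        obtain ⟨h1, h2⟩ := Finset.mem_inter.1 hi'
        exact Finset.mem_erase.2 ⟨fun e => huT' (e ▸ h2), h1⟩
      refine ih T2 h2 a (hadj T T2 h h2 h3 a ha hsup) e ?_
      have : T2 \ T' = (T \ T').erase u := by
        ext i
        simp only [hT2, Finset.mem_sdiff, Finset.mem_insert, Finset.mem_erase]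
        constructor
        · rintro ⟨rfl | hi, hiT'⟩
          · exact absurd hwT' hiT'
          · exact ⟨hi.1, hi.2, hiT'⟩
        · exact fun hi => ⟨Or.inr ⟨hi.1, hi.2.1⟩, hi.2.2⟩
      rw [this, Finset.card_erase_of_mem hu, hd]
      rfl
  -- disjoint supports
  have hcore : ∀ x3 : Cfsg.SU 3 F q, ∀ xm : Cfsg.SU m F q,
      Commute (φ (blk e012 x3)) (ι ρ * φ (blk em xm) * (ι ρ)⁻¹) := by
    intro x3 xm
    refine Subgroup.mem_centralizer_singleton_iff.1
      ((Subgroup.closure_le ((Subgroup.centralizer ({ι ρ * φ (blk em xm) * (ι ρ)⁻¹} : Set _)).comap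
        (φ.comp (blk e012)))).2 ?_ (hg3.ge (Subgroup.mem_top x3)))
    rintro _ ⟨i, rfl⟩
    refine Subgroup.mem_centralizer_singleton_iff.2 ?_
    refine (Subgroup.mem_centralizer_singleton_iff.1
      ((Subgroup.closure_le ((Subgroup.centralizer ({φ (blk e012 (g3 i))} : Set _)).comap
        (((MulAut.conj (ι ρ)).toMonoidHom.comp φ).comp (blk em)))).2 ?_ (hgm.ge (Subgroup.mem_top xm)))).symm
    rintro _ ⟨j, rfl⟩
    refine Subgroup.mem_centralizer_singleton_iff.2 ?_
    have := hπ3 (Q (blk e012 (g3 i)) * (P ρ * Q (blk em (gm j)) * (P ρ)⁻¹),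
      P ρ * Q (blk em (gm j)) * (P ρ)⁻¹ * Q (blk e012 (g3 i)))
      (List.mem_flatten.2 ⟨_, List.mem_ofFn.2 ⟨i, rfl⟩, List.mem_ofFn.2 ⟨j, rfl⟩⟩)
    simp only [map_mul, map_inv, hπP, hπQ] at this
    exact this.symm
  let fj : Fin (3 + m) ↪ Fin n := Fin.castLEEmb (by omega)
  have hfj3 : (Fin.castAddEmb m).trans fj = e012.trans (f0 hn4) := DFunLike.ext _ _ fun i => Fin.ext rfl
  have hfjm : (Fin.natAddEmb 3).trans fj = fm := DFunLike.ext _ _ fun i => Fin.ext rfl
  have hcomm3 : ∀ R1 R2 : Finset (Fin n), R1.card = 3 → R2.card = m → Disjoint R1 R2 →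
      ∀ T T' : Finset (Fin n), T.card = 4 → T'.card = 4 → ∀ a ∈ B T, ∀ b ∈ B T', Φ a ∈ SOn R1 → Φ b ∈ SOn R2 →
        Commute a b := by
    intro R1 R2 h1 h2 hd T T' hT hT' a ha b hb haR hbR
    let o1 := (R1.orderEmbOfFin h1).toEmbedding
    let o2 := (R2.orderEmbOfFin h2).toEmbedding
    have ho1 : Finset.univ.map o1 = R1 := by simp [o1]
    have ho2 : Finset.univ.map o2 = R2 := by simp [o2]
    let g : Fin (3 + m) ↪ Fin n := ⟨Fin.append o1 o2, by
      refine Fin.append_injective_iff.2 ⟨o1.injective, o2.injective, fun i j e => ?_⟩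
      exact Finset.disjoint_left.1 hd (ho1 ▸ Finset.mem_map_of_mem o1 (Finset.mem_univ i))
        (e ▸ ho2 ▸ Finset.mem_map_of_mem o2 (Finset.mem_univ j))⟩
    have hg1 : (Fin.castAddEmb m).trans g = o1 := DFunLike.ext _ _ fun i => Fin.append_left _ _ i
    have hg2 : (Fin.natAddEmb 3).trans g = o2 := DFunLike.ext _ _ fun i => Fin.append_right _ _ i
    let a0 : Fin 3 := 0
    let b0 : Fin 3 := 1
    obtain ⟨σ, hσ⟩ : ∃ σ : alternatingGroup (Fin n),
        Finset.univ.map ((e012.trans (f0 hn4)).trans (σ : Perm (Fin n)).toEmbedding) = R1 ∧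
        Finset.univ.map (fm.trans (σ : Perm (Fin n)).toEmbedding) = R2 := by
      obtain ⟨σ, h | h⟩ := exists_even_map fj g (Fin.castAdd m a0) (Fin.castAdd m b0) (by
        simp [Fin.ext_iff, a0, b0])
      · refine ⟨σ, ?_, ?_⟩
        · rw [← hfj3, Function.Embedding.trans_assoc, h, hg1, ho1]
        · rw [← hfjm, Function.Embedding.trans_assoc, h, hg2, ho2]
      · refine ⟨σ, ?_, ?_⟩
        · rw [← hfj3, Function.Embedding.trans_assoc, h, ← Function.Embedding.trans_assoc,
            show (Fin.castAddEmb m).trans (Equiv.swap (Fin.castAdd m a0) (Fin.castAdd m b0)).toEmbedding =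
              (Equiv.swap a0 b0).toEmbedding.trans (Fin.castAddEmb m) from DFunLike.ext _ _ fun i =>
                (Fin.castAdd_injective 3 m).swap_apply a0 b0 i,
            Function.Embedding.trans_assoc, hg1, ← Finset.map_map, Finset.map_univ_equiv, ho1]
        · rw [← hfjm, Function.Embedding.trans_assoc, h, ← Function.Embedding.trans_assoc,
            show (Fin.natAddEmb 3).trans (Equiv.swap (Fin.castAdd m a0) (Fin.castAdd m b0)).toEmbedding =
              (Fin.natAddEmb 3 : Fin m ↪ Fin (3 + m)) from DFunLike.ext _ _ fun i => by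
                refine swap_apply_of_ne_of_ne ?_ ?_ <;> simp [Fin.ext_iff, a0, b0] <;> omega,
            hg2, ho2]
    obtain ⟨hσ1, hσ2⟩ := hσ
    have h1' : Φ a ∈ SOn (Finset.univ.map (e012.trans ((f0 hn4).trans (σ : Perm (Fin n)).toEmbedding))) := by
      rw [← Function.Embedding.trans_assoc, hσ1]; exact haR
    have h2' : Φ b ∈ SOn (Finset.univ.map (em.trans
        ((f0 hn4).trans ((σ * ρ : alternatingGroup (Fin n)) : Perm (Fin n)).toEmbedding))) := by
      have : Finset.univ.map (em.trans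
          ((f0 hn4).trans ((σ * ρ : alternatingGroup (Fin n)) : Perm (Fin n)).toEmbedding)) = R2 := by
        rw [← hσ2, ← Finset.map_map (f := fm), ← hρ, Finset.map_map]
        congr 1
      rw [this]; exact hbR
    obtain ⟨x3, hx3⟩ : ∃ x3, blk (e012.trans ((f0 hn4).trans (σ : Perm (Fin n)).toEmbedding)) x3 = Φ a := by
      rw [← range_blk hq] at h1'; exact h1'
    obtain ⟨xm, hxm⟩ : ∃ xm, blk (em.trans
        ((f0 hn4).trans ((σ * ρ : alternatingGroup (Fin n)) : Perm (Fin n)).toEmbedding)) xm = Φ b := by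
      rw [← range_blk hq] at h2'; exact h2'
    have hc4 : ∀ σ' : alternatingGroup (Fin n), (T0.map (σ' : Perm (Fin n)).toEmbedding).card = 4 := fun σ' => by
      rw [Finset.card_map, hT0, Finset.card_map, Finset.card_univ, Fintype.card_fin]
    have ea : a = ι σ * φ (blk e012 x3) * (ι σ)⁻¹ := hagree T _ hT (hc4 σ) a ha _ (memB σ _) (by
      rw [← hx3, map_mul, map_mul, map_inv, hΦι, hΦφ, permSU_blk, blk_blk])
    have eb : b = ι (σ * ρ) * φ (blk em xm) * (ι (σ * ρ))⁻¹ := hagree T' _ hT' (hc4 _) b hb _ (memB _ _) (by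
      rw [← hxm, map_mul, map_mul, map_inv, hΦι, hΦφ, permSU_blk, blk_blk])
    have := (hcore x3 xm).map (MulAut.conj (ι σ)).toMonoidHom
    rw [ea, eb, map_mul]
    simpa [mul_assoc] using this
  have hblocks : Blocks Φ B := by
    refine ⟨fun T h g hg => ?_, hsurjB, hagree, fun R R' hR hR' hd T T' hT hT' _ _ a ha b hb haR hbR => ?_⟩
    · obtain ⟨σ, x, hσ, -, hΦ⟩ := hBmem T h g hg
      rw [hΦ, ← hσ, Finset.map_map, ← range_blk hq]
      exact ⟨x, rfl⟩
    have hle : (R ∪ R').card ≤ n := (Finset.card_le_univ _).trans (Fintype.card_fin n).le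
    have hu := Finset.card_union_of_disjoint hd
    have ext : ∀ A A' : Finset (Fin n), Disjoint A A' → A.card ≤ 3 → A'.card ≤ m →
        ∃ A1 A2 : Finset (Fin n), A ⊆ A1 ∧ A' ⊆ A2 ∧ A1.card = 3 ∧ A2.card = m ∧ Disjoint A1 A2 := by
      intro A A' hAA h1 h2
      obtain ⟨A1, hs1, ht1, hc1⟩ := Finset.exists_subsuperset_card_eq (s := A) (t := A'ᶜ) (n := 3)
        (by intro i hi; exact Finset.mem_compl.2 fun h => Finset.disjoint_left.1 hAA hi h) h1
        (by rw [Finset.card_compl, Fintype.card_fin]; omega)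
      obtain ⟨A2, hs2, ht2, hc2⟩ := Finset.exists_subsuperset_card_eq (s := A') (t := A1ᶜ) (n := m)
        (by intro i hi; exact Finset.mem_compl.2 fun h => Finset.mem_compl.1 (ht1 h) hi) h2
        (by rw [Finset.card_compl, Fintype.card_fin, hc1]; omega)
      exact ⟨A1, A2, hs1, hs2, hc1, hc2,
        Finset.disjoint_left.2 fun i h h' => Finset.mem_compl.1 (ht2 h') h⟩
    by_cases hsm : R'.card ≤ m
    · obtain ⟨A1, A2, s1, s2, c1, c2, d⟩ := ext R R' hd hR hsm
      exact hcomm3 A1 A2 c1 c2 d T T' hT hT' a ha b hb (SOn_mono s1 haR) (SOn_mono s2 hbR)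
    · obtain ⟨A1, A2, s1, s2, c1, c2, d⟩ := ext R' R hd.symm hR' (by omega)
      exact (hcomm3 A1 A2 c1 c2 d T' T hT' hT b hb a ha (SOn_mono s1 hbR) (SOn_mono s2 haR)).symm
  -- conclusion
  set K := KB B (Finset.univ : Finset (Fin n)) with hK
  have hS : 4 ≤ (Finset.univ : Finset (Fin n)).card := by rw [Finset.card_univ, Fintype.card_fin]; exact hn4
  have hφK : ∀ x, φ x ∈ K := fun x =>
    Subgroup.subset_closure ⟨T0, Finset.subset_univ _, by rw [hT0, Finset.card_map, Finset.card_univ, Fintype.card_fin],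
      by
        have := memB 1 x
        simp only [map_one, one_mul, inv_one, mul_one] at this
        convert this using 2
        rw [show ((1 : alternatingGroup (Fin n)) : Perm (Fin n)).toEmbedding = Function.Embedding.refl _ from rfl,
          Finset.map_refl]⟩
  have hιK : ∀ σ g, g ∈ K → ι σ * g * (ι σ)⁻¹ ∈ K := by
    intro σ g hg
    refine (Subgroup.closure_le (K.comap (MulAut.conj (ι σ)).toMonoidHom)).2 ?_ hg
    rintro g ⟨T, -, hT, hg⟩
    obtain ⟨σ', x, hσ', rfl, -⟩ := hBmem T hT g hg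
    refine Subgroup.subset_closure ⟨T0.map ((σ * σ' : alternatingGroup (Fin n)) : Perm (Fin n)).toEmbedding,
      Finset.subset_univ _, by rw [Finset.card_map, hT0, Finset.card_map, Finset.card_univ, Fintype.card_fin], ?_⟩
    show ι σ * (ι σ' * φ x * (ι σ')⁻¹) * (ι σ)⁻¹ ∈ _
    have := memB (σ * σ') x
    convert this using 1
    rw [map_mul]; group
  have hιtop : ∀ σ, ι σ ∈ K := by
    have := alternatingGroup.isSimpleGroup (α := Fin n) (by rw [Nat.card_fin]; exact hn)
    let N : Subgroup (alternatingGroup (Fin n)) := K.comap ι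
    have hN : N.Normal := ⟨fun a ha σ => by
      show ι (σ * a * σ⁻¹) ∈ K
      rw [map_mul, map_mul, map_inv]
      exact hιK σ _ ha⟩
    rcases hN.eq_bot_or_eq_top with h | h
    · exfalso
      have hmem : cyc3 hn4 ∈ N := by
        show ι (cyc3 hn4) ∈ K
        have := hπc (P (cyc3 hn4), Q c) (List.mem_singleton.2 rfl)
        rw [hπP, hπQ] at this
        rw [this]; exact hφK c
      rw [h, Subgroup.mem_bot] at hmem
      have h' : (cyc3 hn4 : Perm (Fin n)) (pt hn4 0) = pt hn4 0 := by rw [hmem]; rfl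
      rw [cyc3_apply] at h'
      exact (pt_injective hn4).ne (show (1 : Fin 4) ≠ 0 by decide) h'
    · exact fun σ => (h.ge (Subgroup.mem_top σ) : σ ∈ N)
  have hKtop : K = ⊤ := by
    rw [eq_top_iff, ← PresentedGroup.closure_range_of rels, Subgroup.closure_le]
    rintro _ ⟨i, rfl⟩
    refine Fin.addCases (m := k4) (n := 2) (fun j => ?_) (fun j => ?_) i
    · have : π (i4 (FreeGroup.of j)) ∈ K := by rw [hi4]; exact hφK _
      simp only [i4, FreeGroup.map.of] at this
      exact this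
    · have : π (iA (FreeGroup.of j)) ∈ K := by rw [hiA]; exact hιtop _
      simp only [iA, FreeGroup.map.of] at this
      exact this
  refine ⟨MulEquiv.ofBijective Φ ⟨(injective_iff_map_eq_one Φ).2 fun g hg => ?_, fun x => ?_⟩⟩
  · exact hblocks.injective hF Finset.univ hS g (show g ∈ K by rw [hKtop]; exact Subgroup.mem_top g) hg
  · obtain ⟨g, -, hg⟩ := hblocks.exists_lift hF hS (x := x) (by rw [SOn_univ]; exact Subgroup.mem_top x)
    exact ⟨g, hg⟩

end CfsgLib.Pres.SUn
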