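import Cfsg.Agent.Lib.Pres.SUTwoGens
import Cfsg.Agent.Lib.Pres.SUCenterCyclic
import Cfsg.Agent.Lib.Pres.SUGlueMain
import Cfsg.Agent.Lib.Pres.SUFourPres

/-!
# Presentations of `PSUₙ` with two generators
-/

set_option autoImplicit false

namespace CfsgLib.Pres

variable {F : Type*} [Field F] [Fintype F] {q n : ℕ}

/-- `SUₙ` has four generators and seventy-two relators for `n ≥ 5`. -/
theorem su_pres_four_gens (hF : Fintype.card F = q ^ 2) (hn : 5 ≤ n) : PresBy 4 (Cfsg.SU n F q) 72 := by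
  obtain ⟨g4, hg4⟩ := su_two_gen hF (show 3 ≤ 4 by norm_num) (by omega)
  obtain ⟨g3, hg3⟩ := su_three_gens hF
  have h4 := (SUFour.su_four_pres hF).gens g4 hg4
  rcases Nat.eq_or_lt_of_le hn with rfl | h6
  · obtain ⟨g2, hg2⟩ := su2_three_gens hF
    exact (SUn.su_n_core hF le_rfl h4 g3 hg3 g2 hg2 le_rfl (by norm_num) (by norm_num) (Or.inr rfl)).mono
      (by norm_num)
  · exact (SUn.su_n_core hF hn h4 g3 hg3 g3 hg3 (by norm_num) le_rfl (by omega) (Or.inl rfl)).mono (by norm_num)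

/-- `PSUₙ` has two generators and seventy-five relators. -/
theorem psu_pres_two (hF : Fintype.card F = q ^ 2) (hn : 3 ≤ n) (h32 : ¬ (n = 3 ∧ q = 2)) :
    PresBy 2 (Cfsg.PSU n F q) 75 := by
  obtain ⟨g, hg⟩ := psu_two_gens hF hn fun h h' => h32 ⟨h, h'⟩
  rcases (show n = 3 ∨ n = 4 ∨ 5 ≤ n by omega) with rfl | rfl | h5
  · exact (((SUThree.su_three_pres hF fun h => h32 ⟨rfl, h⟩).psu hF (by norm_num)).gens g hg).mono (by norm_num)
  · exact (((SUFour.su_four_pres hF).psu hF (by norm_num)).gens g hg).mono (by norm_num)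
  · exact (((su_pres_four_gens hF h5).psu hF (by omega)).gens g hg).mono (by norm_num)

end CfsgLib.Pres
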