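import Cfsg.Agent.Lib.Pres.Annih

/-!
# Seven equations for `SL₂`, with the universal property
-/

set_option autoImplicit false

namespace CfsgLib.Pres

open Matrix
open scoped MatrixGroups
open CfsgLib.Classical (uElt uElt_val uElt_add)

/-- Equations with a bound on the groups satisfying them give homomorphisms. -/
theorem exists_hom_of_bound {T : Type*} [Group T] [Finite T] (t : Fin 3 → T)
    (hgen : Subgroup.closure (Set.range t) = ⊤) (L : List (W3 × W3))
    (hold : ∀ e ∈ L, FreeGroup.lift t e.1 = FreeGroup.lift t e.2)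
    (hbound : ∀ (G : Type) [Group G] (π : W3 →* G), Function.Surjective π → (∀ e ∈ L, π e.1 = π e.2) →
      Finite G ∧ Nat.card G ≤ Nat.card T)
    {G : Type*} [Group G] (g : Fin 3 → G) (hg : ∀ e ∈ L, FreeGroup.lift g e.1 = FreeGroup.lift g e.2) :
    ∃ φ : T →* G, ∀ i, φ (t i) = g i := by
  set rels : Set W3 := {r | ∃ e ∈ L, r = e.1 * e.2⁻¹} with hrels
  have hrel : ∀ r ∈ rels, FreeGroup.lift t r = 1 := by
    rintro _ ⟨e, he, rfl⟩
    rw [map_mul, map_inv, hold e he, mul_inv_cancel]
  have hrelg : ∀ r ∈ rels, FreeGroup.lift g r = 1 := by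
    rintro _ ⟨e, he, rfl⟩
    rw [map_mul, map_inv, hg e he, mul_inv_cancel]
  let Φ : PresentedGroup rels →* T := PresentedGroup.toGroup hrel
  have hsurj : Function.Surjective Φ := by
    rw [← MonoidHom.range_eq_top, ← top_le_iff, ← hgen, Subgroup.closure_le]
    rintro _ ⟨i, rfl⟩
    exact ⟨PresentedGroup.of i, PresentedGroup.toGroup.of hrel⟩
  obtain ⟨hfin, hcard⟩ := hbound (PresentedGroup rels) (PresentedGroup.mk rels) (PresentedGroup.mk_surjective rels)
    fun e he => PresentedGroup.mk_eq_mk_of_mul_inv_mem ⟨e, he, rfl⟩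
  let e : PresentedGroup rels ≃* T := MulEquiv.ofBijective Φ ((Nat.bijective_iff_surjective_and_card Φ).2
    ⟨hsurj, le_antisymm hcard (Nat.card_le_card_of_surjective _ hsurj)⟩)
  refine ⟨(PresentedGroup.toGroup hrelg).comp e.symm.toMonoidHom, fun i => ?_⟩
  have : e.symm (t i) = PresentedGroup.of i := by
    rw [MulEquiv.symm_apply_eq]
    exact (PresentedGroup.toGroup.of hrel).symm
  show PresentedGroup.toGroup hrelg (e.symm (t i)) = g i
  rw [this, PresentedGroup.toGroup.of]

variable {F : Type*} [Field F] {p : ℕ} [Fact p.Prime]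

/-- The bound from the five equations in characteristic two. -/
theorem even_bound [Fintype F] [CharP F 2] [Algebra (ZMod 2) F] {n : ℕ} [NeZero n] (z : Fˣ)
    (hz : ∀ y : Fˣ, y ∈ Subgroup.zpowers z) (a : ℕ)
    (B : Module.Basis (Fin n) (ZMod 2) F) (hB : ∀ i : Fin n, B i = (((z : F) ^ 2) ^ 1) ^ (i : ℕ))
    (G : Type) [Group G] (π : W3 →* G) (hπ : Function.Surjective π) (hL : ∀ e ∈ evenEqs z a B, π e.1 = π e.2) :
    Finite G ∧ Nat.card G ≤ Nat.card SL(2, F) := by
  have h2 : (2 : F) = 0 := by exact_mod_cast CharP.cast_eq_zero F 2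
  simp only [evenEqs, List.cons_append, List.nil_append, List.forall_mem_cons, map_mul, map_inv, map_pow,
    map_one, map_wd] at hL
  obtain ⟨hu2, hm, hbr, hh, hrest⟩ := hL
  set u := π lu
  set h := π lh
  set w := π lw
  have hu : u ^ 2 = 1 := by rw [sq]; exact hu2
  have hcomm : ∀ i j : Fin n, Commute (h ^ (1 * (i : ℕ)) * u * (h ^ (1 * (i : ℕ)))⁻¹)
      (h ^ (1 * (j : ℕ)) * u * (h ^ (1 * (j : ℕ)))⁻¹) := by
    intro i j
    by_cases hn : n = 1
    · subst hn; rw [Subsingleton.elim i j]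
    rw [if_neg hn] at hrest
    have hsum := hrest _ (List.mem_singleton_self _)
    simp only [map_mul, map_inv, map_pow] at hsum
    set v := h * u * h⁻¹ with hv
    have hvv : v * v = 1 := by
      rw [hv, show h * u * h⁻¹ * (h * u * h⁻¹) = h * (u * u) * h⁻¹ by group, hu2]; group
    have huv : u * v = v * u := by
      have hsq : (u * v) * (u * v) = 1 := by
        rw [← hsum, show h ^ a * u * (h ^ a)⁻¹ * (h ^ a * u * (h ^ a)⁻¹) = h ^ a * (u * u) * (h ^ a)⁻¹ by group,
          hu2]; group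
      have := eq_inv_of_mul_eq_one_left hsq
      rw [_root_.mul_inv_rev, inv_eq_of_mul_eq_one_right hvv, inv_eq_of_mul_eq_one_right hu2] at this
      exact this
    have e1 : cj h ((1 : ℕ) : ℤ) u = v := by rw [cj_nat, pow_one]
    have e2 : cj h ((a : ℕ) : ℤ) u = u * v := by rw [cj_nat]; exact hsum
    have := commute_powers h u (p := 2) (c := 1) (d := 1) hu (Nat.coprime_one_left 2) (Nat.coprime_one_left 2)
      ((a : ℕ) : ℤ) ((1 : ℕ) : ℤ) (by rw [e1]; exact huv) (by rw [e2, e1, pow_one, pow_one]) (i : ℕ) (j : ℕ)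
    rw [← Nat.cast_mul, ← Nat.cast_mul, cj_nat, cj_nat] at this
    exact this
  have hs : h * u * h⁻¹ = wd h u 1 (coord B ((z : F) ^ 2)) := by
    by_cases hn : n = 1
    · subst hn
      simpa using hm
    · have : 1 < n := by have := NeZero.ne n; omega
      have e := wd_basis h u 1 B ⟨1, this⟩
      rw [hB] at e
      simpa using e.symm
  have hm' : h ^ (1 * n) * u * (h ^ (1 * n))⁻¹ = wd h u 1 (coord B ((((z : F) ^ 2) ^ 1) ^ n)) := by
    rwa [one_mul]
  obtain ⟨υ, hadd, h1, hσ, hwd⟩ := exists_root_map h u 1 (((z : F) ^ 2) ^ 1) ((z : F) ^ 2) B hB hu hcomm hm' hs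
  have hw2 : w * w = 1 := by
    have hconj : w = (u * w) * u * (u * w)⁻¹ := by
      rw [show u * w * u * (u * w)⁻¹ = (u * w * u) * w⁻¹ * u⁻¹ by group, hbr]; group
    rw [hconj, show u * w * u * (u * w)⁻¹ * (u * w * u * (u * w)⁻¹) = u * w * (u * u) * (u * w)⁻¹ by group, hu2]
    group
  have hwi : w⁻¹ = w := inv_eq_of_mul_eq_one_right hw2
  have hui : u⁻¹ = u := inv_eq_of_mul_eq_one_right hu2
  have hυ2 : ∀ c, υ c * υ c = 1 := fun c => by
    have h0 : υ (0 : F) = 1 := by
      have := hadd 0 0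
      rwa [add_zero, left_eq_mul] at this
    rw [← hadd, ← two_mul, h2, zero_mul, h0]
  rw [← hwd, ← hwd] at hh
  set A := υ (z : F)
  set C := υ ((z : F)⁻¹)
  have hA : A⁻¹ = A := inv_eq_of_mul_eq_one_right (hυ2 _)
  have hC : C⁻¹ = C := inv_eq_of_mul_eq_one_right (hυ2 _)
  have hinv : w * h * w⁻¹ = h⁻¹ := by
    rw [hh]
    simp only [_root_.mul_inv_rev, hwi, hA, hC, mul_assoc, hw2, mul_one]
  have hdef : w * C * w⁻¹ = A⁻¹ * h * w * A⁻¹ := by
    rw [hA, hwi, hh, show A * (A * w * C * w * A * w) * w * A = (A * A) * w * C * w * A * (w * w) * A by group,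
      hυ2, hw2, one_mul, mul_one, mul_assoc (w * C * w) A A, hυ2, mul_one]
  obtain ⟨hf, hle, -⟩ := card_le_bruhat h u w z hz υ hadd h1 hσ hinv (by rw [hwi, hui]; exact hbr.symm) hdef
    (closure_images π hπ)
  exact ⟨hf, hle.trans (card_sl F).ge⟩

/-- The five equations hold. -/
theorem even_hold [Fintype F] [CharP F 2] [Algebra (ZMod 2) F] {n : ℕ} [NeZero n] (z : Fˣ)
    (a : ℕ) (ha : n ≠ 1 → ((z : F) ^ 2) ^ a = 1 + (z : F) ^ 2)
    (B : Module.Basis (Fin n) (ZMod 2) F) (hB : ∀ i : Fin n, B i = (((z : F) ^ 2) ^ 1) ^ (i : ℕ)) :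
    ∀ e ∈ evenEqs z a B, FreeGroup.lift (std z) e.1 = FreeGroup.lift (std z) e.2 := by
  have h2 : (2 : F) = 0 := by exact_mod_cast CharP.cast_eq_zero F 2
  have huu : ∀ c : F, uElt c * uElt c = 1 := fun c => by
    rw [← uElt_add, ← two_mul, h2, zero_mul, uElt_zero]
  have hww : wElt F * wElt F = 1 := by
    rw [wElt_sq]
    refine Subtype.ext (Matrix.ext fun i j => ?_)
    rw [Matrix.SpecialLinearGroup.coe_neg, Matrix.neg_apply]
    linear_combination -((1 : Matrix (Fin 2) (Fin 2) F) i j) * h2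
  intro e he
  simp only [evenEqs, List.mem_append, List.mem_cons, List.not_mem_nil, or_false] at he
  rcases he with (rfl | rfl | rfl | rfl) | he
  · simp only [map_mul, map_one, FreeGroup.lift_apply_of, std, Matrix.cons_val_zero]
    exact huu 1
  · simp only [map_mul, map_inv, map_pow, map_wd, FreeGroup.lift_apply_of, std, Matrix.cons_val_zero,
      Matrix.cons_val_one, wd_std z 1 B hB]
    rw [dElt_pow, dElt_conj, mul_one]
    congr 1
    rw [Units.val_pow_eq_pow_val, pow_one, ← pow_mul, ← pow_mul, mul_comm]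
  · simp only [map_mul, FreeGroup.lift_apply_of, std, Matrix.cons_val_zero, Matrix.cons_val]
    have e := wElt_uElt_one (F := F)
    rw [inv_eq_of_mul_eq_one_right hww, inv_eq_of_mul_eq_one_right (huu 1)] at e
    exact e.symm
  · simp only [map_mul, map_wd, FreeGroup.lift_apply_of, std, Matrix.cons_val_zero, Matrix.cons_val_one,
      Matrix.cons_val, wd_std z 1 B hB]
    have e := wElt_uElt_inv z
    rw [inv_eq_of_mul_eq_one_right hww, inv_eq_of_mul_eq_one_right (huu _)] at e
    calc dElt z = (uElt (z : F) * uElt (z : F)) * dElt z * (wElt F * wElt F) := by rw [huu, hww, one_mul, mul_one]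
      _ = uElt (z : F) * ((uElt (z : F) * dElt z * wElt F * uElt (z : F)) * uElt (z : F) * wElt F) := by
          simp only [mul_assoc]
          rw [← mul_assoc (uElt (z : F)) (uElt (z : F)) (wElt F), huu, one_mul]
      _ = _ := by rw [← e]; simp only [mul_assoc]
  · split_ifs at he with hn
    · simp at he
    · rw [List.mem_singleton] at he
      subst he
      simp only [map_mul, map_inv, map_pow, FreeGroup.lift_apply_of, std, Matrix.cons_val_zero,
        Matrix.cons_val_one]
      rw [dElt_pow, dElt_conj, dElt_conj, mul_one, mul_one, ← uElt_add, Units.val_pow_eq_pow_val, ← pow_mul,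
        mul_comm, pow_mul, ha hn]

variable [Algebra (ZMod p) F]

/-- The bound from the equations in odd characteristic. -/
theorem odd_bound [Fintype F] [CharP F p] {n : ℕ} [NeZero n] (z : Fˣ) (hz : ∀ y : Fˣ, y ∈ Subgroup.zpowers z)
    (b : ℕ) (B : Module.Basis (Fin n) (ZMod p) F) (hB : ∀ i : Fin n, B i = (((z : F) ^ 2) ^ b) ^ (i : ℕ))
    (G : Type) [Group G] (π : W3 →* G) (hπ : Function.Surjective π) (hb : ∀ e ∈ baseEqs p z b B, π e.1 = π e.2)
    (hcomm : ∀ i j : Fin n, Commute (π lh ^ (b * (i : ℕ)) * π lu * (π lh ^ (b * (i : ℕ)))⁻¹)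
      (π lh ^ (b * (j : ℕ)) * π lu * (π lh ^ (b * (j : ℕ)))⁻¹)) :
    Finite G ∧ Nat.card G ≤ Nat.card SL(2, F) := by
  simp only [baseEqs, List.forall_mem_cons, map_mul, map_inv, map_pow, map_one, map_wd] at hb
  obtain ⟨hu, hm, hs, hE1, hdef, hinv, -⟩ := hb
  obtain ⟨υ, hadd, h1, hσ, hwd⟩ := exists_root_map (π lh) (π lu) b (((z : F) ^ 2) ^ b) ((z : F) ^ 2) B hB hu
    hcomm hm hs
  rw [← hwd, ← hwd] at hdef
  obtain ⟨hf, hle, -⟩ := card_le_bruhat (π lh) (π lu) (π lw) z hz υ hadd h1 hσ hinv hE1 hdef (closure_images π hπ)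
  exact ⟨hf, hle.trans (card_sl F).ge⟩

/-- The value of a polynomial word at the standard generators. -/
theorem wd_std_poly (z : Fˣ) (b : ℕ) (P : Polynomial (ZMod p)) :
    wd (dElt z) (uElt 1) b (pcoeff P) = uElt (Polynomial.aeval (((z : F) ^ 2) ^ b) P) := by
  let ν : Multiplicative F →* SL(2, F) := MonoidHom.mk' (fun c => uElt c.toAdd) fun a b => uElt_add _ _
  rw [wd, Polynomial.aeval_eq_sum_range, ← Fin.sum_univ_eq_sum_range (fun i => P.coeff i • (((z : F) ^ 2) ^ b) ^ i)]
  show _ = ν (Multiplicative.ofAdd (∑ i : Fin (P.natDegree + 1), P.coeff i • (((z : F) ^ 2) ^ b) ^ (i : ℕ)))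
  rw [ofAdd_sum, ← List.prod_ofFn, map_list_prod, List.map_ofFn]
  refine congrArg (fun f => (List.ofFn f).prod) (funext fun i => ?_)
  show _ = uElt _
  rw [dElt_pow, dElt_conj, uElt_pow, mul_one, toAdd_ofAdd, pcoeff, ← Nat.cast_smul_eq_nsmul (ZMod p),
    ZMod.natCast_zmod_val, Units.val_pow_eq_pow_val, ← pow_mul, ← pow_mul, ← pow_mul]
  congr 3
  ring

omit [Algebra (ZMod p) F] [Fact p.Prime] in
/-- Seven equations present `SL₂`, four if the field has four elements. -/
theorem sl_two_seven [Fintype F] (z : Fˣ) (hz : ∀ y : Fˣ, y ∈ Subgroup.zpowers z) :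
    Subgroup.closure (Set.range (std z)) = ⊤ ∧ ∃ L : List (W3 × W3), L.length ≤ 7 ∧
      (Fintype.card F = 4 → L.length ≤ 4) ∧ (CharP F 2 → L.length ≤ 5) ∧
      (∀ e ∈ L, FreeGroup.lift (std z) e.1 = FreeGroup.lift (std z) e.2) ∧
      ∀ {G : Type*} [Group G] (g : Fin 3 → G), (∀ e ∈ L, FreeGroup.lift g e.1 = FreeGroup.lift g e.2) →
        ∃ φ : SL(2, F) →* G, ∀ i, φ (std z i) = g i := by
  classical
  obtain ⟨p, hchar⟩ := CharP.exists F
  obtain ⟨⟨n, hn0⟩, hprime, hn⟩ := FiniteField.card F p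
  have := Fact.mk hprime
  have : NeZero n := ⟨hn0.ne'⟩
  replace hn : Fintype.card F = p ^ n := hn
  let _ : Algebra (ZMod p) F := ZMod.algebra F p
  have hθ : (z : F) ^ 2 ≠ 0 := pow_ne_zero _ z.ne_zero
  rcases eq_or_ne p 2 with rfl | hp2
  · have h2 : (2 : F) = 0 := by exact_mod_cast CharP.cast_eq_zero F 2
    obtain ⟨B, hB⟩ := exists_power_basis (p := 2) ((z : F) ^ 2) hn
      fun d hd hdn => sq_gen_moved z hz hn hd (by omega)
    have hB' : ∀ i : Fin n, B i = (((z : F) ^ 2) ^ 1) ^ (i : ℕ) := fun i => by rw [pow_one]; exact hB i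
    obtain ⟨a, ha, ha4⟩ : ∃ a : ℕ, (n ≠ 1 → ((z : F) ^ 2) ^ a = 1 + (z : F) ^ 2) ∧ (n = 2 → a = 2) := by
      by_cases hn2 : n = 2
      · refine ⟨2, fun _ => ?_, fun _ => rfl⟩
        have h3 : (z : F) ^ 3 = 1 := by
          have := FiniteField.pow_card_sub_one_eq_one (z : F) z.ne_zero
          rwa [hn, hn2] at this
        have hz1 : (z : F) ≠ 1 := fun e => sq_gen_moved z hz hn one_pos (by omega) (by simp [e])
        have hq : (z : F) ^ 2 + (z : F) + 1 = 0 := by
          refine mul_left_cancel₀ (sub_ne_zero.2 hz1) ?_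
          rw [mul_zero]
          linear_combination h3
        linear_combination (z : F) * h3 - hq + (z : F) * h2
      · by_cases h0 : (1 : F) + (z : F) = 0
        · refine ⟨0, fun hn1 => absurd ?_ (sq_gen_moved z hz hn one_pos (by have := hn0; omega : 1 < n)),
            fun e => absurd e hn2⟩
          rw [show (z : F) = -1 by linear_combination h0]
          simp
        · obtain ⟨b, hb⟩ := exists_exponent z hz h0
          exact ⟨b, fun _ => by rw [hb]; linear_combination (z : F) * h2, fun e => absurd e hn2⟩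
    have hgen := closure_std z 1 B hB'
    -- the equations hold
    have hold := even_hold z a ha B hB'
    refine ⟨hgen, ?_⟩
    by_cases hn2 : n = 2
    · obtain rfl := ha4 hn2
      subst hn2
      have hx : (((z : F) ^ 2) ^ 1) ^ 2 = B 0 + B 1 := by
        rw [hB, hB, pow_one, Fin.val_zero, pow_zero, Fin.val_one, pow_one]
        exact ha (by norm_num)
      have hc : ∀ i, coord B ((((z : F) ^ 2) ^ 1) ^ 2) i = 1 := fun i => by
        rw [hx, coord, map_add, B.repr_self, B.repr_self]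
        fin_cases i <;> simp <;> rfl
      have hwd : wd lh lu 1 (coord B ((((z : F) ^ 2) ^ 1) ^ 2)) = lu * (lh * lu * lh⁻¹) := by
        rw [wd, show coord B ((((z : F) ^ 2) ^ 1) ^ 2) = fun _ => 1 from funext hc, List.ofFn_succ, List.ofFn_succ,
          List.ofFn_zero]
        simp
      let L : List (W3 × W3) := [(lu * lu, 1), (lh ^ 2 * lu * (lh ^ 2)⁻¹, lu * (lh * lu * lh⁻¹)),
        (lu * lw * lu, lw * lu * lw),
        (lh, wd lh lu 1 (coord B (z : F)) * lw * wd lh lu 1 (coord B ((z : F)⁻¹)) * lw *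
          wd lh lu 1 (coord B (z : F)) * lw)]
      have hiff : ∀ e, e ∈ evenEqs z 2 B ↔ e ∈ L := by
        intro e
        simp only [evenEqs, L, hwd, if_neg (show (2 : ℕ) ≠ 1 by norm_num), List.cons_append, List.nil_append,
          List.mem_cons, List.not_mem_nil, or_false]
        tauto
      exact ⟨L, by simp [L], fun _ => le_of_eq rfl, fun _ => by simp [L], fun e he => hold e ((hiff e).2 he),
        fun {G} _ g hg => exists_hom_of_bound (std z) hgen (evenEqs z 2 B) hold
          (fun K _ π hπ hL => even_bound z hz 2 B hB' K π hπ hL) g fun e he => hg e ((hiff e).1 he)⟩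
    · have h5 : (evenEqs z a B).length ≤ 5 := by
        unfold evenEqs
        split_ifs <;> simp
      refine ⟨evenEqs z a B, h5.trans (by norm_num), fun h4 => absurd ?_ hn2, fun _ => h5, hold,
        fun {G} _ g hg => exists_hom_of_bound (std z) hgen _ hold (fun K _ π hπ hL => even_bound z hz a B hB' K π hπ hL) g hg⟩
      rw [hn, show (4 : ℕ) = 2 ^ 2 by norm_num] at h4
      exact Nat.pow_right_injective le_rfl h4
  · have h2 : (2 : F) ≠ 0 := fun e => hp2 ((Nat.prime_dvd_prime_iff_eq hprime Nat.prime_two).1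
      ((CharP.cast_eq_zero_iff F p 2).1 (by exact_mod_cast e)))
    have hne4 : Fintype.card F ≠ 4 := fun e => hp2 ((Nat.prime_dvd_prime_iff_eq hprime Nat.prime_two).1
      (hprime.dvd_of_dvd_pow ((dvd_pow_self p hn0.ne').trans (by rw [← hn, e]; norm_num : p ^ n ∣ 2 ^ 2))))
    rcases le_or_gt n 2 with hn2 | hn2
    · obtain ⟨B, hB⟩ := exists_power_basis (p := p) ((z : F) ^ 2) hn
        fun d hd hdn => sq_gen_moved z hz hn hd (by omega)
      have hB' : ∀ i : Fin n, B i = (((z : F) ^ 2) ^ 1) ^ (i : ℕ) := fun i => by rw [pow_one]; exact hB i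
      have hgen := closure_std z 1 B hB'
      have hold : ∀ e ∈ baseEqs p z 1 B ++ [(lu * (lh * lu * lh⁻¹), (lh * lu * lh⁻¹) * lu)],
          FreeGroup.lift (std z) e.1 = FreeGroup.lift (std z) e.2 := by
        intro e he
        rcases List.mem_append.1 he with he | he
        · exact base_hold z 1 B hB' he
        rw [List.mem_singleton] at he
        subst he
        simp only [map_mul, map_inv, FreeGroup.lift_apply_of, std, Matrix.cons_val_zero, Matrix.cons_val_one]
        rw [dElt_conj, ← uElt_add, ← uElt_add, add_comm]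
      refine ⟨hgen, _, le_of_eq rfl, fun h => absurd h hne4, fun h => absurd (CharP.eq F hchar h) hp2, hold, fun {G} _ g hg =>
        exists_hom_of_bound (std z) hgen _ hold (fun K _ π hπ hL => odd_bound z hz 1 B hB' K π hπ
          (fun e he => hL e (List.mem_append_left _ he)) fun i j => ?_) g hg⟩
      have hc := hL _ (List.mem_append_right _ (List.mem_singleton_self _))
      simp only [map_mul, map_inv] at hc
      have hi : (i : ℕ) = 0 ∨ (i : ℕ) = 1 := by omega
      have hj : (j : ℕ) = 0 ∨ (j : ℕ) = 1 := by omega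
      rcases hi with hi | hi <;> rcases hj with hj | hj <;>
        simp only [hi, hj, mul_zero, mul_one, pow_zero, pow_one, inv_one, one_mul]
      exacts [Commute.refl _, hc, (show Commute _ _ from hc).symm, Commute.refl _]
    · obtain ⟨s, r, hs, hr, hrs, hmoved⟩ := exists_triangle (p := p) hp2 h2 hn (by omega)
      obtain ⟨b0, hb0⟩ := exists_exponent z hz hs
      obtain ⟨a, ha⟩ := exists_exponent z hz hr
      -- adjust `b`
      have hq1 : ((z : F) ^ 2) ^ (Fintype.card F - 1) = 1 := FiniteField.pow_card_sub_one_eq_one _ hθ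
      obtain ⟨b, hbpos, hbF, hb⟩ : ∃ b : ℕ, 0 < b ∧ (b : F) ≠ 0 ∧ ((z : F) ^ 2) ^ b = s * s := by
        rcases eq_or_ne (b0 : F) 0 with h0 | h0
        · refine ⟨b0 + (Fintype.card F - 1), ?_, ?_, by rw [pow_add, hq1, mul_one, hb0]⟩
          · have := Fintype.one_lt_card (α := F); omega
          · rw [Nat.cast_add, h0, zero_add, Nat.cast_sub Fintype.card_pos, FiniteField.cast_card_eq_zero]
            simp
        · exact ⟨b0, Nat.pos_of_ne_zero fun e => h0 (by simp [e]), h0, hb0⟩
      obtain ⟨B, hB⟩ := exists_power_basis (p := p) (((z : F) ^ 2) ^ b) hn (fun d hd hdn => by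
        rw [hb]; exact hmoved d hd hdn)
      obtain ⟨P, hP, hgood⟩ := exists_good_poly (p := p) (x := ((z : F) ^ 2) ^ b) (θ := (z : F) ^ 2) hθ (a := a) hbF
        hbpos rfl (by rw [ha, hb, hrs, add_comm]) B hB
      have hgen := closure_std z b B hB
      let L : List (W3 × W3) := [(lu ^ p, 1), (lh * lu * lh⁻¹, wd lh lu b (pcoeff P)),
        (lw * lu * lw⁻¹, lu⁻¹ * lw * lu⁻¹),
        (lw * wd lh lu b (coord B ((z : F)⁻¹)) * lw⁻¹,
          (wd lh lu b (coord B (z : F)))⁻¹ * lh * lw * (wd lh lu b (coord B (z : F)))⁻¹),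
        (lw * lh * lw⁻¹, lh⁻¹),
        (lu * (lh ^ b * lu * (lh ^ b)⁻¹), (lh ^ b * lu * (lh ^ b)⁻¹) * lu),
        (lh ^ a * lu * (lh ^ a)⁻¹, lu * (lh ^ b * lu * (lh ^ b)⁻¹))]
      have hold : ∀ e ∈ L, FreeGroup.lift (std z) e.1 = FreeGroup.lift (std z) e.2 := by
        intro e he
        simp only [L, List.mem_cons, List.not_mem_nil, or_false] at he
        rcases he with rfl | rfl | rfl | rfl | rfl | rfl | rfl
        iterate 1 exact base_hold z b B hB (by simp [baseEqs])
        rotate_left 1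
        iterate 3 exact base_hold z b B hB (by simp [baseEqs])
        all_goals simp only [map_mul, map_inv, map_pow, map_wd, FreeGroup.lift_apply_of, std, Matrix.cons_val_zero,
          Matrix.cons_val_one, dElt_pow, dElt_conj, mul_one, ← uElt_add]
        · rw [add_comm]
        · congr 1
          rw [Units.val_pow_eq_pow_val, Units.val_pow_eq_pow_val, ← pow_mul, ← pow_mul, mul_comm a, mul_comm b,
            pow_mul, pow_mul, ha, hb, hrs, add_comm]
        · rw [wd_std_poly, hP]
      refine ⟨hgen, L, le_of_eq rfl, fun h => absurd h hne4, fun h => absurd (CharP.eq F hchar h) hp2, hold, fun {G} _ g hg =>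
        exists_hom_of_bound (std z) hgen _ hold (fun K _ π hπ hL => ?_) g hg⟩
      simp only [L, List.forall_mem_cons, map_mul, map_inv, map_pow, map_one, map_wd] at hL
      obtain ⟨hu, hsP, hE1, hdef, hinv, hc, hsum, -⟩ := hL
      have hcomm : ∀ i j : ℕ, Commute (π lh ^ (b * i) * π lu * (π lh ^ (b * i))⁻¹)
          (π lh ^ (b * j) * π lu * (π lh ^ (b * j))⁻¹) := by
        intro i j
        have := commute_powers (π lh) (π lu) (p := p) (c := 1) (d := 1) hu (Nat.coprime_one_left p)
          (Nat.coprime_one_left p) (a : ℤ) (b : ℤ) (by rw [cj_nat]; exact hc)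
          (by rw [cj_nat, cj_nat, pow_one, pow_one]; exact hsum) (i : ℤ) (j : ℤ)
        rwa [← Nat.cast_mul, ← Nat.cast_mul, cj_nat, cj_nat] at this
      obtain ⟨hm, hs'⟩ := derived_eqs (π lh) (π lu) (((z : F) ^ 2) ^ b) ((z : F) ^ 2) B hB P hP hgood hu hcomm hsum hsP
      refine odd_bound z hz b B hB K π hπ ?_ fun i j => hcomm i j
      simp only [baseEqs, List.forall_mem_cons, map_mul, map_inv, map_pow, map_one, map_wd]
      exact ⟨hu, hm, hs', hE1, hdef, hinv, fun _ h => absurd h List.not_mem_nil⟩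

end CfsgLib.Pres
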