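import Cfsg.Agent.Lib.Pres.SLTwo

/-!
# The presentation of `SL_2(q)` on the standard triple, in any characteristic
-/

set_option autoImplicit false

namespace CfsgLib.Pres

open Matrix
open scoped MatrixGroups
open CfsgLib.Classical (uElt uElt_add)

/-- Data of the eight-relator presentation of `SL_2`. -/
structure StdData (F : Type*) [Field F] (p : ℕ) [Fact p.Prime] [Algebra (ZMod p) F] where
  /-- The degree. -/
  n : ℕ
  n_pos : 0 < n
  hn : Nat.card F = p ^ n
  /-- A generator. -/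
  z : Fˣ
  hz : ∀ y : Fˣ, y ∈ Subgroup.zpowers z
  /-- The step. -/
  b : ℕ
  /-- The basis. -/
  B : Module.Basis (Fin n) (ZMod p) F
  hB : ∀ i : Fin n, B i = (((z : F) ^ 2) ^ b) ^ (i : ℕ)
  /-- The equations forcing commutativity. -/
  extra : List (W3 × W3)
  extra_length : extra.length ≤ 2
  extra_one : n = 1 → extra = []
  extra_hold : ∀ e ∈ extra, FreeGroup.lift (std z) e.1 = FreeGroup.lift (std z) e.2
  comm : ∀ (G : Type) [Group G] (π : W3 →* G), (∀ e ∈ extra, π e.1 = π e.2) → π lu ^ p = 1 →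
    ∀ i j : Fin n, Commute (π lh ^ (b * (i : ℕ)) * π lu * (π lh ^ (b * (i : ℕ)))⁻¹)
      (π lh ^ (b * (j : ℕ)) * π lu * (π lh ^ (b * (j : ℕ)))⁻¹)

/-- The data exist. -/
theorem exists_stdData (F : Type*) [Field F] [Fintype F] (p : ℕ) [Fact p.Prime] [CharP F p]
    [Algebra (ZMod p) F] : Nonempty (StdData F p) := by
  classical
  obtain ⟨⟨n, hn0⟩, hprime, hn⟩ := FiniteField.card F p
  replace hn : Fintype.card F = p ^ n := hn
  have hn' : Nat.card F = p ^ n := by rw [Nat.card_eq_fintype_card, hn]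
  obtain ⟨z, hz⟩ := IsCyclic.exists_generator (α := Fˣ)
  have hcj : ∀ (G : Type) [Group G] (x y : G) (k : ℕ), cj x (k : ℤ) y = x ^ k * y * (x ^ k)⁻¹ :=
    fun G _ x y k => cj_nat x y k
  have hmoved : ∀ d, 0 < d → 2 * d ≤ n → ((z : F) ^ 2) ^ p ^ d ≠ (z : F) ^ 2 :=
    fun d hd hdn => sq_gen_moved z hz hn hd (by omega)
  rcases (show n = 1 ∨ n = 2 ∨ 3 ≤ n by omega) with h1 | h2n | h3
  · subst h1
    obtain ⟨B, hB⟩ := exists_power_basis (p := p) ((z : F) ^ 2) hn hmoved
    exact ⟨⟨1, one_pos, hn', z, hz, 1, B, fun i => by rw [pow_one]; exact hB i, [], by simp, fun _ => rfl, by simp,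
      fun G _ π _ _ i j => by rw [Subsingleton.elim i j]⟩⟩
  · subst h2n
    obtain ⟨B, hB⟩ := exists_power_basis (p := p) ((z : F) ^ 2) hn hmoved
    refine ⟨⟨2, two_pos, hn', z, hz, 1, B, fun i => by rw [pow_one]; exact hB i,
      [(lu * (lh * lu * lh⁻¹), (lh * lu * lh⁻¹) * lu)], by simp, fun h => absurd h (by norm_num), ?_, ?_⟩⟩
    · intro e he
      rw [List.mem_singleton] at he
      subst he
      simp only [map_mul, map_inv, FreeGroup.lift_apply_of, std, Matrix.cons_val_zero, Matrix.cons_val_one]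
      rw [dElt_conj, ← uElt_add, ← uElt_add, add_comm]
    · intro G _ π hE _ i j
      have hc := hE _ (List.mem_singleton_self _)
      simp only [map_mul, map_inv] at hc
      have hi : (i : ℕ) = 0 ∨ (i : ℕ) = 1 := by omega
      have hj : (j : ℕ) = 0 ∨ (j : ℕ) = 1 := by omega
      rcases hi with hi | hi <;> rcases hj with hj | hj <;> simp only [hi, hj, mul_zero, mul_one, pow_zero, pow_one,
        inv_one, one_mul]
      exacts [Commute.refl _, hc, (show Commute _ _ from hc).symm, Commute.refl _]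
  · obtain ⟨a, b, hb, hab⟩ : ∃ a b : ℕ, (∀ d, 0 < d → 2 * d ≤ n →
        (((z : F) ^ 2) ^ b) ^ p ^ d ≠ ((z : F) ^ 2) ^ b) ∧ ((z : F) ^ 2) ^ a = 1 + ((z : F) ^ 2) ^ b := by
      by_cases hp2 : p = 2
      · subst hp2
        have h2 : (2 : F) = 0 := by exact_mod_cast CharP.cast_eq_zero F 2
        have h0 : (1 : F) + (z : F) ≠ 0 := fun h => by
          refine sq_gen_moved z hz hn one_pos (by omega : 1 < n) ?_
          rw [show (z : F) = -1 by linear_combination h]
          simp
        obtain ⟨a, ha⟩ := exists_exponent z hz h0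
        exact ⟨a, 1, fun d hd hdn => by rw [pow_one]; exact hmoved d hd hdn, by
          rw [ha, pow_one]; linear_combination (z : F) * h2⟩
      · have h2 : (2 : F) ≠ 0 := fun e => hp2 ((Nat.prime_dvd_prime_iff_eq hprime Nat.prime_two).1
          ((CharP.cast_eq_zero_iff F p 2).1 (by exact_mod_cast e)))
        obtain ⟨s, r, hs, hr, hrs, hm⟩ := exists_triangle (p := p) hp2 h2 hn h3
        obtain ⟨b, hb⟩ := exists_exponent z hz hs
        obtain ⟨a, ha⟩ := exists_exponent z hz hr
        exact ⟨a, b, fun d hd hdn => by rw [hb]; exact hm d hd hdn, by rw [ha, hb, hrs, add_comm]⟩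
    obtain ⟨B, hB⟩ := exists_power_basis (p := p) (((z : F) ^ 2) ^ b) hn hb
    refine ⟨⟨n, hn0, hn', z, hz, b, B, hB, [(lu * (lh ^ b * lu * (lh ^ b)⁻¹), (lh ^ b * lu * (lh ^ b)⁻¹) * lu),
      (lh ^ a * lu * (lh ^ a)⁻¹, lu * (lh ^ b * lu * (lh ^ b)⁻¹))], by simp, fun h => absurd h (by omega), ?_, ?_⟩⟩
    · intro e he
      simp only [List.mem_cons, List.not_mem_nil, or_false] at he
      rcases he with rfl | rfl <;>
        simp only [map_mul, map_inv, map_pow, FreeGroup.lift_apply_of, std, Matrix.cons_val_zero,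
          Matrix.cons_val_one, dElt_pow, dElt_conj, mul_one, ← uElt_add]
      · rw [add_comm]
      · congr 1
        rw [Units.val_pow_eq_pow_val, Units.val_pow_eq_pow_val, ← pow_mul, ← pow_mul, mul_comm a, mul_comm b, pow_mul,
          pow_mul, hab]
    · intro G _ π hE hu i j
      simp only [List.forall_mem_cons, map_mul, map_inv, map_pow] at hE
      obtain ⟨hc, hsum, -⟩ := hE
      have := commute_powers (π lh) (π lu) (p := p) (c := 1) (d := 1) hu (Nat.coprime_one_left p)
        (Nat.coprime_one_left p) (a : ℤ) (b : ℤ) (by rw [hcj]; exact hc)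
        (by rw [hcj, hcj, pow_one, pow_one]; exact hsum) ((i : ℕ) : ℤ) ((j : ℕ) : ℤ)
      rw [← Nat.cast_mul, ← Nat.cast_mul, hcj, hcj] at this
      exact this

namespace StdData

variable {F : Type*} [Field F] [Fintype F] {p : ℕ} [Fact p.Prime] [Algebra (ZMod p) F] (S : StdData F p)

/-- The equations. -/
noncomputable def eqs : List (W3 × W3) := baseEqs p S.z S.b S.B ++ S.extra

omit [Fintype F] in
theorem eqs_length : S.eqs.length ≤ 8 := by
  have := S.extra_length
  simp only [eqs, baseEqs, List.length_append, List.length_cons, List.length_nil]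
  omega

omit [Fintype F] in
theorem eqs_hold [CharP F p] : ∀ e ∈ S.eqs, FreeGroup.lift (std S.z) e.1 = FreeGroup.lift (std S.z) e.2 := fun e he => by
  rcases List.mem_append.1 he with he | he
  · exact base_hold S.z S.b S.B S.hB he
  · exact S.extra_hold e he

/-- Images of the triple satisfying the equations extend to a homomorphism. -/
theorem exists_hom [CharP F p] {G : Type} [Group G] (π : W3 →* G) (hπ : ∀ e ∈ S.eqs, π e.1 = π e.2) :
    ∃ φ : SL(2, F) →* G, ∀ w, φ (FreeGroup.lift (std S.z) w) = π w := by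
  classical
  have : NeZero S.n := ⟨S.n_pos.ne'⟩
  set rels : Set W3 := {r | ∃ e ∈ S.eqs, e.1 * e.2⁻¹ = r}
  have hrel : ∀ r ∈ rels, FreeGroup.lift (std S.z) r = 1 := by
    rintro r ⟨e, he, rfl⟩
    rw [map_mul, map_inv, S.eqs_hold e he, mul_inv_cancel]
  let Φ : PresentedGroup rels →* SL(2, F) := PresentedGroup.toGroup hrel
  set mk := PresentedGroup.mk rels
  have hm : ∀ e ∈ S.eqs, mk e.1 = mk e.2 := fun e he => PresentedGroup.mk_eq_mk_of_mul_inv_mem ⟨e, he, rfl⟩
  have hΦ : ∀ w, Φ (mk w) = FreeGroup.lift (std S.z) w := fun w => rfl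
  have hb : ∀ e ∈ baseEqs p S.z S.b S.B, mk e.1 = mk e.2 := fun e he => hm e (List.mem_append_left _ he)
  simp only [baseEqs, List.forall_mem_cons, map_mul, map_inv, map_pow, map_one, map_wd] at hb
  obtain ⟨hu, hmm, hs, hE1, hdef, hinv, -⟩ := hb
  obtain ⟨υ, hadd, h1, hσ, hwd⟩ := exists_root_map (mk lh) (mk lu) S.b (((S.z : F) ^ 2) ^ S.b) ((S.z : F) ^ 2) S.B
    S.hB hu (S.comm _ mk (fun e he => hm e (List.mem_append_right _ he)) hu) hmm hs
  rw [← hwd, ← hwd] at hdef
  obtain ⟨hf, hle, -⟩ := card_le_bruhat (mk lh) (mk lu) (mk lw) S.z S.hz υ hadd h1 hσ hinv hE1 hdef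
    (closure_images mk (PresentedGroup.mk_surjective rels))
  have hsurj : Function.Surjective Φ := by
    rw [← MonoidHom.range_eq_top, ← top_le_iff, ← closure_std S.z S.b S.B S.hB, Subgroup.closure_le]
    rintro _ ⟨i, rfl⟩
    exact ⟨PresentedGroup.of i, PresentedGroup.toGroup.of hrel⟩
  let eΦ := MulEquiv.ofBijective Φ ((Nat.bijective_iff_surjective_and_card Φ).2
    ⟨hsurj, le_antisymm (hle.trans (card_sl F).ge) (Nat.card_le_card_of_surjective _ hsurj)⟩)
  let ψ : PresentedGroup rels →* G := PresentedGroup.toGroup (f := fun i => π (FreeGroup.of i)) (by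
    rintro r ⟨e, he, rfl⟩
    rw [show FreeGroup.lift (fun i => π (FreeGroup.of i)) = π from FreeGroup.ext_hom _ _ fun i => by simp]
    rw [map_mul, map_inv, hπ e he, mul_inv_cancel])
  refine ⟨ψ.comp eΦ.symm.toMonoidHom, fun w => ?_⟩
  show ψ (eΦ.symm (eΦ (mk w))) = π w
  rw [MulEquiv.symm_apply_apply]
  refine DFunLike.congr_fun (show ψ.comp mk = π from FreeGroup.ext_hom _ _ fun i => ?_) w
  show ψ (PresentedGroup.of i) = _
  simp only [ψ, PresentedGroup.toGroup.of]

end StdData

end CfsgLib.Pres
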