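import Cfsg.Agent.Lib.Pres.SLnTarget

/-!
# From a rank-one homomorphism and an alternating group to the Steinberg relations of `SL_n`
-/

set_option autoImplicit false

namespace CfsgLib.Pres

open Matrix Equiv
open scoped MatrixGroups
open CfsgLib.Classical (uElt uElt_val uElt_add)

variable {F : Type*} [Field F] [Fintype F] {p : ℕ} [Fact p.Prime] [Algebra (ZMod p) F] {G : Type*} [Group G]

/-- An element fixing the first two coordinates. -/
def FixTwo {n : ℕ} (hn : 4 ≤ n) (σ : alternatingGroup (Fin n)) : Prop :=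
  (σ : Perm (Fin n)) (pt hn 0) = pt hn 0 ∧ (σ : Perm (Fin n)) (pt hn 1) = pt hn 1

/-- The glueing for `SL_n`. -/
theorem sl_n_fam {e n : ℕ} (he : Fintype.card F = p ^ e) (hn : 4 ≤ n) (ω : Fˣ)
    (hω : ∀ y : Fˣ, y ∈ Subgroup.zpowers ω) (φ : SL(2, F) →* G) (ι : alternatingGroup (Fin n) →* G)
    (hgen : φ.range ⊔ ι.range = ⊤)
    (hinvol : φ (wElt F) * (ι (cyc3 hn))⁻¹ * φ (wElt F) * (ι (cyc3 hn))⁻¹ = 1)
    (hprod : φ (dElt ω) * (ι (cyc3 hn) * φ (dElt ω) * (ι (cyc3 hn))⁻¹) *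
      ((ι (cyc3 hn))⁻¹ * φ (dElt ω) * ι (cyc3 hn)) = 1)
    (hT : ((ι (cyc3 hn))⁻¹ * φ (dElt ω) * ι (cyc3 hn))⁻¹ * φ (gElt ω) *
      ((ι (cyc3 hn))⁻¹ * φ (dElt ω) * ι (cyc3 hn)) = φ (dConj ω (gElt ω)))
    (hB : Commute (φ (uElt 1)) (ι (cyc3 hn) * φ (lElt 1) * (ι (cyc3 hn))⁻¹))
    (hC : φ (uElt 1) * (ι (cyc3 hn) * φ (uElt 1) * (ι (cyc3 hn))⁻¹) * (φ (uElt 1))⁻¹ *
      (ι (cyc3 hn) * φ (uElt 1) * (ι (cyc3 hn))⁻¹)⁻¹ = (ι (cyc3 hn))⁻¹ * φ (lElt 1) * ι (cyc3 hn))
    (h4B : Fintype.card F = 4 → Commute (φ (uElt 1)) (ι (cyc3 hn) * φ (lElt (ω : F)) * (ι (cyc3 hn))⁻¹))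
    (h4C : Fintype.card F = 4 → φ (uElt 1) * (ι (cyc3 hn) * φ (uElt (ω : F)) * (ι (cyc3 hn))⁻¹) * (φ (uElt 1))⁻¹ *
      (ι (cyc3 hn) * φ (uElt (ω : F)) * (ι (cyc3 hn))⁻¹)⁻¹ =
        (ι (cyc3 hn))⁻¹ * φ (lElt (ω : F)) * ι (cyc3 hn))
    {k : ℕ} (s : Fin k → alternatingGroup (Fin n))
    (hs : ∀ σ, FixTwo hn σ → σ ∈ Subgroup.closure (Set.range s))
    (hsg : ∀ i, Commute (ι (s i)) (φ (gElt ω)))
    (hτ : ι (dbl hn) * φ (gElt ω) * ι (dbl hn) = φ (jConj (gElt ω)))
    (hD : Commute (φ (uElt 1)) (ι (cross hn) * φ (uElt 1) * (ι (cross hn))⁻¹)) :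
    ∃ X : Fin n → Fin n → F → G, KnownB.SLnSt.Fam X ∧
      (∀ (σ : alternatingGroup (Fin n)) (t : F),
        X ((σ : Perm (Fin n)) (pt hn 0)) ((σ : Perm (Fin n)) (pt hn 1)) t = ι σ * φ (uElt t) * (ι σ)⁻¹) ∧
      ∀ K : Subgroup G, (∀ i j, i ≠ j → ∀ t, X i j t ∈ K) → K = ⊤ := by
  classical
  obtain ⟨c, hc⟩ : ∃ c, c = ι (cyc3 hn) := ⟨_, rfl⟩
  rw [← hc] at hinvol hprod hT hB hC h4B h4C
  have hc3 : c * c * c = 1 := by
    have h : cyc3 hn * cyc3 hn * cyc3 hn = 1 := by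
      refine Subtype.ext (Equiv.ext fun x => ?_)
      simp only [Subgroup.coe_mul, Subgroup.coe_one, Perm.coe_mul, Function.comp_apply, Perm.coe_one, id_eq]
      by_cases hx : ∃ a : Fin 4, x = pt hn a
      · obtain ⟨a, rfl⟩ := hx
        rw [cyc3_apply, cyc3_apply, cyc3_apply]
        fin_cases a <;> rfl
      · simp only [not_exists] at hx
        simp [cyc3, swap_apply_of_ne_of_ne, hx]
    rw [hc, ← map_mul, ← map_mul, h, map_one]
  obtain ⟨N, hN⟩ := (isOfFinOrder_of_finite ω).mem_powers_iff_mem_zpowers.2 (hω (-1))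
  have hδ := delta_of_glue ω hω φ c hinvol hprod hT
  obtain ⟨x, R, x01, x10, x12, x21, x20, x02⟩ := sl_three_fam he ω hω N hN φ c hc3 hinvol hprod hδ hB hC h4B h4C
  have hne : ∀ a b : Fin 4, a ≠ b → pt hn a ≠ pt hn b := fun a b h => (pt_injective hn).ne h
  -- the double transposition
  have hdd : dbl hn * dbl hn = 1 := by
    refine Subtype.ext (Equiv.ext fun y => ?_)
    simp only [Subgroup.coe_mul, Subgroup.coe_one, Perm.coe_mul, Function.comp_apply, Perm.coe_one, id_eq]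
    by_cases hy : ∃ a : Fin 4, y = pt hn a
    · obtain ⟨a, rfl⟩ := hy
      rw [dbl_apply, dbl_apply]
      fin_cases a <;> rfl
    · simp only [not_exists] at hy
      simp [dbl, swap_apply_of_ne_of_ne, hy]
  obtain ⟨τ, hτdef⟩ : ∃ τ, τ = ι (dbl hn) := ⟨_, rfl⟩
  rw [← hτdef] at hτ
  have hττ : τ * τ = 1 := by rw [hτdef, ← map_mul, hdd, map_one]
  have hτi : τ⁻¹ = τ := inv_eq_of_mul_eq_one_right hττ
  have pair := (pair_gen ω hω).2
  have hτall : ∀ M, τ * φ M * τ = φ (jConj M) := by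
    let φ1 : SL(2, F) →* G := (MulAut.conj τ).toMonoidHom.comp φ
    have hφ1 : ∀ M, φ1 M = τ * φ M * τ := fun M => by simp [φ1, hτi]
    intro M
    have := MonoidHom.eq_of_eqOn_dense pair (f := φ1) (g := φ.comp jConj) fun M hM => by
      rw [hφ1]
      rcases hM with rfl | rfl
      · exact hτ
      · show τ * φ (jConj (gElt ω)) * τ = φ (jConj (jConj (gElt ω)))
        rw [jConj_jConj, ← hτ, show τ * (τ * φ (gElt ω) * τ) * τ = (τ * τ) * φ (gElt ω) * (τ * τ) by group, hττ,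
          one_mul, mul_one]
    rw [← hφ1, this]
    rfl
  -- the stabiliser of the first pair
  have hfix1 : ∀ σ, FixTwo hn σ → Commute (ι σ) (φ (gElt ω)) := by
    intro σ hσ
    have hle : Subgroup.closure (Set.range s) ≤ (Subgroup.centralizer ({φ (gElt ω)} : Set G)).comap ι := by
      rw [Subgroup.closure_le]
      rintro _ ⟨i, rfl⟩
      exact Subgroup.mem_centralizer_singleton_iff.2 (hsg i).eq
    exact Subgroup.mem_centralizer_singleton_iff.1 (hle (hs σ hσ))
  have hfix : ∀ σ, FixTwo hn σ → ∀ M, ι σ * φ M * (ι σ)⁻¹ = φ M := by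
    intro σ hσ
    let φ1 : SL(2, F) →* G := (MulAut.conj (ι σ)).toMonoidHom.comp φ
    have hφ1 : ∀ M, φ1 M = ι σ * φ M * (ι σ)⁻¹ := fun M => by simp [φ1]
    intro M
    have := MonoidHom.eq_of_eqOn_dense pair (f := φ1) (g := φ) fun M hM => by
      rw [hφ1, mul_inv_eq_iff_eq_mul]
      rcases hM with rfl | rfl
      · exact hfix1 σ hσ
      · have hσ' : FixTwo hn (dbl hn * σ * dbl hn) := by
          have d0 : (dbl hn : Perm (Fin n)) (pt hn 0) = pt hn 1 := dbl_apply hn 0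
          have d1 : (dbl hn : Perm (Fin n)) (pt hn 1) = pt hn 0 := dbl_apply hn 1
          constructor <;>
            simp only [Subgroup.coe_mul, Perm.coe_mul, Function.comp_apply, d0, d1, hσ.1, hσ.2]
        have e := (hfix1 _ hσ').eq
        rw [map_mul, map_mul, ← hτdef] at e
        rw [← hτ]
        calc ι σ * (τ * φ (gElt ω) * τ) = (τ * τ) * ι σ * τ * φ (gElt ω) * τ := by rw [hττ]; group
          _ = τ * ((τ * ι σ * τ) * φ (gElt ω)) * τ := by group
          _ = τ * (φ (gElt ω) * (τ * ι σ * τ)) * τ := by rw [e]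
          _ = τ * φ (gElt ω) * τ * ι σ * (τ * τ) := by group
          _ = _ := by rw [hττ, mul_one]
    rw [← hφ1, this]
  -- the root elements
  have hev := fun (i j : Fin n) (h : i ≠ j) => exists_even_pair hn h
  choose π hπ0 hπ1 using hev
  let X : Fin n → Fin n → F → G := fun i j t =>
    if h : i ≠ j then ι (π i j h) * φ (uElt t) * (ι (π i j h))⁻¹ else 1
  have hX : ∀ (σ : alternatingGroup (Fin n)) (t : F),
      X ((σ : Perm (Fin n)) (pt hn 0)) ((σ : Perm (Fin n)) (pt hn 1)) t = ι σ * φ (uElt t) * (ι σ)⁻¹ := by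
    intro σ t
    have h : (σ : Perm (Fin n)) (pt hn 0) ≠ (σ : Perm (Fin n)) (pt hn 1) :=
      (σ : Perm (Fin n)).injective.ne (hne 0 1 (by decide))
    show (if h : _ then _ else _) = _
    rw [dif_pos h]
    set π' := π _ _ h with hπ'
    have hk : FixTwo hn (σ⁻¹ * π') := by
      constructor <;> simp only [Subgroup.coe_mul, Subgroup.coe_inv, Perm.coe_mul, Function.comp_apply]
      · rw [hπ0, Perm.inv_def, Equiv.symm_apply_apply]
      · rw [hπ1, Perm.inv_def, Equiv.symm_apply_apply]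
    conv_rhs => rw [← hfix _ hk (uElt t)]
    rw [map_mul, map_inv]
    group
  have hEq : ∀ (σ : alternatingGroup (Fin n)) i j, i ≠ j → ∀ t,
      ι σ * X i j t * (ι σ)⁻¹ = X ((σ : Perm (Fin n)) i) ((σ : Perm (Fin n)) j) t := by
    intro σ i j h t
    have e1 := hX (σ * π i j h) t
    simp only [Subgroup.coe_mul, Perm.coe_mul, Function.comp_apply, hπ0, hπ1, map_mul] at e1
    have e2 := hX (π i j h) t
    rw [hπ0, hπ1] at e2
    rw [e1, e2]
    group
  -- the first triangle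
  have X01 : ∀ t, X (pt hn 0) (pt hn 1) t = φ (uElt t) := fun t => by
    have := hX 1 t
    simp only [Subgroup.coe_one, Perm.coe_one, id_eq, map_one, one_mul, inv_one, mul_one] at this
    exact this
  have X10 : ∀ t, X (pt hn 1) (pt hn 0) t = φ (lElt t) := fun t => by
    have := hX (dbl hn) t
    rw [dbl_apply, dbl_apply, ← hτdef, hτi, hτall, jConj_uElt] at this
    exact this
  have ec : ∀ i j, i ≠ j → ∀ t, X ((cyc3 hn : Perm (Fin n)) i) ((cyc3 hn : Perm (Fin n)) j) t = c * X i j t * c⁻¹ :=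
    fun i j h t => by rw [hc, hEq _ i j h t]
  have X12 : ∀ t, X (pt hn 1) (pt hn 2) t = c * φ (uElt t) * c⁻¹ := fun t => by
    rw [← X01, ← ec _ _ (hne 0 1 (by decide)), cyc3_apply, cyc3_apply]; rfl
  have X21 : ∀ t, X (pt hn 2) (pt hn 1) t = c * φ (lElt t) * c⁻¹ := fun t => by
    rw [← X10, ← ec _ _ (hne 1 0 (by decide)), cyc3_apply, cyc3_apply]; rfl
  have c2 : c * c = c⁻¹ := eq_inv_of_mul_eq_one_left hc3
  have rot : ∀ Y, c * (c * Y * c⁻¹) * c⁻¹ = c⁻¹ * Y * c := fun Y => by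
    rw [show c * (c * Y * c⁻¹) * c⁻¹ = (c * c) * Y * (c * c)⁻¹ by group, c2, inv_inv]
  have X20 : ∀ t, X (pt hn 2) (pt hn 0) t = c⁻¹ * φ (uElt t) * c := fun t => by
    rw [← rot, ← X12, ← ec _ _ (hne 1 2 (by decide)), cyc3_apply, cyc3_apply]; rfl
  have X02 : ∀ t, X (pt hn 0) (pt hn 2) t = c⁻¹ * φ (lElt t) * c := fun t => by
    rw [← rot, ← X21, ← ec _ _ (hne 2 1 (by decide)), cyc3_apply, cyc3_apply]; rfl
  have htri : ∀ a b : Fin 3, a ≠ b → ∀ t, X (pt3 hn a) (pt3 hn b) t = x a b t := by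
    intro a b hab t
    rcases (show (a = 0 ∧ b = 1) ∨ (a = 1 ∧ b = 0) ∨ (a = 1 ∧ b = 2) ∨ (a = 2 ∧ b = 1) ∨ (a = 2 ∧ b = 0) ∨
        (a = 0 ∧ b = 2) by revert hab; revert a b; decide) with
      ⟨rfl, rfl⟩ | ⟨rfl, rfl⟩ | ⟨rfl, rfl⟩ | ⟨rfl, rfl⟩ | ⟨rfl, rfl⟩ | ⟨rfl, rfl⟩
    · rw [x01]; exact X01 t
    · rw [x10]; exact X10 t
    · rw [x12]; exact X12 t
    · rw [x21]; exact X21 t
    · rw [x20]; exact X20 t
    · rw [x02]; exact X02 t
  -- any triangle
  have htriple : ∀ i j l : Fin n, i ≠ j → j ≠ l → i ≠ l →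
      ∃ (σ : alternatingGroup (Fin n)) (a b d : Fin 3), a ≠ b ∧ b ≠ d ∧ a ≠ d ∧
        (σ : Perm (Fin n)) (pt3 hn a) = i ∧ (σ : Perm (Fin n)) (pt3 hn b) = j ∧ (σ : Perm (Fin n)) (pt3 hn d) = l := by
    intro i j l hij hjl hil
    obtain ⟨π, hπ⟩ := exists_perm_four hn (show 3 ≤ 4 by norm_num) ![i, j, l] (by
      intro a b h
      fin_cases a <;> fin_cases b <;> simp [hij, hij.symm, hjl, hjl.symm, hil, hil.symm] at h ⊢)
    rcases Int.units_eq_one_or (Perm.sign π) with hs' | hs'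
    · exact ⟨⟨π, Perm.mem_alternatingGroup.2 hs'⟩, 0, 1, 2, by decide, by decide, by decide, hπ 0, hπ 1, hπ 2⟩
    · refine ⟨⟨π * swap (pt hn 0) (pt hn 1), Perm.mem_alternatingGroup.2 (by
        rw [map_mul, hs', Perm.sign_swap (hne 0 1 (by decide))]; rfl)⟩, 1, 0, 2, by decide, by decide, by decide, ?_, ?_, ?_⟩
      · show π (swap _ _ (pt hn 1)) = i
        rw [swap_apply_right]; exact hπ 0
      · show π (swap _ _ (pt hn 0)) = j
        rw [swap_apply_left]; exact hπ 1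
      · show π (swap _ _ (pt hn 2)) = l
        rw [swap_apply_of_ne_of_ne (hne 2 0 (by decide)) (hne 2 1 (by decide))]; exact hπ 2
  have hadd : ∀ i j, i ≠ j → ∀ t u, X i j t * X i j u = X i j (t + u) := by
    intro i j h t u
    show (if h : _ then _ else _) * (if h : _ then _ else _) = (if h : _ then _ else _)
    rw [dif_pos h, dif_pos h, dif_pos h, uElt_add, map_mul]
    group
  have conjC : ∀ (g a b : G), Commute a b → Commute (g * a * g⁻¹) (g * b * g⁻¹) := fun g a b e =>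
    e.map (MulAut.conj g).toMonoidHom
  have comm_of : ∀ a b : G, a * b * a⁻¹ * b⁻¹ = 1 → Commute a b := fun a b e =>
    mul_inv_eq_iff_eq_mul.1 (mul_inv_eq_one.1 e)
  have hcomm1 : ∀ i j l, i ≠ j → j ≠ l → i ≠ l → ∀ t u,
      X i j t * X j l u * (X i j t)⁻¹ * (X j l u)⁻¹ = X i l (t * u) := by
    intro i j l hij hjl hil t u
    obtain ⟨σ, a, b, d, hab, hbd, had, rfl, rfl, rfl⟩ := htriple i j l hij hjl hil
    have hp := pt3_injective hn
    rw [← hEq _ _ _ (hp.ne hab), ← hEq _ _ _ (hp.ne hbd), ← hEq _ _ _ (hp.ne had), htri a b hab, htri b d hbd,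
      htri a d had, ← R.comm1 a b d hab hbd had t u]
    group
  have hrow : ∀ i j l, i ≠ j → i ≠ l → j ≠ l → ∀ t u, Commute (X i j t) (X i l u) := by
    intro i j l hij hil hjl t u
    obtain ⟨σ, a, b, d, hab, hbd, had, rfl, rfl, rfl⟩ := htriple i j l hij hjl hil
    have hp := pt3_injective hn
    rw [← hEq _ _ _ (hp.ne hab), ← hEq _ _ _ (hp.ne had), htri a b hab, htri a d had]
    exact conjC _ _ _ (comm_of _ _ (R.comm0 a b a d hab had had hab.symm t u))
  have hcol : ∀ i j l, i ≠ l → j ≠ l → i ≠ j → ∀ t u, Commute (X i l t) (X j l u) := by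
    intro i j l hil hjl hij t u
    obtain ⟨σ, a, b, d, hab, hbd, had, rfl, rfl, rfl⟩ := htriple i j l hij hjl hil
    have hp := pt3_injective hn
    rw [← hEq _ _ _ (hp.ne had), ← hEq _ _ _ (hp.ne hbd), htri a d had, htri b d hbd]
    exact conjC _ _ _ (comm_of _ _ (R.comm0 a d b d had hbd had hbd.symm t u))
  -- the torus and disjoint root groups
  obtain ⟨h, hh⟩ : ∃ h, h = φ (dElt ω) := ⟨_, rfl⟩
  rw [← hh] at hprod hδ
  set h2 := c⁻¹ * h * c with hh2
  set wi : F := ((ω⁻¹ : Fˣ) : F) with hwi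
  have hwo : wi * (ω : F) = 1 := Units.inv_mul ω
  have hU0 : ∀ t, h * φ (uElt t) * h⁻¹ = φ (uElt ((ω : F) ^ 2 * t)) := fun t => by
    rw [hh, ← map_inv, ← map_mul, ← map_mul, dElt_conj]
  have h1eq : c * h * c⁻¹ = h⁻¹ * h2⁻¹ := by
    rw [eq_mul_inv_iff_mul_eq]
    exact eq_inv_of_mul_eq_one_right (by rw [← mul_assoc]; exact hprod)
  have h23 : ∀ t, h * X (pt hn 2) (pt hn 3) t * h⁻¹ = X (pt hn 2) (pt hn 3) t := by
    have t20 : ∀ t, h * X (pt hn 2) (pt hn 0) t * h⁻¹ = X (pt hn 2) (pt hn 0) (wi * t) := fun t => by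
      rw [X20, X20, show h * (c⁻¹ * φ (uElt t) * c) * h⁻¹ = c⁻¹ * ((c * h * c⁻¹) * φ (uElt t) * (c * h * c⁻¹)⁻¹) * c by
        group, h1eq, show h⁻¹ * h2⁻¹ * φ (uElt t) * (h⁻¹ * h2⁻¹)⁻¹ = h⁻¹ * (h2⁻¹ * φ (uElt t) * h2) * h by group,
        hδ, dConj_uElt]
      have e := hU0 (wi * t)
      rw [show (ω : F) ^ 2 * (wi * t) = (ω : F) * t by linear_combination (ω : F) * t * hwo] at e
      rw [← e]; group
    have t12 : ∀ t, h⁻¹ * X (pt hn 1) (pt hn 2) t * h = X (pt hn 1) (pt hn 2) ((ω : F) * t) := fun t => by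
      have e := hδ (uElt t)
      rw [dConj_uElt] at e
      rw [X12, X12, ← e, hh2]
      group
    have t03 : ∀ t, h * X (pt hn 0) (pt hn 3) t * h⁻¹ = X (pt hn 0) (pt hn 3) ((ω : F) * t) := fun t => by
      have e : ∀ t, X (pt hn 0) (pt hn 3) t = τ * X (pt hn 1) (pt hn 2) t * τ := fun t => by
        have := hEq (dbl hn) _ _ (hne 1 2 (by decide)) t
        rw [dbl_apply, dbl_apply, ← hτdef, hτi] at this
        exact this.symm
      have hdd' : dElt ω * dElt ω⁻¹ = 1 := by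
        refine Subtype.ext ?_
        show ((dElt ω : SL(2, F)) : Matrix (Fin 2) (Fin 2) F) * (dElt ω⁻¹ : SL(2, F)) = 1
        ext i j
        fin_cases i <;> fin_cases j <;> simp [dElt, Matrix.mul_apply, Fin.sum_univ_two]
      have hht : τ * h * τ = h⁻¹ := by
        rw [hh, hτall, jConj_dElt]
        exact eq_inv_of_mul_eq_one_right (by rw [← map_mul, hdd', map_one])
      have hhτ : h * τ = τ * h⁻¹ := by rw [← hht, ← mul_assoc, ← mul_assoc, hττ, one_mul]
      have hτh : τ * h⁻¹ = h * τ := hhτ.symm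
      rw [e, e, ← t12]
      calc h * (τ * X (pt hn 1) (pt hn 2) t * τ) * h⁻¹ = (h * τ) * X (pt hn 1) (pt hn 2) t * (τ * h⁻¹) := by group
        _ = (τ * h⁻¹) * X (pt hn 1) (pt hn 2) t * (h * τ) := by rw [hhτ]
        _ = _ := by group
    intro t
    have e := congrArg (fun Y => h * Y * h⁻¹)
      (hcomm1 (pt hn 2) (pt hn 0) (pt hn 3) (hne _ _ (by decide)) (hne _ _ (by decide)) (hne _ _ (by decide)) t 1)
    simp only [mul_one] at e
    rw [← e]
    have e' := hcomm1 (pt hn 2) (pt hn 0) (pt hn 3) (hne _ _ (by decide)) (hne _ _ (by decide)) (hne _ _ (by decide))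
      (wi * t) ((ω : F) * 1)
    rw [← t20, ← t03, show wi * t * ((ω : F) * 1) = t by linear_combination t * hwo] at e'
    rw [← e']
    group
  have hsq : ∀ (P : F → Prop), P 1 → P 0 → (∀ a b, P a → P b → P (a + b)) →
      (∀ a, P a → P ((ω : F) ^ 2 * a)) → ∀ a, P a := by
    intro P h1 h0 hP hmul a
    obtain ⟨B, hB⟩ := exists_power_basis (p := p) ((ω : F) ^ 2) he fun d hd hdn => sq_gen_moved ω hω he hd (by omega)
    rw [← sum_coord B a]
    refine Finset.sum_induction _ P hP h0 fun i _ => ?_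
    induction coord B a i with
    | zero => rw [zero_smul]; exact h0
    | succ m ih =>
      rw [succ_nsmul]
      refine hP _ _ ih ?_
      rw [hB]
      induction (i : ℕ) with
      | zero => rwa [pow_zero]
      | succ l ihl => rw [pow_succ']; exact hmul _ ihl
  have zero_of : ∀ i j, i ≠ j → X i j 0 = 1 := fun i j h => by
    have := hadd i j h 0 0
    rwa [add_zero, mul_eq_left] at this
  have h01 : ∀ t, h * X (pt hn 0) (pt hn 1) t * h⁻¹ = X (pt hn 0) (pt hn 1) ((ω : F) ^ 2 * t) := fun t => by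
    rw [X01, X01, hU0]
  have hD1 : Commute (X (pt hn 0) (pt hn 1) 1) (X (pt hn 2) (pt hn 3) 1) := by
    have := hX (cross hn) 1
    rw [cross_apply, cross_apply] at this
    rw [X01]
    show Commute _ (X (pt hn (![2, 3, 0, 1] 0)) (pt hn (![2, 3, 0, 1] 1)) 1)
    rw [this]
    exact hD
  have hDs : ∀ a, Commute (X (pt hn 0) (pt hn 1) a) (X (pt hn 2) (pt hn 3) 1) := by
    refine hsq _ hD1 ?_ (fun a b ha hb => ?_) fun a ha => ?_
    · rw [zero_of _ _ (hne 0 1 (by decide))]; exact Commute.one_left _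
    · rw [← hadd _ _ (hne 0 1 (by decide))]; exact ha.mul_left hb
    · have := conjC h _ _ ha
      rwa [h01, h23] at this
  have hDall : ∀ a b, Commute (X (pt hn 0) (pt hn 1) a) (X (pt hn 2) (pt hn 3) b) := by
    intro a b
    refine hsq (fun a => Commute (X (pt hn 0) (pt hn 1) a) (X (pt hn 2) (pt hn 3) b)) ?_ ?_ (fun a c ha hc => ?_)
      (fun a ha => ?_) a
    · have := conjC (ι (cross hn)) _ _ (hDs b)
      rw [hEq _ _ _ (hne 0 1 (by decide)), hEq _ _ _ (hne 2 3 (by decide)), cross_apply, cross_apply, cross_apply,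
        cross_apply] at this
      exact this.symm
    · rw [zero_of _ _ (hne 0 1 (by decide))]; exact Commute.one_left _
    · rw [← hadd _ _ (hne 0 1 (by decide))]; exact ha.mul_left hc
    · have := conjC h _ _ ha
      rwa [h01, h23] at this
  have hD' : ∀ a b, Commute (X (pt hn 0) (pt hn 1) a) (X (pt hn 3) (pt hn 2) b) := by
    intro a b
    let ρ : alternatingGroup (Fin n) := ⟨swap (pt hn 0) (pt hn 2) * swap (pt hn 0) (pt hn 3),
      Perm.mem_alternatingGroup.2 (by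
        rw [map_mul, Perm.sign_swap (hne 0 2 (by decide)), Perm.sign_swap (hne 0 3 (by decide))]; rfl)⟩
    have hρ : ∀ r : Fin 4, (ρ : Perm (Fin n)) (pt hn r) = pt hn (![3, 1, 0, 2] r) := by
      intro r
      fin_cases r <;> simp [ρ, swap_apply_def, (pt_injective hn).eq_iff]
    have e31 : ∀ s t, Commute (X (pt hn 3) (pt hn 1) s) (X (pt hn 0) (pt hn 2) t) := fun s t => by
      have := conjC (ι ρ) _ _ (hDall s t)
      rwa [hEq _ _ _ (hne 0 1 (by decide)), hEq _ _ _ (hne 2 3 (by decide)), hρ, hρ, hρ, hρ] at this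
    set A := X (pt hn 0) (pt hn 1) a
    set P := X (pt hn 3) (pt hn 1) b
    set Q := X (pt hn 1) (pt hn 2) 1
    set S := X (pt hn 0) (pt hn 2) a
    have hQ : A * Q * A⁻¹ = S * Q := by
      have := hcomm1 (pt hn 0) (pt hn 1) (pt hn 2) (hne _ _ (by decide)) (hne _ _ (by decide)) (hne _ _ (by decide)) a 1
      rw [mul_one, mul_inv_eq_iff_eq_mul] at this
      exact this
    have hP : A * P * A⁻¹ = P := by
      rw [(show Commute A P from
        hcol (pt hn 0) (pt hn 3) (pt hn 1) (hne _ _ (by decide)) (hne _ _ (by decide)) (hne _ _ (by decide)) a b).eq]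
      group
    have hR : P * Q * P⁻¹ * Q⁻¹ = X (pt hn 3) (pt hn 2) b := by
      have := hcomm1 (pt hn 3) (pt hn 1) (pt hn 2) (hne _ _ (by decide)) (hne _ _ (by decide)) (hne _ _ (by decide)) b 1
      rwa [mul_one] at this
    have hSR : S * X (pt hn 3) (pt hn 2) b * S⁻¹ = X (pt hn 3) (pt hn 2) b := by
      rw [(show Commute S (X (pt hn 3) (pt hn 2) b) from
        hcol (pt hn 0) (pt hn 3) (pt hn 2) (hne _ _ (by decide)) (hne _ _ (by decide)) (hne _ _ (by decide)) a b).eq]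
      group
    refine mul_inv_eq_iff_eq_mul.1 ?_
    calc A * X (pt hn 3) (pt hn 2) b * A⁻¹ =
        (A * P * A⁻¹) * (A * Q * A⁻¹) * (A * P * A⁻¹)⁻¹ * (A * Q * A⁻¹)⁻¹ := by rw [← hR]; group
      _ = P * (S * Q) * P⁻¹ * (S * Q)⁻¹ := by rw [hP, hQ]
      _ = (P * S) * Q * P⁻¹ * Q⁻¹ * S⁻¹ := by group
      _ = (S * P) * Q * P⁻¹ * Q⁻¹ * S⁻¹ := by rw [(e31 b a).eq]
      _ = S * (P * Q * P⁻¹ * Q⁻¹) * S⁻¹ := by group
      _ = _ := by rw [hR, hSR]
  have hdis : ∀ i j l m, i ≠ j → i ≠ l → i ≠ m → j ≠ l → j ≠ m → l ≠ m → ∀ t u, Commute (X i j t) (X l m u) := by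
    intro i j l m hij hil him hjl hjm hlm t u
    obtain ⟨π, hπ⟩ := exists_perm_four hn (le_refl 4) ![i, j, l, m] (by
      intro a b h
      fin_cases a <;> fin_cases b <;>
        simp [hij, hij.symm, hil, hil.symm, him, him.symm, hjl, hjl.symm, hjm, hjm.symm, hlm, hlm.symm] at h ⊢)
    have e0 : π (pt hn 0) = i := hπ 0
    have e1 : π (pt hn 1) = j := hπ 1
    have e2 : π (pt hn 2) = l := hπ 2
    have e3 : π (pt hn 3) = m := hπ 3
    rcases Int.units_eq_one_or (Perm.sign π) with hs' | hs'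
    · have := conjC (ι ⟨π, Perm.mem_alternatingGroup.2 hs'⟩) _ _ (hDall t u)
      rw [hEq _ _ _ (hne 0 1 (by decide)), hEq _ _ _ (hne 2 3 (by decide))] at this
      simpa only [e0, e1, e2, e3] using this
    · have := conjC (ι ⟨π * swap (pt hn 2) (pt hn 3), Perm.mem_alternatingGroup.2 (by
        rw [map_mul, hs', Perm.sign_swap (hne 2 3 (by decide))]; rfl)⟩) _ _ (hD' t u)
      rw [hEq _ _ _ (hne 0 1 (by decide)), hEq _ _ _ (hne 3 2 (by decide))] at this
      simpa only [Perm.coe_mul, Function.comp_apply, swap_apply_left, swap_apply_right,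
        swap_apply_of_ne_of_ne (hne 0 2 (by decide)) (hne 0 3 (by decide)),
        swap_apply_of_ne_of_ne (hne 1 2 (by decide)) (hne 1 3 (by decide)), e0, e1, e2, e3] using this
  refine ⟨X, ⟨hadd, ?_, hcomm1⟩, hX, ?_⟩
  · intro i j l m hij hlm him hjl t u
    suffices Commute (X i j t) (X l m u) by rw [this.eq]; group
    by_cases hil : i = l
    · subst hil
      by_cases hjm : j = m
      · subst hjm
        show X i j t * X i j u = X i j u * X i j t
        rw [hadd i j hij, hadd i j hij, add_comm]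
      · exact hrow i j m hij hlm hjm t u
    · by_cases hjm : j = m
      · subst hjm
        exact hcol i l j hij hlm hil t u
      · exact hdis i j l m hij hil him hjl hjm hlm t u
  · intro K hK
    -- `K` is closed under the alternating group: use the subgroup generated by the root elements
    set K₀ := Subgroup.closure {g : G | ∃ i j t, i ≠ j ∧ g = X i j t} with hK0
    have hK0le : K₀ ≤ K := by
      rw [hK0, Subgroup.closure_le]
      rintro _ ⟨i, j, t, h, rfl⟩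
      exact hK i j h t
    have hconj : ∀ σ, ∀ g ∈ K₀, ι σ * g * (ι σ)⁻¹ ∈ K₀ := by
      intro σ g hg
      refine (Subgroup.closure_le (K₀.comap (MulAut.conj (ι σ)).toMonoidHom)).2 ?_ hg
      rintro _ ⟨i, j, t, h, rfl⟩
      show ι σ * X i j t * (ι σ)⁻¹ ∈ K₀
      rw [hEq σ i j h]
      exact Subgroup.subset_closure ⟨_, _, t, (σ : Perm (Fin n)).injective.ne h, rfl⟩
    have hφK0 : ∀ M, φ M ∈ K₀ := by
      intro M
      have htop : K₀.comap φ = ⊤ := closure_up_low _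
        (fun t => by rw [Subgroup.mem_comap, ← X01]; exact Subgroup.subset_closure ⟨_, _, t, hne 0 1 (by decide), rfl⟩)
        (fun t => by rw [Subgroup.mem_comap, ← X10]; exact Subgroup.subset_closure ⟨_, _, t, hne 1 0 (by decide), rfl⟩)
      exact (htop ▸ Subgroup.mem_top M : M ∈ K₀.comap φ)
    have hcK0 : c ∈ K₀ := by
      rw [← inv_mem_iff]
      have wc : φ (wElt F) * c⁻¹ * φ (wElt F) = c := mul_inv_eq_one.1 hinvol
      have e1 : c⁻¹ = c * φ (wElt F) * c⁻¹ * φ (wElt F) := by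
        calc c⁻¹ = c * c := c2.symm
          _ = c * (φ (wElt F) * c⁻¹ * φ (wElt F)) := by rw [wc]
          _ = _ := by group
      rw [e1]
      exact mul_mem (by rw [hc]; exact hconj _ _ (hφK0 _)) (hφK0 _)
    have hιK : ∀ σ, ι σ ∈ K₀ := by
      have hcyc : ∀ σ : alternatingGroup (Fin n), (σ : Perm (Fin n)).IsThreeCycle → ι σ ∈ K₀ := by
        intro σ hσ
        have h3 : (cyc3 hn : Perm (Fin n)).IsThreeCycle := by
          have h := Perm.isThreeCycle_swap_mul_swap_same (hne 1 0 (by decide)) (hne 1 2 (by decide)) (hne 0 2 (by decide))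
          rw [swap_comm (pt hn 1) (pt hn 0)] at h
          exact h
        obtain ⟨π, hπ⟩ := isConj_iff.1 ((Perm.isConj_iff_cycleType_eq).2 (h3.cycleType.trans hσ.cycleType.symm))
        rcases Int.units_eq_one_or (Perm.sign π) with hs' | hs'
        · let π' : alternatingGroup (Fin n) := ⟨π, Perm.mem_alternatingGroup.2 hs'⟩
          have e : σ = π' * cyc3 hn * π'⁻¹ := Subtype.ext hπ.symm
          rw [e, map_mul, map_mul, map_inv]
          exact hconj _ _ (hc ▸ hcK0)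
        · let π' : alternatingGroup (Fin n) := ⟨π * swap (pt hn 0) (pt hn 1), Perm.mem_alternatingGroup.2 (by
            rw [map_mul, hs', Perm.sign_swap (hne 0 1 (by decide))]; rfl)⟩
          have e : σ = π' * (cyc3 hn)⁻¹ * π'⁻¹ := by
            refine Subtype.ext ?_
            show (σ : Perm (Fin n)) = π * swap (pt hn 0) (pt hn 1) * (swap (pt hn 0) (pt hn 1) * swap (pt hn 1) (pt hn 2))⁻¹ *
              (π * swap (pt hn 0) (pt hn 1))⁻¹
            rw [← hπ]
            show π * (swap (pt hn 0) (pt hn 1) * swap (pt hn 1) (pt hn 2)) * π⁻¹ = _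
            rw [_root_.mul_inv_rev, _root_.mul_inv_rev, swap_inv, swap_inv]
            simp only [mul_assoc]
            rw [Equiv.swap_mul_self_mul]
          rw [e, map_mul, map_mul, map_inv, map_inv]
          exact hconj _ _ (K₀.inv_mem (hc ▸ hcK0))
      intro σ
      have hle : alternatingGroup (Fin n) ≤ (K₀.comap ι).map (alternatingGroup (Fin n)).subtype := by
        conv_lhs => rw [← Equiv.Perm.closure_three_cycles_eq_alternating]
        rw [Subgroup.closure_le]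
        intro ρ hρ
        exact ⟨⟨ρ, hρ.mem_alternatingGroup⟩, hcyc ⟨ρ, hρ.mem_alternatingGroup⟩ hρ, rfl⟩
      obtain ⟨σ', hσ', e⟩ := hle σ.2
      rw [← (Subtype.ext e : σ' = σ)]
      exact hσ'
    rw [eq_top_iff, ← hgen]
    refine le_trans ?_ hK0le
    rw [sup_le_iff]
    exact ⟨fun g ⟨M, hM⟩ => hM ▸ hφK0 M, fun g ⟨σ, hσ⟩ => hσ ▸ hιK σ⟩

end CfsgLib.Pres
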