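import Cfsg.Agent.Lib.Pres.SLThreePres
import Mathlib.GroupTheory.GroupAction.MultipleTransitivity
import Mathlib.LinearAlgebra.Matrix.Permutation

/-!
# The corner copies of `SL₃` and permutation matrices in `SL_n`
-/

set_option autoImplicit false

namespace CfsgLib.Pres

open Matrix Equiv
open scoped MatrixGroups
open CfsgLib.Classical (uElt uElt_val uElt_add)

variable {F : Type*} [Field F] {n : ℕ} (hn : 4 ≤ n)

/-- The first four coordinates. -/
def pt (i : Fin 4) : Fin n := Fin.castLE hn i

/-- The first three coordinates. -/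
def pt3 (i : Fin 3) : Fin n := pt hn (Fin.castLE (by norm_num) i)

/-- Splitting off three coordinates. -/
def split3 : Fin 3 ⊕ Fin (n - 3) ≃ Fin n := finSumFinEquiv.trans (finCongr (by omega))

theorem split3_inl (i : Fin 3) : split3 hn (Sum.inl i) = pt3 hn i := by
  refine Fin.ext ?_
  simp [split3, pt3, pt]

theorem split3_inr (i : Fin (n - 3)) : (split3 hn (Sum.inr i) : ℕ) = 3 + i := by
  simp [split3]

/-- The block embedding of `SL₃`. -/
def block3 : SL(3, F) →* SL(n, F) :=
  MonoidHom.mk' (fun M => ⟨Matrix.reindex (split3 hn) (split3 hn)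
      (Matrix.fromBlocks (M : Matrix (Fin 3) (Fin 3) F) 0 0 1), by
    rw [Matrix.det_reindex_self, Matrix.det_fromBlocks_zero₂₁, Matrix.det_one, mul_one]
    exact M.2⟩) fun M N => Subtype.ext (by
      show Matrix.reindex (split3 hn) (split3 hn) (Matrix.fromBlocks ((M * N : SL(3, F)) : Matrix (Fin 3) (Fin 3) F) 0 0 1) =
        Matrix.reindex (split3 hn) (split3 hn) (Matrix.fromBlocks (M : Matrix (Fin 3) (Fin 3) F) 0 0 1) *
          Matrix.reindex (split3 hn) (split3 hn) (Matrix.fromBlocks (N : Matrix (Fin 3) (Fin 3) F) 0 0 1)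
      rw [Matrix.reindex_apply, Matrix.reindex_apply, Matrix.reindex_apply, Matrix.submatrix_mul_equiv,
        Matrix.fromBlocks_multiply]
      simp)

theorem block3_val (M : SL(3, F)) : ((block3 hn M : SL(n, F)) : Matrix (Fin n) (Fin n) F) =
    Matrix.reindex (split3 hn) (split3 hn) (Matrix.fromBlocks (M : Matrix (Fin 3) (Fin 3) F) 0 0 1) := rfl

theorem pt3_injective : Function.Injective (pt3 hn) := fun a b h => by
  rw [← split3_inl, ← split3_inl] at h
  exact Sum.inl_injective ((split3 hn).injective h)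

theorem block3_transvection (i j : Fin 3) (hij : i ≠ j) (t : F) :
    block3 hn (Matrix.SpecialLinearGroup.transvection hij t) =
      Matrix.SpecialLinearGroup.transvection ((pt3_injective hn).ne hij) t := by
  refine Subtype.ext ?_
  rw [block3_val, Matrix.SpecialLinearGroup.transvection_coe, Matrix.SpecialLinearGroup.transvection_coe]
  ext a b
  obtain ⟨a, rfl⟩ := (split3 hn).surjective a
  obtain ⟨b, rfl⟩ := (split3 hn).surjective b
  rw [Matrix.reindex_apply, Matrix.submatrix_apply, Equiv.symm_apply_apply, Equiv.symm_apply_apply, ← split3_inl,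
    ← split3_inl]
  rcases a with a | a <;> rcases b with b | b <;>
    simp [Matrix.transvection, Matrix.one_apply, Matrix.single_apply]

/-- The corner copy of `SL₂`. -/
def corner2 : SL(2, F) →* SL(n, F) := (block3 hn).comp corner

theorem corner2_uElt (t : F) : corner2 hn (uElt t) =
    Matrix.SpecialLinearGroup.transvection ((pt3_injective hn).ne (show (0 : Fin 3) ≠ 1 by decide)) t := by
  rw [← block3_transvection hn _ _ (by decide : _ ≠ _)]
  refine congrArg (block3 hn) (Subtype.ext ?_)
  rw [corner_val, uElt_val, Matrix.SpecialLinearGroup.transvection_coe]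
  ext i j
  fin_cases i <;> fin_cases j <;> simp [Matrix.transvection]

theorem corner2_lElt (t : F) : corner2 hn (lElt t) =
    Matrix.SpecialLinearGroup.transvection ((pt3_injective hn).ne (show (1 : Fin 3) ≠ 0 by decide)) t := by
  rw [← block3_transvection hn _ _ (by decide : _ ≠ _)]
  refine congrArg (block3 hn) (Subtype.ext ?_)
  rw [corner_val, lElt_val, Matrix.SpecialLinearGroup.transvection_coe]
  ext i j
  fin_cases i <;> fin_cases j <;> simp [Matrix.transvection]

/-- Even permutation matrices. -/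
def permSL : alternatingGroup (Fin n) →* SL(n, F) :=
  MonoidHom.mk' (fun σ => ⟨((σ : Perm (Fin n))⁻¹).permMatrix F, by
    rw [Matrix.det_permutation, map_inv, Perm.mem_alternatingGroup.1 σ.2]; simp⟩) fun σ τ => Subtype.ext (by
      show (((σ * τ : alternatingGroup (Fin n)) : Perm (Fin n))⁻¹).permMatrix F = _
      rw [Subgroup.coe_mul, _root_.mul_inv_rev, Matrix.permMatrix_mul]
      rfl)

theorem permSL_val (σ : alternatingGroup (Fin n)) : ((permSL σ : SL(n, F)) : Matrix (Fin n) (Fin n) F) =
    ((σ : Perm (Fin n))⁻¹).permMatrix F := rfl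

theorem permSL_conj (σ : alternatingGroup (Fin n)) {i j : Fin n} (hij : i ≠ j) (t : F) :
    permSL σ * Matrix.SpecialLinearGroup.transvection hij t * (permSL σ)⁻¹ =
      Matrix.SpecialLinearGroup.transvection ((σ : Perm (Fin n)).injective.ne hij) t := by
  rw [mul_inv_eq_iff_eq_mul]
  refine Subtype.ext ?_
  rw [Matrix.SpecialLinearGroup.coe_mul, Matrix.SpecialLinearGroup.coe_mul, permSL_val,
    Matrix.SpecialLinearGroup.transvection_coe, Matrix.SpecialLinearGroup.transvection_coe]
  simp only [Perm.permMatrix, PEquiv.toMatrix_toPEquiv_mul, PEquiv.mul_toMatrix_toPEquiv]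
  ext a b
  obtain ⟨a, rfl⟩ := (σ : Perm (Fin n)).surjective a
  simp [Matrix.transvection, Matrix.one_apply, Matrix.single_apply, ← Equiv.symm_apply_eq]

theorem pt_injective : Function.Injective (pt hn) := Fin.castLE_injective hn

theorem exists_even_pair {i j : Fin n} (hij : i ≠ j) :
    ∃ σ : alternatingGroup (Fin n), (σ : Perm (Fin n)) (pt hn 0) = i ∧ (σ : Perm (Fin n)) (pt hn 1) = j := by
  have := Equiv.Perm.isMultiplyPretransitive (Fin n) 2
  obtain ⟨π, hπ⟩ := MulAction.exists_smul_eq (Perm (Fin n))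
    (⟨![pt hn 0, pt hn 1], by
      intro a b h
      fin_cases a <;> fin_cases b <;> simp [(pt_injective hn).eq_iff] at h ⊢⟩ : Fin 2 ↪ Fin n)
    (⟨![i, j], by
      intro a b h
      fin_cases a <;> fin_cases b <;> simp [hij, hij.symm] at h ⊢⟩ : Fin 2 ↪ Fin n)
  have h0 : π (pt hn 0) = i := congrArg (fun f : Fin 2 ↪ Fin n => f 0) hπ
  have h1 : π (pt hn 1) = j := congrArg (fun f : Fin 2 ↪ Fin n => f 1) hπ
  have hne : ∀ a b : Fin 4, a ≠ b → pt hn a ≠ pt hn b := fun a b h => (pt_injective hn).ne h
  rcases Int.units_eq_one_or (Perm.sign π) with hs | hs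
  · exact ⟨⟨π, Perm.mem_alternatingGroup.2 hs⟩, h0, h1⟩
  · refine ⟨⟨π * swap (pt hn 2) (pt hn 3), Perm.mem_alternatingGroup.2 (by
      rw [map_mul, hs, Perm.sign_swap (hne 2 3 (by decide))]; rfl)⟩, ?_, ?_⟩
    · show π (swap _ _ (pt hn 0)) = i
      rw [swap_apply_of_ne_of_ne (hne 0 2 (by decide)) (hne 0 3 (by decide)), h0]
    · show π (swap _ _ (pt hn 1)) = j
      rw [swap_apply_of_ne_of_ne (hne 1 2 (by decide)) (hne 1 3 (by decide)), h1]

theorem exists_perm_four {m : ℕ} (hm : m ≤ 4) (f : Fin m → Fin n) (hf : Function.Injective f) :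
    ∃ π : Perm (Fin n), ∀ a : Fin m, π (pt hn (Fin.castLE hm a)) = f a := by
  have := Equiv.Perm.isMultiplyPretransitive (Fin n) m
  obtain ⟨π, hπ⟩ := MulAction.exists_smul_eq (Perm (Fin n))
    (⟨fun a => pt hn (Fin.castLE hm a), (pt_injective hn).comp (Fin.castLE_injective hm)⟩ : Fin m ↪ Fin n)
    (⟨f, hf⟩ : Fin m ↪ Fin n)
  exact ⟨π, fun a => congrArg (fun g : Fin m ↪ Fin n => g a) hπ⟩

/-- The cycle on the first three coordinates. -/
def cyc3 : alternatingGroup (Fin n) :=
  ⟨swap (pt hn 0) (pt hn 1) * swap (pt hn 1) (pt hn 2), Perm.mem_alternatingGroup.2 (by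
    rw [map_mul, Perm.sign_swap ((pt_injective hn).ne (by decide)),
      Perm.sign_swap ((pt_injective hn).ne (by decide))]; rfl)⟩

/-- The double transposition. -/
def dbl : alternatingGroup (Fin n) :=
  ⟨swap (pt hn 0) (pt hn 1) * swap (pt hn 2) (pt hn 3), Perm.mem_alternatingGroup.2 (by
    rw [map_mul, Perm.sign_swap ((pt_injective hn).ne (by decide)),
      Perm.sign_swap ((pt_injective hn).ne (by decide))]; rfl)⟩

/-- The double transposition moving the first pair to the second. -/
def cross : alternatingGroup (Fin n) :=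
  ⟨swap (pt hn 0) (pt hn 2) * swap (pt hn 1) (pt hn 3), Perm.mem_alternatingGroup.2 (by
    rw [map_mul, Perm.sign_swap ((pt_injective hn).ne (by decide)),
      Perm.sign_swap ((pt_injective hn).ne (by decide))]; rfl)⟩

theorem cyc3_apply (a : Fin 4) :
    (cyc3 hn : Perm (Fin n)) (pt hn a) = pt hn (![1, 2, 0, 3] a) := by
  fin_cases a <;> simp [cyc3, swap_apply_def, (pt_injective hn).eq_iff]

theorem dbl_apply (a : Fin 4) : (dbl hn : Perm (Fin n)) (pt hn a) = pt hn (![1, 0, 3, 2] a) := by
  fin_cases a <;> simp [dbl, swap_apply_def, (pt_injective hn).eq_iff]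

theorem cross_apply (a : Fin 4) : (cross hn : Perm (Fin n)) (pt hn a) = pt hn (![2, 3, 0, 1] a) := by
  fin_cases a <;> simp [cross, swap_apply_def, (pt_injective hn).eq_iff]

theorem block3_cyc : block3 hn (cyc F) = permSL (cyc3 hn) := by
  refine Subtype.ext ?_
  rw [block3_val, permSL_val]
  have h0 : pt hn 0 = split3 hn (Sum.inl 0) := (split3_inl hn 0).symm
  have h1 : pt hn 1 = split3 hn (Sum.inl 1) := (split3_inl hn 1).symm
  have h2 : pt hn 2 = split3 hn (Sum.inl 2) := (split3_inl hn 2).symm
  ext a b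
  obtain ⟨a, rfl⟩ := (split3 hn).surjective a
  obtain ⟨b, rfl⟩ := (split3 hn).surjective b
  rw [Matrix.reindex_apply, Matrix.submatrix_apply, Equiv.symm_apply_apply, Equiv.symm_apply_apply]
  simp only [Perm.permMatrix, PEquiv.toMatrix_apply, Equiv.toPEquiv_apply, Option.mem_def, Option.some.injEq]
  simp only [show ((cyc3 hn : Perm (Fin n))⁻¹ (split3 hn a) = split3 hn b) ↔
      (split3 hn a = (cyc3 hn : Perm (Fin n)) (split3 hn b)) from Equiv.symm_apply_eq _]
  have hb : (cyc3 hn : Perm (Fin n)) (split3 hn b) = split3 hn (match b with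
      | Sum.inl i => Sum.inl (![1, 2, 0] i)
      | Sum.inr i => Sum.inr i) := by
    rcases b with i | i
    · fin_cases i <;> simp [cyc3, h0, h1, h2, swap_apply_def, (split3 hn).injective.eq_iff]
    · simp [cyc3, h0, h1, h2, swap_apply_def, (split3 hn).injective.eq_iff]
  simp only [hb, (split3 hn).injective.eq_iff]
  rcases a with a | a <;> rcases b with b | b
  · fin_cases a <;> fin_cases b <;> simp [cyc_val]
  · simp
  · simp
  · simp [Matrix.one_apply]

end CfsgLib.Pres
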