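import Cfsg.Agent.Lib.Pres.SUGen

/-!
# The unitary group is the amalgam of its four-coordinate blocks
-/

set_option autoImplicit false

namespace CfsgLib.Pres.SUn

open Matrix

variable {F : Type*} [Field F] {q n : ℕ}

/-- Compatible lifts of the four-coordinate blocks. -/
structure Blocks {G : Type*} [Group G] (Φ : G →* Cfsg.SU n F q) (B : Finset (Fin n) → Subgroup G) : Prop where
  mem : ∀ T : Finset (Fin n), T.card = 4 → ∀ g ∈ B T, Φ g ∈ SOn T
  surj : ∀ T : Finset (Fin n), T.card = 4 → ∀ x ∈ (SOn T : Subgroup (Cfsg.SU n F q)), ∃ g ∈ B T, Φ g = x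
  agree : ∀ T T' : Finset (Fin n), T.card = 4 → T'.card = 4 → ∀ a ∈ B T, ∀ b ∈ B T', Φ a = Φ b → a = b
  comm : ∀ R R' : Finset (Fin n), R.card ≤ 3 → R'.card ≤ 3 → Disjoint R R' →
    ∀ T T' : Finset (Fin n), T.card = 4 → T'.card = 4 → R ⊆ T → R' ⊆ T' →
      ∀ a ∈ B T, ∀ b ∈ B T', Φ a ∈ SOn R → Φ b ∈ SOn R' → Commute a b

/-- The subgroup generated by the blocks inside a set of coordinates. -/
def KB {G : Type*} [Group G] (B : Finset (Fin n) → Subgroup G) (S : Finset (Fin n)) : Subgroup G :=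
  Subgroup.closure {g | ∃ T : Finset (Fin n), T ⊆ S ∧ T.card = 4 ∧ g ∈ B T}

namespace Blocks

variable {G : Type*} [Group G] {Φ : G →* Cfsg.SU n F q} {B : Finset (Fin n) → Subgroup G} (hB : Blocks Φ B)

theorem le_KB {S T : Finset (Fin n)} (hT : T ⊆ S) (h4 : T.card = 4) {g : G} (hg : g ∈ B T) : g ∈ KB B S :=
  Subgroup.subset_closure ⟨T, hT, h4, hg⟩

include hB

theorem image_le {S : Finset (Fin n)} {g : G} (hg : g ∈ KB B S) : Φ g ∈ SOn S := by
  have : KB B S ≤ (SOn S : Subgroup (Cfsg.SU n F q)).comap Φ := by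
    rw [KB, Subgroup.closure_le]
    rintro g ⟨T, hT, h4, hg⟩
    exact SOn_mono hT (hB.mem T h4 g hg)
  exact this hg

variable [Fintype F] (hF : Fintype.card F = q ^ 2)

include hF

/-- Lifts exist and commute with disjoint small elements. -/
theorem exists_comm {S R R' T' : Finset (Fin n)} (hS : 4 ≤ S.card) (hRS : R ⊆ S) (hR' : R'.card ≤ 3)
    (hd : Disjoint R R') (hT' : T'.card = 4) (hRT' : R' ⊆ T') {b : G} (hb : b ∈ B T') (hbR : Φ b ∈ SOn R')
    {x : Cfsg.SU n F q} (hx : x ∈ SOn R) : ∃ k ∈ KB B S, Φ k = x ∧ Commute k b := by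
  classical
  have small : ∀ R₀ : Finset (Fin n), R₀ ⊆ R → R₀.card ≤ 3 → ∀ y ∈ (SOn R₀ : Subgroup (Cfsg.SU n F q)),
      ∃ k ∈ KB B S, Φ k = y ∧ Commute k b := by
    intro R₀ h0 h3 y hy
    obtain ⟨T, hRT, hTS, hT4⟩ :=
      Finset.exists_subsuperset_card_eq (h0.trans hRS) (show R₀.card ≤ 4 by omega) hS
    obtain ⟨k, hk, hky⟩ := hB.surj T hT4 y (SOn_mono hRT hy)
    exact ⟨k, le_KB hTS hT4 hk, hky,
      hB.comm R₀ R' h3 hR' (Finset.disjoint_of_subset_left h0 hd) T T' hT4 hT' hRT hRT' k hk b hb (hky ▸ hy) hbR⟩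
  by_cases h3 : R.card ≤ 3
  · exact small R (Finset.Subset.refl R) h3 x hx
  have hle := gen_three hF (show 3 ≤ R.card by omega) hx
  clear hx
  induction hle using Subgroup.closure_induction with
  | mem y hy =>
    obtain ⟨R₀, h0, hc, hy'⟩ := hy
    exact small R₀ h0 hc.le y hy'
  | one => exact ⟨1, one_mem _, map_one Φ, Commute.one_left b⟩
  | mul y y' _ _ ih ih' =>
    obtain ⟨k, hk, e, c⟩ := ih
    obtain ⟨k', hk', e', c'⟩ := ih'
    exact ⟨k * k', mul_mem hk hk', by rw [map_mul, e, e'], c.mul_left c'⟩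
  | inv y _ ih =>
    obtain ⟨k, hk, e, c⟩ := ih
    exact ⟨k⁻¹, inv_mem hk, by rw [map_inv, e], c.inv_left⟩

theorem exists_lift {S : Finset (Fin n)} (hS : 4 ≤ S.card) {x : Cfsg.SU n F q} (hx : x ∈ SOn S) :
    ∃ k ∈ KB B S, Φ k = x := by
  obtain ⟨T, -, hTS, hT4⟩ := Finset.exists_subsuperset_card_eq (Finset.empty_subset S)
    (show (∅ : Finset (Fin n)).card ≤ 4 by simp) hS
  obtain ⟨k, hk, e, -⟩ := hB.exists_comm hF hS (Finset.Subset.refl S) (R' := ∅) (T' := T) (by simp)
    (Finset.disjoint_empty_right S) hT4 (Finset.empty_subset T) (B T).one_mem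
    (show Φ 1 ∈ SOn ∅ by rw [map_one]; exact one_mem _) hx
  exact ⟨k, hk, e⟩

set_option maxHeartbeats 8000000 in
/-- One inductive step: adding the coordinate `a`. -/
theorem step {S' : Finset (Fin n)} {a : Fin n} (ha : a ∈ S') (hS : 4 ≤ (S'.erase a).card)
    (ih : ∀ g ∈ KB B (S'.erase a), Φ g = 1 → g = 1) : ∀ g ∈ KB B S', Φ g = 1 → g = 1 := by
  classical
  have hq := q_ne_zero hF
  set S := S'.erase a with hSdef
  have haS : a ∉ S := Finset.notMem_erase a S'
  have hSS' : S ⊆ S' := Finset.erase_subset a S'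
  set K := KB B S with hK
  set e₀ : Fin n → F := Pi.single a 1 with he₀
  have hinj : ∀ k ∈ K, ∀ k' ∈ K, Φ k = Φ k' → k = k' := fun k hk k' hk' e => by
    have := ih (k⁻¹ * k') (mul_mem (inv_mem hk) hk') (by rw [map_mul, map_inv, e, inv_mul_cancel])
    exact inv_mul_eq_one.1 this
  have hKfix : ∀ k ∈ K, act (Φ k) e₀ = e₀ := fun k hk => (hB.image_le hk) a haS
  have hsup : ∀ {T : Finset (Fin n)}, T ⊆ S' → T.erase a ⊆ S := fun h => Finset.erase_subset_erase a h
  -- block elements fixing the new coordinate lie in `K`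
  have fixmem : ∀ T : Finset (Fin n), T ⊆ S' → T.card = 4 → ∀ b ∈ B T, act (Φ b) e₀ = e₀ → b ∈ K := by
    intro T hT h4 b hb hfix
    have hmem : Φ b ∈ SOn (T.erase a) := fun i hi => by
      by_cases hia : i = a
      · subst hia; exact hfix
      · exact hB.mem T h4 b hb i fun h => hi (Finset.mem_erase.2 ⟨hia, h⟩)
    have h3 : (T.erase a).card ≤ 4 := h4 ▸ Finset.card_erase_le
    obtain ⟨T2, hRT, hTS, hT4⟩ := Finset.exists_subsuperset_card_eq (hsup hT) h3 hS
    obtain ⟨b', hb', e⟩ := hB.surj T2 hT4 _ (SOn_mono hRT hmem)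
    rw [hB.agree T T2 h4 hT4 b hb b' hb' e.symm]
    exact le_KB hTS hT4 hb'
  have commK : ∀ R R' T' : Finset (Fin n), R ⊆ S → R'.card ≤ 3 → Disjoint R R' → T'.card = 4 → R' ⊆ T' →
      ∀ b ∈ B T', Φ b ∈ SOn R' → ∀ k ∈ K, Φ k ∈ SOn R → Commute k b := by
    intro R R' T' hR hR' hd hT' hRT' b hb hbR k hk hkR
    obtain ⟨k', hk', e, c⟩ := hB.exists_comm hF hS hR hR' hd hT' hRT' hb hbR hkR
    rwa [hinj k hk k' hk' e.symm]
  -- block elements with the same image of the new basis vector
  have indep : ∀ T T' : Finset (Fin n), T ⊆ S' → T' ⊆ S' → T.card = 4 → T'.card = 4 → a ∈ T → a ∈ T' →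
      2 ≤ (T ∩ T').card → ∀ b ∈ B T, ∀ b' ∈ B T', act (Φ b) e₀ = act (Φ b') e₀ → b⁻¹ * b' ∈ K := by
    intro T T' hT hT' h4 h4' haT haT' h2 b hb b' hb' e
    have hv : ∀ i, i ∉ T ∩ T' → act (Φ b) e₀ i = 0 := fun i hi => by
      by_cases hiT : i ∈ T
      · rw [e]
        exact supp_of_mem hF (hB.mem T' h4' b' hb') haT' i fun h => hi (Finset.mem_inter.2 ⟨hiT, h⟩)
      · exact supp_of_mem hF (hB.mem T h4 b hb) haT i hiT
    obtain ⟨r, hr, hrv⟩ := on_unit hF h2 (x := e₀) (y := act (Φ b) e₀)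
      (fun i hi => single_out (Finset.mem_inter.2 ⟨haT, haT'⟩) hi) hv (herm_unit hF a)
      (by rw [act_herm, herm_unit hF])
    obtain ⟨c, hc, hcr⟩ := hB.surj T h4 r (SOn_mono Finset.inter_subset_left hr)
    obtain ⟨c', hc', hcr'⟩ := hB.surj T' h4' r (SOn_mono Finset.inter_subset_right hr)
    obtain rfl : c = c' := hB.agree T T' h4 h4' c hc c' hc' (hcr.trans hcr'.symm)
    have h1 : c⁻¹ * b ∈ K := fixmem T hT h4 _ (mul_mem (inv_mem hc) hb) (by
      rw [map_mul, map_inv, act_mul, ← hrv, ← hcr, act_inv_act])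
    have h1' : c⁻¹ * b' ∈ K := fixmem T' hT' h4' _ (mul_mem (inv_mem hc') hb') (by
      rw [map_mul, map_inv, act_mul, ← e, ← hrv, ← hcr, act_inv_act])
    have : b⁻¹ * b' = (c⁻¹ * b)⁻¹ * (c⁻¹ * b') := by group
    rw [this]
    exact mul_mem (inv_mem h1) h1'
  -- the double cosets
  set C : Set G := {g | ∃ k ∈ K, ∃ T : Finset (Fin n), T ⊆ S' ∧ T.card = 4 ∧ a ∈ T ∧
    ∃ b ∈ B T, ∃ k' ∈ K, g = k * b * k'} with hC
  -- standard vectors
  let ispt : (Fin n → F) → Prop := fun v => ∀ i, i ≠ a → v i = 0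
  let std : Fin n → Fin n → (Fin n → F) → Fin n → F := fun x y v =>
    (if ispt v then 0 else nf hF x y (1 - v a * v a ^ q)) + v a • e₀
  have hnorm : ∀ v : Fin n → F, Cfsg.hermForm n F q v v = 1 → ∀ w : Fin n → F, (∀ i, i ≠ a → w i = v i) → w a = 0 →
      Cfsg.hermForm n F q w w = 1 - v a * v a ^ q := by
    intro v hv w hw hwa
    rw [← hv, Cfsg.hermForm, Cfsg.hermForm, ← Finset.add_sum_erase _ _ (Finset.mem_univ a),
      ← Finset.add_sum_erase _ _ (Finset.mem_univ a),
      Finset.sum_congr rfl fun i hi => by rw [hw i (Finset.ne_of_mem_erase hi)], hwa, zero_mul, zero_add,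
      add_sub_cancel_left]
  have hfixed : ∀ v : Fin n → F, Cfsg.hermForm n F q v v = 1 → (1 - v a * v a ^ q) ^ q = 1 - v a * v a ^ q := by
    intro v hv
    rw [← hnorm v hv (Function.update v a 0) (fun i hi => by simp [Function.update_of_ne hi]) (by simp)]
    exact herm_fixed hF _
  have std_spec : ∀ x y : Fin n, x ≠ y → x ≠ a → y ≠ a → ∀ v : Fin n → F, Cfsg.hermForm n F q v v = 1 →
      std x y v a = v a ∧ (∀ i, i ≠ x → i ≠ y → i ≠ a → std x y v i = 0) ∧
      Cfsg.hermForm n F q (std x y v) (std x y v) = 1 ∧ (ispt (std x y v) ↔ ispt v) := by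
    intro x y hxy hxa hya v hv
    set z : Fin n → F := if ispt v then 0 else nf hF x y (1 - v a * v a ^ q) with hz
    have hstd : std x y v = z + v a • e₀ := rfl
    have hz0 : ∀ i, i ≠ x → i ≠ y → z i = 0 := fun i h1 h2 => by
      rw [hz]; split_ifs
      · rfl
      · exact nf_out hF _ h1 h2
    have h1 : std x y v a = v a := by simp [hstd, he₀, hz0 a hxa.symm hya.symm]
    have h2 : ∀ i, i ≠ a → std x y v i = z i := fun i hi => by simp [hstd, he₀, Pi.single_eq_of_ne hi]
    have hiff : ispt (std x y v) ↔ ispt v := by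
      refine ⟨fun h => ?_, fun h i hi => by rw [h2 i hi, hz, if_pos h]; rfl⟩
      by_contra hnp
      refine nf_ne hF hxy (1 - v a * v a ^ q) (funext fun i => ?_)
      by_cases hia : i = a
      · subst hia; exact nf_out hF _ hxa.symm hya.symm
      · have := h i hia
        rwa [h2 i hia, hz, if_neg hnp] at this
    refine ⟨h1, fun i a1 a2 a3 => (h2 i a3).trans (hz0 i a1 a2), ?_, hiff⟩
    have hzn : Cfsg.hermForm n F q z z = 1 - v a * v a ^ q := by
      rw [hz]; split_ifs with h
      · rw [← hnorm v hv 0 (fun i hi => (h i hi).symm) rfl]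
      · exact nf_herm hF hxy (hfixed v hv)
    rw [hstd, Cfsg.hermForm, ← Finset.add_sum_erase _ _ (Finset.mem_univ a),
      Finset.sum_congr rfl fun i hi => by
        rw [show (z + v a • e₀ : Fin n → F) i = z i by simp [he₀, Pi.single_eq_of_ne (Finset.ne_of_mem_erase hi)]]]
    have : Cfsg.hermForm n F q z z = ∑ i ∈ Finset.univ.erase a, z i * z i ^ q := by
      rw [Cfsg.hermForm, ← Finset.add_sum_erase _ _ (Finset.mem_univ a), hz0 a hxa.symm hya.symm, zero_mul, zero_add]
    rw [← this, hzn]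
    simp [he₀, hz0 a hxa.symm hya.symm]
  have std_eq : ∀ x y : Fin n, ∀ v w : Fin n → F, v a = w a → (ispt v ↔ ispt w) → std x y v = std x y w :=
    fun x y v w h1 h2 => by simp only [std, h1, propext h2]
  -- renormalising inside one block
  have renorm : ∀ T : Finset (Fin n), T ⊆ S' → T.card = 4 → a ∈ T → ∀ x y, x ∈ T → y ∈ T → x ≠ y → x ≠ a → y ≠ a →
      ∀ b ∈ B T, ∃ k ∈ K, ∃ b' ∈ B T, b = k * b' ∧ act (Φ b') e₀ = std x y (act (Φ b) e₀) := by
    intro T hT h4 haT x y hx hy hxy hxa hya b hb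
    set v := act (Φ b) e₀ with hv
    have hvn : Cfsg.hermForm n F q v v = 1 := by rw [hv, act_herm, herm_unit hF]
    obtain ⟨s1, s2, s3, s4⟩ := std_spec x y hxy hxa hya v hvn
    set u : Fin n → F := Function.update v a 0 with hu
    set u' : Fin n → F := if ispt v then 0 else nf hF x y (1 - v a * v a ^ q) with hu'
    have hvs : ∀ i, i ∉ T → v i = 0 := supp_of_mem hF (hB.mem T h4 b hb) haT
    have hvu : v = u + v a • e₀ := funext fun i => by
      by_cases hia : i = a
      · subst hia; simp [hu, he₀]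
      · simp [hu, he₀, Function.update_of_ne hia, Pi.single_eq_of_ne hia]
    have hex : ∃ h ∈ (SOn (T.erase a) : Subgroup (Cfsg.SU n F q)), act h u = u' := by
      by_cases hp : ispt v
      · refine ⟨1, one_mem _, ?_⟩
        rw [act_one, hu', if_pos hp]
        funext i
        by_cases hia : i = a
        · subst hia; simp [hu]
        · simp [hu, Function.update_of_ne hia, hp i hia]
      · have hun : Cfsg.hermForm n F q u u = 1 - v a * v a ^ q :=
          hnorm v hvn u (fun i hi => by simp [hu, Function.update_of_ne hi]) (by simp [hu])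
        rw [hu', if_neg hp]
        refine on_trans hF (by rw [Finset.card_erase_of_mem haT]; omega) (fun i hi => ?_)
          (fun i hi => nf_out hF _ (fun e => hi (e ▸ Finset.mem_erase.2 ⟨hxa, hx⟩))
            fun e => hi (e ▸ Finset.mem_erase.2 ⟨hya, hy⟩))
          (fun h0 => hp fun i hi => by simpa [hu, Function.update_of_ne hi] using congrFun h0 i)
          (nf_ne hF hxy _) (hun.trans (nf_herm hF hxy (hfixed v hvn)).symm)
        by_cases hia : i = a
        · subst hia; simp [hu]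
        · simp only [hu, Function.update_of_ne hia]; exact hvs i fun h => hi (Finset.mem_erase.2 ⟨hia, h⟩)
    obtain ⟨h, hh, hhu⟩ := hex
    obtain ⟨c, hc, hch⟩ := hB.surj T h4 h (SOn_mono (Finset.erase_subset a T) hh)
    have hha : act h e₀ = e₀ := hh a (Finset.notMem_erase a T)
    have hcK : c ∈ K := fixmem T hT h4 c hc (by rw [hch, hha])
    refine ⟨c⁻¹, inv_mem hcK, c * b, mul_mem hc hb, by group, ?_⟩
    rw [map_mul, act_mul, hch, ← hv, hvu, act_add, act_smul, hha, hhu, ← hvu]
  -- the distinguished block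
  obtain ⟨x0, y0, z0, hx0, hy0, hz0, hxy0, hxz0, hyz0⟩ := pick_three (R := S) (by omega)
  have hxa0 : x0 ≠ a := fun e => haS (e ▸ hx0)
  have hya0 : y0 ≠ a := fun e => haS (e ▸ hy0)
  have hza0 : z0 ≠ a := fun e => haS (e ▸ hz0)
  set T0 : Finset (Fin n) := {x0, y0, z0, a} with hT0
  have hT0S : T0 ⊆ S' := by
    intro i hi
    simp only [hT0, Finset.mem_insert, Finset.mem_singleton] at hi
    rcases hi with rfl | rfl | rfl | rfl
    exacts [hSS' hx0, hSS' hy0, hSS' hz0, ha]
  have hT04 : T0.card = 4 := by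
    rw [hT0, Finset.card_insert_of_notMem (by simp [hxy0, hxz0, hxa0]),
      Finset.card_insert_of_notMem (by simp [hyz0, hya0]), Finset.card_pair hza0]
  have haT0 : a ∈ T0 := by simp [hT0]
  -- moving to the distinguished pair
  have tonormal : ∀ g ∈ C, ∃ k ∈ K, ∃ b0 ∈ B T0, ∃ k' ∈ K, g = k * b0 * k' ∧
      act (Φ b0) e₀ = std x0 y0 (act (Φ g) e₀) := by
    rintro g ⟨k, hk, T, hT, h4, haT, b, hb, k', hk', rfl⟩
    have hg : act (Φ (k * b * k')) e₀ = act (Φ k) (act (Φ b) e₀) := by
      rw [map_mul, map_mul, act_mul, act_mul, hKfix k' hk']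
    have hbn : Cfsg.hermForm n F q (act (Φ b) e₀) (act (Φ b) e₀) = 1 := by rw [act_herm, herm_unit hF]
    have hgdata : act (Φ (k * b * k')) e₀ a = act (Φ b) e₀ a ∧
        (ispt (act (Φ (k * b * k')) e₀) ↔ ispt (act (Φ b) e₀)) := by
      have hkS := hB.image_le hk
      refine ⟨by rw [hg, act_apply_out hq hkS _ haS], ?_⟩
      have he : ∀ w : Fin n → F, ispt w → w = w a • e₀ := fun w hw => funext fun i => by
        by_cases hia : i = a
        · subst hia; simp [he₀]
        · simp [he₀, Pi.single_eq_of_ne hia, hw i hia]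
      rw [hg]
      constructor
      · intro hp
        have hb' : act (Φ b) e₀ = act (Φ k) (act (Φ b) e₀) a • e₀ := by
          refine act_inj (Φ k) ?_
          rw [act_smul, hKfix k hk]
          exact he _ hp
        intro i hi
        rw [hb']; simp [he₀, Pi.single_eq_of_ne hi]
      · intro hp i hi
        rw [he _ hp, act_smul, hKfix k hk]
        simp [he₀, Pi.single_eq_of_ne hi]
    rw [std_eq x0 y0 _ _ hgdata.1 hgdata.2]
    -- change one coordinate
    have move : ∀ T : Finset (Fin n), T ⊆ S' → T.card = 4 → a ∈ T → ∀ x y, x ∈ T → y ∈ T → x ≠ y → x ≠ a → y ≠ a →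
        ∀ y', y' ∈ S → y ≠ y' → ∀ b ∈ B T, act (Φ b) e₀ = std x y (act (Φ b) e₀) →
        ∃ T' : Finset (Fin n), T' ⊆ S' ∧ T'.card = 4 ∧ a ∈ T' ∧ y ∈ T' ∧ y' ∈ T' ∧ ∃ k ∈ K, ∃ b' ∈ B T', ∃ k' ∈ K,
          b = k * b' * k' ∧ act (Φ b') e₀ = std y y' (act (Φ b) e₀) := by
      intro T hT h4 haT x y hx hy hxy hxa hya y' hy' hyy' b hb hstd
      obtain ⟨T', hsub, hT'S, hT'4⟩ := Finset.exists_subsuperset_card_eq (s := {x, y, y', a}) (t := S') (n := 4)
        (by intro i hi
            simp only [Finset.mem_insert, Finset.mem_singleton] at hi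
            rcases hi with rfl | rfl | rfl | rfl
            exacts [hT hx, hT hy, hSS' hy', ha])
        Finset.card_le_four (by rw [← h4]; exact Finset.card_le_card hT)
      have haT' : a ∈ T' := hsub (by simp)
      obtain ⟨r, hr, hrv⟩ := on_unit hF (T := ({x, y, a} : Finset (Fin n))) (x := e₀) (y := act (Φ b) e₀)
        (by rw [Finset.card_insert_of_notMem (by simp [hxy, hxa]), Finset.card_pair hya]; omega)
        (fun i hi => single_out (by simp) hi)
        (fun i hi => by
          simp only [Finset.mem_insert, Finset.mem_singleton, not_or] at hi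
          rw [hstd]
          exact (std_spec x y hxy hxa hya _ (by rw [act_herm, herm_unit hF])).2.1 i hi.1 hi.2.1 hi.2.2)
        (herm_unit hF a) (by rw [act_herm, herm_unit hF])
      obtain ⟨b1, hb1, hb1r⟩ := hB.surj T' hT'4 r (SOn_mono (by
        intro i hi; apply hsub; simp only [Finset.mem_insert, Finset.mem_singleton] at hi ⊢; tauto) hr)
      have hd : b1⁻¹ * b ∈ K := indep T' T hT'S hT hT'4 h4 haT' haT (le_trans
        (by rw [Finset.card_pair hxa] : 2 ≤ ({x, a} : Finset (Fin n)).card) (Finset.card_le_card (by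
          intro i hi
          simp only [Finset.mem_insert, Finset.mem_singleton] at hi
          rcases hi with rfl | rfl
          · exact Finset.mem_inter.2 ⟨hsub (by simp), hx⟩
          · exact Finset.mem_inter.2 ⟨haT', haT⟩))) b1 hb1 b hb (by rw [hb1r, hrv])
      obtain ⟨k, hk, b', hb', e, hb'v⟩ := renorm T' hT'S hT'4 haT' y y' (hsub (by simp)) (hsub (by simp)) hyy' hya
        (fun e => haS (e ▸ hy')) b1 hb1
      exact ⟨T', hT'S, hT'4, haT', hsub (by simp), hsub (by simp), k, hk, b', hb', b1⁻¹ * b, hd,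
        by rw [← e]; group, by rw [hb'v, hb1r, hrv]⟩
    obtain ⟨x, y, hx, hy, hxy⟩ := Finset.one_lt_card_iff.1 (show 1 < ((T.erase a).erase y0).card by
      have h1 := Finset.card_erase_of_mem haT
      have h2 : (T.erase a).card - 1 ≤ ((T.erase a).erase y0).card := Finset.pred_card_le_card_erase
      omega)
    simp only [Finset.mem_erase] at hx hy
    obtain ⟨k1, hk1, b1, hb1, e1, v1⟩ := renorm T hT h4 haT x y hx.2.2 hy.2.2 hxy hx.2.1 hy.2.1 b hb
    have n1 : Cfsg.hermForm n F q (act (Φ b) e₀) (act (Φ b) e₀) = 1 := hbn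
    have s1 := std_spec x y hxy hx.2.1 hy.2.1 _ hbn
    have v1' : act (Φ b1) e₀ = std x y (act (Φ b1) e₀) := by
      conv_lhs => rw [v1]
      rw [v1]
      exact std_eq x y _ _ s1.1.symm s1.2.2.2.symm
    obtain ⟨T2, hT2, h42, haT2, hyT2, hy0T2, k2, hk2, b2, hb2, k2', hk2', e2, v2⟩ :=
      move T hT h4 haT x y hx.2.2 hy.2.2 hxy hx.2.1 hy.2.1 y0 hy0 hy.1 b1 hb1 v1'
    have s2 := std_spec y y0 hy.1 hy.2.1 hya0 (act (Φ b1) e₀) (by rw [act_herm, herm_unit hF])
    have v2' : act (Φ b2) e₀ = std y y0 (act (Φ b2) e₀) := by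
      conv_lhs => rw [v2]
      rw [v2]
      exact std_eq y y0 _ _ s2.1.symm s2.2.2.2.symm
    obtain ⟨T3, hT3, h43, haT3, hy0T3, hx0T3, k3, hk3, b3, hb3, k3', hk3', e3, v3⟩ :=
      move T2 hT2 h42 haT2 y y0 hyT2 hy0T2 hy.1 hy.2.1 hya0 x0 hx0 hxy0.symm b2 hb2 v2'
    have s3 := std_spec y0 x0 hxy0.symm hya0 hxa0 (act (Φ b2) e₀) (by rw [act_herm, herm_unit hF])
    obtain ⟨k4, hk4, b4, hb4, e4, v4⟩ := renorm T3 hT3 h43 haT3 x0 y0 hx0T3 hy0T3 hxy0 hxa0 hya0 b3 hb3
    obtain ⟨r, hr, hrv⟩ := on_unit hF (T := T0) (x := e₀) (y := act (Φ b4) e₀) (by omega)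
      (fun i hi => single_out haT0 hi) (fun i hi => by
        simp only [hT0, Finset.mem_insert, Finset.mem_singleton, not_or] at hi
        rw [v4]
        exact (std_spec x0 y0 hxy0 hxa0 hya0 _ (by rw [act_herm, herm_unit hF])).2.1 i hi.1 hi.2.1 hi.2.2.2)
      (herm_unit hF a) (by rw [act_herm, herm_unit hF])
    obtain ⟨b0, hb0, hb0r⟩ := hB.surj T0 hT04 r hr
    have hd : b0⁻¹ * b4 ∈ K := indep T0 T3 hT0S hT3 hT04 h43 haT0 haT3 (le_trans
      (by rw [Finset.card_pair hxa0] : 2 ≤ ({x0, a} : Finset (Fin n)).card) (Finset.card_le_card (by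
        intro i hi
        simp only [Finset.mem_insert, Finset.mem_singleton] at hi
        rcases hi with rfl | rfl
        · exact Finset.mem_inter.2 ⟨by simp [hT0], hx0T3⟩
        · exact Finset.mem_inter.2 ⟨haT0, haT3⟩))) b0 hb0 b4 hb4 (by rw [hb0r, hrv])
    refine ⟨k * k1 * k2 * k3 * k4, mul_mem (mul_mem (mul_mem (mul_mem hk hk1) hk2) hk3) hk4, b0, hb0,
      (b0⁻¹ * b4) * k3' * k2' * k', mul_mem (mul_mem (mul_mem hd hk3') hk2') hk', ?_, ?_⟩
    · rw [e1, e2, e3, e4]; group
    · rw [hb0r, hrv, v4]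
      refine std_eq x0 y0 _ _ ?_ ?_
      · rw [v3, s3.1, v2, s2.1, v1, s1.1]
      · rw [v3, s3.2.2.2, v2, s2.2.2.2, v1, s1.2.2.2]
  -- stabilisers of the standard vectors
  have stab : ∀ v : Fin n → F, Cfsg.hermForm n F q v v = 1 → ∃ r ∈ B T0, act (Φ r) e₀ = std x0 y0 v ∧
      ∀ s ∈ K, act (Φ s) (std x0 y0 v) = std x0 y0 v → r⁻¹ * s * r ∈ K := by
    intro v hv
    obtain ⟨h1, h2, h3, h4⟩ := std_spec x0 y0 hxy0 hxa0 hya0 v hv
    by_cases hiso : ¬ ispt v ∧ 1 - v a * v a ^ q = 0
    · -- the isotropic case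
      set R' : Finset (Fin n) := {x0, y0, a} with hR'
      have hR'3 : R'.card = 3 := by
        rw [hR', Finset.card_insert_of_notMem (by simp [hxy0, hxa0]), Finset.card_pair hya0]
      have hR'T : R' ⊆ T0 := by
        intro i hi; simp only [hR', hT0, Finset.mem_insert, Finset.mem_singleton] at hi ⊢; tauto
      obtain ⟨ρ, hρ, hρv⟩ := on_unit hF (T := R') (x := e₀) (y := std x0 y0 v) (by omega)
        (fun i hi => single_out (by simp [hR']) hi) (fun i hi => by
          simp only [hR', Finset.mem_insert, Finset.mem_singleton, not_or] at hi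
          exact h2 i hi.1 hi.2.1 hi.2.2) (herm_unit hF a) h3
      obtain ⟨r, hr, hrρ⟩ := hB.surj T0 hT04 ρ (SOn_mono hR'T hρ)
      refine ⟨r, hr, by rw [hrρ, hρv], fun s hs hfix => ?_⟩
      have hnf : std x0 y0 v = iso hF x0 y0 + v a • e₀ := by
        simp only [std, if_neg hiso.1]
        congr 1
        rw [nf, dif_neg (by rw [hiso.2]; simp)]
        rfl
      have hfu : act (Φ s) (iso hF x0 y0) = iso hF x0 y0 := by
        rw [hnf, act_add, act_smul, hKfix s hs] at hfix
        exact add_right_cancel hfix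
      have hgen := stab_iso hF hxy0 hx0 hy0 (by omega) (hB.image_le hs) hfu
      suffices key : ∀ x ∈ Subgroup.closure ((SOn ((S.erase x0).erase y0) : Subgroup (Cfsg.SU n F q)) ∪
          {h : Cfsg.SU n F q | ∃ z ∈ (S.erase x0).erase y0, h ∈ SOn {x0, y0, z} ∧
            act h (iso hF x0 y0) = iso hF x0 y0}),
          ∃ k ∈ K, Φ k = x ∧ r⁻¹ * k * r ∈ K by
        obtain ⟨k, hk, hkx, hkr⟩ := key _ hgen
        rwa [hinj k hk s hs hkx] at hkr
      intro x hx
      induction hx using Subgroup.closure_induction with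
      | mem y hy =>
        rcases hy with hy | ⟨z, hz, hy, hyu⟩
        · obtain ⟨k, hk, hky⟩ := hB.exists_lift hF hS
            (SOn_mono ((Finset.erase_subset _ _).trans (Finset.erase_subset _ _)) hy)
          have hc : Commute k r := commK ((S.erase x0).erase y0) R' T0
            ((Finset.erase_subset _ _).trans (Finset.erase_subset _ _)) hR'3.le (by
              rw [Finset.disjoint_left]
              intro i hi hi'
              simp only [Finset.mem_erase] at hi
              simp only [hR', Finset.mem_insert, Finset.mem_singleton] at hi'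
              rcases hi' with rfl | rfl | rfl
              exacts [hi.2.1 rfl, hi.1 rfl, haS hi.2.2]) hT04 hR'T r hr (hrρ ▸ hρ) k hk (hky ▸ hy)
          exact ⟨k, hk, hky, by rw [mul_assoc, hc.eq, inv_mul_cancel_left]; exact hk⟩
        · simp only [Finset.mem_erase] at hz
          set T : Finset (Fin n) := {x0, y0, z, a} with hT
          have hza : z ≠ a := fun e => haS (e ▸ hz.2.2)
          have hT4 : T.card = 4 := by
            rw [hT, Finset.card_insert_of_notMem (by simp [hxy0, hz.2.1.symm, hxa0]),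
              Finset.card_insert_of_notMem (by simp [hz.1.symm, hya0]), Finset.card_pair hza]
          have hTS : T ⊆ S' := by
            intro i hi
            simp only [hT, Finset.mem_insert, Finset.mem_singleton] at hi
            rcases hi with rfl | rfl | rfl | rfl
            exacts [hSS' hx0, hSS' hy0, hSS' hz.2.2, ha]
          obtain ⟨k, hk, hky⟩ := hB.surj T hT4 y (SOn_mono (by
            intro i hi; simp only [hT, Finset.mem_insert, Finset.mem_singleton] at hi ⊢; tauto) hy)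
          obtain ⟨r', hr', hr'ρ⟩ := hB.surj T hT4 ρ (SOn_mono (by
            intro i hi; simp only [hT, hR', Finset.mem_insert, Finset.mem_singleton] at hi ⊢; tauto) hρ)
          obtain rfl : r = r' := hB.agree T0 T hT04 hT4 r hr r' hr' (hrρ.trans hr'ρ.symm)
          have hya : act y e₀ = e₀ := hy a (by simp [hxa0.symm, hya0.symm, hza.symm])
          refine ⟨k, fixmem T hTS hT4 k hk (by rw [hky, hya]), hky,
            fixmem T hTS hT4 _ (mul_mem (mul_mem (inv_mem hr') hk) hr') ?_⟩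
          rw [map_mul, map_mul, map_inv, act_mul, act_mul, hrρ, hρv, hky, hnf, act_add, act_smul, hya, hyu, ← hnf,
            ← hρv, act_inv_act]
      | one => exact ⟨1, one_mem _, map_one Φ, by simp⟩
      | mul y y' _ _ i1 i2 =>
        obtain ⟨k, hk, e, c⟩ := i1
        obtain ⟨k', hk', e', c'⟩ := i2
        refine ⟨k * k', mul_mem hk hk', by rw [map_mul, e, e'], ?_⟩
        have := mul_mem c c'
        convert this using 1
        group
      | inv y _ i1 =>
        obtain ⟨k, hk, e, c⟩ := i1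
        refine ⟨k⁻¹, inv_mem hk, by rw [map_inv, e], ?_⟩
        have := inv_mem c
        convert this using 1
        group
    · -- the vectors on two coordinates
      set R' : Finset (Fin n) := {x0, a} with hR'
      have hR'2 : R'.card = 2 := Finset.card_pair hxa0
      have hR'T : R' ⊆ T0 := by
        intro i hi; simp only [hR', hT0, Finset.mem_insert, Finset.mem_singleton] at hi ⊢; tauto
      have hst : ∃ t : F, std x0 y0 v = t • Pi.single x0 1 + v a • e₀ ∧ (t = 0 ↔ ispt v) := by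
        by_cases hp : ispt v
        · exact ⟨0, by simp [std, hp], by simp [hp]⟩
        · have hne : 1 - v a * v a ^ q ≠ 0 := fun h => hiso ⟨hp, h⟩
          have hex : ∃ t : F, t * t ^ q = 1 - v a * v a ^ q ∧ 1 - v a * v a ^ q ≠ 0 := by
            obtain ⟨t, ht⟩ := exists_norm hF (hfixed v hv)
            exact ⟨t, ht, hne⟩
          refine ⟨hex.choose, ?_, ⟨fun h => absurd ?_ hne, fun h => absurd h hp⟩⟩
          · simp only [std, if_neg hp]
            rw [nf, dif_pos hex]
          · rw [← hex.choose_spec.1, h, zero_mul]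
      obtain ⟨t, hst, htp⟩ := hst
      obtain ⟨ρ, hρ, hρv⟩ := on_unit hF (T := R') (x := e₀) (y := std x0 y0 v) (by omega)
        (fun i hi => single_out (by simp [hR']) hi) (fun i hi => by
          simp only [hR', Finset.mem_insert, Finset.mem_singleton, not_or] at hi
          rw [hst]; simp [he₀, Pi.single_eq_of_ne hi.1, Pi.single_eq_of_ne hi.2]) (herm_unit hF a) h3
      obtain ⟨r, hr, hrρ⟩ := hB.surj T0 hT04 ρ (SOn_mono hR'T hρ)
      refine ⟨r, hr, by rw [hrρ, hρv], fun s hs hfix => ?_⟩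
      have hcomm : ∀ k ∈ K, Φ k ∈ SOn (S.erase x0) → r⁻¹ * k * r ∈ K := by
        intro k hk hkS
        have hc : Commute k r := commK (S.erase x0) R' T0 (Finset.erase_subset _ _) (by omega) (by
          rw [Finset.disjoint_left]
          intro i hi hi'
          simp only [Finset.mem_erase] at hi
          simp only [hR', Finset.mem_insert, Finset.mem_singleton] at hi'
          rcases hi' with rfl | rfl
          exacts [hi.1 rfl, haS hi.2]) hT04 hR'T r hr (hrρ ▸ hρ) k hk hkS
        rw [mul_assoc, hc.eq, inv_mul_cancel_left]; exact hk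
      by_cases hp : ispt v
      · -- the whole of `K` is normalised
        have hst0 : std x0 y0 v = v a • e₀ := by rw [hst, htp.2 hp]; simp
        suffices key : ∀ x ∈ (SOn (S.erase x0) ⊔ ⨆ z ∈ S.erase x0, SOn {z, x0} : Subgroup (Cfsg.SU n F q)),
            ∃ k ∈ K, Φ k = x ∧ r⁻¹ * k * r ∈ K by
          obtain ⟨k, hk, hkx, hkr⟩ := key _ (split_last hF hS hx0 (hB.image_le hs))
          rwa [hinj k hk s hs hkx] at hkr
        let M : Subgroup (Cfsg.SU n F q) :=
          (K ⊓ K.comap (MulAut.conj r⁻¹).toMonoidHom).map Φ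
        have hM : ∀ x ∈ M, ∃ k ∈ K, Φ k = x ∧ r⁻¹ * k * r ∈ K := by
          rintro _ ⟨k, ⟨hk, hk'⟩, rfl⟩
          exact ⟨k, hk, rfl, by simpa using hk'⟩
        intro x hx
        refine hM x ((sup_le (fun y hy => ?_) (iSup₂_le fun z hz y hy => ?_) :
          (SOn (S.erase x0) ⊔ ⨆ z ∈ S.erase x0, SOn {z, x0} : Subgroup (Cfsg.SU n F q)) ≤ M) hx)
        · obtain ⟨k, hk, hky⟩ := hB.exists_lift hF hS (SOn_mono (Finset.erase_subset _ _) hy)
          exact ⟨k, ⟨hk, by simpa using hcomm k hk (hky ▸ hy)⟩, hky⟩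
        · obtain ⟨hzx, hzS⟩ := Finset.mem_erase.1 hz
          obtain ⟨T, hsub, hTS, hT4⟩ := Finset.exists_subsuperset_card_eq (s := {z, x0, a}) (t := S') (n := 4)
            (by intro i hi
                simp only [Finset.mem_insert, Finset.mem_singleton] at hi
                rcases hi with rfl | rfl | rfl
                exacts [hSS' hzS, hSS' hx0, ha])
            (Finset.card_le_three.trans (by omega))
            (le_trans (by omega : 4 ≤ S.card) (Finset.card_le_card hSS'))
          obtain ⟨k, hk, hky⟩ := hB.surj T hT4 y (SOn_mono (by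
            intro i hi; apply hsub; simp only [Finset.mem_insert, Finset.mem_singleton] at hi ⊢; tauto) hy)
          obtain ⟨r', hr', hr'ρ⟩ := hB.surj T hT4 ρ (SOn_mono (by
            intro i hi; apply hsub; simp only [hR', Finset.mem_insert, Finset.mem_singleton] at hi ⊢; tauto) hρ)
          obtain rfl : r = r' := hB.agree T0 T hT04 hT4 r hr r' hr' (hrρ.trans hr'ρ.symm)
          have hya : act y e₀ = e₀ := hy a (by
            intro hm
            rcases Finset.mem_insert.1 hm with e | e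
            · exact haS (by rwa [e])
            · exact hxa0 (Finset.mem_singleton.1 e).symm)
          refine ⟨k, ⟨fixmem T hTS hT4 k hk (by rw [hky, hya]), ?_⟩, hky⟩
          have := fixmem T hTS hT4 _ (mul_mem (mul_mem (inv_mem hr') hk) hr') (by
            rw [map_mul, map_mul, map_inv, act_mul, act_mul, hrρ, hρv, hky, hst0, act_smul, hya, ← hst0, ← hρv,
              act_inv_act])
          simpa using this
      · refine hcomm s hs fun i hi => ?_
        by_cases hix : i = x0
        · subst hix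
          have ht0 : t ≠ 0 := fun h => hp (htp.1 h)
          rw [hst, act_add, act_smul, act_smul, hKfix s hs] at hfix
          exact smul_right_injective (Fin n → F) ht0 (add_right_cancel hfix)
        · exact hB.image_le hs i fun h => hi (Finset.mem_erase.2 ⟨hix, h⟩)
  -- two elements of the union with the same vector
  have same : ∀ g ∈ C, ∀ g' ∈ C, act (Φ g) e₀ = act (Φ g') e₀ → g⁻¹ * g' ∈ K := by
    intro g hg g' hg' e
    obtain ⟨k1, hk1, b1, hb1, k1', hk1', rfl, v1⟩ := tonormal g hg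
    obtain ⟨k2, hk2, b2, hb2, k2', hk2', rfl, v2⟩ := tonormal g' hg'
    set v := act (Φ (k1 * b1 * k1')) e₀ with hvdef
    rw [← e] at v2
    have hvn : Cfsg.hermForm n F q v v = 1 := by rw [hvdef, act_herm, herm_unit hF]
    obtain ⟨r, hr, hrv, hst⟩ := stab v hvn
    have hT0T0 : 2 ≤ (T0 ∩ T0).card := by rw [Finset.inter_self]; omega
    have d1 : r⁻¹ * b1 ∈ K := indep T0 T0 hT0S hT0S hT04 hT04 haT0 haT0 hT0T0 r hr b1 hb1 (by rw [hrv, v1])
    have d2 : r⁻¹ * b2 ∈ K := indep T0 T0 hT0S hT0S hT04 hT04 haT0 haT0 hT0T0 r hr b2 hb2 (by rw [hrv, v2])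
    have hs : r⁻¹ * (k1⁻¹ * k2) * r ∈ K := by
      refine hst _ (mul_mem (inv_mem hk1) hk2) ?_
      have e1 : v = act (Φ k1) (std x0 y0 v) := by
        rw [← v1, hvdef, map_mul, map_mul, act_mul, act_mul, hKfix k1' hk1']
      have e2 : v = act (Φ k2) (std x0 y0 v) := by
        rw [← v2, e, map_mul, map_mul, act_mul, act_mul, hKfix k2' hk2']
      rw [map_mul, map_inv, act_mul, ← e2]
      conv_lhs => rw [e1]
      exact act_inv_act _ _
    have : (k1 * b1 * k1')⁻¹ * (k2 * b2 * k2') =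
        k1'⁻¹ * (r⁻¹ * b1)⁻¹ * (r⁻¹ * (k1⁻¹ * k2) * r) * (r⁻¹ * b2) * k2' := by group
    rw [this]
    exact mul_mem (mul_mem (mul_mem (mul_mem (inv_mem hk1') (inv_mem d1)) hs) d2) hk2'
  -- closure
  have hCK : ∀ k ∈ K, ∀ g ∈ C, k * g ∈ C := by
    rintro k hk _ ⟨k1, hk1, T, hT, h4, haT, b, hb, k', hk', rfl⟩
    exact ⟨k * k1, mul_mem hk hk1, T, hT, h4, haT, b, hb, k', hk', by group⟩
  have hCL : ∀ z ∈ S, ∀ T : Finset (Fin n), T.card = 4 → ({z, a} : Finset (Fin n)) ⊆ T → ∀ l ∈ B T,
      Φ l ∈ SOn {z, a} → ∀ g ∈ C, l * g ∈ C := by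
    intro z hz T hT4 hzaT l hl hlz g hg
    set v := act (Φ g) e₀ with hv
    have hza : z ≠ a := fun e => haS (e ▸ hz)
    set R := S.erase z with hR
    have hR3 : 3 ≤ R.card := by rw [hR, Finset.card_erase_of_mem hz]; omega
    obtain ⟨x, y, w, hx, hy, -, hxy, -, -⟩ := pick_three hR3
    obtain ⟨hxz, hxS⟩ := Finset.mem_erase.1 hx
    obtain ⟨hyz, hyS⟩ := Finset.mem_erase.1 hy
    set u : Fin n → F := fun i => if i ∈ R then v i else 0 with hu
    have hex : ∃ u' : Fin n → F, (∀ i, i ≠ x → i ≠ y → u' i = 0) ∧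
        ∃ c ∈ (SOn R : Subgroup (Cfsg.SU n F q)), act c u' = u := by
      by_cases hu0 : u = 0
      · exact ⟨0, fun _ _ _ => rfl, 1, one_mem _, by rw [act_one, hu0]⟩
      · refine ⟨nf hF x y (Cfsg.hermForm n F q u u), fun i => nf_out hF _,
          on_trans hF hR3 (fun i hi => nf_out hF _ (fun e => hi (e ▸ hx)) fun e => hi (e ▸ hy))
            (fun i hi => by simp [hu, hi]) (nf_ne hF hxy _) hu0 (nf_herm hF hxy (herm_fixed hF u))⟩
    obtain ⟨u', hu', c, hc, hcu⟩ := hex
    obtain ⟨k, hk, hkc⟩ := hB.exists_lift hF hS (SOn_mono (Finset.erase_subset z S) hc)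
    have hcomm : Commute k l := commK R {z, a} T (Finset.erase_subset z S) (by rw [Finset.card_pair hza]; omega) (by
      rw [Finset.disjoint_left]
      intro i hi hi'
      simp only [Finset.mem_insert, Finset.mem_singleton] at hi'
      rcases hi' with rfl | rfl
      exacts [(Finset.mem_erase.1 hi).1 rfl, haS (Finset.mem_of_mem_erase hi)]) hT4 hzaT l hl hlz k hk (hkc ▸ hc)
    obtain ⟨k0, hk0, T', hT', h4', haT', b, hb, k0', hk0', hgeq⟩ := id hg
    have hvS' : ∀ i, i ∉ S' → v i = 0 := by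
      intro i hi
      rw [hv, hgeq, map_mul, map_mul, act_mul, act_mul, hKfix k0' hk0',
        act_apply_out hq (hB.image_le hk0) _ fun h => hi (hSS' h)]
      exact supp_of_mem hF (hB.mem T' h4' b hb) haT' i fun h => hi (hT' h)
    set T1 : Finset (Fin n) := {z, x, y, a} with hT1
    have hxa : x ≠ a := fun e => haS (e ▸ hxS)
    have hya : y ≠ a := fun e => haS (e ▸ hyS)
    have hT14 : T1.card = 4 := by
      rw [hT1, Finset.card_insert_of_notMem (by simp [hxz.symm, hyz.symm, hza]),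
        Finset.card_insert_of_notMem (by simp [hxy, hxa]), Finset.card_pair hya]
    have hT1S : T1 ⊆ S' := by
      intro i hi
      simp only [hT1, Finset.mem_insert, Finset.mem_singleton] at hi
      rcases hi with rfl | rfl | rfl | rfl
      exacts [hSS' hz, hSS' hxS, hSS' hyS, ha]
    have hvv : v = u + (v - u) := by abel
    have hrest : ∀ i, i ∈ R → (v - u) i = 0 := fun i hi => by simp [hu, hi]
    have hv' : ∀ i, i ∉ T1 → act (Φ (k⁻¹ * g)) e₀ i = 0 := by
      intro i hi
      simp only [hT1, Finset.mem_insert, Finset.mem_singleton, not_or] at hi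
      rw [map_mul, map_inv, act_mul, ← hv, hvv, act_add, hkc, act_eq_self hq (inv_mem hc) hrest, ← hcu, act_inv_act,
        Pi.add_apply, hu' i hi.2.1 hi.2.2.1, zero_add, hcu]
      by_cases hiR : i ∈ R
      · simp [hu, hiR]
      · have : v i = 0 := hvS' i fun h => hiR (Finset.mem_erase.2 ⟨hi.1, Finset.mem_erase.2 ⟨hi.2.2.2, h⟩⟩)
        simp [hu, hiR, this]
    obtain ⟨ρ, hρ, hρv⟩ := on_unit hF (T := T1) (x := e₀) (y := act (Φ (k⁻¹ * g)) e₀) (by omega)
      (fun i hi => single_out (by simp [hT1]) hi) hv' (herm_unit hF a) (by rw [act_herm, herm_unit hF])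
    obtain ⟨b1, hb1, hb1ρ⟩ := hB.surj T1 hT14 ρ hρ
    have hb1C : b1 ∈ C := ⟨1, one_mem _, T1, hT1S, hT14, by simp [hT1], b1, hb1, 1, one_mem _, by group⟩
    have hd := same b1 hb1C _ (hCK k⁻¹ (inv_mem hk) g hg) (by rw [hb1ρ, hρv])
    obtain ⟨l', hl', hll'⟩ := hB.surj T1 hT14 (Φ l) (SOn_mono (by
      intro i hi; simp only [hT1, Finset.mem_insert, Finset.mem_singleton] at hi ⊢; tauto) hlz)
    obtain rfl : l = l' := hB.agree T T1 hT4 hT14 l hl l' hl' hll'.symm
    refine ⟨k, hk, T1, hT1S, hT14, by simp [hT1], l * b1, mul_mem hl' hb1, b1⁻¹ * (k⁻¹ * g), hd, ?_⟩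
    rw [show k * (l * b1) * (b1⁻¹ * (k⁻¹ * g)) = (k * l) * k⁻¹ * g by group, hcomm.eq]
    group
  set Γ := Subgroup.closure ((K : Set G) ∪ {l | ∃ z ∈ S, ∃ T : Finset (Fin n), T.card = 4 ∧
    ({z, a} : Finset (Fin n)) ⊆ T ∧ l ∈ B T ∧ Φ l ∈ SOn {z, a}}) with hΓ
  have hK'Γ : KB B S' ≤ Γ := by
    rw [KB, Subgroup.closure_le]
    rintro g ⟨T, hT, h4, hg⟩
    by_cases haT : a ∈ T
    · have hle : (SOn T : Subgroup (Cfsg.SU n F q)) ≤ (Γ ⊓ B T).map Φ := by
        refine (split_last hF (by omega) haT).trans (sup_le (fun y hy => ?_) (iSup₂_le fun z hz y hy => ?_))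
        · obtain ⟨b, hb, hby⟩ := hB.surj T h4 y (SOn_mono (Finset.erase_subset a T) hy)
          exact ⟨b, ⟨Subgroup.subset_closure (Or.inl (fixmem T hT h4 b hb
            (by rw [hby]; exact hy a (Finset.notMem_erase a T)))), hb⟩, hby⟩
        · obtain ⟨b, hb, hby⟩ := hB.surj T h4 y (SOn_mono (by
            intro i hi
            simp only [Finset.mem_insert, Finset.mem_singleton] at hi
            rcases hi with rfl | rfl
            exacts [Finset.mem_of_mem_erase hz, haT]) hy)
          refine ⟨b, ⟨Subgroup.subset_closure (Or.inr ⟨z, hsup hT hz, T, h4, ?_, hb, hby ▸ hy⟩), hb⟩, hby⟩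
          intro i hi
          simp only [Finset.mem_insert, Finset.mem_singleton] at hi
          rcases hi with rfl | rfl
          exacts [Finset.mem_of_mem_erase hz, haT]
      obtain ⟨b, hb, hbg⟩ := hle (hB.mem T h4 g hg)
      rw [← hB.agree T T h4 h4 b hb.2 g hg hbg]
      exact hb.1
    · exact Subgroup.subset_closure (Or.inl (le_KB (fun i hi => Finset.mem_erase.2 ⟨fun e => haT (by rwa [← e]), hT hi⟩) h4 hg))
  have h1C : (1 : G) ∈ C :=
    ⟨1, one_mem _, T0, hT0S, hT04, haT0, 1, one_mem _, 1, one_mem _, by group⟩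
  have hΓC : ∀ x ∈ Γ, ∀ g ∈ C, x * g ∈ C := by
    intro x hx
    induction hx using Subgroup.closure_induction'' with
    | mem y hy =>
      rcases hy with hy | ⟨z, hz, T, h4, hsub, hy, hy'⟩
      · exact hCK y hy
      · exact hCL z hz T h4 hsub y hy hy'
    | inv_mem y hy =>
      rcases hy with hy | ⟨z, hz, T, h4, hsub, hy, hy'⟩
      · exact hCK _ (inv_mem hy)
      · exact hCL z hz T h4 hsub _ (inv_mem hy) (by rw [map_inv]; exact inv_mem hy')
    | one => intro g hg; rwa [one_mul]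
    | mul y y' _ _ i1 i2 => intro g hg; rw [mul_assoc]; exact i1 _ (i2 _ hg)
  intro g hg hg1
  have hgC : g ∈ C := by simpa using hΓC g (hK'Γ hg) 1 h1C
  have := same 1 h1C g hgC (by rw [map_one, hg1])
  rw [inv_one, one_mul] at this
  exact ih g this hg1

/-- The amalgam theorem. -/
theorem injective (S : Finset (Fin n)) (hS : 4 ≤ S.card) : ∀ g ∈ KB B S, Φ g = 1 → g = 1 := by
  induction S using Finset.strongInduction with
  | H S ih =>
    rcases Nat.eq_or_lt_of_le hS with h | h
    · intro g hg hg1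
      have hle : KB B S ≤ B S := by
        rw [KB, Subgroup.closure_le]
        rintro x ⟨T, hT, h4, hx⟩
        rwa [← Finset.eq_of_subset_of_card_le hT (by omega)]
      exact hB.agree S S h.symm h.symm g (hle hg) 1 (one_mem _) (by rw [hg1, map_one])
    · obtain ⟨a, ha⟩ : S.Nonempty := Finset.card_pos.1 (by omega)
      have hc : 4 ≤ (S.erase a).card := by rw [Finset.card_erase_of_mem ha]; omega
      exact hB.step hF ha hc (ih _ (Finset.erase_ssubset ha) hc)

end Blocks

end CfsgLib.Pres.SUn
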