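import Cfsg.Agent.Lib.Geom.IsoStabHerm
import Cfsg.Agent.Lib.MaxSub.HermPerp
import Cfsg.Agent.Lib.MaxSub.HermFull
import Cfsg.Agent.Lib.Aschbacher.Forms

/-!
# Coordinate blocks of the special unitary group
-/

set_option autoImplicit false

namespace CfsgLib.Pres.SUn

open Matrix

variable {F : Type*} [Field F] {q n k : ℕ}

/-- The action on vectors. -/
def act (g : Cfsg.SU n F q) (v : Fin n → F) : Fin n → F :=
  ((g : Matrix.SpecialLinearGroup (Fin n) F) : Matrix (Fin n) (Fin n) F) *ᵥ v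

theorem act_one (v : Fin n → F) : act (1 : Cfsg.SU n F q) v = v := by simp [act]

theorem act_mul (g h : Cfsg.SU n F q) (v : Fin n → F) : act (g * h) v = act g (act h v) := by
  simp [act, Matrix.mulVec_mulVec]

theorem act_inv_act (g : Cfsg.SU n F q) (v : Fin n → F) : act g⁻¹ (act g v) = v := by
  rw [← act_mul, inv_mul_cancel, act_one]

theorem act_act_inv (g : Cfsg.SU n F q) (v : Fin n → F) : act g (act g⁻¹ v) = v := by
  rw [← act_mul, mul_inv_cancel, act_one]

theorem act_add (g : Cfsg.SU n F q) (u v : Fin n → F) : act g (u + v) = act g u + act g v :=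
  Matrix.mulVec_add _ _ _

theorem act_smul (g : Cfsg.SU n F q) (c : F) (v : Fin n → F) : act g (c • v) = c • act g v :=
  Matrix.mulVec_smul _ _ _

theorem act_herm (g : Cfsg.SU n F q) (u v : Fin n → F) :
    Cfsg.hermForm n F q (act g u) (act g v) = Cfsg.hermForm n F q u v :=
  g.2 u v

theorem eq_of_act {g h : Cfsg.SU n F q} (e : ∀ v, act g v = act h v) : g = h :=
  Subtype.ext (Subtype.ext (Matrix.ext_of_mulVec_single fun i => e _))

theorem act_inj (g : Cfsg.SU n F q) {u v : Fin n → F} (e : act g u = act g v) : u = v := by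
  rw [← act_inv_act g u, e, act_inv_act]

/-- The subgroup fixing the basis vectors outside `T`. -/
def SOn (T : Finset (Fin n)) : Subgroup (Cfsg.SU n F q) where
  carrier := {g | ∀ i, i ∉ T → act g (Pi.single i 1) = Pi.single i 1}
  mul_mem' {a b} ha hb i hi := by rw [act_mul, hb i hi, ha i hi]
  one_mem' i _ := act_one _
  inv_mem' {a} ha i hi := by
    conv_lhs => rw [← ha i hi]
    exact act_inv_act _ _

theorem mem_SOn {T : Finset (Fin n)} {g : Cfsg.SU n F q} :
    g ∈ SOn T ↔ ∀ i, i ∉ T → act g (Pi.single i 1) = Pi.single i 1 := Iff.rfl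

theorem SOn_mono {S T : Finset (Fin n)} (h : S ⊆ T) : (SOn S : Subgroup (Cfsg.SU n F q)) ≤ SOn T :=
  fun _ hg i hi => hg i fun hS => hi (h hS)

theorem SOn_inf {S T : Finset (Fin n)} {g : Cfsg.SU n F q} (hS : g ∈ SOn S) (hT : g ∈ SOn T) :
    g ∈ SOn (S ∩ T) := fun i hi => by
  by_cases h : i ∈ S
  · exact hT i fun h' => hi (Finset.mem_inter.2 ⟨h, h'⟩)
  · exact hS i h

theorem SOn_univ : (SOn Finset.univ : Subgroup (Cfsg.SU n F q)) = ⊤ :=
  eq_top_iff.2 fun _ _ i hi => absurd (Finset.mem_univ i) hi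

variable [Fintype F]

theorem two_le_q (hF : Fintype.card F = q ^ 2) : 2 ≤ q := Classical.two_le_of_card_sq hF

theorem q_ne_zero (hF : Fintype.card F = q ^ 2) : q ≠ 0 := by
  have := two_le_q hF; omega

omit [Fintype F] in
theorem herm_single_right (hq : q ≠ 0) (u : Fin n → F) (i : Fin n) :
    Cfsg.hermForm n F q u (Pi.single i 1) = u i := by
  rw [Cfsg.hermForm, Finset.sum_eq_single i]
  · simp
  · intro j _ hj; simp [Pi.single_eq_of_ne hj, zero_pow hq]
  · exact fun h => absurd (Finset.mem_univ i) h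

omit [Fintype F] in
theorem act_apply_out (hq : q ≠ 0) {T : Finset (Fin n)} {g : Cfsg.SU n F q} (hg : g ∈ SOn T) (v : Fin n → F)
    {i : Fin n} (hi : i ∉ T) : act g v i = v i := by
  conv_lhs => rw [← herm_single_right hq (act g v) i, ← hg i hi, act_herm, herm_single_right hq]

omit [Fintype F] in
theorem act_supp (hq : q ≠ 0) {S T : Finset (Fin n)} {g : Cfsg.SU n F q} (hg : g ∈ SOn T) (hTS : T ⊆ S)
    {v : Fin n → F} (hv : ∀ i, i ∉ S → v i = 0) : ∀ i, i ∉ S → act g v i = 0 := fun i hi => by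
  rw [act_apply_out hq hg v fun h => hi (hTS h), hv i hi]

omit [Fintype F] in
theorem act_eq_self (hq : q ≠ 0) {T : Finset (Fin n)} {g : Cfsg.SU n F q} (hg : g ∈ SOn T) {v : Fin n → F}
    (hv : ∀ i, i ∈ T → v i = 0) : act g v = v := by
  have key : ∀ s : Finset (Fin n), Disjoint s T → ∀ c : Fin n → F,
      act g (∑ i ∈ s, c i • Pi.single i 1) = ∑ i ∈ s, c i • Pi.single i 1 := by
    intro s hs c
    rw [act, Matrix.mulVec_sum]
    refine Finset.sum_congr rfl fun i hi => ?_
    rw [Matrix.mulVec_smul]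
    exact congrArg _ (hg i fun h => Finset.disjoint_left.1 hs hi h)
  have e : v = ∑ i ∈ Finset.univ \ T, v i • Pi.single i 1 := by
    funext j
    rw [Finset.sum_apply]
    by_cases hj : j ∈ T
    · rw [hv j hj, Finset.sum_eq_zero fun i hi => ?_]
      have : i ≠ j := fun e => (Finset.mem_sdiff.1 hi).2 (e ▸ hj)
      simp [Pi.single_eq_of_ne this.symm]
    · rw [Finset.sum_eq_single j (fun i _ hij => by simp [Pi.single_eq_of_ne hij.symm])
        (fun h => absurd (Finset.mem_sdiff.2 ⟨Finset.mem_univ j, hj⟩) h)]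
      simp
  rw [e]
  exact key _ Finset.sdiff_disjoint _

/-- The matrix of a block. -/
noncomputable def blkMat (f : Fin k ↪ Fin n) (M : Matrix (Fin k) (Fin k) F) : Matrix (Fin n) (Fin n) F := by
  classical
  exact Matrix.of fun i j => if hi : ∃ a, f a = i then (if hj : ∃ b, f b = j then M hi.choose hj.choose else 0)
    else if i = j then 1 else 0

omit [Fintype F] in
theorem blkMat_in (f : Fin k ↪ Fin n) (M : Matrix (Fin k) (Fin k) F) (a b : Fin k) :
    blkMat f M (f a) (f b) = M a b := by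
  have h1 : ∃ a', f a' = f a := ⟨a, rfl⟩
  have h2 : ∃ b', f b' = f b := ⟨b, rfl⟩
  simp only [blkMat, Matrix.of_apply, dif_pos h1, dif_pos h2, f.injective h1.choose_spec, f.injective h2.choose_spec]

omit [Fintype F] in
theorem blkMat_row (f : Fin k ↪ Fin n) (M : Matrix (Fin k) (Fin k) F) (a : Fin k) {j : Fin n}
    (hj : ¬ ∃ b, f b = j) : blkMat f M (f a) j = 0 := by
  have h1 : ∃ a', f a' = f a := ⟨a, rfl⟩
  simp only [blkMat, Matrix.of_apply, dif_pos h1, dif_neg hj]

omit [Fintype F] in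
theorem blkMat_out (f : Fin k ↪ Fin n) (M : Matrix (Fin k) (Fin k) F) {i : Fin n} (j : Fin n)
    (hi : ¬ ∃ a, f a = i) : blkMat f M i j = if i = j then 1 else 0 := by
  simp only [blkMat, Matrix.of_apply, dif_neg hi]

omit [Fintype F] in
theorem blkMat_mulVec_in (f : Fin k ↪ Fin n) (M : Matrix (Fin k) (Fin k) F) (v : Fin n → F) (a : Fin k) :
    (blkMat f M *ᵥ v) (f a) = (M *ᵥ fun b => v (f b)) a := by
  classical
  simp only [Matrix.mulVec, dotProduct]
  rw [← Finset.sum_subset (Finset.subset_univ (Finset.univ.map f)) fun j _ hj => by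
    rw [blkMat_row f M a fun ⟨b, hb⟩ => hj (Finset.mem_map.2 ⟨b, Finset.mem_univ b, hb⟩), zero_mul],
    Finset.sum_map]
  exact Finset.sum_congr rfl fun b _ => by rw [blkMat_in]

omit [Fintype F] in
theorem blkMat_mulVec_out (f : Fin k ↪ Fin n) (M : Matrix (Fin k) (Fin k) F) (v : Fin n → F) {i : Fin n}
    (hi : ¬ ∃ a, f a = i) : (blkMat f M *ᵥ v) i = v i := by
  classical
  simp [Matrix.mulVec, dotProduct, blkMat_out f M _ hi]

omit [Fintype F] in
theorem blkMat_mul (f : Fin k ↪ Fin n) (M N : Matrix (Fin k) (Fin k) F) :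
    blkMat f (M * N) = blkMat f M * blkMat f N := by
  refine Matrix.ext_of_mulVec_single fun j => funext fun i => ?_
  rw [← Matrix.mulVec_mulVec]
  by_cases hi : ∃ a, f a = i
  · obtain ⟨a, rfl⟩ := hi
    rw [blkMat_mulVec_in, blkMat_mulVec_in, ← Matrix.mulVec_mulVec]
    refine congrFun (congrArg _ (funext fun b => ?_)) a
    rw [blkMat_mulVec_in]
  · rw [blkMat_mulVec_out f _ _ hi, blkMat_mulVec_out f _ _ hi, blkMat_mulVec_out f _ _ hi]

omit [Fintype F] in
theorem det_blkMat (f : Fin k ↪ Fin n) (M : Matrix (Fin k) (Fin k) F) : (blkMat f M).det = M.det := by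
  classical
  let e : Fin k ⊕ {i : Fin n // ¬ ∃ a, f a = i} ≃ Fin n :=
    (Equiv.sumCongr (Equiv.ofInjective f f.injective) (Equiv.refl _)).trans
      (Equiv.sumCompl fun i : Fin n => ∃ a, f a = i)
  have e1 : ∀ a, e (Sum.inl a) = f a := fun a => rfl
  have e2 : ∀ i, e (Sum.inr i) = i.1 := fun i => rfl
  have : (blkMat f M).submatrix e e = Matrix.fromBlocks M 0 0 1 := by
    ext a b
    rw [Matrix.submatrix_apply]
    rcases a with a | a <;> rcases b with b | b
    · rw [e1, e1, blkMat_in]; rfl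
    · rw [e1, e2, blkMat_row f M a b.2]; rfl
    · rw [e2, e1, blkMat_out f M _ a.2, if_neg fun h => a.2 ⟨b, h.symm⟩]; rfl
    · rw [e2, e2, blkMat_out f M _ a.2]
      simp [Matrix.one_apply, Subtype.ext_iff]
  rw [← Matrix.det_submatrix_equiv_self e, this, Matrix.det_fromBlocks_zero₂₁, Matrix.det_one, mul_one]

omit [Fintype F] in
theorem herm_split (f : Fin k ↪ Fin n) (u v : Fin n → F) :
    Cfsg.hermForm n F q u v = Cfsg.hermForm k F q (fun a => u (f a)) (fun a => v (f a)) +
      ∑ i ∈ Finset.univ \ Finset.univ.map f, u i * v i ^ q := by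
  rw [Cfsg.hermForm, Cfsg.hermForm, ← Finset.sum_sdiff (Finset.subset_univ (Finset.univ.map f)), Finset.sum_map,
    add_comm]

omit [Fintype F] in
theorem blkMat_herm (f : Fin k ↪ Fin n) (g : Cfsg.SU k F q) (u v : Fin n → F) :
    Cfsg.hermForm n F q
      (blkMat f ((g : Matrix.SpecialLinearGroup (Fin k) F) : Matrix (Fin k) (Fin k) F) *ᵥ u)
      (blkMat f ((g : Matrix.SpecialLinearGroup (Fin k) F) : Matrix (Fin k) (Fin k) F) *ᵥ v) =
      Cfsg.hermForm n F q u v := by
  rw [herm_split f, herm_split f]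
  congr 1
  · simp only [blkMat_mulVec_in]
    exact g.2 _ _
  · refine Finset.sum_congr rfl fun i hi => ?_
    have hi' : ¬ ∃ a, f a = i := fun ⟨a, ha⟩ =>
      (Finset.mem_sdiff.1 hi).2 (Finset.mem_map.2 ⟨a, Finset.mem_univ a, ha⟩)
    rw [blkMat_mulVec_out f _ _ hi', blkMat_mulVec_out f _ _ hi']

/-- The block embedding. -/
noncomputable def blk (f : Fin k ↪ Fin n) : Cfsg.SU k F q →* Cfsg.SU n F q :=
  MonoidHom.mk' (fun g => ⟨⟨blkMat f ((g : Matrix.SpecialLinearGroup (Fin k) F) : Matrix (Fin k) (Fin k) F),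
    by rw [det_blkMat]; exact (g : Matrix.SpecialLinearGroup (Fin k) F).2⟩, blkMat_herm f g⟩)
    fun g h => Subtype.ext (Subtype.ext (by
      show blkMat f (((g * h : Cfsg.SU k F q) : Matrix.SpecialLinearGroup (Fin k) F) : Matrix (Fin k) (Fin k) F) = _
      rw [Subgroup.coe_mul, Matrix.SpecialLinearGroup.coe_mul, blkMat_mul]
      rfl))

omit [Fintype F] in
theorem act_blk_in (f : Fin k ↪ Fin n) (g : Cfsg.SU k F q) (v : Fin n → F) (a : Fin k) :
    act (blk f g) v (f a) = act g (fun b => v (f b)) a := blkMat_mulVec_in f _ v a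

omit [Fintype F] in
theorem act_blk_out (f : Fin k ↪ Fin n) (g : Cfsg.SU k F q) (v : Fin n → F) {i : Fin n}
    (hi : ¬ ∃ a, f a = i) : act (blk f g) v i = v i := blkMat_mulVec_out f _ v hi

omit [Fintype F] in
theorem blk_injective (f : Fin k ↪ Fin n) : Function.Injective (blk (F := F) (q := q) f) := by
  intro g h e
  refine Subtype.ext (Subtype.ext (Matrix.ext fun a b => ?_))
  have := congrArg (fun x : Cfsg.SU n F q => ((x : Matrix.SpecialLinearGroup (Fin n) F) :
    Matrix (Fin n) (Fin n) F) (f a) (f b)) e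
  simp only [blk, MonoidHom.mk'_apply, blkMat_in] at this
  exact this

omit [Fintype F] in
theorem range_blk (hq : q ≠ 0) (f : Fin k ↪ Fin n) :
    (blk (F := F) (q := q) f).range = SOn (Finset.univ.map f) := by
  classical
  refine le_antisymm ?_ fun g hg => ?_
  · rintro _ ⟨g, rfl⟩ i hi
    have hi' : ¬ ∃ a, f a = i := fun ⟨a, ha⟩ => hi (Finset.mem_map.2 ⟨a, Finset.mem_univ a, ha⟩)
    funext j
    by_cases hj : ∃ a, f a = j
    · obtain ⟨a, rfl⟩ := hj
      rw [act_blk_in, show (fun b => (Pi.single i (1 : F) : Fin n → F) (f b)) = 0 from funext fun b =>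
        Pi.single_eq_of_ne (fun e => hi' ⟨b, e⟩) _]
      rw [act, Matrix.mulVec_zero, Pi.zero_apply, Pi.single_eq_of_ne fun e => hi' ⟨a, e⟩]
    · exact act_blk_out f g _ hj
  · let G := ((g : Matrix.SpecialLinearGroup (Fin n) F) : Matrix (Fin n) (Fin n) F)
    have hout : ∀ i, (¬ ∃ a, f a = i) → i ∉ Finset.univ.map f := fun i hi h => by
      obtain ⟨a, -, ha⟩ := Finset.mem_map.1 h
      exact hi ⟨a, ha⟩
    have hM : blkMat f (G.submatrix f f) = G := by
      ext i j
      have hcol : G i j = act g (Pi.single j 1) i := by simp [act, G]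
      by_cases hi : ∃ a, f a = i
      · obtain ⟨a, rfl⟩ := hi
        by_cases hj : ∃ b, f b = j
        · obtain ⟨b, rfl⟩ := hj
          rw [blkMat_in]; rfl
        · rw [blkMat_row f _ a hj, hcol, hg j (hout j hj), Pi.single_eq_of_ne fun e => hj ⟨a, e⟩]
      · rw [blkMat_out f _ j hi, hcol, act_apply_out hq hg _ (hout i hi)]
        simp [Pi.single_apply]
    have hd : (G.submatrix f f).det = 1 := by
      rw [← det_blkMat f, hM]; exact (g : Matrix.SpecialLinearGroup (Fin n) F).2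
    refine ⟨⟨⟨G.submatrix f f, hd⟩, fun u v => ?_⟩, Subtype.ext (Subtype.ext hM)⟩
    let ext0 : (Fin k → F) → Fin n → F := fun u => Function.extend f u 0
    have hext : ∀ u, (fun a => ext0 u (f a)) = u := fun u => funext fun a => f.injective.extend_apply u 0 a
    have key := g.2 (ext0 u) (ext0 v)
    change Cfsg.hermForm n F q (G *ᵥ ext0 u) (G *ᵥ ext0 v) = _ at key
    rw [← hM, herm_split f, herm_split f] at key
    simp only [blkMat_mulVec_in, hext] at key
    rw [Finset.sum_congr rfl fun i hi => by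
      have hi' : ¬ ∃ a, f a = i := fun ⟨a, ha⟩ =>
        (Finset.mem_sdiff.1 hi).2 (Finset.mem_map.2 ⟨a, Finset.mem_univ a, ha⟩)
      rw [blkMat_mulVec_out f _ _ hi', blkMat_mulVec_out f _ _ hi']] at key
    exact add_right_cancel key

end CfsgLib.Pres.SUn
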