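import Cfsg.Agent.Lib.Pres.SpFourBound

/-!
# A bound for groups with the root relations of `SU₄`

`a` is the short root, over the field with `q²` elements, and `b` the long one, over its fixed field.
-/

set_option autoImplicit false

namespace CfsgLib.Pres.SUFour

open Matrix
open scoped MatrixGroups
open CfsgLib.Classical (uElt uElt_val uElt_add)
open CfsgLib.Pres.SpFour (X X_add X_zero X_neg dElt_neg_one dElt_mul dElt_inv dElt_conj_w Stab stab_closure step conj_closure step_stab step_flip)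

variable {F K : Type*} [Field F] [Field K] {G : Type*} [Group G]

/-- A quadratic extension with its involution, norm and trace. -/
structure Data (F K : Type*) [Field F] [Field K] where
  /-- The involution. -/
  σ : F →+* F
  /-- The inclusion of the fixed field. -/
  ι : K →+* F
  /-- The norm. -/
  N : F → K
  /-- The trace. -/
  Tr : F → K
  σσ : ∀ x, σ (σ x) = x
  σι : ∀ k, σ (ι k) = ι k
  ιN : ∀ x, ι (N x) = x * σ x
  ιTr : ∀ x, ι (Tr x) = x + σ x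

namespace Data

variable (D : Data F K)

theorem N_one : D.N 1 = 1 := D.ι.injective (by rw [D.ιN, map_one, map_one, mul_one])

theorem N_mul (x y : F) : D.N (x * y) = D.N x * D.N y :=
  D.ι.injective (by rw [map_mul, D.ιN, D.ιN, D.ιN, map_mul]; ring)

theorem N_zero : D.N 0 = 0 := D.ι.injective (by rw [D.ιN, zero_mul, map_zero])

theorem N_neg (x : F) : D.N (-x) = D.N x := D.ι.injective (by rw [D.ιN, D.ιN, map_neg, neg_mul_neg])

theorem N_ι (k : K) : D.N (D.ι k) = k ^ 2 := D.ι.injective (by rw [D.ιN, D.σι, map_pow, sq])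

theorem N_add (x y : F) : D.N (x + y) = D.N x + D.N y + D.Tr (x * D.σ y) :=
  D.ι.injective (by simp only [map_add, D.ιN, D.ιTr, map_mul, D.σσ]; ring)

theorem Tr_add (x y : F) : D.Tr (x + y) = D.Tr x + D.Tr y :=
  D.ι.injective (by simp only [map_add, D.ιTr]; ring)

theorem Tr_zero : D.Tr 0 = 0 := D.ι.injective (by simp [D.ιTr])

theorem Tr_neg (x : F) : D.Tr (-x) = -D.Tr x :=
  D.ι.injective (by simp only [map_neg, D.ιTr]; ring)

/-- The norm on units. -/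
def Nu : Fˣ →* Kˣ :=
  Units.map ({ toFun := D.N, map_one' := D.N_one, map_mul' := D.N_mul } : F →* K)

theorem Nu_val (c : Fˣ) : ((D.Nu c : Kˣ) : K) = D.N (c : F) := rfl

/-- The inclusion on units. -/
def ιu : Kˣ →* Fˣ := Units.map (D.ι : K →* F)

theorem ιu_val (d : Kˣ) : ((D.ιu d : Fˣ) : F) = D.ι (d : K) := rfl

theorem Nu_ιu (d : Kˣ) : D.Nu (D.ιu d) = d ^ 2 := Units.ext (by
  rw [Nu_val, ιu_val, N_ι, Units.val_pow_eq_pow_val])

theorem Nu_neg_one : D.Nu (-1) = 1 := Units.ext (by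
  rw [Nu_val, Units.val_neg, Units.val_one, N_neg, N_one, Units.val_one])

end Data

/-- The root element of the sum of the simple roots. -/
def P (φa : SL(2, F) →* G) (φb : SL(2, K) →* G) (t : F) : G :=
  φb (wElt K) * X φa (-t) * (φb (wElt K))⁻¹

/-- The highest root element. -/
def R (φa : SL(2, F) →* G) (φb : SL(2, K) →* G) (t : K) : G :=
  φa (wElt F) * X φb t * (φa (wElt F))⁻¹

/-- The relations. -/
structure Rels (D : Data F K) (φa : SL(2, F) →* G) (φb : SL(2, K) →* G) : Prop where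
  ha_b : ∀ (c : Fˣ) (M : SL(2, K)), φa (dElt c) * φb M * (φa (dElt c))⁻¹ = φb (dConj (D.Nu c)⁻¹ M)
  hb_a : ∀ (d : Kˣ) (M : SL(2, F)), φb (dElt d) * φa M * (φb (dElt d))⁻¹ = φa (dConj (D.ιu d)⁻¹ M)
  braid : φa (wElt F) * φb (wElt K) * φa (wElt F) * φb (wElt K) =
    φb (wElt K) * φa (wElt F) * φb (wElt K) * φa (wElt F)
  waP : ∀ t, φa (wElt F) * P φa φb t * (φa (wElt F))⁻¹ = P φa φb (-D.σ t)
  wbR : ∀ t, φb (wElt K) * R φa φb t * (φb (wElt K))⁻¹ = R φa φb t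
  cAR : ∀ s t, Commute (X φa s) (R φa φb t)
  cBR : ∀ s t, Commute (X φb s) (R φa φb t)
  cPB : ∀ s t, Commute (P φa φb s) (X φb t)
  cPR : ∀ s t, Commute (P φa φb s) (R φa φb t)
  cAP : ∀ s t, X φa s * P φa φb t = R φa φb (D.Tr (s * D.σ t)) * P φa φb t * X φa s
  cAB : ∀ s t, X φa s * X φb t = P φa φb (s * D.ι t) * R φa φb (D.N s * t) * X φb t * X φa s

namespace Rels

variable {D : Data F K} {φa : SL(2, F) →* G} {φb : SL(2, K) →* G} (Rl : Rels D φa φb)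
include Rl

local notation "A" => X φa
local notation "B" => X φb
local notation "PP" => P φa φb
local notation "RR" => R φa φb
local notation "wa" => φa (wElt F)
local notation "wb" => φb (wElt K)

theorem wa_sq : wa * wa = φa (dElt (-1)) := by rw [← map_mul, wElt_sq, dElt_neg_one]

theorem wb_sq : wb * wb = φb (dElt (-1)) := by rw [← map_mul, wElt_sq, dElt_neg_one]

theorem aA (c : Fˣ) (t : F) : φa (dElt c) * A t * (φa (dElt c))⁻¹ = A ((c : F) ^ 2 * t) := by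
  rw [X, X, ← map_inv, ← map_mul, ← map_mul, dElt_conj]

theorem bB (d : Kˣ) (t : K) : φb (dElt d) * B t * (φb (dElt d))⁻¹ = B ((d : K) ^ 2 * t) := by
  rw [X, X, ← map_inv, ← map_mul, ← map_mul, dElt_conj]

theorem aB (c : Fˣ) (t : K) : φa (dElt c) * B t * (φa (dElt c))⁻¹ = B ((((D.Nu c)⁻¹ : Kˣ) : K) * t) := by
  rw [X, Rl.ha_b, dConj_uElt]
  rfl

theorem bA (d : Kˣ) (t : F) : φb (dElt d) * A t * (φb (dElt d))⁻¹ = A ((((D.ιu d)⁻¹ : Fˣ) : F) * t) := by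
  rw [X, Rl.hb_a, dConj_uElt]
  rfl

theorem wb_ha (c : Fˣ) : wb * φa (dElt c) * wb⁻¹ = φa (dElt c) * φb (dElt (D.Nu c)) := by
  have h := Rl.ha_b c⁻¹ (wElt K)
  rw [dConj_wElt, map_inv D.Nu, inv_inv, map_mul, ← dElt_inv, map_inv, inv_inv] at h
  rw [show wb * φa (dElt c) * wb⁻¹ = φa (dElt c) * ((φa (dElt c))⁻¹ * wb * φa (dElt c)) * wb⁻¹ by group, h]
  group

theorem wa_hb (d : Kˣ) : wa * φb (dElt d) * wa⁻¹ = φb (dElt d) * φa (dElt (D.ιu d)) := by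
  have h := Rl.hb_a d⁻¹ (wElt F)
  rw [dConj_wElt, map_inv D.ιu, inv_inv, map_mul, ← dElt_inv, map_inv, inv_inv] at h
  rw [show wa * φb (dElt d) * wa⁻¹ = φb (dElt d) * ((φb (dElt d))⁻¹ * wa * φb (dElt d)) * wa⁻¹ by group, h]
  group

theorem ha_hb (c : Fˣ) (d : Kˣ) : φa (dElt c) * φb (dElt d) = φb (dElt d) * φa (dElt c) := by
  have h := Rl.ha_b c (dElt d)
  rwa [dConj_dElt, mul_inv_eq_iff_eq_mul] at h

theorem aP (c : Fˣ) (t : F) : φa (dElt c) * PP t * (φa (dElt c))⁻¹ =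
    PP ((((D.ιu (D.Nu c))⁻¹ : Fˣ) : F) * ((c : F) ^ 2 * t)) := by
  have hw : φa (dElt c) * wb * (φa (dElt c))⁻¹ = φb (dElt (D.Nu c)⁻¹) * wb := by
    rw [Rl.ha_b, dConj_wElt, map_mul]
  rw [P, P, show φa (dElt c) * (wb * A (-t) * wb⁻¹) * (φa (dElt c))⁻¹ =
      (φa (dElt c) * wb * (φa (dElt c))⁻¹) * (φa (dElt c) * A (-t) * (φa (dElt c))⁻¹) *
        (φa (dElt c) * wb * (φa (dElt c))⁻¹)⁻¹ by group, hw, Rl.aA,
    show φb (dElt (D.Nu c)⁻¹) * wb = wb * φb (dElt (D.Nu c)) by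
      rw [← map_mul, ← map_mul, dElt_conj_w, inv_inv],
    show wb * φb (dElt (D.Nu c)) * A ((c : F) ^ 2 * -t) * (wb * φb (dElt (D.Nu c)))⁻¹ =
      wb * (φb (dElt (D.Nu c)) * A ((c : F) ^ 2 * -t) * (φb (dElt (D.Nu c)))⁻¹) * wb⁻¹ by group, Rl.bA,
    mul_neg, mul_neg]

theorem bP (d : Kˣ) (t : F) : φb (dElt d) * PP t * (φb (dElt d))⁻¹ = PP (D.ι (d : K) * t) := by
  rw [P, P, show φb (dElt d) * (wb * A (-t) * wb⁻¹) * (φb (dElt d))⁻¹ =
      (φb (dElt d) * wb) * A (-t) * (φb (dElt d) * wb)⁻¹ by group, ← map_mul, dElt_conj_w, map_mul,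
    show wb * φb (dElt d⁻¹) * A (-t) * (wb * φb (dElt d⁻¹))⁻¹ =
      wb * (φb (dElt d⁻¹) * A (-t) * (φb (dElt d⁻¹))⁻¹) * wb⁻¹ by group, Rl.bA, map_inv D.ιu, inv_inv, mul_neg,
    Data.ιu_val]

theorem aR (c : Fˣ) (t : K) : φa (dElt c) * RR t * (φa (dElt c))⁻¹ = RR (D.N (c : F) * t) := by
  rw [R, R, show φa (dElt c) * (wa * B t * wa⁻¹) * (φa (dElt c))⁻¹ =
      (φa (dElt c) * wa) * B t * (φa (dElt c) * wa)⁻¹ by group, ← map_mul, dElt_conj_w, map_mul,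
    show wa * φa (dElt c⁻¹) * B t * (wa * φa (dElt c⁻¹))⁻¹ =
      wa * (φa (dElt c⁻¹) * B t * (φa (dElt c⁻¹))⁻¹) * wa⁻¹ by group, Rl.aB, map_inv D.Nu, inv_inv, Data.Nu_val]

theorem bR (d : Kˣ) (t : K) : φb (dElt d) * RR t * (φb (dElt d))⁻¹ = RR t := by
  have hw : φb (dElt d) * wa * (φb (dElt d))⁻¹ = φa (dElt (D.ιu d)⁻¹) * wa := by
    rw [Rl.hb_a, dConj_wElt, map_mul]
  rw [R, show φb (dElt d) * (wa * B t * wa⁻¹) * (φb (dElt d))⁻¹ =
      (φb (dElt d) * wa * (φb (dElt d))⁻¹) * (φb (dElt d) * B t * (φb (dElt d))⁻¹) *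
        (φb (dElt d) * wa * (φb (dElt d))⁻¹)⁻¹ by group, hw, Rl.bB,
    show φa (dElt (D.ιu d)⁻¹) * wa = wa * φa (dElt (D.ιu d)) by rw [← map_mul, ← map_mul, dElt_conj_w, inv_inv],
    show wa * φa (dElt (D.ιu d)) * B ((d : K) ^ 2 * t) * (wa * φa (dElt (D.ιu d)))⁻¹ =
      wa * (φa (dElt (D.ιu d)) * B ((d : K) ^ 2 * t) * (φa (dElt (D.ιu d)))⁻¹) * wa⁻¹ by group, Rl.aB,
    D.Nu_ιu, ← mul_assoc, ← Units.val_pow_eq_pow_val, ← Units.val_mul, inv_mul_cancel, Units.val_one, one_mul]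

theorem wbA (t : F) : wb * A t * wb⁻¹ = PP (-t) := by rw [P, neg_neg]

theorem wbP (t : F) : wb * PP t * wb⁻¹ = A t := by
  rw [P, show wb * (wb * A (-t) * wb⁻¹) * wb⁻¹ = (wb * wb) * A (-t) * (wb * wb)⁻¹ by group, Rl.wb_sq, Rl.bA,
    ← map_inv D.ιu, inv_neg_one, Data.ιu_val, Units.val_neg, Units.val_one, map_neg, map_one, neg_mul_neg, one_mul]

theorem waB (t : K) : wa * B t * wa⁻¹ = RR t := rfl

theorem waR (t : K) : wa * RR t * wa⁻¹ = B t := by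
  rw [R, show wa * (wa * B t * wa⁻¹) * wa⁻¹ = (wa * wa) * B t * (wa * wa)⁻¹ by group, Rl.wa_sq, Rl.aB,
    D.Nu_neg_one, inv_one, Units.val_one, one_mul]

theorem P_zero : PP (0 : F) = 1 := by rw [P, neg_zero, X_zero, mul_one, mul_inv_cancel]

theorem P_add (s t : F) : PP (s + t) = PP s * PP t := by rw [P, P, P, neg_add, X_add]; group

theorem P_neg (t : F) : PP (-t) = (PP t)⁻¹ :=
  eq_inv_of_mul_eq_one_left (by rw [← Rl.P_add, neg_add_cancel, Rl.P_zero])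

theorem R_add (s t : K) : RR (s + t) = RR s * RR t := by rw [R, R, R, X_add]; group

theorem R_zero : RR (0 : K) = 1 := by rw [R, X_zero, mul_one, mul_inv_cancel]

theorem R_neg (t : K) : RR (-t) = (RR t)⁻¹ :=
  eq_inv_of_mul_eq_one_left (by rw [← Rl.R_add, neg_add_cancel, Rl.R_zero])

end Rels

/-- A cell contains the translate by its Weyl element. -/
theorem mem_step {L : Type*} [Field L] {S : Subgroup G} (φ : SL(2, L) →* G) (Ω : Set (G ⧸ S)) :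
    ∀ ω ∈ Ω, φ (wElt L) • ω ∈ step (X φ) (φ (wElt L)) Ω := fun ω hω =>
  ⟨0, ω, hω, by rw [X_zero, one_mul]⟩

/-- A rank-one subgroup keeps a set which its root elements and Weyl element keep. -/
theorem stab_range {L : Type*} [Field L] [Fintype L] {S : Subgroup G} {Ω : Set (G ⧸ S)} (φ : SL(2, L) →* G)
    (hX : ∀ t, Stab Ω (X φ t)) (hw : Stab Ω (φ (wElt L))) (hw' : Stab Ω (φ (wElt L))⁻¹) (M : SL(2, L)) :
    Stab Ω (φ M) := by
  let H : Subgroup G := Subgroup.closure (Set.range (X φ) ∪ {φ (wElt L)})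
  have hw2 : φ (wElt L) ∈ H := Subgroup.subset_closure (Or.inr rfl)
  have hx2 : ∀ t, X φ t ∈ H := fun t => Subgroup.subset_closure (Or.inl ⟨t, rfl⟩)
  have hM : φ M ∈ H := by
    refine KnownB.SLnSt.range_le (fun t => ?_) (fun t => ?_) M
    · convert hx2 t using 1
      show φ _ = φ _
      congr 1
      refine Subtype.ext ?_
      rw [uElt_val]
      rfl
    · rw [show KnownB.SLnSt.lo t = wElt L * uElt (-t) * (wElt L)⁻¹ from Subtype.ext (by
        rw [← lElt, lElt_val]; rfl), map_mul, map_mul, map_inv]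
      exact mul_mem (mul_mem hw2 (hx2 _)) (inv_mem hw2)
  refine stab_closure ?_ ?_ _ hM
  · rintro _ (⟨t, rfl⟩ | rfl)
    exacts [hX t, hw]
  · rintro _ (⟨t, rfl⟩ | rfl)
    · rw [← X_neg]; exact hX _
    · exact hw'

/-- The bound. -/
theorem bound [Fintype F] [Fintype K] (hFK : Fintype.card F = Fintype.card K ^ 2) (D : Data F K)
    (φa : SL(2, F) →* G) (φb : SL(2, K) →* G) (Rl : Rels D φa φb)
    (hgen : Subgroup.closure ((φa.range : Set G) ∪ φb.range) = ⊤) :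
    Finite G ∧ Nat.card G ≤
      (Fintype.card K ^ 4 - 1) * (Fintype.card K ^ 3 + 1) * (Fintype.card K ^ 5 * Nat.card SL(2, K)) := by
  classical
  set A := X φa with hA
  set B := X φb with hB
  set PP := P φa φb with hPP
  set RR := R φa φb with hRR
  set wa := φa (wElt F) with hwa
  set wb := φb (wElt K) with hwb
  let Qb : Subgroup G := Subgroup.closure (Set.range A ∪ Set.range PP ∪ Set.range RR)
  let Qa : Subgroup G := Subgroup.closure (Set.range B ∪ Set.range PP ∪ Set.range RR)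
  let T : Subgroup G := Subgroup.closure (Set.range (fun c => φa (dElt c)) ∪ Set.range fun c => φb (dElt c))
  have mA : ∀ t, A t ∈ Qb := fun t => Subgroup.subset_closure (Or.inl (Or.inl ⟨t, rfl⟩))
  have mP : ∀ t, PP t ∈ Qb := fun t => Subgroup.subset_closure (Or.inl (Or.inr ⟨t, rfl⟩))
  have mR : ∀ t, RR t ∈ Qb := fun t => Subgroup.subset_closure (Or.inr ⟨t, rfl⟩)
  have nB : ∀ t, B t ∈ Qa := fun t => Subgroup.subset_closure (Or.inl (Or.inl ⟨t, rfl⟩))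
  have nP : ∀ t, PP t ∈ Qa := fun t => Subgroup.subset_closure (Or.inl (Or.inr ⟨t, rfl⟩))
  have nR : ∀ t, RR t ∈ Qa := fun t => Subgroup.subset_closure (Or.inr ⟨t, rfl⟩)
  have mTa : ∀ c, φa (dElt c) ∈ T := fun c => Subgroup.subset_closure (Or.inl ⟨c, rfl⟩)
  have mTb : ∀ c, φb (dElt c) ∈ T := fun c => Subgroup.subset_closure (Or.inr ⟨c, rfl⟩)
  have hQbB : ∀ t, ∀ q ∈ Qb, B t * q * (B t)⁻¹ ∈ Qb := fun t => conj_closure _ _ _ (by
    rintro _ ((⟨s, rfl⟩ | ⟨s, rfl⟩) | ⟨s, rfl⟩)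
    · have h := Rl.cAB s t
      have e : B t * A s * (B t)⁻¹ = (PP (s * D.ι t) * RR (D.N s * t))⁻¹ * A s := by
        rw [mul_inv_eq_iff_eq_mul, mul_assoc, h]
        simp only [← hA, ← hB, ← hPP, ← hRR]
        group
      rw [e]
      exact mul_mem (inv_mem (mul_mem (mP _) (mR _))) (mA _)
    · rw [← (Rl.cPB s t).eq, mul_inv_cancel_right]; exact mP s
    · rw [(Rl.cBR t s).eq, mul_inv_cancel_right]; exact mR s)
  have hQaA : ∀ t, ∀ q ∈ Qa, A t * q * (A t)⁻¹ ∈ Qa := fun t => conj_closure _ _ _ (by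
    rintro _ ((⟨s, rfl⟩ | ⟨s, rfl⟩) | ⟨s, rfl⟩)
    · rw [Rl.cAB t s, mul_inv_cancel_right]
      exact mul_mem (mul_mem (nP _) (nR _)) (nB _)
    · rw [Rl.cAP t s, mul_inv_cancel_right]
      exact mul_mem (nR _) (nP _)
    · rw [(Rl.cAR t s).eq, mul_inv_cancel_right]; exact nR s)
  have hQbw : ∀ q ∈ Qb, wb * q * wb⁻¹ ∈ Qb := conj_closure _ _ _ (by
    rintro _ ((⟨s, rfl⟩ | ⟨s, rfl⟩) | ⟨s, rfl⟩)
    · rw [Rl.wbA]; exact mP _
    · rw [Rl.wbP]; exact mA _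
    · rw [Rl.wbR]; exact mR _)
  have hQaw : ∀ q ∈ Qa, wa * q * wa⁻¹ ∈ Qa := conj_closure _ _ _ (by
    rintro _ ((⟨s, rfl⟩ | ⟨s, rfl⟩) | ⟨s, rfl⟩)
    · rw [Rl.waB]; exact nR _
    · rw [Rl.waP]; exact nP _
    · rw [Rl.waR]; exact nB _)
  have hQbT : ∀ c, ∀ q ∈ Qb, φb (dElt c) * q * (φb (dElt c))⁻¹ ∈ Qb := fun c => conj_closure _ _ _ (by
    rintro _ ((⟨s, rfl⟩ | ⟨s, rfl⟩) | ⟨s, rfl⟩)
    · rw [Rl.bA]; exact mA _
    · rw [Rl.bP]; exact mP _
    · rw [Rl.bR]; exact mR _)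
  have hQaT : ∀ c, ∀ q ∈ Qa, φa (dElt c) * q * (φa (dElt c))⁻¹ ∈ Qa := fun c => conj_closure _ _ _ (by
    rintro _ ((⟨s, rfl⟩ | ⟨s, rfl⟩) | ⟨s, rfl⟩)
    · rw [Rl.aB]; exact nB _
    · rw [Rl.aP]; exact nP _
    · rw [Rl.aR]; exact nR _)
  have hQbw' : ∀ q ∈ Qb, wb⁻¹ * q * wb ∈ Qb := fun q hq => by
    have := hQbw _ (hQbT (-1) q hq)
    rw [← Rl.wb_sq] at this
    have e := hQbT (-1)⁻¹ _ this
    rw [← dElt_inv, map_inv, ← Rl.wb_sq] at e
    have e' := hQbT (-1)⁻¹ _ (hQbw _ hq)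
    rw [← dElt_inv, map_inv, ← Rl.wb_sq] at e'
    convert e' using 1
    simp only [← hwb]
    group
  have hQaw' : ∀ q ∈ Qa, wa⁻¹ * q * wa ∈ Qa := fun q hq => by
    have e' := hQaT (-1)⁻¹ _ (hQaw _ hq)
    rw [← dElt_inv, map_inv, ← Rl.wa_sq] at e'
    convert e' using 1
    simp only [← hwa]
    group
  have hTX : ∀ τ ∈ T, (∀ t, ∃ t', τ * A t * τ⁻¹ = A t') ∧ ∀ t, ∃ t', τ * B t * τ⁻¹ = B t' := by
    intro τ hτ
    induction hτ using Subgroup.closure_induction'' with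
    | mem y hy =>
      rcases hy with ⟨c, rfl⟩ | ⟨c, rfl⟩
      · exact ⟨fun t => ⟨_, Rl.aA c t⟩, fun t => ⟨_, Rl.aB c t⟩⟩
      · exact ⟨fun t => ⟨_, Rl.bA c t⟩, fun t => ⟨_, Rl.bB c t⟩⟩
    | inv_mem y hy =>
      rcases hy with ⟨c, rfl⟩ | ⟨c, rfl⟩
      · simp only [← map_inv φa (dElt c), dElt_inv]
        exact ⟨fun t => ⟨_, Rl.aA _ t⟩, fun t => ⟨_, Rl.aB _ t⟩⟩
      · simp only [← map_inv φb (dElt c), dElt_inv]
        exact ⟨fun t => ⟨_, Rl.bA _ t⟩, fun t => ⟨_, Rl.bB _ t⟩⟩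
    | one => exact ⟨fun t => ⟨t, by group⟩, fun t => ⟨t, by group⟩⟩
    | mul y z _ _ hy hz =>
      refine ⟨fun t => ?_, fun t => ?_⟩
      · obtain ⟨t1, e1⟩ := hz.1 t
        obtain ⟨t2, e2⟩ := hy.1 t1
        exact ⟨t2, by rw [← e2, ← e1]; group⟩
      · obtain ⟨t1, e1⟩ := hz.2 t
        obtain ⟨t2, e2⟩ := hy.2 t1
        exact ⟨t2, by rw [← e2, ← e1]; group⟩
  have hTw : ∀ τ ∈ T, wa * τ * wa⁻¹ ∈ T ∧ wb * τ * wb⁻¹ ∈ T := fun τ hτ =>
    ⟨conj_closure wa _ T (by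
      rintro _ (⟨c, rfl⟩ | ⟨c, rfl⟩)
      · rw [hwa, ← map_inv, ← map_mul, ← map_mul, wElt_dElt, dElt_inv]; exact mTa _
      · rw [Rl.wa_hb]; exact mul_mem (mTb _) (mTa _)) τ hτ,
    conj_closure wb _ T (by
      rintro _ (⟨c, rfl⟩ | ⟨c, rfl⟩)
      · rw [Rl.wb_ha]; exact mul_mem (mTa _) (mTb _)
      · rw [hwb, ← map_inv, ← map_mul, ← map_mul, wElt_dElt, dElt_inv]; exact mTb _) τ hτ⟩
  have hTwa : ∀ τ ∈ T, wa⁻¹ * τ * wa ∈ T := fun τ hτ => by
    have h1 : (φa (dElt (-1)))⁻¹ * (wa * τ * wa⁻¹) * φa (dElt (-1)) ∈ T :=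
      mul_mem (mul_mem (inv_mem (mTa _)) (hTw τ hτ).1) (mTa _)
    rw [← Rl.wa_sq] at h1
    convert h1 using 1
    simp only [← hwa]
    group
  have hTwb : ∀ τ ∈ T, wb⁻¹ * τ * wb ∈ T := fun τ hτ => by
    have h1 : (φb (dElt (-1)))⁻¹ * (wb * τ * wb⁻¹) * φb (dElt (-1)) ∈ T :=
      mul_mem (mul_mem (inv_mem (mTb _)) (hTw τ hτ).2) (mTb _)
    rw [← Rl.wb_sq] at h1
    convert h1 using 1
    simp only [← hwb]
    group
  -- the stabiliser
  obtain ⟨S, hS⟩ : ∃ S, S = Qb ⊔ φb.range := ⟨_, rfl⟩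
  have hQS : ∀ q ∈ Qb, q ∈ S := fun q hq => hS ▸ Subgroup.mem_sup_left hq
  have hbS : ∀ M, φb M ∈ S := fun M => hS ▸ Subgroup.mem_sup_right ⟨M, rfl⟩
  have hBS : ∀ t, B t ∈ S := fun t => hbS _
  let C0 : Set (G ⧸ S) := Set.range fun c : Fˣ => (φa (dElt c) : G ⧸ S)
  have c0 : ∀ g : G, ∀ c, (φa (dElt c))⁻¹ * g * φa (dElt c) ∈ S →
      g • (φa (dElt c) : G ⧸ S) = (φa (dElt c) : G ⧸ S) := fun g c h => by
    refine QuotientGroup.eq.2 ?_
    have := inv_mem h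
    convert this using 1
    show (g * φa (dElt c))⁻¹ * φa (dElt c) = _
    group
  have hU0 : ∀ g : G, g ∈ Set.range A ∪ Set.range B ∪ Set.range PP ∪ Set.range RR → Stab C0 g := by
    rintro g hg _ ⟨c, rfl⟩
    refine ⟨c, (c0 g c ?_).symm⟩
    rw [← map_inv, dElt_inv, show φa (dElt c) = (φa (dElt c⁻¹))⁻¹ by rw [← map_inv, dElt_inv, inv_inv]]
    rcases hg with ((⟨t, rfl⟩ | ⟨t, rfl⟩) | ⟨t, rfl⟩) | ⟨t, rfl⟩
    · rw [Rl.aA]; exact hQS _ (mA _)
    · rw [Rl.aB]; exact hBS _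
    · rw [Rl.aP]; exact hQS _ (mP _)
    · rw [Rl.aR]; exact hQS _ (mR _)
  have hT0 : ∀ τ ∈ T, Stab C0 τ := by
    refine stab_closure ?_ ?_
    all_goals
      rintro _ (⟨d, rfl⟩ | ⟨d, rfl⟩) _ ⟨c, rfl⟩
    · exact ⟨d * c, by show (φa (dElt (d * c)) : G ⧸ S) = _; rw [← dElt_mul, map_mul]; rfl⟩
    · refine ⟨c, (c0 _ c ?_).symm⟩
      rw [mul_assoc, ← Rl.ha_hb, inv_mul_cancel_left]; exact hbS _
    · exact ⟨d⁻¹ * c, by
        show (φa (dElt (d⁻¹ * c)) : G ⧸ S) = _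
        rw [← dElt_mul, map_mul, ← dElt_inv, map_inv]; rfl⟩
    · refine ⟨c, (c0 _ c ?_).symm⟩
      rw [mul_assoc, ← map_inv φb, dElt_inv, ← Rl.ha_hb, inv_mul_cancel_left]; exact hbS _
  have hwb0 : Stab C0 wb := by
    rintro _ ⟨c, rfl⟩
    refine ⟨c, (c0 _ c ?_).symm⟩
    have h := Rl.ha_b c⁻¹ (wElt K)
    rw [← dElt_inv, map_inv φa, inv_inv] at h
    rw [h]; exact hbS _
  -- cells
  let C1 := step A wa C0
  let C2 := step B wb C1
  let C3 := step A wa C2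
  let Good : Set (G ⧸ S) → Prop := fun Ω =>
    (∀ t, Stab Ω (A t)) ∧ (∀ t, Stab Ω (B t)) ∧ (∀ t, Stab Ω (PP t)) ∧ (∀ t, Stab Ω (RR t)) ∧ ∀ τ ∈ T, Stab Ω τ
  have good0 : Good C0 := ⟨fun t => hU0 _ (Or.inl (Or.inl (Or.inl ⟨t, rfl⟩))),
    fun t => hU0 _ (Or.inl (Or.inl (Or.inr ⟨t, rfl⟩))), fun t => hU0 _ (Or.inl (Or.inr ⟨t, rfl⟩)),
    fun t => hU0 _ (Or.inr ⟨t, rfl⟩), hT0⟩
  have goodQa : ∀ Ω, Good Ω → ∀ q ∈ Qa, Stab Ω q := by
    rintro Ω ⟨gA, gB, gP, gR, gT⟩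
    refine stab_closure ?_ ?_
    · rintro _ ((⟨s, rfl⟩ | ⟨s, rfl⟩) | ⟨s, rfl⟩)
      exacts [gB s, gP s, gR s]
    · rintro _ ((⟨s, rfl⟩ | ⟨s, rfl⟩) | ⟨s, rfl⟩)
      · rw [hB, ← X_neg]; exact gB _
      · rw [hPP, ← Rl.P_neg]; exact gP _
      · rw [hRR, ← Rl.R_neg]; exact gR _
  have goodQb : ∀ Ω, Good Ω → ∀ q ∈ Qb, Stab Ω q := by
    rintro Ω ⟨gA, gB, gP, gR, gT⟩
    refine stab_closure ?_ ?_
    · rintro _ ((⟨s, rfl⟩ | ⟨s, rfl⟩) | ⟨s, rfl⟩)
      exacts [gA s, gP s, gR s]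
    · rintro _ ((⟨s, rfl⟩ | ⟨s, rfl⟩) | ⟨s, rfl⟩)
      · rw [hA, ← X_neg]; exact gA _
      · rw [hPP, ← Rl.P_neg]; exact gP _
      · rw [hRR, ← Rl.R_neg]; exact gR _
  have stepA : ∀ Ω, Good Ω → Good (step A wa Ω) := fun Ω h => by
    obtain ⟨k1, k2, k3⟩ := step_stab (Ω := Ω) φa Qa T hQaA hQaw' (fun τ hτ => (hTX τ hτ).1) hTwa
      (goodQa Ω h) h.2.2.2.2
    exact ⟨k1, fun t => k2 _ (nB t), fun t => k2 _ (nP t), fun t => k2 _ (nR t), k3⟩
  have stepB : ∀ Ω, Good Ω → Good (step B wb Ω) := fun Ω h => by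
    obtain ⟨k1, k2, k3⟩ := step_stab (Ω := Ω) φb Qb T hQbB hQbw' (fun τ hτ => (hTX τ hτ).2) hTwb
      (goodQb Ω h) h.2.2.2.2
    exact ⟨fun t => k2 _ (mA t), k1, fun t => k2 _ (mP t), fun t => k2 _ (mR t), k3⟩
  have good1 : Good C1 := stepA _ good0
  have good2 : Good C2 := stepB _ good1
  have good3 : Good C3 := stepA _ good2
  have hwb3 : Stab C3 wb := by
    rintro _ ⟨t, _, ⟨u, _, ⟨s, ω, hω, rfl⟩, rfl⟩, rfl⟩
    have e1 : wb * A t = PP (-t) * wb := by rw [hPP, ← Rl.wbA]; simp only [hwb, hA]; group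
    have e2 : wb * wa * B u = RR u * (wb * wa) := by
      calc wb * wa * B u = wb * (wa * B u * wa⁻¹) * wb⁻¹ * (wb * wa) := by group
        _ = _ := by rw [Rl.waB, Rl.wbR]
    have e3 : wb * wa * wb * A s = A (D.σ s) * (wb * wa * wb) := by
      calc wb * wa * wb * A s = wb * (wa * (wb * A s * wb⁻¹) * wa⁻¹) * wb⁻¹ * (wb * wa * wb) := by group
        _ = wb * PP (D.σ s) * wb⁻¹ * (wb * wa * wb) := by
          rw [hA, hwb, Rl.wbA, hwa, Rl.waP, map_neg, neg_neg, hPP]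
        _ = _ := by rw [hPP, hwb, Rl.wbP, hA]
    have e : wb * (A t * wa) * (B u * wb) * (A s * wa) =
        PP (-t) * RR u * A (D.σ s) * (wa * (wb * (wa * wb))) := by
      calc wb * (A t * wa) * (B u * wb) * (A s * wa) = wb * A t * wa * B u * wb * A s * wa := by group
        _ = PP (-t) * (wb * wa * B u) * wb * A s * wa := by rw [e1]; group
        _ = PP (-t) * RR u * (wb * wa * wb * A s) * wa := by rw [e2]; group
        _ = PP (-t) * RR u * A (D.σ s) * (wb * wa * wb * wa) := by rw [e3]; group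
        _ = _ := by rw [← Rl.braid]; simp only [hwa, hwb]; group
    rw [← mul_smul, ← mul_smul, ← mul_smul, e, mul_smul, mul_smul, mul_smul, mul_smul, mul_smul, mul_smul]
    exact good3.2.2.1 _ _ (good3.2.2.2.1 _ _ (good3.1 _ _
      (mem_step φa _ _ (mem_step φb _ _ (mem_step φa _ _ (hwb0 ω hω))))))
  let Ω : Set (G ⧸ S) := C0 ∪ C1 ∪ C2 ∪ C3
  have hTΩ : ∀ τ ∈ T, Stab Ω τ := by
    rintro τ hτ ω (((h | h) | h) | h)
    exacts [Or.inl (Or.inl (Or.inl (good0.2.2.2.2 τ hτ ω h))), Or.inl (Or.inl (Or.inr (good1.2.2.2.2 τ hτ ω h))),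
      Or.inl (Or.inr (good2.2.2.2.2 τ hτ ω h)), Or.inr (good3.2.2.2.2 τ hτ ω h)]
  have hAΩ : ∀ t, Stab Ω (A t) := by
    rintro t ω (((h | h) | h) | h)
    exacts [Or.inl (Or.inl (Or.inl (good0.1 t ω h))), Or.inl (Or.inl (Or.inr (good1.1 t ω h))),
      Or.inl (Or.inr (good2.1 t ω h)), Or.inr (good3.1 t ω h)]
  have hBΩ : ∀ t, Stab Ω (B t) := by
    rintro t ω (((h | h) | h) | h)
    exacts [Or.inl (Or.inl (Or.inl (good0.2.1 t ω h))), Or.inl (Or.inl (Or.inr (good1.2.1 t ω h))),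
      Or.inl (Or.inr (good2.2.1 t ω h)), Or.inr (good3.2.1 t ω h)]
  have hwaΩ : Stab Ω wa := by
    rintro ω (((h | h) | h) | h)
    · exact Or.inl (Or.inl (Or.inr (mem_step φa _ _ h)))
    · rcases step_flip φa good0.1 (fun c => good0.2.2.2.2 _ (mTa c)) ω h with h | h
      exacts [Or.inl (Or.inl (Or.inl h)), Or.inl (Or.inl (Or.inr h))]
    · exact Or.inr (mem_step φa _ _ h)
    · rcases step_flip φa good2.1 (fun c => good2.2.2.2.2 _ (mTa c)) ω h with h | h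
      exacts [Or.inl (Or.inr h), Or.inr h]
  have hwbΩ : Stab Ω wb := by
    rintro ω (((h | h) | h) | h)
    · exact Or.inl (Or.inl (Or.inl (hwb0 ω h)))
    · exact Or.inl (Or.inr (mem_step φb _ _ h))
    · rcases step_flip φb good1.2.1 (fun c => good1.2.2.2.2 _ (mTb c)) ω h with h | h
      exacts [Or.inl (Or.inl (Or.inr h)), Or.inl (Or.inr h)]
    · exact Or.inr (hwb3 ω h)
  have hwa' : Stab Ω wa⁻¹ := fun ω hω => by
    have e : wa⁻¹ = φa (dElt (-1)⁻¹) * wa := by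
      rw [← dElt_inv, map_inv, ← Rl.wa_sq, _root_.mul_inv_rev, inv_mul_cancel_right]
    rw [e, mul_smul]
    exact hTΩ _ (mTa _) _ (hwaΩ ω hω)
  have hwb' : Stab Ω wb⁻¹ := fun ω hω => by
    have e : wb⁻¹ = φb (dElt (-1)⁻¹) * wb := by
      rw [← dElt_inv, map_inv, ← Rl.wb_sq, _root_.mul_inv_rev, inv_mul_cancel_right]
    rw [e, mul_smul]
    exact hTΩ _ (mTb _) _ (hwbΩ ω hω)
  have huniv : ∀ ω : G ⧸ S, ω ∈ Ω := fun ω => by
    obtain ⟨g, rfl⟩ := QuotientGroup.mk_surjective ω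
    have hg : Stab Ω g := by
      refine stab_closure ?_ ?_ g (hgen ▸ Subgroup.mem_top g)
      · rintro _ (⟨M, rfl⟩ | ⟨M, rfl⟩)
        exacts [stab_range φa hAΩ hwaΩ hwa' M, stab_range φb hBΩ hwbΩ hwb' M]
      · rintro _ (⟨M, rfl⟩ | ⟨M, rfl⟩) <;> rw [← map_inv]
        exacts [stab_range φa hAΩ hwaΩ hwa' M⁻¹, stab_range φb hBΩ hwbΩ hwb' M⁻¹]
    have h1 : ((1 : G) : G ⧸ S) ∈ Ω := Or.inl (Or.inl (Or.inl ⟨1, by
      show ((φa (dElt 1) : G) : G ⧸ S) = _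
      rw [show dElt (1 : Fˣ) = (1 : SL(2, F)) from Subtype.ext (by
        ext i j; fin_cases i <;> fin_cases j <;> simp [dElt]), map_one]⟩))
    have h2 := hg _ h1
    rwa [show g • ((1 : G) : G ⧸ S) = ((g * 1 : G) : G ⧸ S) from rfl, mul_one] at h2
  -- counting
  let f : (Fˣ ⊕ F × Fˣ) ⊕ (K × F × Fˣ ⊕ F × K × F × Fˣ) → G ⧸ S :=
    Sum.elim
      (Sum.elim (fun c => (φa (dElt c) : G ⧸ S)) fun x => (A x.1 * wa) • (φa (dElt x.2) : G ⧸ S))
      (Sum.elim (fun x => (B x.1 * wb) • (A x.2.1 * wa) • (φa (dElt x.2.2) : G ⧸ S))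
        fun x => (A x.1 * wa) • (B x.2.1 * wb) • (A x.2.2.1 * wa) • (φa (dElt x.2.2.2) : G ⧸ S))
  have hf : Function.Surjective f := by
    intro ω
    rcases huniv ω with ((⟨c, rfl⟩ | ⟨t, _, ⟨c, rfl⟩, rfl⟩) | ⟨u, _, ⟨t, _, ⟨c, rfl⟩, rfl⟩, rfl⟩) |
        ⟨v, _, ⟨u, _, ⟨t, _, ⟨c, rfl⟩, rfl⟩, rfl⟩, rfl⟩
    exacts [⟨.inl (.inl c), rfl⟩, ⟨.inl (.inr (t, c)), rfl⟩, ⟨.inr (.inl (u, t, c)), rfl⟩,
      ⟨.inr (.inr (v, u, t, c)), rfl⟩]
  have : Finite (G ⧸ S) := Finite.of_surjective f hf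
  have hidx : S.index ≤ (Fintype.card K ^ 4 - 1) * (Fintype.card K ^ 3 + 1) := by
    rw [Subgroup.index_eq_card]
    refine (Nat.card_le_card_of_surjective f hf).trans (le_of_eq ?_)
    simp only [Nat.card_sum, Nat.card_prod, Nat.card_units, Nat.card_eq_fintype_card (α := F),
      Nat.card_eq_fintype_card (α := K), hFK]
    have h1 := Nat.one_le_pow 2 (Fintype.card K) Fintype.card_pos
    have h4 := Nat.one_le_pow 4 (Fintype.card K) Fintype.card_pos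
    zify [h1, h4]
    ring
  -- the stabiliser is small
  let g : K × F × F → Qb := fun x => ⟨RR x.1 * PP x.2.1 * A x.2.2,
    mul_mem (mul_mem (mR _) (mP _)) (mA _)⟩
  have hgs : Function.Surjective g := by
    let Q' : Subgroup G :=
      { carrier := Set.range fun x : K × F × F => RR x.1 * PP x.2.1 * A x.2.2
        one_mem' := ⟨(0, 0, 0), by simp only [hRR, hPP, hA, Rl.R_zero, Rl.P_zero, X_zero, mul_one]⟩
        mul_mem' := by
          rintro _ _ ⟨⟨r, q, a⟩, rfl⟩ ⟨⟨r', q', a'⟩, rfl⟩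
          refine ⟨(r + r' + D.Tr (a * D.σ q'), q + q', a + a'), ?_⟩
          simp only [hRR, hPP, hA, Rl.R_add, Rl.P_add, X_add]
          calc R φa φb r * R φa φb r' * R φa φb (D.Tr (a * D.σ q')) * (P φa φb q * P φa φb q') * (X φa a * X φa a')
              = R φa φb r * ((R φa φb r' * R φa φb (D.Tr (a * D.σ q'))) * P φa φb q) * P φa φb q' * X φa a * X φa a' := by
                group
            _ = R φa φb r * (P φa φb q * (R φa φb r' * R φa φb (D.Tr (a * D.σ q')))) * P φa φb q' * X φa a * X φa a' := by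
                rw [((Rl.cPR q r').mul_right (Rl.cPR q (D.Tr (a * D.σ q')))).eq]
            _ = R φa φb r * P φa φb q * R φa φb r' * (R φa φb (D.Tr (a * D.σ q')) * P φa φb q' * X φa a) * X φa a' := by
                group
            _ = R φa φb r * P φa φb q * (R φa φb r' * X φa a) * P φa φb q' * X φa a' := by
                rw [← Rl.cAP]; group
            _ = R φa φb r * P φa φb q * X φa a * (R φa φb r' * P φa φb q' * X φa a') := by
                rw [← (Rl.cAR a r').eq]; group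
        inv_mem' := by
          rintro _ ⟨⟨r, q, a⟩, rfl⟩
          refine ⟨(-r + D.Tr (a * D.σ q), -q, -a), ?_⟩
          simp only [hRR, hPP, hA, Rl.R_add, Rl.R_neg, Rl.P_neg, X_neg, _root_.mul_inv_rev]
          have e : X φa a * (P φa φb q)⁻¹ = (R φa φb (D.Tr (a * D.σ q)))⁻¹ * (P φa φb q)⁻¹ * X φa a := by
            rw [← Rl.P_neg, Rl.cAP, map_neg, mul_neg, D.Tr_neg, Rl.R_neg]
          calc (R φa φb r)⁻¹ * R φa φb (D.Tr (a * D.σ q)) * (P φa φb q)⁻¹ * (X φa a)⁻¹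
              = (R φa φb r)⁻¹ * (R φa φb (D.Tr (a * D.σ q)) * (P φa φb q)⁻¹) * (X φa a)⁻¹ := by group
            _ = (R φa φb r)⁻¹ * ((P φa φb q)⁻¹ * R φa φb (D.Tr (a * D.σ q))) * (X φa a)⁻¹ := by
                rw [((Rl.cPR q (D.Tr (a * D.σ q))).inv_left).eq]
            _ = (R φa φb r)⁻¹ * ((X φa a)⁻¹ * (P φa φb q)⁻¹) := by
                have : (P φa φb q)⁻¹ * R φa φb (D.Tr (a * D.σ q)) * (X φa a)⁻¹ = (X φa a)⁻¹ * (P φa φb q)⁻¹ := by
                  rw [eq_inv_mul_iff_mul_eq]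
                  calc X φa a * ((P φa φb q)⁻¹ * R φa φb (D.Tr (a * D.σ q)) * (X φa a)⁻¹)
                      = X φa a * (P φa φb q)⁻¹ * R φa φb (D.Tr (a * D.σ q)) * (X φa a)⁻¹ := by group
                    _ = (R φa φb (D.Tr (a * D.σ q)))⁻¹ * (P φa φb q)⁻¹ * (X φa a * R φa φb (D.Tr (a * D.σ q))) * (X φa a)⁻¹ := by
                      rw [e]; group
                    _ = (R φa φb (D.Tr (a * D.σ q)))⁻¹ * ((P φa φb q)⁻¹ * R φa φb (D.Tr (a * D.σ q))) := by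
                      rw [(Rl.cAR a (D.Tr (a * D.σ q))).eq]; group
                    _ = _ := by rw [((Rl.cPR q (D.Tr (a * D.σ q))).inv_left).eq, inv_mul_cancel_left]
                rw [mul_assoc, this]
            _ = ((X φa a)⁻¹ * (P φa φb q)⁻¹) * (R φa φb r)⁻¹ :=
                (((Rl.cAR a r).inv_left.mul_left (Rl.cPR q r).inv_left).inv_right.eq).symm
            _ = _ := by group }
    have hle : Qb ≤ Q' := by
      refine (Subgroup.closure_le _).2 ?_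
      rintro _ ((⟨s, rfl⟩ | ⟨s, rfl⟩) | ⟨s, rfl⟩)
      · exact ⟨(0, 0, s), by simp only [hRR, hPP, hA, Rl.R_zero, Rl.P_zero, one_mul]⟩
      · exact ⟨(0, s, 0), by simp only [hRR, hPP, hA, Rl.R_zero, X_zero, one_mul, mul_one]⟩
      · exact ⟨(s, 0, 0), by simp only [hRR, hPP, hA, Rl.P_zero, X_zero, mul_one]⟩
    intro x
    obtain ⟨y, hy⟩ := hle x.2
    exact ⟨y, Subtype.ext hy⟩
  have : Finite Qb := Finite.of_surjective g hgs
  have : Finite φb.range := Finite.of_surjective _ φb.rangeRestrict_surjective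
  have hQcard : Nat.card Qb ≤ Fintype.card K ^ 5 := by
    refine (Nat.card_le_card_of_surjective g hgs).trans (le_of_eq ?_)
    simp only [Nat.card_prod, Nat.card_eq_fintype_card (α := F), Nat.card_eq_fintype_card (α := K), hFK]
    ring
  have hnorm : φb.range ≤ Subgroup.normalizer (Qb : Set G) := by
    have h1 : ∀ M, ∀ q ∈ Qb, φb M * q * (φb M)⁻¹ ∈ Qb := by
      intro M
      let H : Subgroup G := Subgroup.normalizer (Qb : Set G)
      have key : φb M ∈ H := by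
        have mem : ∀ z : G, (∀ q ∈ Qb, z * q * z⁻¹ ∈ Qb) → (∀ q ∈ Qb, z⁻¹ * q * z ∈ Qb) → z ∈ H :=
          fun z h1 h2 => Subgroup.mem_normalizer_iff.2 fun q => ⟨h1 q, fun hq => by
            have := h2 _ hq
            convert this using 1
            group⟩
        have hwH : wb ∈ H := mem _ hQbw hQbw'
        have hxH : ∀ t, B t ∈ H := fun t => mem _ (hQbB t) fun q hq => by
          have := hQbB (-t) q hq
          rwa [hB, X_neg, inv_inv] at this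
        refine KnownB.SLnSt.range_le (fun t => ?_) (fun t => ?_) M
        · convert hxH t using 1
          show φb _ = φb _
          congr 1
          refine Subtype.ext ?_
          rw [uElt_val]
          rfl
        · rw [show KnownB.SLnSt.lo t = wElt K * uElt (-t) * (wElt K)⁻¹ from Subtype.ext (by
            rw [← lElt, lElt_val]; rfl), map_mul, map_mul, map_inv]
          exact mul_mem (mul_mem hwH (hxH _)) (inv_mem hwH)
      exact fun q hq => (Subgroup.mem_normalizer_iff.1 key q).1 hq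
    rintro _ ⟨M, rfl⟩
    rw [Subgroup.mem_normalizer_iff]
    refine fun q => ⟨h1 M q, fun hq => ?_⟩
    have := h1 M⁻¹ _ hq
    rw [map_inv] at this
    convert this using 1
    group
  obtain ⟨hSfin, hScard⟩ := KnownB.SLnSt.card_sup_le (K := K) hnorm
  rw [← hS] at hSfin hScard
  have hbcard : Nat.card φb.range ≤ Nat.card SL(2, K) :=
    Nat.card_le_card_of_surjective _ φb.rangeRestrict_surjective
  refine ⟨Finite.of_subgroup_quotient S, ?_⟩
  rw [← S.card_mul_index, mul_comm]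
  exact Nat.mul_le_mul hidx (hScard.trans (Nat.mul_le_mul hQcard hbcard))

end CfsgLib.Pres.SUFour
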