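import Cfsg.Agent.Lib.Pres.SUFourModel
import Cfsg.Agent.Lib.Pres.PresTools
import Cfsg.Agent.Lib.Pres.SLTwoStd

/-!
# `SU₄` on four generators

The long root element and the torus of the long root subgroup are words in the four remaining generators.
-/

set_option autoImplicit false

namespace CfsgLib.Pres.SUFour

open Matrix
open scoped MatrixGroups
open CfsgLib.Classical (uElt uElt_val uElt_add qFrob)
open CfsgLib.Pres.SpFour (X)

/-- Words in four letters. -/
abbrev W4 := FreeGroup (Fin 4)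

/-- A torus element acting on a root group. -/
theorem torus_root {G K : Type*} [Group G] [Field K] {p n : ℕ} [Fact p.Prime] [Algebra (ZMod p) K]
    (A H U : G) (υ : K → G) (hadd : ∀ c d, υ (c + d) = υ c * υ d) (h1 : υ 1 = U) (x k0 : K) (b : ℕ)
    (B : Module.Basis (Fin n) (ZMod p) K) (hB : ∀ i : Fin n, B i = (x ^ b) ^ (i : ℕ))
    (hσ : ∀ c, H * υ c * H⁻¹ = υ (x * c)) (hAH : Commute A H) (hA : A * U * A⁻¹ = υ k0) (t : K) :
    A * υ t * A⁻¹ = υ (k0 * t) := by
  have h0 : υ 0 = 1 := by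
    have := hadd 0 0
    rwa [add_zero, left_eq_mul] at this
  have hpow : ∀ (m : ℕ) c, H ^ m * υ c * (H ^ m)⁻¹ = υ (x ^ m * c) := by
    intro m
    induction m with
    | zero => intro c; simp
    | succ m ih =>
      intro c
      rw [pow_succ, show H ^ m * H * υ c * (H ^ m * H)⁻¹ = H ^ m * (H * υ c * H⁻¹) * (H ^ m)⁻¹ by group, hσ, ih,
        pow_succ, mul_assoc]
  set S : Set K := {t | A * υ t * A⁻¹ = υ (k0 * t)}
  have hS0 : (0 : K) ∈ S := by show _ = _; rw [mul_zero, h0]; group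
  have hSadd : ∀ a c, a ∈ S → c ∈ S → a + c ∈ S := fun a c ha hc => by
    show _ = _
    rw [mul_add, hadd, hadd, ← ha, ← hc]; group
  have hSB : ∀ i, B i ∈ S := fun i => by
    show _ = _
    have e1 : υ (B i) = H ^ (b * (i : ℕ)) * U * (H ^ (b * (i : ℕ)))⁻¹ := by
      rw [← h1, hpow, mul_one, hB, pow_mul]
    have hc : Commute A (H ^ (b * (i : ℕ))) := hAH.pow_right _
    rw [e1, show A * (H ^ (b * (i : ℕ)) * U * (H ^ (b * (i : ℕ)))⁻¹) * A⁻¹ =
      (A * H ^ (b * (i : ℕ))) * U * (A * H ^ (b * (i : ℕ)))⁻¹ by group, hc.eq,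
      show H ^ (b * (i : ℕ)) * A * U * (H ^ (b * (i : ℕ)) * A)⁻¹ =
        H ^ (b * (i : ℕ)) * (A * U * A⁻¹) * (H ^ (b * (i : ℕ)))⁻¹ by group, hA, hpow, hB, ← pow_mul, mul_comm k0]
  have hSn : ∀ (m : ℕ) c, c ∈ S → m • c ∈ S := by
    intro m c hc
    induction m with
    | zero => rwa [zero_nsmul]
    | succ m ih => rw [succ_nsmul]; exact hSadd _ _ ih hc
  have key : t ∈ S := by
    rw [← sum_coord B t]
    exact Finset.sum_induction _ (· ∈ S) hSadd hS0 fun i _ => hSn _ _ (hSB i)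
  exact key

set_option maxHeartbeats 2000000 in
/-- The group of the skew-hermitian form has four generators and twenty-six relators. -/
theorem ug_pres_four {F : Type*} [Field F] [Fintype F] {q : ℕ} (hF : Fintype.card F = q ^ 2) :
    PresBy 4 (Ug hF) (if q = 2 then 21 else 26) := by
  classical
  obtain ⟨p, hchar⟩ := CharP.exists F
  obtain ⟨m, hp, hm⟩ := FiniteField.card F p
  have : Fact p.Prime := ⟨hp⟩
  have : CharP F p := hchar
  have : CharP (Kf hF) p := (RingHom.charP_iff (Kf hF).subtype Subtype.val_injective p).2 inferInstance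
  let _ : Algebra (ZMod p) F := ZMod.algebra F p
  let _ : Algebra (ZMod p) (Kf hF) := ZMod.algebra (Kf hF) p
  obtain ⟨SF⟩ := exists_stdData F p
  obtain ⟨SK⟩ := exists_stdData (Kf hF) p
  have : NeZero SK.n := ⟨SK.n_pos.ne'⟩
  let D := data hF
  obtain ⟨c₀, hc₀N, hc₀⟩ := D.exists_twist (hFK hF) (hσ hF)
  let θ : F := (c₀ : F) ^ 2
  set zK := SK.z with hzK
  let k0 : (Kf hF)ˣ := (D.Nu SF.z)⁻¹
  have hk0 : ∀ y : (Kf hF)ˣ, ∃ j : ℕ, k0 ^ j = y := fun y => by
    obtain ⟨c, hc⟩ := D.exists_norm (hFK hF) (hσ hF) y⁻¹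
    obtain ⟨j, hj⟩ := (isOfFinOrder_of_finite SF.z).mem_powers_iff_mem_zpowers.2 (SF.hz c)
    obtain rfl : SF.z ^ j = c := hj
    exact ⟨j, by rw [inv_pow, ← map_pow, hc, inv_inv]⟩
  -- the pair of the commutator
  obtain ⟨ts, to_, hts, hτ⟩ : ∃ ts to_ : F,
      ((ts = 1 ∧ to_ = θ) ∨ (ts = θ ∧ to_ = 1)) ∧ D.Tr (D.σ ts) ≠ 0 := by
    by_cases h2 : (2 : Kf hF) = 0
    · refine ⟨θ, 1, Or.inr ⟨rfl, rfl⟩, fun e => hc₀ ?_⟩
      have e1 := congrArg D.ι e
      rw [D.ιTr, D.σσ, map_zero] at e1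
      have h2' : (2 : F) = 0 := by rw [← map_ofNat D.ι 2, h2, map_zero]
      linear_combination e1 - θ * h2'
    · refine ⟨1, θ, Or.inl ⟨rfl, rfl⟩, fun e => h2 (D.ι.injective ?_)⟩
      have e1 := congrArg D.ι e
      rw [D.ιTr, map_one, map_one, map_zero] at e1
      rw [map_ofNat, map_zero]
      linear_combination e1
  set τ := Units.mk0 _ hτ with hτdef
  obtain ⟨j, hj⟩ := hk0 τ
  obtain ⟨jz, hjz⟩ := hk0 zK
  obtain ⟨ji, hji⟩ := hk0 zK⁻¹
  -- surjective evaluations
  have hgenF : Subgroup.closure (Set.range (std SF.z)) = ⊤ := closure_std SF.z SF.b SF.B SF.hB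
  have hgenK : Subgroup.closure (Set.range (std zK)) = ⊤ := closure_std SK.z SK.b SK.B SK.hB
  have hsF : ∀ M : SL(2, F), ∃ w, FreeGroup.lift (std SF.z) w = M := fun M => by
    have : M ∈ (FreeGroup.lift (std SF.z)).range := by
      rw [FreeGroup.range_lift_eq_closure, hgenF]; exact Subgroup.mem_top M
    exact this
  have hsK : ∀ M : SL(2, Kf hF), ∃ w, FreeGroup.lift (std zK) w = M := fun M => by
    have : M ∈ (FreeGroup.lift (std zK)).range := by
      rw [FreeGroup.range_lift_eq_closure, hgenK]; exact Subgroup.mem_top M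
    exact this
  choose wdF hwF using hsF
  choose wdK hwK using hsK
  -- words
  let inA : W3 →* W4 := FreeGroup.lift ![FreeGroup.of 0, FreeGroup.of 1, FreeGroup.of 2]
  let ha : W4 := FreeGroup.of 1
  let WA : W4 := FreeGroup.of 2
  let WB : W4 := FreeGroup.of 3
  let XA : F → W4 := fun t => inA (wdF (uElt t))
  let PW : F → W4 := fun t => WB * XA (-t) * WB⁻¹
  let cm : W4 := XA 1 * PW ts * (XA 1)⁻¹ * (PW ts)⁻¹
  let U : W4 := (ha ^ j)⁻¹ * (WA⁻¹ * cm * WA) * ha ^ j
  let BJ : ℕ → W4 := fun i => ha ^ i * U * (ha ^ i)⁻¹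
  let H : W4 := if q = 2 then 1 else BJ jz * WB * BJ ji * WB⁻¹ * BJ jz * WB⁻¹
  let inB : W3 →* W4 := FreeGroup.lift ![U, H, WB]
  let XB : Kf hF → W4 := fun t => inB (wdK (uElt t))
  let RW : Kf hF → W4 := fun t => WA * XB t * WA⁻¹
  let kRest : List (W3 × W3) :=
    (baseEqs p zK SK.b SK.B).take 4 ++ (baseEqs p zK SK.b SK.B).drop 5 ++ SK.extra
  let few : List (W4 × W4) :=
    [(WA * WB * WA * WB, WB * WA * WB * WA), (WA * PW 1 * WA⁻¹, PW (-1)), (WB * RW 1 * WB⁻¹, RW 1),
      (XA 1 * RW 1, RW 1 * XA 1),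
      (XA 1 * PW to_, RW (D.Tr (D.σ to_)) * PW to_ * XA 1), (XA 1 * XB 1, PW 1 * RW 1 * XB 1 * XA 1)]
  let tor : List (W4 × W4) :=
    [(ha * U * ha⁻¹, inB (wd lh lu SK.b (coord SK.B ((k0 : (Kf hF)ˣ) : Kf hF)))),
      (ha * WB * ha⁻¹, inB (wdK (dConj k0 (wElt (Kf hF)))))]
  let tor' : List (W4 × W4) := if q = 2 then [] else
    [(ha * H * ha⁻¹, H), (H * FreeGroup.of 0 * H⁻¹, inA (wdF (dConj (D.ιu zK)⁻¹ (uElt 1)))),
      (H * WA * H⁻¹, inA (wdF (dConj (D.ιu zK)⁻¹ (wElt F))))]
  let LR : List (W4 × W4) := SF.eqs.map (fun e => (inA e.1, inA e.2)) ++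
    (kRest.map (fun e => (inB e.1, inB e.2)) ++ (few ++ (tor ++ tor')))
  have hK2 : q = 2 → zK = 1 ∧ SK.extra = [] := by
    intro h2
    have hc : Nat.card (Kf hF) = 2 := by rw [card_Kf, h2]
    refine ⟨?_, SK.extra_one ?_⟩
    · have h := pow_card_eq_one' (x := zK)
      rwa [Nat.card_units, hc, pow_one] at h
    · have h := SK.hn
      rw [hc] at h
      have h1 : p ^ SK.n = 2 ^ 1 := by rw [← h, pow_one]
      exact Nat.le_antisymm (by
        by_contra hne
        have : 2 ^ 2 ≤ p ^ SK.n := (Nat.pow_le_pow_left hp.two_le 2).trans (Nat.pow_le_pow_right hp.pos (by omega))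
        omega) SK.n_pos
  have hlen : LR.length ≤ if q = 2 then 21 else 26 := by
    have h1 := SF.eqs_length
    have h2 := SK.extra_length
    have hr : kRest.length = 5 + SK.extra.length := by simp [kRest, baseEqs]; omega
    simp only [LR, List.length_append, List.length_map, few, tor, List.length_cons, List.length_nil, hr]
    by_cases hq2 : q = 2
    · have h3 := (hK2 hq2).2
      simp only [tor', if_pos hq2, List.length_nil, h3]
      omega
    · simp only [tor', if_neg hq2, List.length_cons, List.length_nil]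
      omega
  let rels : Finset W4 := (LR.map fun e => e.1 * e.2⁻¹).toFinset
  refine ⟨rels, (List.toFinset_card_le _).trans ((List.length_map _).le.trans hlen), ?_⟩
  -- the model
  let t : Fin 4 → Ug hF :=
    ![φA hF (uElt 1), φA hF (dElt SF.z), φA hF (wElt F), φB hF (wElt (Kf hF))]
  let L : W4 →* Ug hF := FreeGroup.lift t
  have htA : ∀ w, L (inA w) = φA hF (FreeGroup.lift (std SF.z) w) := fun w =>
    DFunLike.congr_fun (FreeGroup.ext_hom (L.comp inA) ((φA hF).comp (FreeGroup.lift (std SF.z))) fun i => by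
      fin_cases i <;> simp [L, inA, t, std]) w
  have mf := model_few hF θ
  have mPW : ∀ s, L (PW s) = P (φA hF) (φB hF) s := fun s => by
    simp only [PW, XA, WB, map_mul, map_inv, htA, hwF]
    simp [L, t, P, X]
  have mPts : X (φA hF) 1 * P (φA hF) (φB hF) ts =
      R (φA hF) (φB hF) (D.Tr (D.σ ts)) * P (φA hF) (φB hF) ts * X (φA hF) 1 := by
    rcases hts with ⟨h, -⟩ | ⟨h, -⟩ <;> rw [h]
    · rw [map_one]; exact mf.cAP
    · exact mf.cAPθ
  have mha : ∀ (i : ℕ) (s : Kf hF), φA hF (dElt SF.z) ^ i * φB hF (uElt s) * (φA hF (dElt SF.z) ^ i)⁻¹ =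
      φB hF (uElt (((k0 ^ i : (Kf hF)ˣ) : Kf hF) * s)) := fun i s => by
    rw [← map_pow, dElt_pow, model_ha_b, map_pow, ← inv_pow, dConj_uElt]
  have mU : L U = φB hF (uElt 1) := by
    have e : L cm = R (φA hF) (φB hF) (D.Tr (D.σ ts)) := by
      simp only [cm, XA, map_mul, map_inv, mPW, htA, hwF]
      rw [show φA hF (uElt 1) = X (φA hF) 1 from rfl, mPts]
      group
    have e2 : L (WA⁻¹ * cm * WA) = φB hF (uElt (D.Tr (D.σ ts))) := by
      rw [map_mul, map_mul, map_inv, e, show L WA = φA hF (wElt F) by simp [L, WA, t], R, X]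
      group
    simp only [U, map_mul, map_inv, map_pow, show L ha = φA hF (dElt SF.z) by simp [L, ha, t]]
    rw [map_mul, map_mul, map_inv] at e2
    rw [e2]
    have := mha j 1
    rw [hj, Units.val_mk0, mul_one] at this
    rw [← this]
    group
  have mBJ : ∀ i, L (BJ i) = φB hF (uElt ((k0 ^ i : (Kf hF)ˣ) : Kf hF)) := fun i => by
    simp only [BJ, map_mul, map_inv, map_pow, mU, show L ha = φA hF (dElt SF.z) by simp [L, ha, t]]
    rw [mha, mul_one]
  have dOne : dElt (1 : (Kf hF)ˣ) = 1 := by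
    rw [← pow_zero (1 : (Kf hF)ˣ), ← dElt_pow, pow_zero]
  have mH : L H = φB hF (dElt zK) := by
    by_cases hq2 : q = 2
    · rw [(hK2 hq2).1, dOne, map_one]
      simp only [H, if_pos hq2, map_one]
    · simp only [H, if_neg hq2, map_mul, map_inv]
      simp only [mBJ, hjz, hji, show L WB = φB hF (wElt (Kf hF)) by simp [L, WB, t]]
      rw [Units.val_inv_eq_inv_val]
      simp only [← map_mul, ← map_inv]
      congr 1
      have e := wElt_uElt_inv (F := Kf hF) zK
      calc uElt (zK : Kf hF) * wElt (Kf hF) * uElt ((zK : Kf hF)⁻¹) * (wElt (Kf hF))⁻¹ * uElt (zK : Kf hF) *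
            (wElt (Kf hF))⁻¹
          = uElt (zK : Kf hF) * (wElt (Kf hF) * uElt ((zK : Kf hF)⁻¹) * (wElt (Kf hF))⁻¹) * uElt (zK : Kf hF) *
            (wElt (Kf hF))⁻¹ := by group
        _ = _ := by rw [e]; group
  have htB : ∀ w, L (inB w) = φB hF (FreeGroup.lift (std zK) w) := fun w =>
    DFunLike.congr_fun (FreeGroup.ext_hom (L.comp inB) ((φB hF).comp (FreeGroup.lift (std zK))) fun i => by
      fin_cases i
      · simpa [inB, std] using mU
      · simpa [inB, std] using mH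
      · simp [inB, L, WB, t, std]) w
  have hlast : ∀ e ∈ kRest, e ∈ SK.eqs := by
    intro e he
    simp only [kRest, List.mem_append] at he
    rcases he with (he | he) | he
    · exact List.mem_append_left _ (List.mem_of_mem_take he)
    · exact List.mem_append_left _ (List.mem_of_mem_drop he)
    · exact List.mem_append_right _ he
  have hold : ∀ r ∈ rels, L r = 1 := by
    intro r hr
    rw [List.mem_toFinset, List.mem_map] at hr
    obtain ⟨e, he, rfl⟩ := hr
    rw [map_mul, map_inv, mul_inv_eq_one]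
    simp only [LR, List.mem_append, List.mem_map] at he
    have lha : L ha = φA hF (dElt SF.z) := by simp [L, ha, t]
    have lwa : L WA = φA hF (wElt F) := by simp [L, WA, t]
    have lwb : L WB = φB hF (wElt (Kf hF)) := by simp [L, WB, t]
    have lua : L (FreeGroup.of 0) = φA hF (uElt 1) := by simp [L, t]
    rcases he with ⟨e, he, rfl⟩ | ⟨e, he, rfl⟩ | he | he | he
    · rw [htA, htA, SF.eqs_hold e he]
    · rw [htB, htB, SK.eqs_hold e (hlast e he)]
    · simp only [few, List.mem_cons, List.not_mem_nil, or_false] at he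
      rcases he with rfl | rfl | rfl | rfl | rfl | rfl
      all_goals simp only [RW, XA, XB, map_mul, map_inv, mPW, htA, htB, hwF, hwK, lwa, lwb]
      · exact mf.braid
      · exact mf.waP
      · exact mf.wbR
      · exact mf.cAR
      · rcases hts with ⟨-, h⟩ | ⟨-, h⟩ <;> rw [h]
        · exact mf.cAPθ
        · rw [map_one]; exact mf.cAP
      · exact mf.cAB
    · simp only [tor, List.mem_cons, List.not_mem_nil, or_false] at he
      rcases he with rfl | rfl
      · show L (ha * U * ha⁻¹) = L (inB _)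
        rw [htB, map_wd, show FreeGroup.lift (std zK) lh = dElt zK from FreeGroup.lift_apply_of,
          show FreeGroup.lift (std zK) lu = uElt 1 from FreeGroup.lift_apply_of, wd_std zK SK.b SK.B SK.hB]
        simp only [map_mul, map_inv, lha, mU]
        have := mha 1 1
        rwa [pow_one, pow_one, mul_one] at this
      · simp only [map_mul, map_inv, lha, lwb, htB, hwK]
        exact model_ha_b hF SF.z _
    · by_cases hq2 : q = 2
      · simp [tor', if_pos hq2] at he
      simp only [tor', if_neg hq2, List.mem_cons, List.not_mem_nil, or_false] at he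
      rcases he with rfl | rfl | rfl
      · simp only [map_mul, map_inv, lha, mH]
        rw [model_ha_b, dConj_dElt]
      · simp only [map_mul, map_inv, mH, lua, htA, hwF]
        exact model_hb_a hF zK _
      · simp only [map_mul, map_inv, mH, lwa, htA, hwF]
        exact model_hb_a hF zK _
  let Φ : PresentedGroup (↑rels : Set W4) →* Ug hF := PresentedGroup.toGroup hold
  have hΦ : ∀ w, Φ (PresentedGroup.mk _ w) = L w := fun w => rfl
  have hsurj : Function.Surjective Φ := by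
    rw [← MonoidHom.range_eq_top, ← top_le_iff, ← closure_ranges hF, Subgroup.closure_le]
    rintro _ (⟨M, rfl⟩ | ⟨M, rfl⟩)
    · exact ⟨PresentedGroup.mk _ (inA (wdF M)), by rw [hΦ, htA, hwF]⟩
    · exact ⟨PresentedGroup.mk _ (inB (wdK M)), by rw [hΦ, htB, hwK]⟩
  -- the presented group
  let π : W4 →* PresentedGroup (↑rels : Set W4) := PresentedGroup.mk _
  have heq : ∀ e ∈ LR, π e.1 = π e.2 := fun e he => by
    have := PresentedGroup.one_of_mem (rels := (↑rels : Set W4))
      (List.mem_toFinset.2 (List.mem_map.2 ⟨e, he, rfl⟩))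
    rwa [map_mul, map_inv, mul_inv_eq_one] at this
  simp only [LR, List.forall_mem_append] at heq
  obtain ⟨eF, eK, efew, etor, etor'⟩ := heq
  obtain ⟨φa, hφa⟩ := SF.exists_hom (π.comp inA) fun e he => eF (inA e.1, inA e.2) (List.mem_map.2 ⟨e, he, rfl⟩)
  have hK' : ∀ e ∈ kRest, (π.comp inB) e.1 = (π.comp inB) e.2 := fun e he =>
    eK (inB e.1, inB e.2) (List.mem_map.2 ⟨e, he, rfl⟩)
  have hKx : ∀ e ∈ SK.extra, (π.comp inB) e.1 = (π.comp inB) e.2 := fun e he =>
    hK' e (List.mem_append_right _ he)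
  have hu' := hK' (lu ^ p, 1) (by simp [kRest, baseEqs])
  have hm' := hK' (lh ^ (SK.b * SK.n) * lu * (lh ^ (SK.b * SK.n))⁻¹,
    wd lh lu SK.b (coord SK.B ((((zK : Kf hF) ^ 2) ^ SK.b) ^ SK.n))) (by simp [kRest, baseEqs])
  have hs' := hK' (lh * lu * lh⁻¹, wd lh lu SK.b (coord SK.B ((zK : Kf hF) ^ 2))) (by simp [kRest, baseEqs])
  have hE1' := hK' (lw * lu * lw⁻¹, lu⁻¹ * lw * lu⁻¹) (by simp [kRest, baseEqs])
  simp only [map_mul, map_inv, map_pow, map_one, map_wd] at hu' hm' hs' hE1'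
  set ψ := π.comp inB with hψ
  obtain ⟨υ, hadd, h1, hυσ, hwd⟩ := exists_root_map (ψ lh) (ψ lu) SK.b (((zK : Kf hF) ^ 2) ^ SK.b)
    ((zK : Kf hF) ^ 2) SK.B SK.hB hu' (SK.comm _ ψ hKx hu') hm' hs'
  have bu : ψ lu = π U := by simp [hψ, inB]
  have bh : ψ lh = π H := by simp [hψ, inB]
  have bw : ψ lw = π WB := by simp [hψ, inB]
  have t1 := etor (ha * U * ha⁻¹, inB (wd lh lu SK.b (coord SK.B ((k0 : (Kf hF)ˣ) : Kf hF)))) (by simp [tor])
  have hA1 : π ha * π U * (π ha)⁻¹ = υ ((k0 : (Kf hF)ˣ) : Kf hF) := by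
    rw [map_mul, map_mul, map_inv] at t1
    rw [t1]
    show ψ _ = _
    rw [map_wd, hwd]
  have hAH : Commute (π ha) (π H) := by
    by_cases hq2 : q = 2
    · simp only [H, if_pos hq2, map_one]; exact Commute.one_right _
    · have := etor' (ha * H * ha⁻¹, H) (by simp [tor', if_neg hq2])
      rw [map_mul, map_mul, map_inv, mul_inv_eq_iff_eq_mul] at this
      exact this
  have hAυ : ∀ s, π ha * υ s * (π ha)⁻¹ = υ (((k0 : (Kf hF)ˣ) : Kf hF) * s) :=
    torus_root (π ha) (π H) (π U) υ hadd (h1.trans bu) ((zK : Kf hF) ^ 2) _ SK.b SK.B SK.hB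
      (fun c => bh ▸ hυσ c) hAH hA1
  have hAυn : ∀ (i : ℕ), π (BJ i) = υ ((k0 ^ i : (Kf hF)ˣ) : Kf hF) := by
    intro i
    induction i with
    | zero => simp [BJ, h1.trans bu]
    | succ i ih =>
      have e : π (BJ (i + 1)) = π ha * π (BJ i) * (π ha)⁻¹ := by
        simp only [BJ, map_mul, map_inv, map_pow, pow_succ']
        group
      rw [e, ih, hAυ, pow_succ', Units.val_mul]
  have hdef : ψ (lw * wd lh lu SK.b (coord SK.B ((zK : Kf hF)⁻¹)) * lw⁻¹) =
      ψ ((wd lh lu SK.b (coord SK.B (zK : Kf hF)))⁻¹ * lh * lw * (wd lh lu SK.b (coord SK.B (zK : Kf hF)))⁻¹) := by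
    simp only [map_mul, map_inv, map_wd, ← hwd]
    rw [bh, bw]
    by_cases hq2 : q = 2
    · simp only [(hK2 hq2).1, Units.val_one, inv_one, H, if_pos hq2, map_one, mul_one, h1]
      rw [bw] at hE1'
      exact hE1'
    · have e1 : υ (zK : Kf hF) = π (BJ jz) := by rw [hAυn, hjz]
      have e2 : υ ((zK : Kf hF)⁻¹) = π (BJ ji) := by rw [hAυn, hji, Units.val_inv_eq_inv_val]
      rw [e1, e2]
      simp only [H, if_neg hq2, map_mul, map_inv]
      group
  obtain ⟨φb, hφb⟩ := SK.exists_hom ψ fun e he => by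
    have hmem : ∀ e' ∈ (baseEqs p zK SK.b SK.B).take 4 ++ (baseEqs p zK SK.b SK.B).drop 5, ψ e'.1 = ψ e'.2 :=
      fun e' he' => hK' e' (List.mem_append_left _ he')
    simp only [baseEqs, List.take_succ_cons, List.take_zero, List.drop_succ_cons, List.drop_zero, List.cons_append,
      List.nil_append, List.forall_mem_cons] at hmem
    obtain ⟨m1, m2, m3, m4, m5, -⟩ := hmem
    simp only [StdData.eqs, baseEqs, List.cons_append, List.nil_append, List.mem_cons] at he
    rcases he with rfl | rfl | rfl | rfl | rfl | rfl | he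
    · exact m1
    · exact m2
    · exact m3
    · exact m4
    · exact hdef
    · exact m5
    · exact hKx e he
  have hA : ∀ M, π (inA (wdF M)) = φa M := fun M => by
    rw [← MonoidHom.comp_apply π inA, ← hφa, hwF]
  have hB : ∀ M, π (inB (wdK M)) = φb M := fun M => by
    rw [← MonoidHom.comp_apply π inB, ← hψ, ← hφb, hwK]
  have gA : ∀ i, φa (std SF.z i) = π (inA (FreeGroup.of i)) := fun i => by
    rw [← MonoidHom.comp_apply π inA, ← hφa, FreeGroup.lift_apply_of]
  have gB : ∀ i, φb (std zK i) = ψ (FreeGroup.of i) := fun i => by rw [← hφb, FreeGroup.lift_apply_of]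
  have pua : φa (uElt 1) = π (FreeGroup.of 0) := by simpa [std, inA] using gA 0
  have pha : φa (dElt SF.z) = π ha := by simpa [std, inA] using gA 1
  have pwa : φa (wElt F) = π WA := by simpa [std, inA] using gA 2
  have pub : φb (uElt 1) = π U := (gB 0).trans bu
  have phb : φb (dElt zK) = π H := (gB 1).trans bh
  have pwb : φb (wElt (Kf hF)) = π WB := (gB 2).trans bw
  have hυb : ∀ s, φb (uElt s) = υ s := fun s => by
    rw [hwd, ← map_wd ψ, ← hφb]
    congr 1
    rw [map_wd, show FreeGroup.lift (std zK) lh = dElt zK from FreeGroup.lift_apply_of,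
      show FreeGroup.lift (std zK) lu = uElt 1 from FreeGroup.lift_apply_of, wd_std zK SK.b SK.B SK.hB]
  have hta : ∀ (c : Fˣ) (M : SL(2, Kf hF)),
      φa (dElt c) * φb M * (φa (dElt c))⁻¹ = φb (dConj (D.Nu c)⁻¹ M) := fun c M => by
    refine torus_all φa φb (std zK) hgenK SF.z SF.hz (D.Nu⁻¹) (fun i => ?_) c M
    fin_cases i
    · show φa (dElt SF.z) * φb (uElt 1) * _ = φb (dConj k0 (uElt 1))
      rw [pha, pub, hA1, dConj_uElt, hυb, mul_one]
    · show φa (dElt SF.z) * φb (dElt zK) * _ = φb (dConj k0 (dElt zK))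
      rw [dConj_dElt, pha, phb, hAH.eq, mul_inv_cancel_right]
    · show φa (dElt SF.z) * φb (wElt (Kf hF)) * _ = φb (dConj k0 (wElt (Kf hF)))
      have := etor (ha * WB * ha⁻¹, inB (wdK (dConj k0 (wElt (Kf hF))))) (by simp [tor])
      rw [map_mul, map_mul, map_inv, hB] at this
      rw [pha, pwb, this]
  have htb : ∀ (c : (Kf hF)ˣ) (M : SL(2, F)),
      φb (dElt c) * φa M * (φb (dElt c))⁻¹ = φa (dConj (D.ιu c)⁻¹ M) := fun c M => by
    refine torus_all φb φa (std SF.z) hgenF zK SK.hz (D.ιu⁻¹) (fun i => ?_) c M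
    by_cases hq2 : q = 2
    · have hz1 := (hK2 hq2).1
      rw [hz1, map_one, dOne, map_one, SpFour.dConj_one]
      group
    fin_cases i
    · show φb (dElt zK) * φa (uElt 1) * _ = φa (dConj (D.ιu zK)⁻¹ (uElt 1))
      have := etor' (H * FreeGroup.of 0 * H⁻¹, inA (wdF (dConj (D.ιu zK)⁻¹ (uElt 1)))) (by simp [tor', if_neg hq2])
      rw [map_mul, map_mul, map_inv, hA] at this
      rw [phb, pua, this]
    · show φb (dElt zK) * φa (dElt SF.z) * _ = φa (dConj (D.ιu zK)⁻¹ (dElt SF.z))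
      rw [dConj_dElt, pha, phb, ← hAH.eq, mul_inv_cancel_right]
    · show φb (dElt zK) * φa (wElt F) * _ = φa (dConj (D.ιu zK)⁻¹ (wElt F))
      have := etor' (H * WA * H⁻¹, inA (wdF (dConj (D.ιu zK)⁻¹ (wElt F)))) (by simp [tor', if_neg hq2])
      rw [map_mul, map_mul, map_inv, hA] at this
      rw [phb, pwa, this]
  have hPW : ∀ s, π (PW s) = P φa φb s := fun s => by
    simp only [PW, XA, map_mul, map_inv, hA]
    rw [← pwb]
    rfl
  -- the eliminated relation
  have helim : X φa (1 : F) * P φa φb ts = R φa φb (D.Tr (D.σ ts)) * P φa φb ts * X φa 1 := by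
    have e := hAυn j
    rw [hj, Units.val_mk0] at e
    simp only [BJ, U, cm, map_mul, map_inv, map_pow, hPW, XA, hA] at e
    rw [← pwa] at e
    have e' : υ (D.Tr (D.σ ts)) = (φa (wElt F))⁻¹ *
        (X φa 1 * P φa φb ts * (X φa 1)⁻¹ * (P φa φb ts)⁻¹) * φa (wElt F) := by
      rw [← e]; simp only [X]; group
    rw [R, X, X, hυb, e']
    simp only [X]
    group
  simp only [few, List.forall_mem_cons, List.not_mem_nil, IsEmpty.forall_iff, implies_true, and_true] at efew
  obtain ⟨q1, q2, q3, q4, q5, q9⟩ := efew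
  simp only [RW, XA, XB, map_mul, map_inv, hA, hB, hPW, ← pwa, ← pwb] at q1 q2 q3 q4 q5 q9
  have hfew : Few D θ φa φb := by
    refine ⟨q1, q2, q3, q4, ?_, ?_, q9⟩
    · rcases hts with ⟨h, -⟩ | ⟨-, h⟩
      · rw [h, map_one] at helim; exact helim
      · rw [h, map_one] at q5; exact q5
    · rcases hts with ⟨-, h⟩ | ⟨h, -⟩
      · rw [h] at q5; exact q5
      · rw [h] at helim; exact helim
  have hgenP : Subgroup.closure ((φa.range : Set (PresentedGroup (↑rels : Set W4))) ∪ φb.range) = ⊤ := by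
    rw [← top_le_iff, ← PresentedGroup.closure_range_of (↑rels : Set W4), Subgroup.closure_le]
    rintro _ ⟨i, rfl⟩
    fin_cases i
    · exact Subgroup.subset_closure (Or.inl ⟨_, pua⟩)
    · exact Subgroup.subset_closure (Or.inl ⟨_, pha⟩)
    · exact Subgroup.subset_closure (Or.inl ⟨_, pwa⟩)
    · exact Subgroup.subset_closure (Or.inr ⟨_, pwb⟩)
  obtain ⟨hfin, hcard⟩ := bound (hFK hF) D φa φb
    (rels_of_few D (hFK hF) (hσ hF) c₀ hc₀N hc₀ hta htb hfew) hgenP
  have hle : Nat.card (PresentedGroup (↑rels : Set W4)) ≤ Nat.card (Ug hF) := by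
    refine hcard.trans (le_of_eq ?_)
    rw [card_ug, card_sl, fintype_card_Kf]
    ring
  exact ⟨MulEquiv.ofBijective Φ ((Nat.bijective_iff_surjective_and_card Φ).2
    ⟨hsurj, le_antisymm hle (Nat.card_le_card_of_surjective _ hsurj)⟩)⟩

/-- `SU₄` has four generators and twenty-six relators, twenty-one for `q = 2`. -/
theorem su_four_pres_four {F : Type*} [Field F] [Fintype F] {q : ℕ} (hF : Fintype.card F = q ^ 2) :
    PresBy 4 (Cfsg.SU 4 F q) (if q = 2 then 21 else 26) :=
  (ug_pres_four hF).congr (toSU hF)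

end CfsgLib.Pres.SUFour
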