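import Cfsg.Agent.Lib.Pres.SUFourRels
import Cfsg.Agent.Lib.KnownA.SUModel
import Cfsg.Agent.Lib.Classical.UnitaryGen
import Cfsg.Agent.Lib.Classical.SUOrder

/-!
# The two rank-one subgroups of `SU₄`

The unitary group is realised in the basis in which the form is the skew-hermitian form of matrix `J`.
-/

set_option autoImplicit false

namespace CfsgLib.Pres.SUFour

open Matrix
open scoped MatrixGroups
open CfsgLib.Classical (uElt uElt_val uElt_add qFrob qFrob_apply qFrob_qFrob)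
open CfsgLib.KnownA.SUModel (ct ct_apply ct_mul ct_ct ct_one ct_smul ct_fromBlocks sug mat mat_injective)
open CfsgLib.Pres.SpFour (X)

variable {F : Type*} [Field F] [Fintype F] {q : ℕ} (hF : Fintype.card F = q ^ 2)

theorem wElt_inv_val {L : Type*} [Field L] :
    (((wElt L)⁻¹ : SL(2, L)) : Matrix (Fin 2) (Fin 2) L) = !![0, -1; 1, 0] := by
  rw [Matrix.SpecialLinearGroup.coe_inv]
  simp [wElt, Matrix.adjugate_fin_two]

/-- The fixed field. -/
noncomputable abbrev Kf : Subfield F := RingHom.eqLocusField (qFrob hF) (RingHom.id F)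

theorem σ_fix (k : Kf hF) : qFrob hF (k : F) = k := k.2

theorem card_Kf : Nat.card (Kf hF) = q := by
  classical
  have hq := Classical.two_le_of_card_sq hF
  let f : (Kf hF)ˣ →* Fˣ := Units.map ((Kf hF).subtype : Kf hF →* F)
  have hfi : Function.Injective f := fun a b e => Units.ext (Subtype.ext (congrArg Units.val e))
  have hrange : f.range = (powMonoidHom (q - 1) : Fˣ →* Fˣ).ker := by
    ext x
    rw [MonoidHom.mem_ker, powMonoidHom_apply]
    have hpow : x ^ (q - 1) = 1 ↔ x ^ q = x := by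
      conv_rhs => rw [show q = q - 1 + 1 by omega, pow_succ, mul_eq_right]
    rw [hpow]
    constructor
    · rintro ⟨k, rfl⟩
      refine Units.ext ?_
      rw [Units.val_pow_eq_pow_val]
      show ((k : Kf hF) : F) ^ q = ((k : Kf hF) : F)
      rw [← qFrob_apply hF, σ_fix]
    · intro h
      have hm : (x : F) ∈ Kf hF := by
        show qFrob hF (x : F) = (x : F)
        rw [qFrob_apply, ← Units.val_pow_eq_pow_val, h]
      exact ⟨Units.mk0 ⟨x, hm⟩ fun e => x.ne_zero (congrArg Subtype.val e), Units.ext rfl⟩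
  have h1 : Nat.card (Kf hF)ˣ = q - 1 := by
    rw [Nat.card_congr (MonoidHom.ofInjective hfi).toEquiv, hrange, IsCyclic.card_powMonoidHom_ker,
      Classical.units_card_sq hF, Nat.gcd_mul_right_left]
  rw [Nat.card_units] at h1
  have := Nat.card_pos (α := Kf hF)
  omega

noncomputable instance : Fintype (Kf hF) := Fintype.ofFinite _

theorem fintype_card_Kf : Fintype.card (Kf hF) = q := by rw [← Nat.card_eq_fintype_card, card_Kf]

/-- The field data. -/
noncomputable def data : Data F (Kf hF) where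
  σ := qFrob hF
  ι := (Kf hF).subtype
  N x := ⟨x * qFrob hF x, by
    show qFrob hF (x * qFrob hF x) = x * qFrob hF x
    rw [map_mul, qFrob_qFrob, mul_comm]⟩
  Tr x := ⟨x + qFrob hF x, by
    show qFrob hF (x + qFrob hF x) = x + qFrob hF x
    rw [map_add, qFrob_qFrob, add_comm]⟩
  σσ := qFrob_qFrob hF
  σι k := σ_fix hF k
  ιN _ := rfl
  ιTr _ := rfl

theorem data_σ (x : F) : (data hF).σ x = qFrob hF x := rfl
theorem data_ι (k : Kf hF) : (data hF).ι k = (k : F) := rfl
theorem data_N (x : F) : (((data hF).N x : Kf hF) : F) = x * qFrob hF x := rfl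
theorem data_Tr (x : F) : (((data hF).Tr x : Kf hF) : F) = x + qFrob hF x := rfl

theorem hFK : Fintype.card F = Fintype.card (Kf hF) ^ 2 := by rw [fintype_card_Kf, hF]

theorem hσ (x : F) : (data hF).σ x = x ^ Fintype.card (Kf hF) := by rw [fintype_card_Kf, data_σ, qFrob_apply]

local notation "ι4" => Fin 2 ⊕ Fin 2
local notation "J4" => Matrix.J (Fin 2) F

/-- The group of the skew-hermitian form. -/
def Ug : Subgroup (Matrix.SpecialLinearGroup ι4 F) where
  carrier := {g | ct hF (g : Matrix ι4 ι4 F) * J4 * (g : Matrix ι4 ι4 F) = J4}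
  one_mem' := by simp [ct_one]
  mul_mem' := fun {a b} ha hb => by
    show ct hF ((a : Matrix ι4 ι4 F) * (b : Matrix ι4 ι4 F)) * J4 * ((a : Matrix ι4 ι4 F) * (b : Matrix ι4 ι4 F)) = J4
    calc _ = ct hF (b : Matrix ι4 ι4 F) * (ct hF (a : Matrix ι4 ι4 F) * J4 * (a : Matrix ι4 ι4 F)) *
          (b : Matrix ι4 ι4 F) := by rw [ct_mul]; simp only [Matrix.mul_assoc]
      _ = _ := by rw [show ct hF (a : Matrix ι4 ι4 F) * J4 * (a : Matrix ι4 ι4 F) = J4 from ha]; exact hb
  inv_mem' := fun {a} ha => by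
    have h1 : (a : Matrix ι4 ι4 F) * ((a⁻¹ : Matrix.SpecialLinearGroup ι4 F) : Matrix ι4 ι4 F) = 1 := by
      rw [← Matrix.SpecialLinearGroup.coe_mul, mul_inv_cancel, Matrix.SpecialLinearGroup.coe_one]
    set b := ((a⁻¹ : Matrix.SpecialLinearGroup ι4 F) : Matrix ι4 ι4 F)
    show ct hF b * J4 * b = J4
    calc ct hF b * J4 * b = ct hF b * (ct hF (a : Matrix ι4 ι4 F) * J4 * (a : Matrix ι4 ι4 F)) * b := by
          rw [show ct hF (a : Matrix ι4 ι4 F) * J4 * (a : Matrix ι4 ι4 F) = J4 from ha]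
      _ = ct hF ((a : Matrix ι4 ι4 F) * b) * J4 * ((a : Matrix ι4 ι4 F) * b) := by
          rw [ct_mul]; simp only [Matrix.mul_assoc]
      _ = J4 := by rw [h1, ct_one, Matrix.one_mul, Matrix.mul_one]

theorem ug_coe_mul (g h : Ug hF) : (((g * h : Ug hF) : Matrix.SpecialLinearGroup ι4 F) : Matrix ι4 ι4 F) =
    ((g : Matrix.SpecialLinearGroup ι4 F) : Matrix ι4 ι4 F) * ((h : Matrix.SpecialLinearGroup ι4 F) : Matrix ι4 ι4 F) :=
  rfl

theorem ug_ext {g h : Ug hF} (e : ((g : Matrix.SpecialLinearGroup ι4 F) : Matrix ι4 ι4 F) =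
    ((h : Matrix.SpecialLinearGroup ι4 F) : Matrix ι4 ι4 F)) : g = h := Subtype.ext (Subtype.ext e)

/-- Elements from matrices. -/
def mkU (x : Matrix ι4 ι4 F) (hd : x.det = 1) (h : ct hF x * J4 * x = J4) : Ug hF := ⟨⟨x, hd⟩, h⟩

theorem exists_base : ∃ (C D : Matrix ι4 ι4 F) (κ : F), κ ≠ 0 ∧ C * D = 1 ∧ ct hF C * C = κ • J4 := by
  classical
  have hq := Classical.two_le_of_card_sq hF
  obtain ⟨a, ha⟩ : ∃ a, qFrob hF a ≠ a := by
    by_contra h
    exact Classical.qFrob_ne_id hF (RingHom.ext fun x => not_not.1 fun hx => h ⟨x, hx⟩)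
  set κ := qFrob hF a - a with hκdef
  have hκ : κ ≠ 0 := sub_ne_zero.2 ha
  have hκσ : qFrob hF κ = -κ := by rw [hκdef, map_sub, qFrob_qFrob, neg_sub]
  have hm1 : (-1 : F) ≠ 0 := neg_ne_zero.2 one_ne_zero
  have hm2 : (-1 : F) ^ q = -1 := by rw [← qFrob_apply hF, map_neg, map_one]
  have hcard := Classical.card_norm_fibre hF hm1 hm2
  have : Nontrivial {x : F // x ^ (q + 1) = -1} := Finite.one_lt_card_iff_nontrivial.1 (by omega)
  obtain ⟨⟨μ, hμ⟩, ⟨ν, hν⟩, hne⟩ := exists_pair_ne {x : F // x ^ (q + 1) = -1}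
  have hne' : μ ≠ ν := fun e => hne (Subtype.ext e)
  have hNμ : qFrob hF μ * μ = -1 := by rw [qFrob_apply, ← pow_succ, hμ]
  have hNν : qFrob hF ν * ν = -1 := by rw [qFrob_apply, ← pow_succ, hν]
  have hμ0 : μ ≠ 0 := fun e => hm1 (by rw [← hμ, e, zero_pow (by omega)])
  have hd : 1 + qFrob hF μ * ν ≠ 0 := fun e => hne' (mul_left_cancel₀
    ((map_ne_zero (qFrob hF)).2 hμ0) (by linear_combination hNμ - e))
  set l := -κ / (1 + qFrob hF μ * ν) with hl
  have hl1 : l * (1 + qFrob hF μ * ν) = -κ := div_mul_cancel₀ _ hd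
  have hl2 : qFrob hF l * (1 + qFrob hF ν * μ) = κ := by
    have := congrArg (qFrob hF) hl1
    rw [map_mul, map_add, map_one, map_mul, qFrob_qFrob, map_neg, hκσ, neg_neg] at this
    rw [← this]; ring
  let C : Matrix ι4 ι4 F := fromBlocks 1 (l • 1) (μ • 1) ((l * ν) • 1)
  have hctC : ct hF C = fromBlocks 1 (qFrob hF μ • 1) (qFrob hF l • 1) ((qFrob hF l * qFrob hF ν) • 1) := by
    show ct hF (fromBlocks _ _ _ _) = _
    rw [ct_fromBlocks, ct_one, ct_smul, ct_smul, ct_smul, ct_one, map_mul]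
  have hCC : ct hF C * C = κ • J4 := by
    rw [hctC, Matrix.J]
    show fromBlocks _ _ _ _ * fromBlocks _ _ _ _ = _
    rw [fromBlocks_multiply, fromBlocks_smul]
    simp only [Matrix.one_mul, Matrix.smul_mul, Matrix.mul_smul, smul_smul, smul_zero, smul_neg, ← add_smul,
      fromBlocks_inj]
    refine ⟨?_, ?_, ?_, ?_⟩
    · nth_rewrite 1 [← one_smul F (1 : Matrix (Fin 2) (Fin 2) F)]
      rw [← add_smul, show (1 : F) + μ * qFrob hF μ = 0 by linear_combination hNμ, zero_smul]
    · rw [← neg_smul]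
      congr 1
      linear_combination hl1
    · nth_rewrite 1 [← mul_one (qFrob hF l)]
      congr 1
      linear_combination hl2
    · rw [show l * qFrob hF l + l * ν * (qFrob hF l * qFrob hF ν) = 0 by
        linear_combination qFrob hF l * l * hNν, zero_smul]
  refine ⟨C, -κ⁻¹ • (J4 * ct hF C), κ, hκ, mul_eq_one_comm.1 ?_, hCC⟩
  rw [Matrix.smul_mul, Matrix.mul_assoc, hCC, Matrix.mul_smul, Matrix.J_squared, smul_smul, smul_neg, neg_mul,
    inv_mul_cancel₀ hκ, neg_smul, one_smul, neg_neg]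

/-- The change of basis. -/
noncomputable def C4 : Matrix ι4 ι4 F := (exists_base hF).choose
/-- Its inverse. -/
noncomputable def D4 : Matrix ι4 ι4 F := (exists_base hF).choose_spec.choose
/-- The scale. -/
noncomputable def κ4 : F := (exists_base hF).choose_spec.choose_spec.choose

theorem κ4_ne : κ4 hF ≠ 0 := (exists_base hF).choose_spec.choose_spec.choose_spec.1
theorem C_D : C4 hF * D4 hF = 1 := (exists_base hF).choose_spec.choose_spec.choose_spec.2.1
theorem D_C : D4 hF * C4 hF = 1 := mul_eq_one_comm.1 (C_D hF)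
theorem ct_C : ct hF (C4 hF) * C4 hF = κ4 hF • J4 := (exists_base hF).choose_spec.choose_spec.choose_spec.2.2

theorem det_conj_C (x : Matrix ι4 ι4 F) : (C4 hF * x * D4 hF).det = x.det ∧ (D4 hF * x * C4 hF).det = x.det := by
  have h : (C4 hF).det * (D4 hF).det = 1 := by rw [← det_mul, C_D, det_one]
  refine ⟨?_, ?_⟩ <;>
  · rw [det_mul, det_mul]
    linear_combination x.det * h

/-- The identification with the standard group. -/
noncomputable def toSug : Ug hF ≃* sug hF ι4 where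
  toFun g := KnownA.SUModel.mk hF (C4 hF * ((g : Matrix.SpecialLinearGroup ι4 F) : Matrix ι4 ι4 F) * D4 hF) (by
      set x := ((g : Matrix.SpecialLinearGroup ι4 F) : Matrix ι4 ι4 F)
      have hx : ct hF x * J4 * x = J4 := g.2
      calc ct hF (C4 hF * x * D4 hF) * (C4 hF * x * D4 hF)
          = ct hF (D4 hF) * (ct hF x * (ct hF (C4 hF) * C4 hF) * x) * D4 hF := by
            rw [ct_mul, ct_mul]; simp only [Matrix.mul_assoc]
        _ = ct hF (D4 hF) * (ct hF (C4 hF) * C4 hF) * D4 hF := by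
            rw [ct_C, Matrix.mul_smul, Matrix.smul_mul, hx]
        _ = ct hF (C4 hF * D4 hF) * (C4 hF * D4 hF) := by rw [ct_mul]; simp only [Matrix.mul_assoc]
        _ = 1 := by rw [C_D, ct_one, Matrix.one_mul])
    (((det_conj_C hF _).1).trans g.1.2)
  invFun h := mkU hF (D4 hF * mat hF h * C4 hF) (((det_conj_C hF _).2).trans (KnownA.SUModel.det_mat hF h)) (by
      have hJ : J4 = (κ4 hF)⁻¹ • (ct hF (C4 hF) * C4 hF) := by
        rw [ct_C, smul_smul, inv_mul_cancel₀ (κ4_ne hF), one_smul]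
      rw [hJ, Matrix.mul_smul, Matrix.smul_mul]
      congr 1
      calc ct hF (D4 hF * mat hF h * C4 hF) * (ct hF (C4 hF) * C4 hF) * (D4 hF * mat hF h * C4 hF)
          = ct hF (C4 hF) * (ct hF (mat hF h) * (ct hF (C4 hF * D4 hF) * (C4 hF * D4 hF)) * mat hF h) * C4 hF := by
            rw [ct_mul, ct_mul, ct_mul]; simp only [Matrix.mul_assoc]
        _ = _ := by rw [C_D, ct_one, Matrix.one_mul, Matrix.mul_one, KnownA.SUModel.ct_mat, Matrix.mul_one])
  left_inv g := ug_ext hF (by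
    show D4 hF * (C4 hF * _ * D4 hF) * C4 hF = _
    simp only [← Matrix.mul_assoc, D_C, Matrix.one_mul]
    rw [Matrix.mul_assoc, D_C, Matrix.mul_one])
  right_inv h := mat_injective hF (by
    show C4 hF * (D4 hF * mat hF h * C4 hF) * D4 hF = _
    simp only [← Matrix.mul_assoc, C_D, Matrix.one_mul]
    rw [Matrix.mul_assoc, C_D, Matrix.mul_one])
  map_mul' g h := mat_injective hF (by
    rw [map_mul]
    show C4 hF * _ * D4 hF = C4 hF * _ * D4 hF * (C4 hF * _ * D4 hF)
    rw [ug_coe_mul]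
    simp only [Matrix.mul_assoc]
    rw [← Matrix.mul_assoc (D4 hF) (C4 hF), D_C, Matrix.one_mul])

/-- The standard group `SU₄`. -/
noncomputable def toSU : Ug hF ≃* Cfsg.SU 4 F q :=
  ((toSug hF).trans (KnownA.SUModel.reindexSU hF finSumFinEquiv)).trans
    (MulEquiv.subgroupCongr (KnownA.SUModel.sug_eq_su hF 4))

/-- The order. -/
theorem card_ug : Nat.card (Ug hF) = q ^ 6 * ((q ^ 2 - 1) * (q ^ 3 + 1) * (q ^ 4 - 1)) := by
  have hq := Classical.two_le_of_card_sq hF
  rw [Nat.card_congr (toSU hF).toEquiv]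
  refine Nat.eq_of_mul_eq_mul_left (show 0 < q + 1 by omega) ?_
  rw [Classical.card_su_mul hF (by norm_num), Classical.card_gu hF]
  simp only [Finset.prod_range_succ, Finset.range_zero, Finset.prod_empty, one_mul]
  norm_num [Nat.even_iff]
  ring

/-- The block matrix of the short root subgroup. -/
noncomputable def aMat (M : Matrix (Fin 2) (Fin 2) F) : Matrix ι4 ι4 F :=
  Matrix.fromBlocks M 0 0 !![qFrob hF (M 1 1), -qFrob hF (M 1 0); -qFrob hF (M 0 1), qFrob hF (M 0 0)]

/-- The block matrix of the long root subgroup. -/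
def bMat (M : Matrix (Fin 2) (Fin 2) (Kf hF)) : Matrix ι4 ι4 F :=
  Matrix.fromBlocks !![1, 0; 0, (M 0 0 : F)] !![0, 0; 0, (M 0 1 : F)] !![0, 0; 0, (M 1 0 : F)]
    !![1, 0; 0, (M 1 1 : F)]

theorem aMat_mul (M N : Matrix (Fin 2) (Fin 2) F) : aMat hF (M * N) = aMat hF M * aMat hF N := by
  ext i j
  rcases i with i | i <;> rcases j with j | j <;> fin_cases i <;> fin_cases j <;>
    simp [aMat, Matrix.mul_apply, Fintype.sum_sum_type, Fin.sum_univ_two] <;> ring

theorem bMat_mul (M N : Matrix (Fin 2) (Fin 2) (Kf hF)) : bMat hF (M * N) = bMat hF M * bMat hF N := by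
  ext i j
  rcases i with i | i <;> rcases j with j | j <;> fin_cases i <;> fin_cases j <;>
    simp [bMat, Matrix.mul_apply, Fintype.sum_sum_type, Fin.sum_univ_two]

theorem aMat_det (M : SL(2, F)) : (aMat hF (M : Matrix (Fin 2) (Fin 2) F)).det = 1 := by
  have h := M.2
  rw [Matrix.det_fin_two] at h
  have h' := congrArg (qFrob hF) h
  rw [map_sub, map_mul, map_mul, map_one] at h'
  rw [aMat, det_fromBlocks_zero₁₂, Matrix.det_fin_two, Matrix.det_fin_two]
  simp only [Matrix.of_apply, Matrix.cons_val', Matrix.cons_val_zero, Matrix.cons_val_one, Matrix.cons_val_fin_one]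
  rw [h, one_mul]
  linear_combination h'

theorem bMat_det (M : SL(2, Kf hF)) : (bMat hF (M : Matrix (Fin 2) (Fin 2) (Kf hF))).det = 1 := by
  have h := congrArg (fun k : Kf hF => (k : F)) M.2
  simp only [Matrix.det_fin_two, Subfield.coe_sub, Subfield.coe_mul, Subfield.coe_one] at h
  rw [← Matrix.det_reindex_self finSumFinEquiv, Matrix.det_succ_row_zero]
  simp [bMat, Fin.sum_univ_succ, Matrix.det_fin_three, finSumFinEquiv, Fin.addCases, Fin.succAbove]
  linear_combination h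

theorem aMat_mem (M : SL(2, F)) : ct hF (aMat hF (M : Matrix (Fin 2) (Fin 2) F)) * J4 *
    aMat hF (M : Matrix (Fin 2) (Fin 2) F) = J4 := by
  have h := M.2
  rw [Matrix.det_fin_two] at h
  have h' := congrArg (qFrob hF) h
  rw [map_sub, map_mul, map_mul, map_one] at h'
  ext i j
  rcases i with i | i <;> rcases j with j | j <;> fin_cases i <;> fin_cases j <;>
    simp [aMat, ct_apply, qFrob_qFrob, Matrix.J, Matrix.mul_apply, Fintype.sum_sum_type, Fin.sum_univ_two] <;>
    first | ring1 | linear_combination h | linear_combination -h | linear_combination h' | linear_combination -h'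

theorem bMat_mem (M : SL(2, Kf hF)) : ct hF (bMat hF (M : Matrix (Fin 2) (Fin 2) (Kf hF))) * J4 *
    bMat hF (M : Matrix (Fin 2) (Fin 2) (Kf hF)) = J4 := by
  have h := congrArg (fun k : Kf hF => (k : F)) M.2
  simp only [Matrix.det_fin_two, Subfield.coe_sub, Subfield.coe_mul, Subfield.coe_one] at h
  ext i j
  rcases i with i | i <;> rcases j with j | j <;> fin_cases i <;> fin_cases j <;>
    simp [bMat, ct_apply, σ_fix, Matrix.J, Matrix.mul_apply, Fintype.sum_sum_type, Fin.sum_univ_two] <;>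
    first | ring1 | linear_combination h | linear_combination -h

/-- The short root subgroup. -/
noncomputable def φA : SL(2, F) →* Ug hF :=
  MonoidHom.mk' (fun M => mkU hF (aMat hF (M : Matrix (Fin 2) (Fin 2) F)) (aMat_det hF M) (aMat_mem hF M)) fun M N =>
    ug_ext hF (by
      show aMat hF ((M * N : SL(2, F)) : Matrix (Fin 2) (Fin 2) F) = _
      rw [Matrix.SpecialLinearGroup.coe_mul, aMat_mul]
      rfl)

/-- The long root subgroup. -/
noncomputable def φB : SL(2, Kf hF) →* Ug hF :=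
  MonoidHom.mk' (fun M => mkU hF (bMat hF (M : Matrix (Fin 2) (Fin 2) (Kf hF))) (bMat_det hF M) (bMat_mem hF M))
    fun M N => ug_ext hF (by
      show bMat hF ((M * N : SL(2, Kf hF)) : Matrix (Fin 2) (Fin 2) (Kf hF)) = _
      rw [Matrix.SpecialLinearGroup.coe_mul, bMat_mul]
      rfl)

theorem φA_val (M : SL(2, F)) : (((φA hF M : Ug hF) : Matrix.SpecialLinearGroup ι4 F) : Matrix ι4 ι4 F) =
    aMat hF (M : Matrix (Fin 2) (Fin 2) F) := rfl

theorem φB_val (M : SL(2, Kf hF)) : (((φB hF M : Ug hF) : Matrix.SpecialLinearGroup ι4 F) : Matrix ι4 ι4 F) =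
    bMat hF (M : Matrix (Fin 2) (Fin 2) (Kf hF)) := rfl

/-- The third root element. -/
noncomputable def pMat (t : F) : Matrix ι4 ι4 F := Matrix.fromBlocks 1 !![0, t; qFrob hF t, 0] 0 1

/-- The highest root element. -/
def rMat (t : F) : Matrix ι4 ι4 F := Matrix.fromBlocks 1 !![t, 0; 0, 0] 0 1

theorem X_φA (t : F) : (((X (φA hF) t : Ug hF) : Matrix.SpecialLinearGroup ι4 F) : Matrix ι4 ι4 F) =
    Matrix.fromBlocks !![1, t; 0, 1] 0 0 !![1, 0; -qFrob hF t, 1] := by
  rw [X, φA_val, aMat, uElt_val]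
  simp

theorem X_φB (t : Kf hF) : (((X (φB hF) t : Ug hF) : Matrix.SpecialLinearGroup ι4 F) : Matrix ι4 ι4 F) =
    Matrix.fromBlocks 1 !![0, 0; 0, (t : F)] 0 1 := by
  rw [X, φB_val, bMat, uElt_val]
  simp only [Matrix.fromBlocks_inj]
  refine ⟨?_, ?_, ?_, ?_⟩ <;> ext i j <;> fin_cases i <;> fin_cases j <;> simp

theorem w_φA : (((φA hF (wElt F) : Ug hF) : Matrix.SpecialLinearGroup ι4 F) : Matrix ι4 ι4 F) =
    Matrix.fromBlocks !![0, 1; -1, 0] 0 0 !![0, 1; -1, 0] := by
  rw [φA_val, aMat, wElt]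
  simp

theorem w_φB : (((φB hF (wElt (Kf hF)) : Ug hF) : Matrix.SpecialLinearGroup ι4 F) : Matrix ι4 ι4 F) =
    Matrix.fromBlocks !![1, 0; 0, 0] !![0, 0; 0, 1] !![0, 0; 0, -1] !![1, 0; 0, 0] := by
  rw [φB_val, bMat, wElt]
  simp

theorem P_eq (t : F) :
    (((P (φA hF) (φB hF) t : Ug hF) : Matrix.SpecialLinearGroup ι4 F) : Matrix ι4 ι4 F) = pMat hF t := by
  have h : P (φA hF) (φB hF) t * φB hF (wElt (Kf hF)) = φB hF (wElt (Kf hF)) * X (φA hF) (-t) := by
    rw [P, inv_mul_cancel_right]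
  have h' := congrArg (fun g : Ug hF => ((g : Matrix.SpecialLinearGroup ι4 F) : Matrix ι4 ι4 F)) h
  simp only [ug_coe_mul, w_φB, X_φA] at h'
  set W : Matrix ι4 ι4 F := fromBlocks !![1, 0; 0, 0] !![0, 0; 0, 1] !![0, 0; 0, -1] !![1, 0; 0, 0]
  set W' : Matrix ι4 ι4 F := fromBlocks !![1, 0; 0, 0] !![0, 0; 0, -1] !![0, 0; 0, 1] !![1, 0; 0, 0]
  have hW : W * W' = 1 := by
    simp [W, W', fromBlocks_multiply, Matrix.mul_fin_two, ← fromBlocks_one, Matrix.one_fin_two]
    ext i j; fin_cases i <;> fin_cases j <;> simp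
  calc _ = _ * (W * W') := by rw [hW, Matrix.mul_one]
    _ = W * fromBlocks !![1, -t; 0, 1] 0 0 !![1, 0; -qFrob hF (-t), 1] * W' := by rw [← Matrix.mul_assoc, h']
    _ = pMat hF t := by
      ext i j
      rcases i with i | i <;> rcases j with j | j <;> fin_cases i <;> fin_cases j <;>
        simp [W, W', pMat, Matrix.mul_apply, Fintype.sum_sum_type, Fin.sum_univ_two]

theorem R_eq (t : Kf hF) :
    (((R (φA hF) (φB hF) t : Ug hF) : Matrix.SpecialLinearGroup ι4 F) : Matrix ι4 ι4 F) = rMat (t : F) := by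
  have h : R (φA hF) (φB hF) t * φA hF (wElt F) = φA hF (wElt F) * X (φB hF) t := by
    rw [R, inv_mul_cancel_right]
  have h' := congrArg (fun g : Ug hF => ((g : Matrix.SpecialLinearGroup ι4 F) : Matrix ι4 ι4 F)) h
  simp only [ug_coe_mul, w_φA, X_φB] at h'
  set W : Matrix ι4 ι4 F := fromBlocks !![0, 1; -1, 0] 0 0 !![0, 1; -1, 0]
  set W' : Matrix ι4 ι4 F := fromBlocks !![0, -1; 1, 0] 0 0 !![0, -1; 1, 0]
  have hW : W * W' = 1 := by
    simp [W, W', fromBlocks_multiply, Matrix.mul_fin_two, ← fromBlocks_one, Matrix.one_fin_two]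
  calc _ = _ * (W * W') := by rw [hW, Matrix.mul_one]
    _ = W * fromBlocks 1 !![0, 0; 0, (t : F)] 0 1 * W' := by rw [← Matrix.mul_assoc, h']
    _ = rMat (t : F) := by
      ext i j
      rcases i with i | i <;> rcases j with j | j <;> fin_cases i <;> fin_cases j <;>
        simp [W, W', rMat, Matrix.mul_apply, Fintype.sum_sum_type, Fin.sum_univ_two]

theorem model_ha_b (c : Fˣ) (M : SL(2, Kf hF)) :
    φA hF (dElt c) * φB hF M * (φA hF (dElt c))⁻¹ = φB hF (dConj ((data hF).Nu c)⁻¹ M) := by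
  rw [mul_inv_eq_iff_eq_mul]
  refine ug_ext hF ?_
  simp only [ug_coe_mul, φA_val, φB_val, dConj_val]
  have hc : (c : F) ≠ 0 := c.ne_zero
  have hc' : qFrob hF (c : F) ≠ 0 := (map_ne_zero _).2 hc
  ext i j
  rcases i with i | i <;> rcases j with j | j <;> fin_cases i <;> fin_cases j <;>
    simp [aMat, bMat, dMat, dElt, Data.Nu_val, data_N, Matrix.mul_apply, Fintype.sum_sum_type,
      Fin.sum_univ_two] <;>
    field_simp

theorem model_hb_a (d : (Kf hF)ˣ) (M : SL(2, F)) :
    φB hF (dElt d) * φA hF M * (φB hF (dElt d))⁻¹ = φA hF (dConj ((data hF).ιu d)⁻¹ M) := by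
  rw [mul_inv_eq_iff_eq_mul]
  refine ug_ext hF ?_
  simp only [ug_coe_mul, φA_val, φB_val, dConj_val]
  have hd : ((d : Kf hF) : F) ≠ 0 := fun e => d.ne_zero (Subtype.ext e)
  have hσd := σ_fix hF (d : Kf hF)
  ext i j
  rcases i with i | i <;> rcases j with j | j <;> fin_cases i <;> fin_cases j <;>
    simp [aMat, bMat, dMat, dElt, Data.ιu_val, data_ι, hσd, Matrix.mul_apply, Fintype.sum_sum_type,
      Fin.sum_univ_two] <;>
    field_simp

set_option maxHeartbeats 1000000 in
theorem model_few (θ : F) : Few (data hF) θ (φA hF) (φB hF) := by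
  refine ⟨?_, ?_, ?_, ?_, ?_, ?_, ?_⟩
  · refine ug_ext hF ?_
    simp only [ug_coe_mul, w_φA, w_φB, Matrix.fromBlocks_multiply]
    simp [Matrix.mul_fin_two]
  · rw [mul_inv_eq_iff_eq_mul]
    refine ug_ext hF ?_
    simp only [ug_coe_mul, w_φA, P_eq, pMat, Matrix.fromBlocks_multiply]
    simp [Matrix.mul_fin_two]
  · rw [mul_inv_eq_iff_eq_mul]
    refine ug_ext hF ?_
    simp only [ug_coe_mul, w_φB, R_eq, rMat, Matrix.fromBlocks_multiply]
    simp [Matrix.mul_fin_two, Matrix.one_fin_two]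
    funext i; fin_cases i <;> rfl
  all_goals
    refine ug_ext hF ?_
    simp only [ug_coe_mul, P_eq, R_eq, X_φA, X_φB, pMat, rMat, data_Tr, data_σ, Matrix.fromBlocks_multiply]
    simp [Matrix.mul_fin_two, Matrix.one_fin_two, qFrob_qFrob, data_N]
    try ring

/-- The sesquilinear form of `J`. -/
noncomputable def frm (u w : ι4 → F) : F := (fun i => qFrob hF (u i)) ⬝ᵥ (J4 *ᵥ w)

theorem frm_apply (g : Ug hF) (u w : ι4 → F) :
    frm hF (((g : Matrix.SpecialLinearGroup ι4 F) : Matrix ι4 ι4 F) *ᵥ u)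
      (((g : Matrix.SpecialLinearGroup ι4 F) : Matrix ι4 ι4 F) *ᵥ w) = frm hF u w := by
  set x := ((g : Matrix.SpecialLinearGroup ι4 F) : Matrix ι4 ι4 F)
  have e : (fun i => qFrob hF ((x *ᵥ u) i)) = (fun i => qFrob hF (u i)) ᵥ* ct hF x := by
    funext i
    simp [Matrix.mulVec, Matrix.vecMul, dotProduct, ct_apply, map_sum, mul_comm]
  rw [frm, frm, e, ← Matrix.dotProduct_mulVec, Matrix.mulVec_mulVec, Matrix.mulVec_mulVec,
    show ct hF x * J4 * x = J4 from g.2]

set_option maxHeartbeats 1000000 in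
/-- The two subgroups generate. -/
theorem closure_ranges :
    Subgroup.closure (((φA hF).range : Set (Ug hF)) ∪ ((φB hF).range : Set (Ug hF))) = ⊤ := by
  classical
  obtain ⟨H, hH⟩ : ∃ H, H = Subgroup.closure (((φA hF).range : Set (Ug hF)) ∪ ((φB hF).range : Set (Ug hF))) :=
    ⟨_, rfl⟩
  rw [← hH]
  have mA : ∀ M, φA hF M ∈ H := fun M => hH ▸ Subgroup.subset_closure (Or.inl ⟨M, rfl⟩)
  have mB : ∀ M, φB hF M ∈ H := fun M => hH ▸ Subgroup.subset_closure (Or.inr ⟨M, rfl⟩)
  let act : Ug hF → (ι4 → F) → (ι4 → F) := fun g v =>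
    ((g : Matrix.SpecialLinearGroup ι4 F) : Matrix ι4 ι4 F) *ᵥ v
  have hact : ∀ g h v, act g (act h v) = act (g * h) v := fun g h v => by
    simp only [act, Matrix.mulVec_mulVec, ug_coe_mul]
  let e1 : ι4 → F := Pi.single (Sum.inl 0) 1
  let O : Set (ι4 → F) := {v | ∃ g ∈ H, act g e1 = v}
  have hO : ∀ g ∈ H, ∀ v, act g v ∈ O → v ∈ O := by
    rintro g hg v ⟨k, hk, e⟩
    refine ⟨g⁻¹ * k, mul_mem (inv_mem hg) hk, ?_⟩
    rw [← hact, e, hact, inv_mul_cancel]
    simp [act]
  have vA : ∀ (M : SL(2, F)) v, act (φA hF M) v = Sum.elim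
      ![M 0 0 * v (Sum.inl 0) + M 0 1 * v (Sum.inl 1), M 1 0 * v (Sum.inl 0) + M 1 1 * v (Sum.inl 1)]
      ![qFrob hF (M 1 1) * v (Sum.inr 0) - qFrob hF (M 1 0) * v (Sum.inr 1),
        -qFrob hF (M 0 1) * v (Sum.inr 0) + qFrob hF (M 0 0) * v (Sum.inr 1)] := by
    intro M v
    funext i
    rcases i with i | i <;> fin_cases i <;>
      simp [act, φA_val, aMat, Matrix.mulVec, dotProduct, Fintype.sum_sum_type, Fin.sum_univ_two,
        sub_eq_add_neg]
  have vB : ∀ (M : SL(2, Kf hF)) v, act (φB hF M) v = Sum.elim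
      ![v (Sum.inl 0), (M 0 0 : F) * v (Sum.inl 1) + (M 0 1 : F) * v (Sum.inr 1)]
      ![v (Sum.inr 0), (M 1 0 : F) * v (Sum.inl 1) + (M 1 1 : F) * v (Sum.inr 1)] := by
    intro M v
    funext i
    rcases i with i | i <;> fin_cases i <;>
      simp [act, φB_val, bMat, Matrix.mulVec, dotProduct, Fintype.sum_sum_type, Fin.sum_univ_two]
  have hiso : ∀ (g : Ug hF) v, frm hF v v = 0 → frm hF (act g v) (act g v) = 0 := fun g v hv =>
    (frm_apply hF g v v).trans hv
  -- vectors `(a, 0 | 0, 0)`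
  have h1 : ∀ a : F, a ≠ 0 → Sum.elim ![a, 0] ![0, 0] ∈ O := by
    intro a ha
    refine ⟨φA hF (dElt (Units.mk0 a ha)), mA _, ?_⟩
    rw [vA]
    simp [dElt, e1, Pi.single_apply]
  -- first coordinate nonzero, second zero
  have h2 : ∀ a b c : F, a ≠ 0 → frm hF (Sum.elim ![a, 0] ![b, c]) (Sum.elim ![a, 0] ![b, c]) = 0 →
      Sum.elim ![a, 0] ![b, c] ∈ O := by
    intro a b c ha hz
    have hc : ∀ b : F, qFrob hF (b / a) = b / a → Sum.elim ![a, 0] ![b, 0] ∈ O := by
      intro b hb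
      refine hO (φA hF (wElt F) * φB hF (lElt (-⟨b / a, hb⟩)) * (φA hF (wElt F))⁻¹)
        (mul_mem (mul_mem (mA _) (mB _)) (inv_mem (mA _))) _ ?_
      rw [← hact, ← hact, ← map_inv, vA, vB, vA]
      convert h1 a ha using 1
      funext i
      rcases i with i | i <;> fin_cases i <;>
        simp [wElt_inv_val, lElt_val] <;> simp [wElt] <;> (try field_simp) <;> ring
    refine hO (φB hF (wElt (Kf hF)) * φA hF (lElt (c / a)) * (φB hF (wElt (Kf hF)))⁻¹)
      (mul_mem (mul_mem (mB _) (mA _)) (inv_mem (mB _))) _ ?_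
    have hb : qFrob hF (b / a) = b / a := by
      have ha' : qFrob hF a ≠ 0 := (map_ne_zero _).2 ha
      simp [frm, Matrix.J, Matrix.mulVec, dotProduct, Fintype.sum_sum_type, Fin.sum_univ_two] at hz
      rw [map_div₀, div_eq_div_iff ha' ha]
      linear_combination hz
    rw [← hact, ← hact, ← map_inv, vB, vA, vB]
    convert hc b hb using 1
    funext i
    rcases i with i | i <;> fin_cases i <;>
      simp [wElt_inv_val, lElt_val, qFrob_qFrob] <;> simp [wElt] <;> (try field_simp) <;> ring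
  have h3 : ∀ v : ι4 → F, frm hF v v = 0 → v (Sum.inl 0) ≠ 0 → v ∈ O := by
    intro v hz hv
    refine hO (φA hF (lElt (-(v (Sum.inl 1) / v (Sum.inl 0))))) (mA _) v ?_
    have hz' := hiso (φA hF (lElt (-(v (Sum.inl 1) / v (Sum.inl 0))))) v hz
    set u := act (φA hF (lElt (-(v (Sum.inl 1) / v (Sum.inl 0))))) v with hu
    have e : u = Sum.elim ![v (Sum.inl 0), 0] ![u (Sum.inr 0), u (Sum.inr 1)] := by
      funext i
      rcases i with i | i <;> fin_cases i <;> simp [hu, vA, lElt_val]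
      field_simp
      ring
    rw [e] at hz' ⊢
    exact h2 _ _ _ hv hz'
  have h4 : ∀ v : ι4 → F, frm hF v v = 0 → v (Sum.inl 1) ≠ 0 → v ∈ O := fun v hz hv =>
    hO (φA hF (wElt F)) (mA _) v (h3 _ (hiso _ v hz) (by rw [vA]; simpa [wElt] using hv))
  have h5 : ∀ v : ι4 → F, frm hF v v = 0 → v (Sum.inr 1) ≠ 0 → v ∈ O := fun v hz hv =>
    hO (φB hF (wElt (Kf hF))) (mB _) v (h4 _ (hiso _ v hz) (by rw [vB]; simpa [wElt] using hv))
  have htrans : ∀ v : ι4 → F, frm hF v v = 0 → v ≠ 0 → v ∈ O := fun v hz hv => by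
    by_cases e3 : v (Sum.inl 0) = 0; swap
    · exact h3 v hz e3
    by_cases e4 : v (Sum.inl 1) = 0; swap
    · exact h4 v hz e4
    by_cases e5 : v (Sum.inr 1) = 0; swap
    · exact h5 v hz e5
    refine hO (φA hF (wElt F)) (mA _) v (h5 _ (hiso _ v hz) ?_)
    rw [vA]
    have e6 : v (Sum.inr 0) ≠ 0 := fun e6 => hv (funext fun i => by
      rcases i with i | i <;> fin_cases i <;> simpa)
    simpa [wElt] using e6
  -- every transvection
  have himg : Subgroup.map (toSU hF).toMonoidHom H = ⊤ := by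
    refine top_le_iff.1 ?_
    rw [← Classical.closure_transvections_eq_top hF (n := 4) (by norm_num) (fun h => absurd h.1 (by norm_num)),
      Subgroup.closure_le]
    rintro T ⟨v, c, hv, hT⟩
    obtain ⟨g, rfl⟩ := (toSU hF).surjective T
    refine ⟨g, ?_, rfl⟩
    set e := (finSumFinEquiv : Fin 2 ⊕ Fin 2 ≃ Fin 4)
    set x := ((g : Matrix.SpecialLinearGroup ι4 F) : Matrix ι4 ι4 F)
    have hm : reindex e e (C4 hF * x * D4 hF) = Cfsg.unitaryTransvection 4 q v c := hT
    set v0 : ι4 → F := fun i => v (e i) with hv0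
    set v' : ι4 → F := D4 hF *ᵥ v0 with hv'
    have hCv : C4 hF *ᵥ v' = v0 := by rw [hv', Matrix.mulVec_mulVec, C_D, Matrix.one_mulVec]
    have hfrm : ∀ w, (fun i => qFrob hF (v0 i)) ⬝ᵥ (C4 hF *ᵥ w) = κ4 hF * frm hF v' w := by
      intro w
      conv_lhs => rw [← hCv]
      rw [show (fun i => qFrob hF ((C4 hF *ᵥ v') i)) = (fun i => qFrob hF (v' i)) ᵥ* ct hF (C4 hF) from
          funext fun i => by simp [Matrix.mulVec, Matrix.vecMul, dotProduct, ct_apply, map_sum, mul_comm],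
        ← Matrix.dotProduct_mulVec, Matrix.mulVec_mulVec, ct_C, Matrix.smul_mulVec, dotProduct_smul, frm,
        smul_eq_mul]
    have hv'0 : frm hF v' v' = 0 := by
      refine (mul_eq_zero.1 ?_).resolve_left (κ4_ne hF)
      rw [← hfrm, hCv, ← hv, Cfsg.hermForm]
      exact (Equiv.sum_comp e fun i => qFrob hF (v i) * v i).trans
        (Finset.sum_congr rfl fun i _ => by rw [qFrob_apply, mul_comm])
    have hx : ∀ w, x *ᵥ w = w + (c * κ4 hF * frm hF v' w) • v' := by
      intro w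
      have hy : C4 hF * x * D4 hF = 1 + c • Matrix.vecMulVec v0 fun i => qFrob hF (v0 i) := by
        ext i j
        have := congrFun (congrFun hm (e i)) (e j)
        simpa [Cfsg.unitaryTransvection, reindex_apply, Matrix.one_apply, Matrix.vecMulVec_apply, v0,
          qFrob_apply] using this
      have e2 : x = D4 hF * (C4 hF * x * D4 hF) * C4 hF := by
        simp only [← Matrix.mul_assoc, D_C, Matrix.one_mul]
        rw [Matrix.mul_assoc, D_C, Matrix.mul_one]
      rw [e2, hy, ← Matrix.mulVec_mulVec, ← Matrix.mulVec_mulVec, Matrix.add_mulVec, Matrix.one_mulVec,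
        Matrix.smul_mulVec, Matrix.vecMulVec_mulVec, Matrix.mulVec_add, Matrix.mulVec_mulVec w (D4 hF) (C4 hF),
        D_C, Matrix.one_mulVec, op_smul_eq_smul, hfrm, smul_smul, Matrix.mulVec_smul, ← hv', mul_assoc]
    rcases eq_or_ne v' 0 with h0 | h0
    · have : g = 1 := ug_ext hF (Matrix.ext_of_mulVec_single fun i => by
        show x *ᵥ _ = (1 : Matrix ι4 ι4 F) *ᵥ _
        rw [hx, h0, smul_zero, add_zero, Matrix.one_mulVec])
      rw [this]
      exact one_mem _
    obtain ⟨k, hk, hkv⟩ := htrans v' hv'0 h0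
    have hz : (((k⁻¹ * g * k : Ug hF) : Matrix.SpecialLinearGroup ι4 F) : Matrix ι4 ι4 F) =
        rMat (-(c * κ4 hF)) := by
      refine Matrix.ext_of_mulVec_single fun i => ?_
      set w : ι4 → F := Pi.single i 1
      have e3 : act (k⁻¹ * g * k) w = w + (c * κ4 hF * frm hF e1 w) • e1 := by
        rw [← hact, ← hact]
        show act k⁻¹ (x *ᵥ act k w) = _
        rw [hx, ← hkv, frm_apply]
        show ((k⁻¹ : Ug hF) : Matrix.SpecialLinearGroup ι4 F).1 *ᵥ _ = _
        rw [Matrix.mulVec_add, Matrix.mulVec_smul]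
        show act k⁻¹ (act k w) + _ • act k⁻¹ (act k e1) = _
        rw [hact, hact, inv_mul_cancel]
        simp [act]
      show act (k⁻¹ * g * k) w = rMat (-(c * κ4 hF)) *ᵥ w
      rw [e3]
      funext j
      rcases i with i | i <;> rcases j with j | j <;> fin_cases i <;> fin_cases j <;>
        simp [w, e1, rMat, frm, Matrix.J, Matrix.mulVec, dotProduct, Fintype.sum_sum_type, Fin.sum_univ_two]
    have hfix : qFrob hF (-(c * κ4 hF)) = -(c * κ4 hF) := by
      have h := (k⁻¹ * g * k).2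
      change ct hF (((k⁻¹ * g * k : Ug hF) : Matrix.SpecialLinearGroup ι4 F) : Matrix ι4 ι4 F) * J4 * _ = J4 at h
      rw [hz] at h
      have h0 := congrFun (congrFun h (Sum.inr 0)) (Sum.inr 0)
      simp [rMat, ct_apply, Matrix.J, Matrix.mul_apply, Fintype.sum_sum_type, Fin.sum_univ_two, map_neg, map_mul] at h0
      rw [map_neg, map_mul]
      first | linear_combination h0 | linear_combination -h0
    have hR : R (φA hF) (φB hF) ⟨-(c * κ4 hF), hfix⟩ ∈ H :=
      mul_mem (mul_mem (mA _) (mB _)) (inv_mem (mA _))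
    have : g = k * R (φA hF) (φB hF) ⟨-(c * κ4 hF), hfix⟩ * k⁻¹ := by
      rw [show R (φA hF) (φB hF) ⟨-(c * κ4 hF), hfix⟩ = k⁻¹ * g * k from ug_ext hF (by rw [R_eq, hz])]
      group
    rw [this]
    exact mul_mem (mul_mem hk hR) (inv_mem hk)
  exact Subgroup.map_injective (toSU hF).injective
    (himg.trans (Subgroup.map_top_of_surjective _ (toSU hF).surjective).symm)

end CfsgLib.Pres.SUFour
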