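import Cfsg.Agent.Lib.Pres.SpFourBound
import Mathlib.FieldTheory.Finite.Basic

/-!
# The root relations of `Sp₄` from finitely many of them
-/

set_option autoImplicit false

namespace CfsgLib.Pres.SpFour

open Matrix
open scoped MatrixGroups
open CfsgLib.Classical (uElt uElt_val uElt_add)

variable {F : Type*} [Field F]

/-- An additively closed set containing all squares is everything. -/
theorem eq_univ_of_squares [Fintype F] {s : Set F} (h0 : (0 : F) ∈ s) (hadd : ∀ a b, a ∈ s → b ∈ s → a + b ∈ s)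
    (hsq : ∀ c : Fˣ, (c : F) ^ 2 ∈ s) (x : F) : x ∈ s := by
  have hsq' : ∀ y : F, y ^ 2 ∈ s := fun y => by
    rcases eq_or_ne y 0 with rfl | hy
    · simpa using h0
    · simpa using hsq (Units.mk0 y hy)
  obtain ⟨p, hchar⟩ := CharP.exists F
  obtain ⟨n, hp, hn⟩ := FiniteField.card F p
  have hneg : ∀ y, y ∈ s → -y ∈ s := fun y hy => by
    have hmul : ∀ k : ℕ, (k : F) * y ∈ s := by
      intro k
      induction k with
      | zero => simpa using h0
      | succ k ih => rw [Nat.cast_succ, add_mul, one_mul]; exact hadd _ _ ih hy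
    have := hmul (p - 1)
    rwa [Nat.cast_sub hp.one_le, CharP.cast_eq_zero F p, Nat.cast_one, zero_sub, neg_one_mul] at this
  by_cases h2 : (2 : F) = 0
  · have : ringChar F = 2 := CharP.ringChar_of_prime_eq_zero Nat.prime_two (by exact_mod_cast h2)
    obtain ⟨y, rfl⟩ := FiniteField.isSquare_of_char_two this x
    rw [← sq]
    exact hsq' y
  · have e : x = ((x + 1) / 2) ^ 2 + -((x - 1) / 2) ^ 2 := by field_simp; ring
    rw [e]
    exact hadd _ _ (hsq' _) (hneg _ (hsq' _))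

theorem dConj_dConj (c c' : Fˣ) (M : SL(2, F)) : dConj c (dConj c' M) = dConj (c * c') M := by
  refine Subtype.ext ?_
  rw [dConj_val, dConj_val, dConj_val]
  ext i j
  fin_cases i <;> fin_cases j <;> simp [dMat, mul_assoc, mul_comm, mul_left_comm]

theorem dConj_one (M : SL(2, F)) : dConj (1 : Fˣ) M = M := by
  refine Subtype.ext ?_
  rw [dConj_val]
  ext i j
  fin_cases i <;> fin_cases j <;> simp [dMat]

variable {G : Type*} [Group G]

/-- An action of the torus known on generators. -/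
theorem torus_all [Fintype F] (φ ψ : SL(2, F) →* G) (g : Fin 3 → SL(2, F))
    (hg : Subgroup.closure (Set.range g) = ⊤) (ω : Fˣ) (hω : ∀ y : Fˣ, y ∈ Subgroup.zpowers ω)
    (f : Fˣ →* Fˣ)
    (h : ∀ i, φ (dElt ω) * ψ (g i) * (φ (dElt ω))⁻¹ = ψ (dConj (f ω) (g i))) (c : Fˣ) (M : SL(2, F)) :
    φ (dElt c) * ψ M * (φ (dElt c))⁻¹ = ψ (dConj (f c) M) := by
  have h1 : (MulAut.conj (φ (dElt ω))).toMonoidHom.comp ψ = ψ.comp (dConj (f ω)) :=
    MonoidHom.eq_of_eqOn_dense hg (by rintro _ ⟨i, rfl⟩; exact h i)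
  have h2 : ∀ M, φ (dElt ω) * ψ M * (φ (dElt ω))⁻¹ = ψ (dConj (f ω) M) := fun M =>
    congrArg (fun χ : SL(2, F) →* G => χ M) h1
  obtain ⟨k, hk⟩ := (isOfFinOrder_of_finite ω).mem_powers_iff_mem_zpowers.2 (hω c)
  obtain rfl : ω ^ k = c := hk
  rw [← dElt_pow, map_pow, map_pow]
  induction k generalizing M with
  | zero => simp [dConj_one]
  | succ k ih =>
    calc φ (dElt ω) ^ (k + 1) * ψ M * (φ (dElt ω) ^ (k + 1))⁻¹
        = φ (dElt ω) ^ k * (φ (dElt ω) * ψ M * (φ (dElt ω))⁻¹) * (φ (dElt ω) ^ k)⁻¹ := by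
          rw [pow_succ]; group
      _ = _ := by rw [h2, ih, dConj_dConj, pow_succ]

/-- The finitely many relations. -/
structure Few (φa φb : SL(2, F) →* G) : Prop where
  braid : φa (wElt F) * φb (wElt F) * φa (wElt F) * φb (wElt F) =
    φb (wElt F) * φa (wElt F) * φb (wElt F) * φa (wElt F)
  waP : φa (wElt F) * P φa φb 1 * (φa (wElt F))⁻¹ = P φa φb (-1)
  wbR : φb (wElt F) * R φa φb 1 * (φb (wElt F))⁻¹ = R φa φb 1
  cAR : X φa (1 : F) * R φa φb 1 = R φa φb 1 * X φa 1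
  cBR : X φb (1 : F) * R φa φb 1 = R φa φb 1 * X φb 1
  cAP : X φa (1 : F) * P φa φb 1 = R φa φb 2 * P φa φb 1 * X φa 1
  cAB : X φa (1 : F) * X φb 1 = P φa φb 1 * R φa φb 1 * X φb 1 * X φa 1

variable [Fintype F] {φa φb : SL(2, F) →* G}

/-- All relations follow. -/
theorem rels_of_few (ha_b : ∀ (c : Fˣ) (M : SL(2, F)), φa (dElt c) * φb M * (φa (dElt c))⁻¹ = φb (dConj (c ^ 2)⁻¹ M))
    (hb_a : ∀ (c : Fˣ) (M : SL(2, F)), φb (dElt c) * φa M * (φb (dElt c))⁻¹ = φa (dConj c⁻¹ M))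
    (h : Few φa φb) : Rels φa φb := by
  -- weights, without the relations to be proved
  have aA : ∀ (c : Fˣ) (t : F), φa (dElt c) * X φa t * (φa (dElt c))⁻¹ = X φa ((c : F) ^ 2 * t) := fun c t => by
    rw [X, X, ← map_inv, ← map_mul, ← map_mul, dElt_conj]
  have bB : ∀ (c : Fˣ) (t : F), φb (dElt c) * X φb t * (φb (dElt c))⁻¹ = X φb ((c : F) ^ 2 * t) := fun c t => by
    rw [X, X, ← map_inv, ← map_mul, ← map_mul, dElt_conj]
  have aB : ∀ (c : Fˣ) (t : F), φa (dElt c) * X φb t * (φa (dElt c))⁻¹ = X φb (((c⁻¹ : Fˣ) : F) ^ 2 * t) :=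
    fun c t => by
      rw [X, ha_b, dConj_uElt, ← inv_pow, Units.val_pow_eq_pow_val]
      rfl
  have bA : ∀ (c : Fˣ) (t : F), φb (dElt c) * X φa t * (φb (dElt c))⁻¹ = X φa (((c⁻¹ : Fˣ) : F) * t) :=
    fun c t => by
      rw [X, hb_a, dConj_uElt]
      rfl
  have awb : ∀ c : Fˣ, φa (dElt c) * φb (wElt F) * (φa (dElt c))⁻¹ = φb (dElt (c ^ 2)⁻¹) * φb (wElt F) :=
    fun c => by rw [ha_b, dConj_wElt, map_mul]
  have bwa : ∀ c : Fˣ, φb (dElt c) * φa (wElt F) * (φb (dElt c))⁻¹ = φa (dElt c⁻¹) * φa (wElt F) :=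
    fun c => by rw [hb_a, dConj_wElt, map_mul]
  have aP : ∀ (c : Fˣ) (t : F), φa (dElt c) * P φa φb t * (φa (dElt c))⁻¹ = P φa φb t := fun c t => by
    rw [P, show φa (dElt c) * (φb (wElt F) * X φa (-t) * (φb (wElt F))⁻¹) * (φa (dElt c))⁻¹ =
        (φa (dElt c) * φb (wElt F) * (φa (dElt c))⁻¹) * (φa (dElt c) * X φa (-t) * (φa (dElt c))⁻¹) *
          (φa (dElt c) * φb (wElt F) * (φa (dElt c))⁻¹)⁻¹ by group, awb, aA,
      show φb (dElt (c ^ 2)⁻¹) * φb (wElt F) = φb (wElt F) * φb (dElt (c ^ 2)) by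
        rw [← map_mul, ← map_mul, dElt_conj_w, inv_inv],
      show φb (wElt F) * φb (dElt (c ^ 2)) * X φa ((c : F) ^ 2 * -t) * (φb (wElt F) * φb (dElt (c ^ 2)))⁻¹ =
        φb (wElt F) * (φb (dElt (c ^ 2)) * X φa ((c : F) ^ 2 * -t) * (φb (dElt (c ^ 2)))⁻¹) * (φb (wElt F))⁻¹
          by group, bA, ← Units.val_pow_eq_pow_val, ← mul_assoc, ← Units.val_mul, inv_mul_cancel,
      Units.val_one, one_mul]
  have bP : ∀ (d : Fˣ) (t : F), φb (dElt d) * P φa φb t * (φb (dElt d))⁻¹ = P φa φb ((d : F) * t) := fun d t => by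
    rw [P, P, show φb (dElt d) * (φb (wElt F) * X φa (-t) * (φb (wElt F))⁻¹) * (φb (dElt d))⁻¹ =
        (φb (dElt d) * φb (wElt F)) * X φa (-t) * (φb (dElt d) * φb (wElt F))⁻¹ by group, ← map_mul, dElt_conj_w,
      map_mul, show φb (wElt F) * φb (dElt d⁻¹) * X φa (-t) * (φb (wElt F) * φb (dElt d⁻¹))⁻¹ =
        φb (wElt F) * (φb (dElt d⁻¹) * X φa (-t) * (φb (dElt d⁻¹))⁻¹) * (φb (wElt F))⁻¹ by group, bA, inv_inv,
      mul_neg]
  have aR : ∀ (c : Fˣ) (t : F), φa (dElt c) * R φa φb t * (φa (dElt c))⁻¹ = R φa φb ((c : F) ^ 2 * t) :=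
    fun c t => by
      rw [R, R, show φa (dElt c) * (φa (wElt F) * X φb t * (φa (wElt F))⁻¹) * (φa (dElt c))⁻¹ =
          (φa (dElt c) * φa (wElt F)) * X φb t * (φa (dElt c) * φa (wElt F))⁻¹ by group, ← map_mul, dElt_conj_w,
        map_mul, show φa (wElt F) * φa (dElt c⁻¹) * X φb t * (φa (wElt F) * φa (dElt c⁻¹))⁻¹ =
          φa (wElt F) * (φa (dElt c⁻¹) * X φb t * (φa (dElt c⁻¹))⁻¹) * (φa (wElt F))⁻¹ by group, aB, inv_inv]
  have bR : ∀ (d : Fˣ) (t : F), φb (dElt d) * R φa φb t * (φb (dElt d))⁻¹ = R φa φb t := fun d t => by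
    rw [R, show φb (dElt d) * (φa (wElt F) * X φb t * (φa (wElt F))⁻¹) * (φb (dElt d))⁻¹ =
        (φb (dElt d) * φa (wElt F) * (φb (dElt d))⁻¹) * (φb (dElt d) * X φb t * (φb (dElt d))⁻¹) *
          (φb (dElt d) * φa (wElt F) * (φb (dElt d))⁻¹)⁻¹ by group, bwa, bB,
      show φa (dElt d⁻¹) * φa (wElt F) = φa (wElt F) * φa (dElt d) by
        rw [← map_mul, ← map_mul, dElt_conj_w, inv_inv],
      show φa (wElt F) * φa (dElt d) * X φb ((d : F) ^ 2 * t) * (φa (wElt F) * φa (dElt d))⁻¹ =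
        φa (wElt F) * (φa (dElt d) * X φb ((d : F) ^ 2 * t) * (φa (dElt d))⁻¹) * (φa (wElt F))⁻¹ by group, aB,
      ← mul_assoc, ← mul_pow, ← Units.val_mul, inv_mul_cancel, Units.val_one, one_pow, one_mul]
  have Pz : P φa φb 0 = 1 := by rw [P, neg_zero, X_zero, mul_one, mul_inv_cancel]
  have Rz : R φa φb 0 = 1 := by rw [R, X_zero, mul_one, mul_inv_cancel]
  have Pa : ∀ s t, P φa φb (s + t) = P φa φb s * P φa φb t := fun s t => by rw [P, P, P, neg_add, X_add]; group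
  have Ra : ∀ s t, R φa φb (s + t) = R φa φb s * R φa φb t := fun s t => by rw [R, R, R, X_add]; group
  have conjEq : ∀ (g a b : G), a = b → g * a * g⁻¹ = g * b * g⁻¹ := fun g a b e => by rw [e]
  have conjC : ∀ (g a b : G), Commute a b → Commute (g * a * g⁻¹) (g * b * g⁻¹) := fun g a b e =>
    e.map (MulAut.conj g).toMonoidHom
  -- the Weyl elements
  have waP : ∀ t, φa (wElt F) * P φa φb t * (φa (wElt F))⁻¹ = P φa φb (-t) := by
    intro t
    rcases eq_or_ne t 0 with rfl | ht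
    · rw [neg_zero, Pz, mul_one, mul_inv_cancel]
    obtain ⟨c, rfl⟩ : ∃ c : Fˣ, (c : F) = t := ⟨Units.mk0 t ht, rfl⟩
    have e := conjEq (φb (dElt c)) _ _ h.waP
    rw [bP, mul_neg, mul_one, show φb (dElt c) * (φa (wElt F) * P φa φb 1 * (φa (wElt F))⁻¹) * (φb (dElt c))⁻¹ =
      (φb (dElt c) * φa (wElt F) * (φb (dElt c))⁻¹) * (φb (dElt c) * P φa φb 1 * (φb (dElt c))⁻¹) *
        (φb (dElt c) * φa (wElt F) * (φb (dElt c))⁻¹)⁻¹ by group, bwa, bP, mul_one] at e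
    have e' := conjEq (φa (dElt c⁻¹))⁻¹ _ _ e
    rw [inv_inv, ← map_inv, dElt_inv, inv_inv] at e'
    rw [show φa (dElt c) * P φa φb (-(c : F)) * φa (dElt c⁻¹) = P φa φb (-(c : F)) by
      rw [← dElt_inv, map_inv]; exact aP c _] at e'
    rw [← e', ← dElt_inv, map_inv]
    group
  have wbR : ∀ t, φb (wElt F) * R φa φb t * (φb (wElt F))⁻¹ = R φa φb t := by
    intro t
    refine eq_univ_of_squares (s := {t | φb (wElt F) * R φa φb t * (φb (wElt F))⁻¹ = R φa φb t}) ?_ ?_ ?_ t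
    · show _ = _
      rw [Rz, mul_one, mul_inv_cancel]
    · intro a b ha hb
      show φb (wElt F) * R φa φb (a + b) * (φb (wElt F))⁻¹ = R φa φb (a + b)
      rw [Ra, show φb (wElt F) * (R φa φb a * R φa φb b) * (φb (wElt F))⁻¹ =
        (φb (wElt F) * R φa φb a * (φb (wElt F))⁻¹) * (φb (wElt F) * R φa φb b * (φb (wElt F))⁻¹) by group,
        Set.mem_setOf_eq.mp ha, Set.mem_setOf_eq.mp hb]
    · intro c
      show φb (wElt F) * R φa φb ((c : F) ^ 2) * (φb (wElt F))⁻¹ = R φa φb ((c : F) ^ 2)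
      have e := conjEq (φa (dElt c)) _ _ h.wbR
      rw [aR, mul_one, show φa (dElt c) * (φb (wElt F) * R φa φb 1 * (φb (wElt F))⁻¹) * (φa (dElt c))⁻¹ =
        (φa (dElt c) * φb (wElt F) * (φa (dElt c))⁻¹) * (φa (dElt c) * R φa φb 1 * (φa (dElt c))⁻¹) *
          (φa (dElt c) * φb (wElt F) * (φa (dElt c))⁻¹)⁻¹ by group, awb, aR, mul_one] at e
      have e' := conjEq (φb (dElt (c ^ 2)⁻¹))⁻¹ _ _ e
      rw [inv_inv, ← map_inv, dElt_inv, inv_inv] at e'
      rw [show φb (dElt (c ^ 2)) * R φa φb ((c : F) ^ 2) * φb (dElt (c ^ 2)⁻¹) = R φa φb ((c : F) ^ 2) by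
        rw [← dElt_inv, map_inv]; exact bR _ _] at e'
      conv_rhs => rw [← e']
      rw [← dElt_inv, map_inv]
      group
  -- commutations
  have cAR : ∀ s t, Commute (X φa s) (R φa φb t) := by
    intro s t
    rcases eq_or_ne s 0 with rfl | hs
    · rw [X_zero]; exact Commute.one_left _
    refine eq_univ_of_squares (s := {t | Commute (X φa s) (R φa φb t)}) ?_ ?_ ?_ t
    · show Commute _ _
      rw [Rz]; exact Commute.one_right _
    · intro a b ha hb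
      show Commute _ _
      rw [Ra]; exact ha.mul_right hb
    · intro c
      show Commute _ _
      have e := conjC (φb (dElt ((c ^ 2) * (Units.mk0 s hs)⁻¹))) _ _ (conjC (φa (dElt c)) _ _ h.cAR)
      rw [aA, aR, bA, bR, mul_one] at e
      convert e using 2
      simp [mul_comm, mul_left_comm, mul_assoc, Units.val_pow_eq_pow_val]
  have cBR : ∀ s t, Commute (X φb s) (R φa φb t) := by
    have hsq : ∀ (s : F) (c : Fˣ), Commute (X φb s) (R φa φb ((c : F) ^ 2)) := by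
      intro s c
      refine eq_univ_of_squares (s := {s | Commute (X φb s) (R φa φb ((c : F) ^ 2))}) ?_ ?_ ?_ s
      · show Commute _ _
        rw [X_zero]; exact Commute.one_left _
      · intro a b ha hb
        show Commute _ _
        rw [X_add]; exact ha.mul_left hb
      · intro d
        show Commute _ _
        have e := conjC (φb (dElt (d * c))) _ _ (conjC (φa (dElt c)) _ _ h.cBR)
        rw [aB, aR, bB, bR, mul_one, mul_one] at e
        convert e using 2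
        simp only [Units.val_mul, mul_pow]
        rw [mul_assoc, ← mul_pow, Units.mul_inv, one_pow, mul_one]
    intro s t
    refine eq_univ_of_squares (s := {t | Commute (X φb s) (R φa φb t)}) ?_ ?_ (fun c => hsq s c) t
    · show Commute _ _
      rw [Rz]; exact Commute.one_right _
    · intro a b ha hb
      show Commute _ _
      rw [Ra]; exact ha.mul_right hb
  have cPR : ∀ s t, Commute (P φa φb s) (R φa φb t) := fun s t => by
    have e := conjC (φb (wElt F)) _ _ (cAR (-s) t)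
    rwa [wbR] at e
  have waR : ∀ t, φa (wElt F) * R φa φb t * (φa (wElt F))⁻¹ = X φb t := fun t => by
    rw [R, show φa (wElt F) * (φa (wElt F) * X φb t * (φa (wElt F))⁻¹) * (φa (wElt F))⁻¹ =
      (φa (wElt F) * φa (wElt F)) * X φb t * (φa (wElt F) * φa (wElt F))⁻¹ by group,
      ← map_mul, wElt_sq, ← dElt_neg_one, aB, inv_neg_one, Units.val_neg, Units.val_one, neg_sq, one_pow, one_mul]
  have cPB : ∀ s t, Commute (P φa φb s) (X φb t) := fun s t => by
    have e := conjC (φa (wElt F)) _ _ (cPR (-s) t)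
    rwa [waP, waR, neg_neg] at e
  have cAP : ∀ s t, X φa s * P φa φb t = R φa φb (2 * s * t) * P φa φb t * X φa s := by
    intro s t
    rcases eq_or_ne t 0 with rfl | ht
    · simp [Pz, Rz]
    obtain ⟨d, rfl⟩ : ∃ d : Fˣ, (d : F) = t := ⟨Units.mk0 t ht, rfl⟩
    obtain ⟨x, rfl⟩ : ∃ x, ((d⁻¹ : Fˣ) : F) * x = s := ⟨(d : F) * s, by rw [← mul_assoc, Units.inv_mul, one_mul]⟩
    refine eq_univ_of_squares (s := {x | X φa (((d⁻¹ : Fˣ) : F) * x) * P φa φb (d : F) =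
      R φa φb (2 * (((d⁻¹ : Fˣ) : F) * x) * (d : F)) * P φa φb (d : F) * X φa (((d⁻¹ : Fˣ) : F) * x)}) ?_ ?_ ?_ x
    · show _ = _
      simp [X_zero, Rz]
    · intro a b ha hb
      show X φa _ * _ = _
      rw [mul_add, X_add, mul_assoc, hb, show X φa (((d⁻¹ : Fˣ) : F) * a) *
        (R φa φb (2 * (((d⁻¹ : Fˣ) : F) * b) * (d : F)) * P φa φb (d : F) * X φa (((d⁻¹ : Fˣ) : F) * b)) =
        (X φa (((d⁻¹ : Fˣ) : F) * a) * R φa φb (2 * (((d⁻¹ : Fˣ) : F) * b) * (d : F))) * P φa φb (d : F) *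
          X φa (((d⁻¹ : Fˣ) : F) * b) by group, (cAR _ _).eq,
        show R φa φb (2 * (((d⁻¹ : Fˣ) : F) * b) * (d : F)) * X φa (((d⁻¹ : Fˣ) : F) * a) * P φa φb (d : F) =
          R φa φb (2 * (((d⁻¹ : Fˣ) : F) * b) * (d : F)) * (X φa (((d⁻¹ : Fˣ) : F) * a) * P φa φb (d : F)) by group,
        ha, mul_add, add_mul, add_comm, Ra]
      group
    · intro c
      show _ = _
      have e := conjEq (φb (dElt d)) _ _ (conjEq (φa (dElt c)) _ _ h.cAP)
      simp only [conj_mul.symm, aA, aP, aR, bA, bP, bR, mul_one] at e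
      rw [show 2 * (((d⁻¹ : Fˣ) : F) * (c : F) ^ 2) * (d : F) = (c : F) ^ 2 * 2 by
        linear_combination (2 * (c : F) ^ 2) * Units.inv_mul d]
      exact e
  have cAB : ∀ s t, X φa s * X φb t = P φa φb (s * t) * R φa φb (s ^ 2 * t) * X φb t * X φa s := by
    intro s t
    rcases eq_or_ne s 0 with rfl | hs
    · rw [zero_mul, show (0 : F) ^ 2 * t = 0 by ring, X_zero, Pz, Rz, one_mul, one_mul, one_mul, mul_one]
    obtain ⟨d, rfl⟩ : ∃ d : Fˣ, ((d⁻¹ : Fˣ) : F) = s := ⟨(Units.mk0 s hs)⁻¹, by rw [inv_inv]; rfl⟩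
    obtain ⟨x, rfl⟩ : ∃ x, (d : F) ^ 2 * x = t := ⟨((d⁻¹ : Fˣ) : F) ^ 2 * t, by
      rw [← mul_assoc, ← mul_pow, Units.mul_inv, one_pow, one_mul]⟩
    let q : F → Prop := fun x => X φa ((d⁻¹ : Fˣ) : F) * X φb ((d : F) ^ 2 * x) =
      P φa φb (((d⁻¹ : Fˣ) : F) * ((d : F) ^ 2 * x)) * R φa φb (((d⁻¹ : Fˣ) : F) ^ 2 * ((d : F) ^ 2 * x)) *
        X φb ((d : F) ^ 2 * x) * X φa ((d⁻¹ : Fˣ) : F)
    refine eq_univ_of_squares (s := {x | q x}) ?_ ?_ ?_ x
    · show _ = _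
      simp only [mul_zero, X_zero, Pz, Rz, one_mul, mul_one]
    · intro a b ha hb
      show _ = _
      simp only [mul_add, X_add, Pa, Ra]
      set A := X φa ((d⁻¹ : Fˣ) : F)
      set B1 := X φb ((d : F) ^ 2 * a)
      set B2 := X φb ((d : F) ^ 2 * b)
      set P1 := P φa φb (((d⁻¹ : Fˣ) : F) * ((d : F) ^ 2 * a)) with hP1
      set P2 := P φa φb (((d⁻¹ : Fˣ) : F) * ((d : F) ^ 2 * b)) with hP2
      set R1 := R φa φb (((d⁻¹ : Fˣ) : F) ^ 2 * ((d : F) ^ 2 * a)) with hR1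
      set R2 := R φa φb (((d⁻¹ : Fˣ) : F) ^ 2 * ((d : F) ^ 2 * b)) with hR2
      have ha' : A * B1 = P1 * R1 * B1 * A := ha
      have hb' : A * B2 = P2 * R2 * B2 * A := hb
      have k1 : Commute (R1 * B1) P2 := ((cPR _ _).symm.mul_left (cPB _ _).symm)
      have k2 : Commute B1 R2 := cBR _ _
      calc A * (B1 * B2) = P1 * R1 * B1 * (A * B2) := by rw [← mul_assoc, ha']; group
        _ = P1 * (R1 * B1 * P2) * R2 * B2 * A := by rw [hb']; group
        _ = P1 * P2 * R1 * (B1 * R2) * B2 * A := by rw [k1.eq]; group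
        _ = _ := by rw [k2.eq]; group
    · intro c
      show _ = _
      have e := conjEq (φb (dElt (d * c ^ 2))) _ _ (conjEq (φa (dElt c)) _ _ h.cAB)
      simp only [conj_mul.symm, aA, aB, aP, aR, bA, bB, bP, bR, mul_one] at e
      have hd : ((d⁻¹ : Fˣ) : F) * (d : F) = 1 := Units.inv_mul d
      have hc : ((c⁻¹ : Fˣ) : F) * (c : F) = 1 := Units.inv_mul c
      rw [_root_.mul_inv_rev, Units.val_mul, Units.val_mul, ← inv_pow, Units.val_pow_eq_pow_val,
        Units.val_pow_eq_pow_val] at e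
      rw [show ((c⁻¹ : Fˣ) : F) ^ 2 * ((d⁻¹ : Fˣ) : F) * (c : F) ^ 2 = ((d⁻¹ : Fˣ) : F) by
          linear_combination ((d⁻¹ : Fˣ) : F) * (((c⁻¹ : Fˣ) : F) * (c : F) + 1) * hc,
        show ((d : F) * (c : F) ^ 2) ^ 2 * ((c⁻¹ : Fˣ) : F) ^ 2 = (d : F) ^ 2 * (c : F) ^ 2 by
          linear_combination ((d : F) ^ 2 * (c : F) ^ 2) * (((c⁻¹ : Fˣ) : F) * (c : F) + 1) * hc] at e
      rw [show ((d⁻¹ : Fˣ) : F) * ((d : F) ^ 2 * (c : F) ^ 2) = (d : F) * (c : F) ^ 2 by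
          linear_combination ((d : F) * (c : F) ^ 2) * hd,
        show ((d⁻¹ : Fˣ) : F) ^ 2 * ((d : F) ^ 2 * (c : F) ^ 2) = (c : F) ^ 2 by
          linear_combination ((c : F) ^ 2) * (((d⁻¹ : Fˣ) : F) * (d : F) + 1) * hd]
      exact e
  exact ⟨ha_b, hb_a, h.braid, waP, wbR, cAR, cBR, cPB, cPR, cAP, cAB⟩

end CfsgLib.Pres.SpFour
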