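import Cfsg.Agent.Lib.Pres.SUFourBound
import Cfsg.Agent.Lib.Pres.SpFourRels

/-!
# The root relations of `SU₄` from finitely many of them
-/

set_option autoImplicit false

namespace CfsgLib.Pres.SUFour

open Matrix
open scoped MatrixGroups
open CfsgLib.Classical (uElt uElt_val uElt_add)
open CfsgLib.Pres.SpFour (X X_add X_zero X_neg dElt_neg_one dElt_mul dElt_inv dElt_conj_w eq_univ_of_squares
  dConj_dConj dConj_one)

variable {F K : Type*} [Field F] [Field K]

namespace Data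

variable (D : Data F K)

theorem Tr_smul (k : K) (x : F) : D.Tr (D.ι k * x) = k * D.Tr x :=
  D.ι.injective (by rw [map_mul, D.ιTr, D.ιTr, map_mul, D.σι]; ring)

theorem not_mem_ι {θ : F} (h : D.σ θ ≠ θ) (k : K) : D.ι k ≠ θ := fun e => h (by rw [← e, D.σι])

variable [Fintype F] [Fintype K]

/-- An additive set with a line and another one is everything. -/
theorem all_of_span (hFK : Fintype.card F = Fintype.card K ^ 2) {θ : F} (hθ : D.σ θ ≠ θ) {s : Set F}
    (hadd : ∀ a b, a ∈ s → b ∈ s → a + b ∈ s) (h1 : ∀ k, D.ι k ∈ s) (h2 : ∀ k, D.ι k * θ ∈ s) (x : F) : x ∈ s := by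
  have hinj : Function.Injective fun p : K × K => D.ι p.1 + D.ι p.2 * θ := by
    rintro ⟨a, b⟩ ⟨a', b'⟩ e
    simp only at e
    by_cases hb : b = b'
    · subst hb
      exact Prod.ext (D.ι.injective (add_right_cancel e)) rfl
    · exfalso
      refine D.not_mem_ι hθ ((a' - a) / (b - b')) ?_
      rw [map_div₀, map_sub, map_sub, div_eq_iff (sub_ne_zero.2 fun h => hb (D.ι.injective h))]
      linear_combination -e
  obtain ⟨⟨a, b⟩, rfl⟩ := ((Fintype.bijective_iff_injective_and_card _).2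
    ⟨hinj, by rw [Fintype.card_prod, hFK, sq]⟩).2 x
  exact hadd _ _ (h1 a) (h2 b)

/-- An element with norm `±1` whose square is not fixed. -/
theorem exists_twist (hFK : Fintype.card F = Fintype.card K ^ 2) (hσ : ∀ x, D.σ x = x ^ Fintype.card K) :
    ∃ c : Fˣ, (D.N (c : F) = 1 ∨ D.N (c : F) = -1) ∧ D.σ ((c : F) ^ 2) ≠ (c : F) ^ 2 := by
  classical
  obtain ⟨ω, hω⟩ := IsCyclic.exists_generator (α := Fˣ)
  set Q := Fintype.card K with hQ
  have hQ2 : 2 ≤ Q := Fintype.one_lt_card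
  have hord : orderOf ω = Q ^ 2 - 1 := by
    rw [orderOf_eq_card_of_forall_mem_zpowers hω, Nat.card_units, Nat.card_eq_fintype_card, hFK]
  have hN : ∀ c : Fˣ, D.ι (D.N (c : F)) = ((c ^ (Q + 1) : Fˣ) : F) := fun c => by
    rw [D.ιN, hσ, Units.val_pow_eq_pow_val, pow_succ']
  have hmove : ∀ j, ¬ (Q ^ 2 - 1) ∣ 2 * j * (Q - 1) → D.σ (((ω ^ j : Fˣ) : F) ^ 2) ≠ ((ω ^ j : Fˣ) : F) ^ 2 := by
    intro j hj e
    refine hj ?_
    rw [← hord]
    refine orderOf_dvd_of_pow_eq_one ?_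
    rw [hσ, ← Units.val_pow_eq_pow_val, ← Units.val_pow_eq_pow_val, ← pow_mul, ← pow_mul] at e
    have e' := Units.ext e
    have : j * (2 * Q) = j * 2 + 2 * j * (Q - 1) := by
      obtain ⟨m, hm⟩ : ∃ m, Q = m + 1 := ⟨Q - 1, by omega⟩
      rw [hm, Nat.add_sub_cancel]; ring
    rw [this, pow_add, ← pow_mul ω j 2, mul_eq_left] at e'
    exact e'
  have hfac : Q ^ 2 - 1 = (Q - 1) * (Q + 1) := by
    obtain ⟨m, hm⟩ : ∃ m, Q = m + 1 := ⟨Q - 1, by omega⟩
    have : (m + 1) ^ 2 = m * (m + 1 + 1) + 1 := by ring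
    rw [hm, this, Nat.add_sub_cancel, Nat.add_sub_cancel]
  have hdvd : ∀ a, (Q ^ 2 - 1) ∣ (Q - 1) * a → (Q + 1) ∣ a := fun a h => by
    rw [hfac] at h
    exact (Nat.mul_dvd_mul_iff_left (by omega)).1 h
  rcases Nat.even_or_odd Q with ⟨m, hm⟩ | ⟨m, hm⟩
  · refine ⟨ω ^ (Q - 1), Or.inl (D.ι.injective ?_), hmove _ fun h => ?_⟩
    · rw [map_one, hN, ← pow_mul, ← hfac, ← hord, pow_orderOf_eq_one, Units.val_one]
    · have h1 : (Q + 1) ∣ 2 * (Q - 1) := hdvd _ (by convert h using 1; ring)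
      have h2 : (Q + 1) ∣ 4 := by
        have h3 := Nat.dvd_sub (dvd_mul_left (Q + 1) 2) h1
        rwa [show 2 * (Q + 1) - 2 * (Q - 1) = 4 by omega] at h3
      have := Nat.le_of_dvd (by norm_num) h2
      have h5 : Q = 2 := by omega
      rw [h5] at h2; norm_num at h2
  · refine ⟨ω ^ m, Or.inr (D.ι.injective ?_), hmove _ fun h => ?_⟩
    · rw [map_neg, map_one, hN, ← pow_mul]
      have hm' : m * (Q + 1) * 2 = Q ^ 2 - 1 := by rw [hfac, show Q - 1 = 2 * m by omega]; ring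
      have h1 : (((ω ^ (m * (Q + 1)) : Fˣ) : F)) ^ 2 = 1 := by
        rw [← Units.val_pow_eq_pow_val, ← pow_mul, hm', ← hord, pow_orderOf_eq_one, Units.val_one]
      rcases sq_eq_one_iff.1 h1 with h2 | h2
      · exfalso
        have h3 : ω ^ (m * (Q + 1)) = 1 := Units.ext (by rw [h2, Units.val_one])
        have h5 : 0 < m * (Q + 1) := Nat.mul_pos (by omega) (by omega)
        have h4 := Nat.le_of_dvd (Nat.mul_pos (by omega) (by omega)) (hord ▸ orderOf_dvd_of_pow_eq_one h3)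
        omega
      · exact h2
    · have h1 : (Q + 1) ∣ 2 * m := hdvd _ (by convert h using 1; ring)
      have := Nat.le_of_dvd (by omega) h1
      omega

/-- Every unit of the fixed field is a norm. -/
theorem exists_norm (hFK : Fintype.card F = Fintype.card K ^ 2) (hσ : ∀ x, D.σ x = x ^ Fintype.card K) (k : Kˣ) :
    ∃ c : Fˣ, D.Nu c = k := by
  classical
  obtain ⟨ω, hω⟩ := IsCyclic.exists_generator (α := Fˣ)
  set Q := Fintype.card K with hQ
  have hQ2 : 2 ≤ Q := Fintype.one_lt_card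
  have hord : orderOf ω = Q ^ 2 - 1 := by
    rw [orderOf_eq_card_of_forall_mem_zpowers hω, Nat.card_units, Nat.card_eq_fintype_card, hFK]
  have hinj : Function.Injective D.ιu := fun a b e => Units.ext (D.ι.injective (congrArg Units.val e))
  have hv : D.ιu (D.Nu ω) = ω ^ (Q + 1) := Units.ext (by
    rw [Data.ιu_val, Data.Nu_val, D.ιN, hσ, Units.val_pow_eq_pow_val, pow_succ'])
  have hfac : Q ^ 2 - 1 = (Q - 1) * (Q + 1) := by
    obtain ⟨m, hm⟩ : ∃ m, Q = m + 1 := ⟨Q - 1, by omega⟩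
    have : (m + 1) ^ 2 = m * (m + 1 + 1) + 1 := by ring
    rw [hm, this, Nat.add_sub_cancel, Nat.add_sub_cancel]
  have ho : orderOf (D.Nu ω) = Q - 1 := by
    rw [← orderOf_injective D.ιu hinj, hv, orderOf_pow_of_dvd (by omega) (hord ▸ hfac ▸ dvd_mul_left _ _), hord, hfac,
      Nat.mul_div_cancel _ (by omega)]
  have htop : Subgroup.zpowers (D.Nu ω) = ⊤ := by
    refine Subgroup.eq_top_of_card_eq _ ?_
    rw [Nat.card_zpowers, ho, Nat.card_units, Nat.card_eq_fintype_card]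
  obtain ⟨i, hi⟩ := Subgroup.mem_zpowers_iff.1 (htop.ge (Subgroup.mem_top k))
  exact ⟨ω ^ i, by rw [map_zpow, hi]⟩

end Data

variable {G : Type*} [Group G]

/-- An action of the torus known on generators. -/
theorem torus_all {L M : Type*} [Field L] [Field M] [Fintype L] (φ : SL(2, L) →* G) (ψ : SL(2, M) →* G)
    (g : Fin 3 → SL(2, M)) (hg : Subgroup.closure (Set.range g) = ⊤) (ω : Lˣ)
    (hω : ∀ y : Lˣ, y ∈ Subgroup.zpowers ω) (f : Lˣ →* Mˣ)
    (h : ∀ i, φ (dElt ω) * ψ (g i) * (φ (dElt ω))⁻¹ = ψ (dConj (f ω) (g i))) (c : Lˣ) (N : SL(2, M)) :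
    φ (dElt c) * ψ N * (φ (dElt c))⁻¹ = ψ (dConj (f c) N) := by
  have h1 : (MulAut.conj (φ (dElt ω))).toMonoidHom.comp ψ = ψ.comp (dConj (f ω)) :=
    MonoidHom.eq_of_eqOn_dense hg (by rintro _ ⟨i, rfl⟩; exact h i)
  have h2 : ∀ N, φ (dElt ω) * ψ N * (φ (dElt ω))⁻¹ = ψ (dConj (f ω) N) := fun N =>
    congrArg (fun χ : SL(2, M) →* G => χ N) h1
  obtain ⟨k, hk⟩ := (isOfFinOrder_of_finite ω).mem_powers_iff_mem_zpowers.2 (hω c)
  obtain rfl : ω ^ k = c := hk
  rw [← dElt_pow, map_pow, map_pow]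
  induction k generalizing N with
  | zero => simp [dConj_one]
  | succ k ih =>
    calc φ (dElt ω) ^ (k + 1) * ψ N * (φ (dElt ω) ^ (k + 1))⁻¹
        = φ (dElt ω) ^ k * (φ (dElt ω) * ψ N * (φ (dElt ω))⁻¹) * (φ (dElt ω) ^ k)⁻¹ := by
          rw [pow_succ]; group
      _ = _ := by rw [h2, ih, dConj_dConj, pow_succ]

/-- The finitely many relations; `θ` is not fixed by the involution. -/
structure Few (D : Data F K) (θ : F) (φa : SL(2, F) →* G) (φb : SL(2, K) →* G) : Prop where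
  braid : φa (wElt F) * φb (wElt K) * φa (wElt F) * φb (wElt K) =
    φb (wElt K) * φa (wElt F) * φb (wElt K) * φa (wElt F)
  waP : φa (wElt F) * P φa φb 1 * (φa (wElt F))⁻¹ = P φa φb (-1)
  wbR : φb (wElt K) * R φa φb 1 * (φb (wElt K))⁻¹ = R φa φb 1
  cAR : X φa (1 : F) * R φa φb 1 = R φa φb 1 * X φa 1
  cAP : X φa (1 : F) * P φa φb 1 = R φa φb (D.Tr 1) * P φa φb 1 * X φa 1
  cAPθ : X φa (1 : F) * P φa φb θ = R φa φb (D.Tr (D.σ θ)) * P φa φb θ * X φa 1
  cAB : X φa (1 : F) * X φb 1 = P φa φb 1 * R φa φb 1 * X φb 1 * X φa 1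

variable [Fintype F] [Fintype K] {φa : SL(2, F) →* G} {φb : SL(2, K) →* G}

theorem neg_mem_of_add {A : Type*} [AddGroup A] [Finite A] {s : Set A} (h0 : (0 : A) ∈ s)
    (hadd : ∀ a b, a ∈ s → b ∈ s → a + b ∈ s) {x : A} (hx : x ∈ s) : -x ∈ s := by
  have h : ∀ n : ℕ, n • x ∈ s := by
    intro n
    induction n with
    | zero => rwa [zero_nsmul]
    | succ n ih => rw [succ_nsmul]; exact hadd _ _ ih hx
  have hpos := (isOfFinAddOrder_of_finite x).addOrderOf_pos
  convert h (addOrderOf x - 1) using 1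
  rw [eq_comm, eq_neg_iff_add_eq_zero, ← succ_nsmul, Nat.sub_add_cancel hpos, addOrderOf_nsmul_eq_zero]

/-- All relations follow. -/
theorem rels_of_few (D : Data F K) (hFK : Fintype.card F = Fintype.card K ^ 2)
    (hσ : ∀ x, D.σ x = x ^ Fintype.card K) (c₀ : Fˣ) (hc₀N : D.N (c₀ : F) = 1 ∨ D.N (c₀ : F) = -1)
    (hc₀ : D.σ ((c₀ : F) ^ 2) ≠ (c₀ : F) ^ 2)
    (ha_b : ∀ (c : Fˣ) (M : SL(2, K)), φa (dElt c) * φb M * (φa (dElt c))⁻¹ = φb (dConj (D.Nu c)⁻¹ M))
    (hb_a : ∀ (d : Kˣ) (M : SL(2, F)), φb (dElt d) * φa M * (φb (dElt d))⁻¹ = φa (dConj (D.ιu d)⁻¹ M))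
    (h : Few D ((c₀ : F) ^ 2) φa φb) : Rels D φa φb := by
  -- weights
  have aA : ∀ (c : Fˣ) (t : F), φa (dElt c) * X φa t * (φa (dElt c))⁻¹ = X φa ((c : F) ^ 2 * t) := fun c t => by
    rw [X, X, ← map_inv, ← map_mul, ← map_mul, dElt_conj]
  have bB : ∀ (d : Kˣ) (t : K), φb (dElt d) * X φb t * (φb (dElt d))⁻¹ = X φb ((d : K) ^ 2 * t) := fun c t => by
    rw [X, X, ← map_inv, ← map_mul, ← map_mul, dElt_conj]
  have aB : ∀ (c : Fˣ) (t : K), φa (dElt c) * X φb t * (φa (dElt c))⁻¹ = X φb ((((D.Nu c)⁻¹ : Kˣ) : K) * t) :=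
    fun c t => by
      rw [X, ha_b, dConj_uElt]
      rfl
  have bA : ∀ (d : Kˣ) (t : F), φb (dElt d) * X φa t * (φb (dElt d))⁻¹ = X φa ((((D.ιu d)⁻¹ : Fˣ) : F) * t) :=
    fun c t => by
      rw [X, hb_a, dConj_uElt]
      rfl
  have awb : ∀ c : Fˣ, φa (dElt c) * φb (wElt K) * (φa (dElt c))⁻¹ = φb (dElt (D.Nu c)⁻¹) * φb (wElt K) :=
    fun c => by rw [ha_b, dConj_wElt, map_mul]
  have bwa : ∀ d : Kˣ, φb (dElt d) * φa (wElt F) * (φb (dElt d))⁻¹ = φa (dElt (D.ιu d)⁻¹) * φa (wElt F) :=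
    fun c => by rw [hb_a, dConj_wElt, map_mul]
  have aP : ∀ (c : Fˣ) (t : F), φa (dElt c) * P φa φb t * (φa (dElt c))⁻¹ =
      P φa φb ((((D.ιu (D.Nu c))⁻¹ : Fˣ) : F) * (c : F) ^ 2 * t) := fun c t => by
    rw [P, P, show φa (dElt c) * (φb (wElt K) * X φa (-t) * (φb (wElt K))⁻¹) * (φa (dElt c))⁻¹ =
        (φa (dElt c) * φb (wElt K) * (φa (dElt c))⁻¹) * (φa (dElt c) * X φa (-t) * (φa (dElt c))⁻¹) *
          (φa (dElt c) * φb (wElt K) * (φa (dElt c))⁻¹)⁻¹ by group, awb, aA,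
      show φb (dElt (D.Nu c)⁻¹) * φb (wElt K) = φb (wElt K) * φb (dElt (D.Nu c)) by
        rw [← map_mul, ← map_mul, dElt_conj_w, inv_inv],
      show φb (wElt K) * φb (dElt (D.Nu c)) * X φa ((c : F) ^ 2 * -t) * (φb (wElt K) * φb (dElt (D.Nu c)))⁻¹ =
        φb (wElt K) * (φb (dElt (D.Nu c)) * X φa ((c : F) ^ 2 * -t) * (φb (dElt (D.Nu c)))⁻¹) * (φb (wElt K))⁻¹
          by group, bA, mul_neg, mul_neg, ← mul_assoc ((((D.ιu (D.Nu c))⁻¹ : Fˣ) : F))]
  have bP : ∀ (d : Kˣ) (t : F), φb (dElt d) * P φa φb t * (φb (dElt d))⁻¹ = P φa φb (D.ι (d : K) * t) :=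
    fun d t => by
    rw [P, P, show φb (dElt d) * (φb (wElt K) * X φa (-t) * (φb (wElt K))⁻¹) * (φb (dElt d))⁻¹ =
        (φb (dElt d) * φb (wElt K)) * X φa (-t) * (φb (dElt d) * φb (wElt K))⁻¹ by group, ← map_mul, dElt_conj_w,
      map_mul, show φb (wElt K) * φb (dElt d⁻¹) * X φa (-t) * (φb (wElt K) * φb (dElt d⁻¹))⁻¹ =
        φb (wElt K) * (φb (dElt d⁻¹) * X φa (-t) * (φb (dElt d⁻¹))⁻¹) * (φb (wElt K))⁻¹ by group, bA,
      map_inv D.ιu, inv_inv, mul_neg, Data.ιu_val]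
  have aR : ∀ (c : Fˣ) (t : K), φa (dElt c) * R φa φb t * (φa (dElt c))⁻¹ = R φa φb (D.N (c : F) * t) :=
    fun c t => by
      rw [R, R, show φa (dElt c) * (φa (wElt F) * X φb t * (φa (wElt F))⁻¹) * (φa (dElt c))⁻¹ =
          (φa (dElt c) * φa (wElt F)) * X φb t * (φa (dElt c) * φa (wElt F))⁻¹ by group, ← map_mul, dElt_conj_w,
        map_mul, show φa (wElt F) * φa (dElt c⁻¹) * X φb t * (φa (wElt F) * φa (dElt c⁻¹))⁻¹ =
          φa (wElt F) * (φa (dElt c⁻¹) * X φb t * (φa (dElt c⁻¹))⁻¹) * (φa (wElt F))⁻¹ by group, aB,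
        map_inv D.Nu, inv_inv, Data.Nu_val]
  have bR : ∀ (d : Kˣ) (t : K), φb (dElt d) * R φa φb t * (φb (dElt d))⁻¹ = R φa φb t := fun d t => by
    rw [R, show φb (dElt d) * (φa (wElt F) * X φb t * (φa (wElt F))⁻¹) * (φb (dElt d))⁻¹ =
        (φb (dElt d) * φa (wElt F) * (φb (dElt d))⁻¹) * (φb (dElt d) * X φb t * (φb (dElt d))⁻¹) *
          (φb (dElt d) * φa (wElt F) * (φb (dElt d))⁻¹)⁻¹ by group, bwa, bB,
      show φa (dElt (D.ιu d)⁻¹) * φa (wElt F) = φa (wElt F) * φa (dElt (D.ιu d)) by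
        rw [← map_mul, ← map_mul, dElt_conj_w, inv_inv],
      show φa (wElt F) * φa (dElt (D.ιu d)) * X φb ((d : K) ^ 2 * t) * (φa (wElt F) * φa (dElt (D.ιu d)))⁻¹ =
        φa (wElt F) * (φa (dElt (D.ιu d)) * X φb ((d : K) ^ 2 * t) * (φa (dElt (D.ιu d)))⁻¹) * (φa (wElt F))⁻¹
          by group, aB, D.Nu_ιu, ← mul_assoc, ← Units.val_pow_eq_pow_val, ← Units.val_mul, inv_mul_cancel,
      Units.val_one, one_mul]
  have Pz : P φa φb 0 = 1 := by rw [P, neg_zero, X_zero, mul_one, mul_inv_cancel]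
  have Rz : R φa φb 0 = 1 := by rw [R, X_zero, mul_one, mul_inv_cancel]
  have Pa : ∀ s t, P φa φb (s + t) = P φa φb s * P φa φb t := fun s t => by rw [P, P, P, neg_add, X_add]; group
  have Ra : ∀ s t, R φa φb (s + t) = R φa φb s * R φa φb t := fun s t => by rw [R, R, R, X_add]; group
  have Rn : ∀ t, R φa φb (-t) = (R φa φb t)⁻¹ := fun t =>
    eq_inv_of_mul_eq_one_left (by rw [← Ra, neg_add_cancel, Rz])
  have conjEq : ∀ (g a b : G), a = b → g * a * g⁻¹ = g * b * g⁻¹ := fun g a b e => by rw [e]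
  have conjC : ∀ (g a b : G), Commute a b → Commute (g * a * g⁻¹) (g * b * g⁻¹) := fun g a b e =>
    e.map (MulAut.conj g).toMonoidHom
  have hσu : ∀ c : Fˣ, D.σ ((((D.ιu (D.Nu c))⁻¹ : Fˣ) : F) * (c : F) ^ 2) * (c : F) ^ 2 = D.ι (D.N (c : F)) := by
    intro c
    rw [map_mul, map_pow, Units.val_inv_eq_inv_val, Data.ιu_val, Data.Nu_val, ← map_inv₀, D.σι, map_inv₀,
      mul_assoc, ← mul_pow, mul_comm (D.σ (c : F)), ← D.ιN, sq, inv_mul_cancel_left₀]
    exact fun e => (D.Nu c).ne_zero (D.ι.injective (by rw [map_zero]; exact e))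
  have hθu : D.σ ((((D.ιu (D.Nu c₀))⁻¹ : Fˣ) : F) * (c₀ : F) ^ 2) ≠
      (((D.ιu (D.Nu c₀))⁻¹ : Fˣ) : F) * (c₀ : F) ^ 2 := by
    intro e
    have hne := (((D.ιu (D.Nu c₀))⁻¹ : Fˣ)).ne_zero
    rw [← map_inv D.ιu, Data.ιu_val] at e hne
    rw [map_mul, D.σι] at e
    exact hc₀ (mul_left_cancel₀ hne e)
  -- the Weyl elements
  have hP_d : ∀ (d : Kˣ) t, φa (wElt F) * P φa φb t * (φa (wElt F))⁻¹ = P φa φb (-D.σ t) →
      φa (wElt F) * P φa φb (D.ι (d : K) * t) * (φa (wElt F))⁻¹ = P φa φb (-D.σ (D.ι (d : K) * t)) := by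
    intro d t ht
    have e := conjEq (φb (dElt d)) _ _ ht
    rw [bP, show φb (dElt d) * (φa (wElt F) * P φa φb t * (φa (wElt F))⁻¹) * (φb (dElt d))⁻¹ =
      (φb (dElt d) * φa (wElt F) * (φb (dElt d))⁻¹) * (φb (dElt d) * P φa φb t * (φb (dElt d))⁻¹) *
        (φb (dElt d) * φa (wElt F) * (φb (dElt d))⁻¹)⁻¹ by group, bwa, bP] at e
    have e' := conjEq (φa (dElt (D.ιu d))) _ _ e
    rw [aP, Data.ιu_val, D.Nu_ιu, map_pow D.ιu, Units.val_inv_eq_inv_val, Units.val_pow_eq_pow_val, Data.ιu_val,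
      inv_mul_cancel₀ (pow_ne_zero 2 fun e => d.ne_zero (D.ι.injective (by rw [e, map_zero]))), one_mul] at e'
    rw [map_mul, D.σι, ← mul_neg, ← e', ← dElt_inv, map_inv]
    group
  have waP : ∀ t, φa (wElt F) * P φa φb t * (φa (wElt F))⁻¹ = P φa φb (-D.σ t) := by
    have hK : ∀ (t : F) (k : K), φa (wElt F) * P φa φb t * (φa (wElt F))⁻¹ = P φa φb (-D.σ t) →
        φa (wElt F) * P φa φb (D.ι k * t) * (φa (wElt F))⁻¹ = P φa φb (-D.σ (D.ι k * t)) := by
      intro t k ht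
      rcases eq_or_ne k 0 with rfl | hk
      · simp [Pz]
      · exact hP_d (Units.mk0 k hk) t ht
    have h1 : φa (wElt F) * P φa φb 1 * (φa (wElt F))⁻¹ = P φa φb (-D.σ 1) := by rw [map_one]; exact h.waP
    have h2 : φa (wElt F) * P φa φb ((((D.ιu (D.Nu c₀))⁻¹ : Fˣ) : F) * (c₀ : F) ^ 2) * (φa (wElt F))⁻¹ =
        P φa φb (-D.σ ((((D.ιu (D.Nu c₀))⁻¹ : Fˣ) : F) * (c₀ : F) ^ 2)) := by
      have e := conjEq (φa (dElt c₀⁻¹)) _ _ h.waP
      rw [show φa (dElt c₀⁻¹) * (φa (wElt F) * P φa φb 1 * (φa (wElt F))⁻¹) * (φa (dElt c₀⁻¹))⁻¹ =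
          (φa (dElt c₀⁻¹) * φa (wElt F)) * P φa φb 1 * (φa (dElt c₀⁻¹) * φa (wElt F))⁻¹ by group,
        ← map_mul, dElt_conj_w, inv_inv, map_mul,
        show φa (wElt F) * φa (dElt c₀) * P φa φb 1 * (φa (wElt F) * φa (dElt c₀))⁻¹ =
          φa (wElt F) * (φa (dElt c₀) * P φa φb 1 * (φa (dElt c₀))⁻¹) * (φa (wElt F))⁻¹ by group,
        aP, mul_one, aP] at e
      rw [e, mul_neg, mul_one]
      congr 2
      set uu := (((D.ιu (D.Nu c₀))⁻¹ : Fˣ) : F) with huu
      rw [show (((D.ιu (D.Nu c₀⁻¹))⁻¹ : Fˣ) : F) = D.ι (D.N (c₀ : F)) by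
        rw [map_inv D.Nu, map_inv D.ιu, inv_inv, Data.ιu_val, Data.Nu_val], ← hσu c₀, mul_assoc, ← mul_pow,
        Units.mul_inv, one_pow, mul_one]
    refine D.all_of_span hFK hθu (s := {t | φa (wElt F) * P φa φb t * (φa (wElt F))⁻¹ = P φa φb (-D.σ t)})
      ?_ (fun k => ?_) fun k => hK _ k h2
    · intro a b ha hb
      show _ = _
      rw [Pa, show φa (wElt F) * (P φa φb a * P φa φb b) * (φa (wElt F))⁻¹ =
        (φa (wElt F) * P φa φb a * (φa (wElt F))⁻¹) * (φa (wElt F) * P φa φb b * (φa (wElt F))⁻¹) by group,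
        Set.mem_setOf_eq.mp ha, Set.mem_setOf_eq.mp hb, ← Pa, map_add, neg_add]
    · have := hK 1 k h1
      rwa [mul_one] at this
  have wbR : ∀ t, φb (wElt K) * R φa φb t * (φb (wElt K))⁻¹ = R φa φb t := by
    intro t
    rcases eq_or_ne t 0 with rfl | ht
    · rw [Rz, mul_one, mul_inv_cancel]
    obtain ⟨c, hc⟩ := D.exists_norm hFK hσ (Units.mk0 t ht)
    have hc' : D.N (c : F) = t := by rw [← Data.Nu_val, hc]; rfl
    have e := conjEq (φa (dElt c)) _ _ h.wbR
    rw [aR, mul_one, show φa (dElt c) * (φb (wElt K) * R φa φb 1 * (φb (wElt K))⁻¹) * (φa (dElt c))⁻¹ =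
      (φa (dElt c) * φb (wElt K) * (φa (dElt c))⁻¹) * (φa (dElt c) * R φa φb 1 * (φa (dElt c))⁻¹) *
        (φa (dElt c) * φb (wElt K) * (φa (dElt c))⁻¹)⁻¹ by group, awb, aR, mul_one, hc'] at e
    have e' := conjEq (φb (dElt (D.Nu c))) _ _ e
    rw [bR] at e'
    conv_rhs => rw [← e']
    rw [← dElt_inv, map_inv]
    group
  -- commutations
  have cAR : ∀ s t, Commute (X φa s) (R φa φb t) := by
    have hd : ∀ (s : F) (t : K) (k : K), Commute (X φa s) (R φa φb t) →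
        Commute (X φa (D.ι k * s)) (R φa φb t) := by
      intro s t k hst
      rcases eq_or_ne k 0 with rfl | hk
      · rw [map_zero, zero_mul, X_zero]; exact Commute.one_left _
      · have e := conjC (φb (dElt (Units.mk0 k hk)⁻¹)) _ _ hst
        rw [bA, bR, map_inv D.ιu, inv_inv] at e
        exact e
    have one : ∀ s, Commute (X φa s) (R φa φb 1) := by
      refine D.all_of_span hFK hc₀ (s := {s | Commute (X φa s) (R φa φb 1)}) ?_ (fun k => ?_) (fun k => ?_)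
      · intro a b ha hb
        show Commute _ _
        rw [X_add]; exact ha.mul_left hb
      · have e := hd _ _ k h.cAR
        rwa [mul_one] at e
      · refine hd _ _ k ?_
        have e := conjC (φa (dElt c₀)) _ _ h.cAR
        rw [aA, aR, mul_one, mul_one] at e
        rcases hc₀N with hN | hN <;> rw [hN] at e
        · exact e
        · rw [Rn] at e
          exact (Commute.inv_right_iff).1 e
    intro s t
    rcases eq_or_ne t 0 with rfl | ht
    · rw [Rz]; exact Commute.one_right _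
    obtain ⟨c, hc⟩ := D.exists_norm hFK hσ (Units.mk0 t ht)
    have e := conjC (φa (dElt c)) _ _ (one (((c⁻¹ : Fˣ) : F) ^ 2 * s))
    rw [aA, aR, mul_one, ← Data.Nu_val, hc, ← mul_assoc, ← mul_pow, Units.mul_inv, one_pow, one_mul] at e
    exact e
  have cPR : ∀ s t, Commute (P φa φb s) (R φa φb t) := fun s t => by
    have e := conjC (φb (wElt K)) _ _ (cAR (-s) t)
    rwa [wbR] at e
  have waR : ∀ t, φa (wElt F) * R φa φb t * (φa (wElt F))⁻¹ = X φb t := fun t => by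
    rw [R, show φa (wElt F) * (φa (wElt F) * X φb t * (φa (wElt F))⁻¹) * (φa (wElt F))⁻¹ =
      (φa (wElt F) * φa (wElt F)) * X φb t * (φa (wElt F) * φa (wElt F))⁻¹ by group,
      ← map_mul, wElt_sq, ← dElt_neg_one, aB, D.Nu_neg_one, inv_one, Units.val_one, one_mul]
  have cPB : ∀ s t, Commute (P φa φb s) (X φb t) := fun s t => by
    have e := conjC (φa (wElt F)) _ _ (cPR (-D.σ s) t)
    rwa [waP, waR, map_neg, D.σσ, neg_neg] at e
  -- the bilinear relations
  let Z : F → F → Prop := fun s t => X φa s * P φa φb t = R φa φb (D.Tr (s * D.σ t)) * P φa φb t * X φa s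
  have Zaddl : ∀ a b t, Z a t → Z b t → Z (a + b) t := by
    intro a b t ha hb
    show X φa (a + b) * _ = _
    rw [X_add, mul_assoc, hb, add_mul, D.Tr_add, add_comm (D.Tr (a * D.σ t)), Ra]
    calc X φa a * (R φa φb (D.Tr (b * D.σ t)) * P φa φb t * X φa b)
        = (X φa a * R φa φb (D.Tr (b * D.σ t))) * P φa φb t * X φa b := by group
      _ = R φa φb (D.Tr (b * D.σ t)) * (X φa a * P φa φb t) * X φa b := by rw [(cAR _ _).eq]; group
      _ = _ := by rw [ha]; group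
  have Zaddr : ∀ s a b, Z s a → Z s b → Z s (a + b) := by
    intro s a b ha hb
    show X φa s * _ = _
    rw [map_add, mul_add, D.Tr_add, Ra, Pa, ← mul_assoc, ha]
    calc R φa φb (D.Tr (s * D.σ a)) * P φa φb a * X φa s * P φa φb b
        = R φa φb (D.Tr (s * D.σ a)) * P φa φb a * (X φa s * P φa φb b) := by group
      _ = R φa φb (D.Tr (s * D.σ a)) * (P φa φb a * R φa φb (D.Tr (s * D.σ b))) * P φa φb b * X φa s := by
        rw [hb]; group
      _ = _ := by rw [(cPR _ _).eq]; group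
  have Zzero : ∀ t, Z 0 t := fun t => by
    show _ = _
    simp [D.Tr_zero, Rz, X_zero]
  have Zzero' : ∀ s, Z s 0 := fun s => by
    show _ = _
    simp [D.Tr_zero, Rz, Pz]
  have Za : ∀ (c : Fˣ) s t, Z s t → Z ((c : F) ^ 2 * s) ((((D.ιu (D.Nu c))⁻¹ : Fˣ) : F) * (c : F) ^ 2 * t) := by
    intro c s t hst
    have e := conjEq (φa (dElt c)) _ _ hst
    simp only [conj_mul.symm, aA, aP, aR] at e
    show _ = _
    rw [e]
    congr 3
    rw [← D.Tr_smul, map_mul, ← hσu c]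
    congr 1
    ring
  have Zb : ∀ (d : Kˣ) s t, Z s t → Z ((((D.ιu d)⁻¹ : Fˣ) : F) * s) (D.ι (d : K) * t) := by
    intro d s t hst
    have e := conjEq (φb (dElt d)) _ _ hst
    simp only [conj_mul.symm, bA, bP, bR] at e
    show _ = _
    rw [e]
    congr 3
    rw [map_mul, D.σι, ← Data.ιu_val, mul_mul_mul_comm, ← Units.val_mul, inv_mul_cancel, Units.val_one, one_mul]
  have Zline : ∀ s t, Z s t → ∀ k l : K, Z (D.ι k * s) (D.ι l * t) := by
    intro s t hst
    have hk : ∀ k : K, Z (D.ι k * s) t := by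
      refine eq_univ_of_squares (s := {k : K | Z (D.ι k * s) t}) ?_ ?_ ?_
      · show Z _ _
        rw [map_zero, zero_mul]; exact Zzero t
      · intro a b ha hb
        show Z _ _
        rw [map_add, add_mul]; exact Zaddl _ _ _ ha hb
      · intro d
        show Z _ _
        have e := Za (D.ιu d) s t hst
        rw [D.Nu_ιu, Data.ιu_val, map_pow D.ιu, Units.val_inv_eq_inv_val, Units.val_pow_eq_pow_val, Data.ιu_val,
          inv_mul_cancel₀ (pow_ne_zero 2 fun e => d.ne_zero (D.ι.injective (by rw [e, map_zero]))), one_mul,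
          ← map_pow] at e
        exact e
    intro k l
    rcases eq_or_ne l 0 with rfl | hl
    · rw [map_zero, zero_mul]; exact Zzero' _
    · have e := Zb (Units.mk0 l hl) _ _ (hk (l * k))
      rw [Units.val_mk0, ← mul_assoc, map_mul, ← mul_assoc,
        show (((D.ιu (Units.mk0 l hl))⁻¹ : Fˣ) : F) * D.ι l = 1 from Units.inv_mul _, one_mul] at e
      exact e
  have cBR : ∀ s t, Commute (X φb s) (R φa φb t) := by
    obtain ⟨t₀, ht₀, hτ⟩ : ∃ t₀, Z 1 t₀ ∧ D.Tr (1 * D.σ t₀) ≠ 0 := by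
      by_cases h2 : (2 : K) = 0
      · refine ⟨(c₀ : F) ^ 2, ?_, fun e => hc₀ ?_⟩
        · show _ = _
          rw [one_mul]; exact h.cAPθ
        · have e1 := congrArg D.ι e
          rw [D.ιTr, one_mul, D.σσ, map_zero] at e1
          have h2' : (2 : F) = 0 := by rw [← map_ofNat D.ι 2, h2, map_zero]
          linear_combination e1 - (c₀ : F) ^ 2 * h2'
      · refine ⟨1, by show _ = _; rw [map_one, mul_one]; exact h.cAP, fun e => h2 (D.ι.injective ?_)⟩
        have e1 := congrArg D.ι e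
        rw [D.ιTr, map_one, mul_one, map_one, map_zero] at e1
        rw [map_ofNat, map_zero]
        linear_combination e1
    set τ := D.Tr (1 * D.σ t₀)
    have base : Commute (X φb 1) (R φa φb τ) := by
      let cg : G →* G := (MulAut.conj (X φb (1 : K))).toMonoidHom
      have hB1 : X φa 1 * X φb (1 : K) = P φa φb 1 * R φa φb 1 * X φb 1 * X φa 1 := h.cAB
      have eA : cg (X φa 1) = (P φa φb 1 * R φa φb 1)⁻¹ * X φa 1 := by
        show X φb (1 : K) * X φa 1 * (X φb (1 : K))⁻¹ = _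
        calc X φb (1 : K) * X φa 1 * (X φb (1 : K))⁻¹
            = (P φa φb 1 * R φa φb 1)⁻¹ * (P φa φb 1 * R φa φb 1 * X φb 1 * X φa 1) * (X φb (1 : K))⁻¹ := by group
          _ = _ := by rw [← hB1]; group
      have eP : cg (P φa φb t₀) = P φa φb t₀ := by
        show X φb (1 : K) * P φa φb t₀ * (X φb (1 : K))⁻¹ = _
        rw [← (cPB t₀ 1).eq, mul_inv_cancel_right]
      have eR : R φa φb τ = X φa 1 * P φa φb t₀ * (X φa 1)⁻¹ * (P φa φb t₀)⁻¹ := by
        rw [show X φa 1 * P φa φb t₀ = R φa φb τ * P φa φb t₀ * X φa 1 from ht₀]; group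
      set N := P φa φb 1 * R φa φb 1
      have c1 : Commute N (P φa φb t₀) := by
        refine Commute.mul_left ?_ (cPR _ _).symm
        show _ = _
        rw [← Pa, ← Pa, add_comm]
      have c2 : Commute N (R φa φb τ) := by
        refine Commute.mul_left (cPR _ _) ?_
        show _ = _
        rw [← Ra, ← Ra, add_comm]
      have e : cg (R φa φb τ) = R φa φb τ := by
        conv_lhs => rw [eR]
        rw [map_mul, map_mul, map_mul, map_inv, map_inv, eA, eP]
        calc N⁻¹ * X φa 1 * P φa φb t₀ * (N⁻¹ * X φa 1)⁻¹ * (P φa φb t₀)⁻¹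
            = N⁻¹ * (X φa 1 * P φa φb t₀ * (X φa 1)⁻¹) * N * (P φa φb t₀)⁻¹ := by group
          _ = N⁻¹ * (R φa φb τ * P φa φb t₀) * N * (P φa φb t₀)⁻¹ := by
            rw [show X φa 1 * P φa φb t₀ = R φa φb τ * P φa φb t₀ * X φa 1 from ht₀, mul_inv_cancel_right]
          _ = N⁻¹ * ((R φa φb τ * P φa φb t₀) * N) * (P φa φb t₀)⁻¹ := by group
          _ = _ := by rw [← (c2.mul_right c1).eq]; group
      exact mul_inv_eq_iff_eq_mul.1 e
    have oneτ : Commute (X φb τ) (R φa φb 1) → ∀ s, Commute (X φb s) (R φa φb 1) := by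
      intro h0 s
      have key : ∀ u, Commute (X φb (τ * u)) (R φa φb 1) := by
        refine eq_univ_of_squares (s := {u | Commute (X φb (τ * u)) (R φa φb 1)}) ?_ ?_ ?_
        · show Commute _ _
          rw [mul_zero, X_zero]; exact Commute.one_left _
        · intro a b ha hb
          show Commute _ _
          rw [mul_add, X_add]; exact ha.mul_left hb
        · intro d
          have e := conjC (φb (dElt d)) _ _ h0
          rw [bB, bR, mul_comm ((d : K) ^ 2)] at e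
          exact e
      have := key (τ⁻¹ * s)
      rwa [mul_inv_cancel_left₀ hτ] at this
    have one : ∀ s, Commute (X φb s) (R φa φb 1) := by
      refine oneτ ?_
      obtain ⟨c, hc⟩ := D.exists_norm hFK hσ (Units.mk0 τ hτ)⁻¹
      have e := conjC (φa (dElt c)) _ _ base
      rw [aB, aR, hc, inv_inv, mul_one, Units.val_mk0, ← Data.Nu_val, hc, Units.val_inv_eq_inv_val, Units.val_mk0,
        inv_mul_cancel₀ hτ] at e
      exact e
    intro s t
    rcases eq_or_ne t 0 with rfl | ht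
    · rw [Rz]; exact Commute.one_right _
    obtain ⟨c, hc⟩ := D.exists_norm hFK hσ (Units.mk0 t ht)
    have e := conjC (φa (dElt c)) _ _ (one (D.N (c : F) * s))
    rw [aB, aR, mul_one, ← Data.Nu_val, ← mul_assoc, ← Units.val_mul, inv_mul_cancel, Units.val_one, one_mul,
      hc] at e
    exact e
  have cAP : ∀ s t, X φa s * P φa φb t = R φa φb (D.Tr (s * D.σ t)) * P φa φb t * X φa s := by
    set θ := (c₀ : F) ^ 2 with hθ
    have h11 : Z 1 1 := by show _ = _; rw [map_one, mul_one]; exact h.cAP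
    have h1θ : Z 1 θ := by show _ = _; rw [one_mul]; exact h.cAPθ
    have hθ1 : Z θ 1 := by
      have e := conjEq (φb (wElt K)) _ _ h.cAPθ
      have hA1 : φb (wElt K) * X φa 1 * (φb (wElt K))⁻¹ = P φa φb (-1) := by rw [P, neg_neg]
      have hPθ : φb (wElt K) * P φa φb θ * (φb (wElt K))⁻¹ = X φa θ := by
        rw [P, show φb (wElt K) * (φb (wElt K) * X φa (-θ) * (φb (wElt K))⁻¹) * (φb (wElt K))⁻¹ =
          (φb (wElt K) * φb (wElt K)) * X φa (-θ) * (φb (wElt K) * φb (wElt K))⁻¹ by group, ← map_mul, wElt_sq,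
          ← dElt_neg_one, bA, Units.val_inv_eq_inv_val, Data.ιu_val, Units.val_neg, Units.val_one, map_neg, map_one,
          inv_neg, inv_one, neg_mul_neg, one_mul]
      rw [← conj_mul, ← conj_mul, ← conj_mul, hA1, hPθ, wbR] at e
      have hTr : D.Tr (D.σ θ) = -D.Tr (θ * D.σ (-1)) := by
        refine D.ι.injective ?_
        rw [map_neg D.ι, D.ιTr, D.ιTr, map_neg D.σ, map_one, mul_neg, mul_one, D.σσ, map_neg D.σ]
        ring
      rw [hTr, Rn] at e
      have hm : Z θ (-1) := by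
        show _ = _
        rw [mul_assoc, e, mul_assoc, mul_inv_cancel_left]
      simpa using neg_mem_of_add (s := {t | Z θ t}) (Zzero' θ) (Zaddr θ) hm
    have hθθ : Z θ θ := by
      have e := Zline _ _ (Za c₀ 1 1 h11) 1 (D.N (c₀ : F))
      rwa [mul_one, mul_one, map_one, one_mul, ← mul_assoc, ← Data.Nu_val, ← Data.ιu_val, ← Units.val_mul,
        mul_inv_cancel, Units.val_one, one_mul] at e
    intro s t
    refine D.all_of_span hFK hc₀ (s := {t | Z s t}) (fun a b ha hb => Zaddr _ _ _ ha hb) (fun l => ?_)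
      (fun l => ?_) t
    · refine D.all_of_span hFK hc₀ (s := {s | Z s (D.ι l)}) (fun a b ha hb => Zaddl _ _ _ ha hb) (fun k => ?_)
        (fun k => ?_) s
      · have := Zline _ _ h11 k l
        rwa [mul_one, mul_one] at this
      · have := Zline _ _ hθ1 k l
        rwa [mul_one] at this
    · refine D.all_of_span hFK hc₀ (s := {s | Z s (D.ι l * θ)}) (fun a b ha hb => Zaddl _ _ _ ha hb) (fun k => ?_)
        (fun k => Zline _ _ hθθ k l) s
      have := Zline _ _ h1θ k l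
      rwa [mul_one] at this
  let W : F → K → Prop := fun s t =>
    X φa s * X φb t = P φa φb (s * D.ι t) * R φa φb (D.N s * t) * X φb t * X φa s
  have Wzero : ∀ t, W 0 t := fun t => by
    show _ = _
    rw [zero_mul, D.N_zero, zero_mul, X_zero, Pz, Rz, one_mul, one_mul, one_mul, mul_one]
  have Wzero' : ∀ s, W s 0 := fun s => by
    show _ = _
    rw [map_zero, mul_zero, mul_zero, X_zero, Pz, Rz, mul_one, one_mul, one_mul, one_mul]
  have Waddr : ∀ s a b, W s a → W s b → W s (a + b) := by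
    intro s a b ha hb
    show _ = _
    simp only [map_add, mul_add, X_add, Pa, Ra]
    set A := X φa s
    set B1 := X φb a
    set B2 := X φb b
    set P1 := P φa φb (s * D.ι a) with hP1
    set P2 := P φa φb (s * D.ι b) with hP2
    set R1 := R φa φb (D.N s * a) with hR1
    set R2 := R φa φb (D.N s * b) with hR2
    have ha' : A * B1 = P1 * R1 * B1 * A := ha
    have hb' : A * B2 = P2 * R2 * B2 * A := hb
    have k1 : Commute (R1 * B1) P2 := (cPR _ _).symm.mul_left (cPB _ _).symm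
    have k2 : Commute B1 R2 := cBR _ _
    calc A * (B1 * B2) = P1 * R1 * B1 * (A * B2) := by rw [← mul_assoc, ha']; group
      _ = P1 * (R1 * B1 * P2) * R2 * B2 * A := by rw [hb']; group
      _ = P1 * P2 * R1 * (B1 * R2) * B2 * A := by rw [k1.eq]; group
      _ = _ := by rw [k2.eq]; group
  have Waddl : ∀ a b t, W a t → W b t → W (a + b) t := by
    intro a b t ha hb
    show _ = _
    rw [X_add, mul_assoc, hb]
    have e1 : D.N (a + b) * t = D.Tr (a * D.σ (b * D.ι t)) + D.N a * t + D.N b * t := by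
      rw [D.N_add, map_mul, D.σι, ← mul_assoc, mul_comm _ (D.ι t), D.Tr_smul]
      ring
    rw [e1, add_mul, Pa, Ra, Ra]
    set A1 := X φa a
    set A2 := X φa b
    set P1 := P φa φb (a * D.ι t)
    set P2 := P φa φb (b * D.ι t)
    set R0 := R φa φb (D.Tr (a * D.σ (b * D.ι t)))
    set R1 := R φa φb (D.N a * t)
    set R2 := R φa φb (D.N b * t)
    have ha' : A1 * X φb t = P1 * R1 * X φb t * A1 := ha
    have hcap : A1 * P2 = R0 * P2 * A1 := cAP _ _
    have hp : P1 * P2 = P2 * P1 := by rw [← Pa, ← Pa, add_comm]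
    have hr : R1 * R2 = R2 * R1 := by rw [← Ra, ← Ra, add_comm]
    have c1 : Commute A1 R2 := cAR _ _
    have c2 : Commute P1 R2 := cPR _ _
    have c3 : Commute (P1 * P2) R0 := (cPR _ _).mul_left (cPR _ _)
    calc A1 * (P2 * R2 * X φb t * A2) = (A1 * P2) * R2 * X φb t * A2 := by group
      _ = R0 * P2 * (A1 * R2) * X φb t * A2 := by rw [hcap]; group
      _ = R0 * P2 * R2 * (A1 * X φb t) * A2 := by rw [c1.eq]; group
      _ = R0 * P2 * (R2 * P1) * R1 * X φb t * (A1 * A2) := by rw [ha']; group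
      _ = R0 * (P2 * P1) * (R2 * R1) * X φb t * (A1 * A2) := by rw [← c2.eq]; group
      _ = (R0 * (P1 * P2)) * (R1 * R2) * X φb t * (A1 * A2) := by rw [← hp, ← hr]
      _ = _ := by rw [← c3.eq]; group
  have Wa : ∀ (c : Fˣ) s t, W s t → W ((c : F) ^ 2 * s) ((((D.Nu c)⁻¹ : Kˣ) : K) * t) := by
    intro c s t hst
    have e := conjEq (φa (dElt c)) _ _ hst
    simp only [conj_mul.symm, aA, aB, aP, aR] at e
    show _ = _
    rw [e]
    have hn : D.N (c : F) ≠ 0 := fun e => (D.Nu c).ne_zero e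
    congr 4
    · rw [map_mul, Units.val_inv_eq_inv_val, Units.val_inv_eq_inv_val, Data.ιu_val, map_inv₀]
      ring
    · rw [D.N_mul, sq, D.N_mul, Units.val_inv_eq_inv_val, Data.Nu_val]
      field_simp
  have Wb : ∀ (d : Kˣ) s t, W s t → W ((((D.ιu d)⁻¹ : Fˣ) : F) * s) ((d : K) ^ 2 * t) := by
    intro d s t hst
    have e := conjEq (φb (dElt d)) _ _ hst
    simp only [conj_mul.symm, bA, bB, bP, bR] at e
    show _ = _
    rw [e]
    congr 4
    · rw [Units.val_inv_eq_inv_val, Data.ιu_val, map_mul, map_pow]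
      have : D.ι (d : K) ≠ 0 := fun e => d.ne_zero (D.ι.injective (by rw [e, map_zero]))
      field_simp
    · rw [← map_inv D.ιu, Data.ιu_val, D.N_mul, D.N_ι, mul_assoc, mul_left_comm (D.N s), ← mul_assoc, ← mul_pow,
        ← Units.val_mul, inv_mul_cancel, Units.val_one, one_pow, one_mul]
  have cAB : ∀ s t, X φa s * X φb t = P φa φb (s * D.ι t) * R φa φb (D.N s * t) * X φb t * X φa s := by
    have h11 : W 1 1 := by show _ = _; rw [map_one, mul_one, D.N_one, mul_one]; exact h.cAB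
    have hk : ∀ k, W (D.ι k) 1 := by
      intro k
      rcases eq_or_ne k 0 with rfl | hk
      · rw [map_zero]; exact Wzero 1
      obtain ⟨d, rfl⟩ : ∃ d : Kˣ, (d : K) = k := ⟨Units.mk0 k hk, rfl⟩
      have e := Wb d _ _ (Wa (D.ιu d) 1 1 h11)
      have x1 : (((D.ιu d)⁻¹ : Fˣ) : F) * ((D.ιu d : Fˣ) : F) ^ 2 = D.ι (d : K) := by
        rw [sq, ← mul_assoc, Units.inv_mul, one_mul, Data.ιu_val]
      have x2 : (d : K) ^ 2 * ((((d ^ 2)⁻¹ : Kˣ)) : K) = 1 := by
        rw [← Units.val_pow_eq_pow_val, Units.mul_inv]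
      rw [D.Nu_ιu, mul_one, mul_one, x1, x2] at e
      exact e
    have hkθ : ∀ k, W (D.ι k * (c₀ : F) ^ 2) 1 := by
      intro k
      have e := Wa c₀ _ _ (hk k)
      rw [mul_one, mul_comm ((c₀ : F) ^ 2)] at e
      have hv : (((D.Nu c₀)⁻¹ : Kˣ) : K) = D.N (c₀ : F) := by
        rw [Units.val_inv_eq_inv_val, Data.Nu_val]
        rcases hc₀N with hN | hN <;> rw [hN] <;> simp [inv_neg]
      rw [hv] at e
      rcases hc₀N with hN | hN <;> rw [hN] at e
      · exact e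
      · have := neg_mem_of_add (s := {t | W (D.ι k * (c₀ : F) ^ 2) t}) (Wzero' _) (Waddr _) e
        rwa [neg_neg] at this
    intro s t
    rcases eq_or_ne t 0 with rfl | ht
    · exact Wzero' s
    have one : ∀ s, W s 1 := fun s =>
      D.all_of_span hFK hc₀ (s := {s | W s 1}) (fun a b ha hb => Waddl _ _ _ ha hb) hk hkθ s
    obtain ⟨c, hc⟩ := D.exists_norm hFK hσ (Units.mk0 t ht)⁻¹
    have e := Wa c _ _ (one (((c⁻¹ : Fˣ) : F) ^ 2 * s))
    rw [hc, inv_inv, mul_one, ← mul_assoc, ← mul_pow, Units.mul_inv, one_pow, one_mul] at e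
    exact e
  exact ⟨ha_b, hb_a, h.braid, waP, wbR, cAR, cBR, cPB, cPR, cAP, cAB⟩

end CfsgLib.Pres.SUFour
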