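import Cfsg.Agent.Lib.Pres.SUTrans

/-!
# Generation of the unitary blocks and of the stabiliser of an isotropic vector
-/

set_option autoImplicit false

namespace CfsgLib.Pres.SUn

open Matrix

variable {F : Type*} [Field F] [Fintype F] {q n : ℕ} (hF : Fintype.card F = q ^ 2)

include hF in
theorem herm_unit (i : Fin n) :
    Cfsg.hermForm n F q (Pi.single i 1) (Pi.single i 1) = 1 := by
  rw [herm_single_right (q_ne_zero hF), Pi.single_eq_same]

theorem single_out {i j : Fin n} {T : Finset (Fin n)} (hi : i ∈ T) (hj : j ∉ T) :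
    (Pi.single i (1 : F) : Fin n → F) j = 0 := Pi.single_eq_of_ne (show j ≠ i from fun e => hj (e.symm ▸ hi)) _

include hF in
theorem supp_of_mem {T : Finset (Fin n)} {g : Cfsg.SU n F q} (hg : g ∈ SOn T) {a : Fin n} (ha : a ∈ T) :
    ∀ i, i ∉ T → act g (Pi.single a 1) i = 0 :=
  act_supp (q_ne_zero hF) hg (Finset.Subset.refl T) fun _ hi => single_out ha hi

theorem pick_three {R : Finset (Fin n)} (hR : 3 ≤ R.card) :
    ∃ x y z, x ∈ R ∧ y ∈ R ∧ z ∈ R ∧ x ≠ y ∧ x ≠ z ∧ y ≠ z := by
  obtain ⟨x, y, z, h⟩ := Finset.two_lt_card_iff.1 hR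
  exact ⟨x, y, z, h⟩

include hF in
/-- A block is generated by the smaller one and the two-coordinate blocks through the last coordinate. -/
theorem split_last {T : Finset (Fin n)} (hT : 4 ≤ T.card) {a : Fin n} (ha : a ∈ T) :
    (SOn T : Subgroup (Cfsg.SU n F q)) ≤ SOn (T.erase a) ⊔ ⨆ z ∈ T.erase a, SOn {z, a} := by
  classical
  set R := T.erase a with hRdef
  have hR : 3 ≤ R.card := by rw [hRdef, Finset.card_erase_of_mem ha]; omega
  set K := SOn R ⊔ ⨆ z ∈ R, (SOn {z, a} : Subgroup (Cfsg.SU n F q)) with hKdef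
  have hRK : SOn R ≤ K := le_sup_left
  have hLK : ∀ z ∈ R, (SOn {z, a} : Subgroup (Cfsg.SU n F q)) ≤ K := fun z hz =>
    le_sup_of_le_right (le_iSup₂_of_le z hz le_rfl)
  have haR : a ∉ R := Finset.notMem_erase a T
  have hq := q_ne_zero hF
  intro g hg
  set v := act g (Pi.single a 1) with hv
  have hvs : ∀ i, i ∉ T → v i = 0 := supp_of_mem hF hg ha
  have hvn : Cfsg.hermForm n F q v v = 1 := by rw [hv, act_herm, herm_unit hF]
  obtain ⟨x, y, z, hxR, hyR, hzR, hxy, hxz, hyz⟩ := pick_three hR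
  have hza : z ≠ a := fun e => haR (e ▸ hzR)
  have hL : ∃ s ∈ (SOn {z, a} : Subgroup (Cfsg.SU n F q)), act s (Pi.single a 1) = Pi.single z 1 :=
    on_unit hF (by rw [Finset.card_pair hza]) (fun i hi => single_out (by simp) hi)
      (fun i hi => single_out (by simp) hi) (herm_unit hF a) (herm_unit hF z)
  obtain ⟨s, hs, hsz⟩ := hL
  suffices h : ∃ h ∈ K, h ∈ SOn T ∧ act h (Pi.single a 1) = v by
    obtain ⟨h, hK, hhT, hhv⟩ := h
    have hfix : h⁻¹ * g ∈ SOn R := fun i hi => by
      by_cases hia : i = a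
      · subst hia; rw [act_mul, ← hv, ← hhv, act_inv_act]
      · exact (mul_mem (inv_mem hhT) hg) i fun hiT => hi (Finset.mem_erase.2 ⟨hia, hiT⟩)
    simpa using mul_mem hK (hRK hfix)
  have hRT : (SOn R : Subgroup (Cfsg.SU n F q)) ≤ SOn T := SOn_mono (Finset.erase_subset a T)
  have hsT : s ∈ SOn T := SOn_mono (by
    intro i hi
    rcases Finset.mem_insert.1 hi with rfl | hi
    · exact Finset.mem_of_mem_erase hzR
    · exact (Finset.mem_singleton.1 hi) ▸ ha) hs
  have hz0 : Cfsg.hermForm n F q (Pi.single z 1) (Pi.single z 1) = 1 := herm_unit hF z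
  by_cases hc : v a = 0
  · obtain ⟨r, hr, hrz⟩ := on_unit hF (show 2 ≤ R.card by omega) (x := Pi.single z 1) (y := v)
      (fun i hi => single_out hzR hi) (fun i hi => by
        by_cases hia : i = a
        · exact hia ▸ hc
        · exact hvs i fun hiT => hi (Finset.mem_erase.2 ⟨hia, hiT⟩)) hz0 hvn
    exact ⟨r * s, mul_mem (hRK hr) (hLK z hzR hs), mul_mem (hRT hr) hsT, by rw [act_mul, hsz, hrz]⟩
  set c := v a with hcdef
  set u : Fin n → F := Function.update v a 0 with hudef
  have hus : ∀ i, i ∉ R → u i = 0 := fun i hi => by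
    by_cases hia : i = a
    · subst hia; simp [hudef]
    · rw [hudef, Function.update_of_ne hia]; exact hvs i fun hiT => hi (Finset.mem_erase.2 ⟨hia, hiT⟩)
  have hvu : v = u + c • Pi.single a 1 := by
    funext i
    by_cases hia : i = a
    · subst hia; simp [hudef, hcdef]
    · simp [hudef, Function.update_of_ne hia, Pi.single_eq_of_ne hia]
  have hsplit : ∀ (w : Fin n → F) (i : Fin n), w i = 0 →
      Cfsg.hermForm n F q (w + c • Pi.single i 1) (w + c • Pi.single i 1) =
        Cfsg.hermForm n F q w w + c * c ^ q := by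
    intro w i hw
    simp only [Cfsg.hermForm]
    rw [← Finset.add_sum_erase _ _ (Finset.mem_univ i), ← Finset.add_sum_erase _ _ (Finset.mem_univ i),
      Finset.sum_congr rfl fun j hj => by
        rw [show (w + c • Pi.single i 1 : Fin n → F) j = w j by simp [Pi.single_eq_of_ne (Finset.ne_of_mem_erase hj)]]]
    simp [hw, zero_pow hq]
    ring
  have hun : Cfsg.hermForm n F q u u + c * c ^ q = 1 := by
    rw [← hsplit u a (hus a haR), ← hvu, hvn]
  have hmain : ∃ u' : Fin n → F, (∀ i, i ≠ x → i ≠ y → u' i = 0) ∧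
      Cfsg.hermForm n F q u' u' = Cfsg.hermForm n F q u u ∧
      ∃ r ∈ (SOn R : Subgroup (Cfsg.SU n F q)), act r u' = u := by
    by_cases hu : u = 0
    · exact ⟨0, fun _ _ _ => rfl, by rw [hu], 1, one_mem _, by rw [act_one, hu]⟩
    · refine ⟨nf hF x y (Cfsg.hermForm n F q u u), fun i => nf_out hF _, nf_herm hF hxy (herm_fixed hF u), ?_⟩
      exact on_trans hF hR (fun i hi => nf_out hF _ (fun e => hi (e ▸ hxR)) fun e => hi (e ▸ hyR)) hus
        (nf_ne hF hxy _) hu (nf_herm hF hxy (herm_fixed hF u))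
  obtain ⟨u', hu', hun', r, hr, hru⟩ := hmain
  set w := u' + c • (Pi.single z 1 : Fin n → F) with hwdef
  have hws : ∀ i, i ∉ R → w i = 0 := fun i hi => by
    simp [hwdef, hu' i (fun e => hi (e ▸ hxR)) fun e => hi (e ▸ hyR), Pi.single_eq_of_ne (fun e => hi (e ▸ hzR) : i ≠ z)]
  have hwn : Cfsg.hermForm n F q w w = 1 := by
    rw [hwdef, hsplit u' z (hu' z hxz.symm hyz.symm), hun', hun]
  obtain ⟨r2, hr2, hr2w⟩ := on_unit hF (show 2 ≤ R.card by omega) (fun i hi => single_out hzR hi) hws hz0 hwn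
  refine ⟨r * s⁻¹ * r2 * s, mul_mem (mul_mem (mul_mem (hRK hr) (inv_mem (hLK z hzR hs))) (hRK hr2)) (hLK z hzR hs),
    mul_mem (mul_mem (mul_mem (hRT hr) (inv_mem hsT)) (hRT hr2)) hsT, ?_⟩
  rw [act_mul, act_mul, act_mul, hsz, hr2w, hwdef, act_add, act_smul, ← hsz, act_inv_act,
    act_eq_self hq (inv_mem hs) fun i hi => hu' i (fun e => ?_) (fun e => ?_), act_add, act_smul, hru, hr a haR,
    ← hvu]
  · rcases Finset.mem_insert.1 hi with h | h
    · exact hxz (e ▸ h)
    · exact haR ((e ▸ Finset.mem_singleton.1 h : x = a) ▸ hxR)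
  · rcases Finset.mem_insert.1 hi with h | h
    · exact hyz (e ▸ h)
    · exact haR ((e ▸ Finset.mem_singleton.1 h : y = a) ▸ hyR)

include hF in
/-- Blocks are generated by their three-coordinate blocks. -/
theorem gen_three {T : Finset (Fin n)} (hT : 3 ≤ T.card) :
    (SOn T : Subgroup (Cfsg.SU n F q)) ≤
      Subgroup.closure {g | ∃ R : Finset (Fin n), R ⊆ T ∧ R.card = 3 ∧ g ∈ SOn R} := by
  classical
  induction T using Finset.strongInduction with
  | H T ih =>
    rcases Nat.eq_or_lt_of_le hT with h | h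
    · exact fun g hg => Subgroup.subset_closure ⟨T, Finset.Subset.refl T, h.symm, hg⟩
    obtain ⟨a, ha⟩ : T.Nonempty := Finset.card_pos.1 (by omega)
    refine (split_last hF (by omega) ha).trans (sup_le ?_ (iSup₂_le fun z hz => ?_))
    · refine (ih _ (Finset.erase_ssubset ha) (by rw [Finset.card_erase_of_mem ha]; omega)).trans
        (Subgroup.closure_mono ?_)
      rintro g ⟨R, hR, hR3, hg⟩
      exact ⟨R, hR.trans (Finset.erase_subset a T), hR3, hg⟩
    · obtain ⟨w, hw⟩ : ((T.erase a).erase z).Nonempty := Finset.card_pos.1 (by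
        rw [Finset.card_erase_of_mem hz, Finset.card_erase_of_mem ha]; omega)
      have hwz := (Finset.mem_erase.1 hw).1
      have hwa := (Finset.mem_erase.1 (Finset.mem_of_mem_erase hw)).1
      intro g hg
      refine Subgroup.subset_closure ⟨{z, a, w}, ?_, ?_, SOn_mono (by simp) hg⟩
      · intro i hi
        simp only [Finset.mem_insert, Finset.mem_singleton] at hi
        rcases hi with rfl | rfl | rfl
        · exact Finset.mem_of_mem_erase hz
        · exact ha
        · exact Finset.mem_of_mem_erase (Finset.mem_of_mem_erase hw)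
      · rw [Finset.card_insert_of_notMem (by simp [(Finset.mem_erase.1 hz).1, hwz.symm]),
          Finset.card_pair hwa.symm]

/-- The isotropic vector on two coordinates. -/
noncomputable def iso (x y : Fin n) : Fin n → F := Pi.single x 1 + th hF • Pi.single y 1

include hF in
theorem iso_herm {x y : Fin n} (hxy : x ≠ y) : Cfsg.hermForm n F q (iso hF x y) (iso hF x y) = 0 := by
  rw [herm_pair (q_ne_zero hF) hxy (v := iso hF x y) fun i h1 h2 => by
    simp [iso, Pi.single_eq_of_ne h1, Pi.single_eq_of_ne h2]]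
  simp [iso, Pi.single_eq_of_ne hxy, Pi.single_eq_of_ne hxy.symm, th_norm]

include hF in
/-- The unipotent element fixing the isotropic vector. -/
theorem exists_eichler {x y j : Fin n} (hxy : x ≠ y) (hjx : j ≠ x) (hjy : j ≠ y) (l : F) :
    ∃ e : Cfsg.SU n F q, e ∈ SOn {x, y, j} ∧ act e (iso hF x y) = iso hF x y ∧
      act e (Pi.single j 1 + l • iso hF x y) = Pi.single j 1 := by
  classical
  have hf := CfsgLib.MaxSub.isUnitaryForm_hermForm hF n
  have hq := q_ne_zero hF
  set w := iso hF x y with hw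
  have hwout : ∀ i, i ≠ x → i ≠ y → w i = 0 := fun i h1 h2 => by
    simp [hw, iso, Pi.single_eq_of_ne h1, Pi.single_eq_of_ne h2]
  set s : F := (-l) ^ q with hs
  set Y : Fin n → F := s • Pi.single j 1 with hY
  have hww : Cfsg.hermForm n F q w w = 0 := iso_herm hF hxy
  have hwY : Cfsg.hermForm n F q w Y = 0 := by
    rw [herm_pair hq hxy hwout]
    simp [hY, Pi.single_eq_of_ne hjx.symm, Pi.single_eq_of_ne hjy.symm, zero_pow hq]
  obtain ⟨k, hk⟩ := CfsgLib.MaxSub.exists_trace_eq hf (a := -Cfsg.hermForm n F q Y Y) (by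
    rw [map_neg, CfsgLib.MaxSub.herm_self_fixed hf])
  set E := CfsgLib.MaxSub.hEich hf w Y k hww hwY with hE
  have hdet : (E : Matrix (Fin n) (Fin n) F).det = 1 := by
    have : Matrix.GeneralLinearGroup.det E = 1 := CfsgLib.MaxSub.hEich_mem_specialLinear hf w Y k hww hwY
    simpa using congrArg Units.val this
  refine ⟨⟨⟨(E : Matrix (Fin n) (Fin n) F), hdet⟩, fun u v =>
    CfsgLib.MaxSub.hEich_isometry hf w Y k hww hwY hk u v⟩, fun i hi => ?_, ?_, ?_⟩
  · simp only [Finset.mem_insert, Finset.mem_singleton, not_or] at hi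
    show (E : Matrix (Fin n) (Fin n) F) *ᵥ Pi.single i 1 = _
    rw [CfsgLib.MaxSub.hEich_mulVec hf]
    have h1 : Cfsg.hermForm n F q (Pi.single i 1) w = 0 := by
      rw [Cfsg.hermForm, Finset.sum_eq_zero]
      intro m _
      by_cases hm : m = i
      · subst hm; rw [hwout _ hi.1 hi.2.1, zero_pow hq, mul_zero]
      · simp [Pi.single_eq_of_ne hm]
    have h2 : Cfsg.hermForm n F q (Pi.single i 1) Y = 0 := by
      rw [Cfsg.hermForm, Finset.sum_eq_zero]
      intro m _
      by_cases hm : m = i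
      · subst hm; simp [hY, Pi.single_eq_of_ne hi.2.2, zero_pow hq]
      · simp [Pi.single_eq_of_ne hm]
    simp [h1, h2]
  · show (E : Matrix (Fin n) (Fin n) F) *ᵥ w = w
    rw [CfsgLib.MaxSub.hEich_mulVec hf]
    simp [hww, hwY]
  · show (E : Matrix (Fin n) (Fin n) F) *ᵥ _ = _
    rw [CfsgLib.MaxSub.hEich_mulVec hf]
    have h1 : Cfsg.hermForm n F q (Pi.single j 1 + l • w) w = 0 := by
      rw [hf.add_left, hf.smul_left, hww, herm_pair hq hjx (v := (Pi.single j (1:F) : Fin n → F))
        fun i h1 _ => Pi.single_eq_of_ne h1 _]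
      simp [hwout j hjx hjy, Pi.single_eq_of_ne hjx.symm, zero_pow hq]
    have h2 : Cfsg.hermForm n F q (Pi.single j 1 + l • w) Y = -l := by
      rw [hf.add_left, hf.smul_left, hwY, mul_zero, add_zero, hY, CfsgLib.MaxSub.herm_smul_right hf,
        herm_unit hF, mul_one, CfsgLib.MaxSub.qConj_apply, hs, frob_frob hF]
    rw [h1, h2]
    simp

include hF in
/-- The stabiliser of the isotropic vector is generated by a smaller block and three-coordinate stabilisers. -/
theorem stab_iso {S : Finset (Fin n)} {x y : Fin n} (hxy : x ≠ y) (hx : x ∈ S) (hy : y ∈ S) (hS : 3 ≤ S.card)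
    {g : Cfsg.SU n F q} (hg : g ∈ SOn S) (hfix : act g (iso hF x y) = iso hF x y) :
    g ∈ Subgroup.closure ((SOn ((S.erase x).erase y) : Subgroup (Cfsg.SU n F q)) ∪
      {h : Cfsg.SU n F q | ∃ z ∈ (S.erase x).erase y, h ∈ SOn {x, y, z} ∧ act h (iso hF x y) = iso hF x y}) := by
  classical
  have hf := CfsgLib.MaxSub.isUnitaryForm_hermForm hF n
  have hq := q_ne_zero hF
  set R := (S.erase x).erase y with hR
  set Γ := Subgroup.closure ((SOn R : Subgroup (Cfsg.SU n F q)) ∪
      {h : Cfsg.SU n F q | ∃ z ∈ R, h ∈ SOn {x, y, z} ∧ act h (iso hF x y) = iso hF x y}) with hΓ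
  set u0 := iso hF x y with hu0
  have hu0out : ∀ i, i ≠ x → i ≠ y → u0 i = 0 := fun i h1 h2 => by
    simp [hu0, iso, Pi.single_eq_of_ne h1, Pi.single_eq_of_ne h2]
  have hRS : ∀ i, i ∈ R → i ∈ S ∧ i ≠ x ∧ i ≠ y := fun i hi => by
    simp only [hR, Finset.mem_erase] at hi
    exact ⟨hi.2.2, hi.2.1, hi.1⟩
  have hSR : ∀ i, i ∈ S → i ∉ R → i = x ∨ i = y := fun i hi hiR => by
    by_contra h
    simp only [not_or] at h
    exact hiR (by simp [hR, hi, h.1, h.2])
  suffices key : ∀ J : Finset (Fin n), J ⊆ R → ∀ g : Cfsg.SU n F q, g ∈ SOn S → act g u0 = u0 →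
      (∀ i ∈ R, i ∉ J → act g (Pi.single i 1) = Pi.single i 1) → g ∈ Γ from
    key R (Finset.Subset.refl R) g hg hfix fun i hi hi' => absurd hi hi'
  intro J
  induction J using Finset.strongInduction with
  | H J ih =>
    intro hJR g hg hfix hJ
    by_cases hJ1 : J.card ≤ 1
    · obtain ⟨z, hzR, hJz⟩ : ∃ z ∈ R, J ⊆ {z} := by
        rcases J.eq_empty_or_nonempty with rfl | ⟨j, hj⟩
        · obtain ⟨z, hz⟩ : R.Nonempty := Finset.card_pos.1 (by
            rw [hR, Finset.card_erase_of_mem (by simp [hy, hxy.symm]), Finset.card_erase_of_mem hx]; omega)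
          exact ⟨z, hz, Finset.empty_subset _⟩
        · exact ⟨j, hJR hj, fun i hi => Finset.mem_singleton.2 (Finset.card_le_one.1 hJ1 i hi j hj)⟩
      refine Subgroup.subset_closure (Or.inr ⟨z, hzR, fun i hi => ?_, hfix⟩)
      simp only [Finset.mem_insert, Finset.mem_singleton, not_or] at hi
      by_cases hiS : i ∈ S
      · by_cases hiR : i ∈ R
        · exact hJ i hiR fun h => hi.2.2 (Finset.mem_singleton.1 (hJz h))
        · rcases hSR i hiS hiR with e | e
          · exact absurd e hi.1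
          · exact absurd e hi.2.1
      · exact hg i hiS
    obtain ⟨j, hj⟩ : J.Nonempty := Finset.card_pos.1 (by omega)
    obtain ⟨hjS, hjx, hjy⟩ := hRS j (hJR hj)
    set v := act g (Pi.single j 1) with hv
    have hvS : ∀ i, i ∉ S → v i = 0 := supp_of_mem hF hg hjS
    have hvR : ∀ i ∈ R, i ∉ J → v i = 0 := fun i hi hiJ => by
      rw [← herm_single_right hq v i, ← hJ i hi hiJ, hv, act_herm, herm_single_right hq]
      exact Pi.single_eq_of_ne (fun e : i = j => hiJ (e ▸ hj)) _
    have hvu : v x + v y * th hF ^ q = 0 := by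
      have e : Cfsg.hermForm n F q v u0 = Cfsg.hermForm n F q (Pi.single j 1) u0 := by
        conv_lhs => rw [hv, ← hfix]
        exact act_herm g _ _
      have r : Cfsg.hermForm n F q (Pi.single j 1) u0 = 0 := by
        rw [herm_pair hq hjx (v := (Pi.single j (1:F) : Fin n → F)) fun i h1 _ => Pi.single_eq_of_ne h1 _]
        simp [hu0out j hjx hjy, Pi.single_eq_of_ne hjx.symm, zero_pow hq]
      rw [r, Cfsg.hermForm, Finset.sum_eq_add x y hxy
        (fun i _ hi => by rw [hu0out i hi.1 hi.2, zero_pow hq, mul_zero])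
        (fun h => absurd (Finset.mem_univ x) h) (fun h => absurd (Finset.mem_univ y) h)] at e
      simpa [hu0, iso, Pi.single_eq_of_ne hxy, Pi.single_eq_of_ne hxy.symm] using e
    set l := v x with hl
    set vJ := v - l • u0 with hvJ
    have hvy : v y = l * th hF := by
      have hth := th_norm hF
      linear_combination (v y) * hth - th hF * hvu
    have hsupp : ∀ i, i ∉ J → vJ i = 0 := fun i hi => by
      by_cases hix : i = x
      · subst hix; simp [hvJ, hl, hu0, iso, Pi.single_eq_of_ne hxy]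
      by_cases hiy : i = y
      · subst hiy; simp [hvJ, hu0, iso, Pi.single_eq_of_ne hxy.symm, hvy]
      have : vJ i = v i := by simp [hvJ, hu0out i hix hiy]
      rw [this]
      by_cases hiS : i ∈ S
      · exact hvR i (by simp [hR, hiS, hix, hiy]) hi
      · exact hvS i hiS
    have hortho : Cfsg.hermForm n F q vJ u0 = 0 := by
      refine Finset.sum_eq_zero fun i _ => ?_
      by_cases hi : i ∈ J
      · obtain ⟨-, h1, h2⟩ := hRS i (hJR hi)
        rw [hu0out i h1 h2, zero_pow hq, mul_zero]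
      · rw [hsupp i hi, zero_mul]
    have hvJn : Cfsg.hermForm n F q vJ vJ = 1 := by
      have e : v = vJ + l • u0 := by rw [hvJ, sub_add_cancel]
      have h1 : Cfsg.hermForm n F q v v = 1 := by rw [hv, act_herm, herm_unit hF]
      rw [e, hf.add_left, CfsgLib.MaxSub.herm_add_right hf, CfsgLib.MaxSub.herm_add_right hf,
        CfsgLib.MaxSub.herm_smul_right hf, CfsgLib.MaxSub.herm_smul_right hf, hf.smul_left, hf.smul_left, hortho,
        CfsgLib.MaxSub.herm_eq_zero_comm hf hortho, show Cfsg.hermForm n F q u0 u0 = 0 from iso_herm hF hxy] at h1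
      simpa using h1
    obtain ⟨h, hh, hhv⟩ := on_unit hF (show 2 ≤ J.card by omega) hsupp
      (fun i hi => single_out hj hi) hvJn (herm_unit hF j)
    have hhu : act h u0 = u0 := act_eq_self hq hh fun i hi => hu0out i (hRS i (hJR hi)).2.1 (hRS i (hJR hi)).2.2
    obtain ⟨e, he, heu, hej⟩ := exists_eichler hF hxy hjx hjy l
    have hhΓ : h ∈ Γ := Subgroup.subset_closure (Or.inl (SOn_mono hJR hh))
    have heΓ : e ∈ Γ := Subgroup.subset_closure (Or.inr ⟨j, hJR hj, he, heu⟩)
    have hsub : e * h * g ∈ Γ := by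
      refine ih (J.erase j) (Finset.erase_ssubset hj) ((Finset.erase_subset j J).trans hJR) _
        (mul_mem (mul_mem (SOn_mono ?_ he) (SOn_mono (fun i hi => (hRS i (hJR hi)).1) hh)) hg) ?_ fun i hi hiJ => ?_
      · intro i hi
        simp only [Finset.mem_insert, Finset.mem_singleton] at hi
        rcases hi with rfl | rfl | rfl <;> assumption
      · rw [act_mul, hfix, act_mul, hhu, heu]
      · by_cases hij : i = j
        · subst hij
          rw [act_mul, ← hv, act_mul, show v = vJ + l • u0 by rw [hvJ, sub_add_cancel], act_add, act_smul, hhv, hhu,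
            hej]
        · have hiJ' : i ∉ J := fun hh' => hiJ (Finset.mem_erase.2 ⟨hij, hh'⟩)
          rw [act_mul, hJ i hi hiJ', act_mul, hh i hiJ', he i (by
            obtain ⟨-, h1, h2⟩ := hRS i hi
            simp [h1, h2, hij])]
    simpa [mul_assoc] using mul_mem (mul_mem (inv_mem hhΓ) (inv_mem heΓ)) hsub

end CfsgLib.Pres.SUn
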