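import Cfsg.Agent.Lib.Pres.SUPerm

/-!
# Presentations of `SU_n` from a presentation of `SU_4` and the alternating group
-/

set_option autoImplicit false

namespace CfsgLib.Pres.SUn

open Matrix Equiv

variable {F : Type*} [Field F] [Fintype F] {q n : ℕ} (hF : Fintype.card F = q ^ 2)

/-- The first four coordinates. -/
def f0 (hn : 4 ≤ n) : Fin 4 ↪ Fin n := Fin.castLEEmb hn

/-- The first five coordinates. -/
def f5 (hn : 5 ≤ n) : Fin 5 ↪ Fin n := Fin.castLEEmb hn

/-- Generators of the setwise stabiliser of the first four coordinates. -/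
theorem stab_four (hn : 4 ≤ n) : ∃ s : Fin 5 → alternatingGroup (Fin n),
    (∀ i, (Finset.univ.map (f0 hn)).map ((s i : Perm (Fin n))).toEmbedding = Finset.univ.map (f0 hn)) ∧
    ∀ σ : alternatingGroup (Fin n),
      (Finset.univ.map (f0 hn)).map (σ : Perm (Fin n)).toEmbedding = Finset.univ.map (f0 hn) →
        σ ∈ Subgroup.closure (Set.range s) := by
  classical
  let p : Fin n → Prop := fun x => (x : ℕ) < 4
  let e1 : Fin 4 ≃ {x : Fin n // p x} :=
    { toFun := fun i => ⟨⟨i, by omega⟩, i.2⟩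
      invFun := fun x => ⟨x.1, x.2⟩
      left_inv := fun i => rfl
      right_inv := fun x => rfl }
  let e2 : Fin (n - 4) ≃ {x : Fin n // ¬ p x} :=
    { toFun := fun i => ⟨⟨i + 4, by omega⟩, by simp [p]⟩
      invFun := fun x => ⟨(x.1 : ℕ) - 4, by have := x.2; simp only [p, not_lt] at this; omega⟩
      left_inv := fun i => by ext; simp
      right_inv := fun x => by ext; have := x.2; simp only [p, not_lt] at this; simp; omega }
  have mk : ∀ {m : ℕ} (r : Fin n → Prop) [DecidablePred r] (e : Fin m ≃ {x : Fin n // r x}),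
      ∃ ρ : alternatingGroup (Fin m) →* alternatingGroup (Fin n),
        ∀ π, (ρ π : Perm (Fin n)) = Perm.ofSubtype (e.permCongr π) := fun r _ e =>
    ⟨((Perm.ofSubtype.comp e.permCongrHom.toMonoidHom).comp (alternatingGroup _).subtype).codRestrict _ fun π => by
      refine Perm.mem_alternatingGroup.2 ?_
      show Perm.sign (Perm.ofSubtype (e.permCongr (π : Perm _))) = 1
      rw [Perm.sign_ofSubtype, Perm.sign_permCongr]
      exact Perm.mem_alternatingGroup.1 π.2, fun π => rfl⟩
  obtain ⟨ρ1, hρ1⟩ := mk p e1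
  obtain ⟨ρ2, hρ2⟩ := mk (fun x => ¬ p x) e2
  obtain ⟨a, ha, -⟩ := Short.hasPres_alt_all 4
  obtain ⟨b, hb, -⟩ := Short.hasPres_alt_all (n - 4)
  have hset : ∀ σ : Perm (Fin n), (Finset.univ.map (f0 hn)).map σ.toEmbedding = Finset.univ.map (f0 hn) ↔
      ∀ x, p (σ x) ↔ p x := by
    intro σ
    have hmem : ∀ x, x ∈ Finset.univ.map (f0 hn) ↔ p x := fun x =>
      ⟨fun h => by obtain ⟨i, -, rfl⟩ := Finset.mem_map.1 h; exact i.2,
       fun h => Finset.mem_map.2 ⟨⟨x, h⟩, Finset.mem_univ _, rfl⟩⟩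
    constructor
    · intro h x
      have hx : x ∈ Finset.univ.map (f0 hn) ↔ σ x ∈ (Finset.univ.map (f0 hn)).map σ.toEmbedding :=
        (Finset.mem_map' σ.toEmbedding).symm
      rw [h, hmem, hmem] at hx
      exact hx.symm
    · intro h
      ext y
      obtain ⟨x, rfl⟩ := σ.surjective y
      rw [show σ x = σ.toEmbedding x from rfl, Finset.mem_map', hmem, hmem]
      exact (h x).symm
  obtain ⟨t, ht, htpar⟩ : ∃ t : alternatingGroup (Fin n), (∀ x, p ((t : Perm (Fin n)) x) ↔ p x) ∧
      ((∀ y : {x : Fin n // ¬ p x}, ∀ z, y = z) ∨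
        ∀ h : ∀ x, p ((t : Perm (Fin n)) x) ↔ p x, Perm.sign ((t : Perm (Fin n)).subtypePerm h) = -1) := by
    by_cases h6 : 6 ≤ n
    · let c4 : Fin n := ⟨4, by omega⟩
      let c5 : Fin n := ⟨5, by omega⟩
      let c0 : Fin n := ⟨0, by omega⟩
      let c1 : Fin n := ⟨1, by omega⟩
      have h01 : c0 ≠ c1 := by simp [c0, c1]
      have h45 : c4 ≠ c5 := by simp [c4, c5]
      refine ⟨⟨swap c0 c1 * swap c4 c5, Perm.mem_alternatingGroup.2 (by
        rw [map_mul, Perm.sign_swap h01, Perm.sign_swap h45]; rfl)⟩, fun x => ?_, Or.inr fun h => ?_⟩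
      · have hsw : ∀ a b : Fin n, (p a ↔ p b) → ∀ z, p (swap a b z) ↔ p z := fun a b hab z => by
          rcases eq_or_ne z a with rfl | hza
          · rw [swap_apply_left]; exact hab.symm
          · rcases eq_or_ne z b with rfl | hzb
            · rw [swap_apply_right]; exact hab
            · rw [swap_apply_of_ne_of_ne hza hzb]
        show p (swap c0 c1 (swap c4 c5 x)) ↔ p x
        exact (hsw c0 c1 (by simp [p, c0, c1]) _).trans (hsw c4 c5 (by simp [p, c4, c5]) x)
      · have : (swap c0 c1 * swap c4 c5 : Perm (Fin n)).subtypePerm h =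
            swap (⟨c0, by simp [p, c0]⟩ : {x // p x}) ⟨c1, by simp [p, c1]⟩ := by
          refine Equiv.ext fun x => Subtype.ext ?_
          show swap c0 c1 (swap c4 c5 x.1) = _
          have hx : (x.1 : ℕ) < 4 := x.2
          rw [swap_apply_of_ne_of_ne (a := c4) (fun e => by rw [e] at hx; simp [c4] at hx)
            (fun e => by rw [e] at hx; simp [c5] at hx)]
          exact Subtype.val_injective.swap_apply (⟨c0, by simp [p, c0]⟩ : {x // p x}) ⟨c1, by simp [p, c1]⟩ x
        show Perm.sign ((swap c0 c1 * swap c4 c5 : Perm (Fin n)).subtypePerm h) = -1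
        rw [this, Perm.sign_swap (by simp [h01])]
    · refine ⟨1, fun x => Iff.rfl, Or.inl fun y z => ?_⟩
      have h1 := y.2; have h2 := z.2
      simp only [p, not_lt] at h1 h2
      exact Subtype.ext (Fin.ext (by omega))
  refine ⟨![ρ1 (a 0), ρ1 (a 1), ρ2 (b 0), ρ2 (b 1), t], fun i => (hset _).2 ?_, fun σ hσ => ?_⟩
  · have h1 : ∀ π x, p ((ρ1 π : Perm (Fin n)) x) ↔ p x := fun π x => by
      rw [hρ1]; exact Perm.ofSubtype_apply_mem_iff_mem (p := p) (e1.permCongr (π : Perm (Fin 4))) x
    have h2 : ∀ π x, p ((ρ2 π : Perm (Fin n)) x) ↔ p x := fun π x => by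
      rw [hρ2]
      exact not_iff_not.1
        (Perm.ofSubtype_apply_mem_iff_mem (p := fun y => ¬ p y) (e2.permCongr (π : Perm (Fin (n - 4)))) x)
    fin_cases i
    exacts [h1 _, h1 _, h2 _, h2 _, ht]
  · set Γ := Subgroup.closure (Set.range ![ρ1 (a 0), ρ1 (a 1), ρ2 (b 0), ρ2 (b 1), t])
    have hρmem1 : ∀ π, ρ1 π ∈ Γ := fun π => by
      refine (Subgroup.closure_le (Γ.comap ρ1)).2 ?_ (ha.ge (Subgroup.mem_top π))
      rintro _ ⟨i, rfl⟩
      fin_cases i
      exacts [Subgroup.subset_closure ⟨0, rfl⟩, Subgroup.subset_closure ⟨1, rfl⟩]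
    have hρmem2 : ∀ π, ρ2 π ∈ Γ := fun π => by
      refine (Subgroup.closure_le (Γ.comap ρ2)).2 ?_ (hb.ge (Subgroup.mem_top π))
      rintro _ ⟨i, rfl⟩
      fin_cases i
      exacts [Subgroup.subset_closure ⟨2, rfl⟩, Subgroup.subset_closure ⟨3, rfl⟩]
    have htmem : t ∈ Γ := Subgroup.subset_closure ⟨4, rfl⟩
    have even : ∀ τ : alternatingGroup (Fin n), ∀ h : ∀ x, p ((τ : Perm (Fin n)) x) ↔ p x,
        Perm.sign ((τ : Perm (Fin n)).subtypePerm h) = 1 → τ ∈ Γ := by
      intro τ h hs
      have h' : ∀ x, ¬ p ((τ : Perm (Fin n)) x) ↔ ¬ p x := fun x => not_congr (h x)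
      set π1 := (τ : Perm (Fin n)).subtypePerm h
      set π2 := (τ : Perm (Fin n)).subtypePerm (p := fun x => ¬ p x) h'
      have hdec : (τ : Perm (Fin n)) = Perm.ofSubtype π1 * Perm.ofSubtype π2 := by
        refine Equiv.ext fun x => ?_
        rw [Perm.mul_apply]
        by_cases hx : p x
        · rw [Perm.ofSubtype_apply_of_not_mem π2 (not_not.2 hx)]
          exact (Perm.ofSubtype_subtypePerm_of_mem h hx).symm
        · rw [Perm.ofSubtype_subtypePerm_of_mem (p := fun x => ¬ p x) h' hx,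
            Perm.ofSubtype_apply_of_not_mem π1 ((h x).not.2 hx)]
      have hs2 : Perm.sign π2 = 1 := by
        have h0 : Perm.sign (τ : Perm (Fin n)) = 1 := Perm.mem_alternatingGroup.1 τ.2
        rw [hdec, map_mul, Perm.sign_ofSubtype, Perm.sign_ofSubtype, hs, one_mul] at h0
        exact h0
      have : τ = ρ1 ⟨e1.symm.permCongr π1, Perm.mem_alternatingGroup.2 (by rw [Perm.sign_permCongr, hs])⟩ *
          ρ2 ⟨e2.symm.permCongr π2, Perm.mem_alternatingGroup.2 (by rw [Perm.sign_permCongr, hs2])⟩ := by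
        refine Subtype.ext ?_
        rw [Subgroup.coe_mul, hρ1, hρ2, hdec]
        congr 2 <;> · refine Equiv.ext fun x => ?_; simp
      rw [this]
      exact mul_mem (hρmem1 _) (hρmem2 _)
    have hσp := (hset _).1 hσ
    rcases Int.units_eq_one_or (Perm.sign ((σ : Perm (Fin n)).subtypePerm hσp)) with hs | hs
    · exact even σ hσp hs
    · rcases htpar with hsub | hneg
      · have h' : ∀ x, ¬ p ((σ : Perm (Fin n)) x) ↔ ¬ p x := fun x => not_congr (hσp x)
        have hid : ∀ x, ¬ p x → (σ : Perm (Fin n)) x = x := fun x hx =>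
          congrArg Subtype.val (hsub ⟨_, (h' x).2 hx⟩ ⟨x, hx⟩)
        have h0 : Perm.sign (σ : Perm (Fin n)) = 1 := Perm.mem_alternatingGroup.1 σ.2
        rw [← Perm.ofSubtype_subtypePerm hσp (fun x hx => by_contra fun hh => hx (hid x hh)),
          Perm.sign_ofSubtype, hs] at h0
        exact absurd h0 (by decide)
      · have hσt : ∀ x, p (((σ * t : alternatingGroup (Fin n)) : Perm (Fin n)) x) ↔ p x := fun x =>
          (hσp _).trans (ht x)
        have h1 : Perm.sign (((σ * t : alternatingGroup (Fin n)) : Perm (Fin n)).subtypePerm hσt) = 1 := by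
          have : ((σ * t : alternatingGroup (Fin n)) : Perm (Fin n)).subtypePerm hσt =
              (σ : Perm (Fin n)).subtypePerm hσp * (t : Perm (Fin n)).subtypePerm ht := by
            refine Equiv.ext fun x => Subtype.ext ?_
            rfl
          rw [this, map_mul, hs, hneg ht]
          rfl
        simpa using mul_mem (even _ hσt h1) (inv_mem htmem)

/-- Every four-element set is an even image of the first four coordinates. -/
theorem exists_to_four (hn : 4 ≤ n) {T : Finset (Fin n)} (hT : T.card = 4) :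
    ∃ σ : alternatingGroup (Fin n), (Finset.univ.map (f0 hn)).map (σ : Perm (Fin n)).toEmbedding = T := by
  classical
  let g : Fin 4 ↪ Fin n := (T.orderEmbOfFin hT).toEmbedding
  have hg : Finset.univ.map g = T := by simp [g]
  obtain ⟨σ, h | h⟩ := exists_even_map (f0 hn) g 0 1 (by decide)
  · exact ⟨σ, by rw [Finset.map_map, h, hg]⟩
  · exact ⟨σ, by rw [Finset.map_map, h, ← Finset.map_map, Finset.map_univ_equiv, hg]⟩

/-- Two sets meeting in three coordinates. -/
theorem exists_adjacent (hn : 5 ≤ n) {T T' : Finset (Fin n)} (hT : T.card = 4) (hT' : T'.card = 4)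
    (hTT : (T ∩ T').card = 3) :
    ∃ σ : alternatingGroup (Fin n),
      (Finset.univ.map (f0 (le_trans (show 4 ≤ 5 by norm_num) hn))).map (σ : Perm (Fin n)).toEmbedding = T ∧
      ((({1, 2, 3, 4} : Finset (Fin 5))).map (f5 hn)).map (σ : Perm (Fin n)).toEmbedding = T' ∧
      ((({1, 2, 3} : Finset (Fin 5))).map (f5 hn)).map (σ : Perm (Fin n)).toEmbedding = T ∩ T' := by
  classical
  obtain ⟨x, hx⟩ := Finset.card_eq_one.1 (show (T \ T').card = 1 by
    have := Finset.card_sdiff_add_card_inter T T'; omega)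
  obtain ⟨y, hy⟩ := Finset.card_eq_one.1 (show (T' \ T).card = 1 by
    have := Finset.card_sdiff_add_card_inter T' T; rw [Finset.inter_comm] at this; omega)
  obtain ⟨a, b, c, hab, hac, hbc, habc⟩ := Finset.card_eq_three.1 hTT
  have hxT := (Finset.mem_sdiff.1 (hx.ge (Finset.mem_singleton_self x)))
  have hyT := (Finset.mem_sdiff.1 (hy.ge (Finset.mem_singleton_self y)))
  have hI : ∀ z, z ∈ ({a, b, c} : Finset (Fin n)) → z ∈ T ∧ z ∈ T' := fun z hz =>
    Finset.mem_inter.1 (habc.ge hz)
  have hxn : x ∉ ({a, b, c} : Finset (Fin n)) := fun h => hxT.2 (hI x h).2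
  have hyn : y ∉ ({a, b, c} : Finset (Fin n)) := fun h => hyT.2 (hI y h).1
  have hxy : x ≠ y := fun e => hxT.2 (e ▸ hyT.1)
  simp only [Finset.mem_insert, Finset.mem_singleton, not_or] at hxn hyn
  let g : Fin 5 ↪ Fin n := ⟨![x, a, b, c, y], by
    intro i j h
    fin_cases i <;> fin_cases j <;>
      simp_all [Ne.symm hxn.1, Ne.symm hxn.2.1, Ne.symm hxn.2.2, hab.symm, hac.symm, hbc.symm, hxy.symm,
        Ne.symm hyn.1, Ne.symm hyn.2.1, Ne.symm hyn.2.2]⟩
  have hTe : T = {x, a, b, c} := by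
    rw [← Finset.sdiff_union_inter T T', hx, habc]; rfl
  have hT'e : T' = {a, b, c, y} := by
    rw [← Finset.sdiff_union_inter T' T, hy, Finset.inter_comm, habc]
    ext z; simp; tauto
  have hf0 : Finset.univ.map (f0 (show 4 ≤ n by omega)) = (({0, 1, 2, 3} : Finset (Fin 5))).map (f5 hn) := by
    rw [show ({0, 1, 2, 3} : Finset (Fin 5)) = Finset.univ.map (Fin.castLEEmb (show 4 ≤ 5 by norm_num)) by decide,
      Finset.map_map]
    rfl
  obtain ⟨σ, h | h⟩ := exists_even_map (f5 hn) g 1 2 (by decide)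
  · refine ⟨σ, ?_, ?_, ?_⟩
    · rw [hf0, Finset.map_map, h, hTe]; simp only [Finset.map_insert, Finset.map_singleton]; rfl
    · rw [Finset.map_map, h, hT'e]; simp only [Finset.map_insert, Finset.map_singleton]; rfl
    · rw [Finset.map_map, h, habc]; simp only [Finset.map_insert, Finset.map_singleton]; rfl
  · refine ⟨σ, ?_, ?_, ?_⟩
    · rw [hf0, Finset.map_map, h, hTe, ← Finset.map_map,
        show (({0, 1, 2, 3} : Finset (Fin 5))).map (Equiv.swap (1 : Fin 5) 2).toEmbedding = {0, 1, 2, 3} by decide]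
      simp only [Finset.map_insert, Finset.map_singleton]; rfl
    · rw [Finset.map_map, h, hT'e, ← Finset.map_map,
        show (({1, 2, 3, 4} : Finset (Fin 5))).map (Equiv.swap (1 : Fin 5) 2).toEmbedding = {1, 2, 3, 4} by decide]
      simp only [Finset.map_insert, Finset.map_singleton]; rfl
    · rw [Finset.map_map, h, habc, ← Finset.map_map,
        show (({1, 2, 3} : Finset (Fin 5))).map (Equiv.swap (1 : Fin 5) 2).toEmbedding = {1, 2, 3} by decide]
      simp only [Finset.map_insert, Finset.map_singleton]; rfl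

end CfsgLib.Pres.SUn
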