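import Cfsg.Agent.Lib.Pres.SUGen
import Cfsg.Agent.Lib.Pres.SUFourModel

/-!
# For `q ≥ 3` a three-coordinate block is generated by its two-coordinate blocks
-/

set_option autoImplicit false

namespace CfsgLib.Pres.SUn

open Matrix
open CfsgLib.Classical (qFrob qFrob_apply qFrob_qFrob)

variable {F : Type*} [Field F] [Fintype F] {q n : ℕ} (hF : Fintype.card F = q ^ 2)

include hF in
theorem herm_two {x y : Fin n} (hxy : x ≠ y) (s t : F) :
    Cfsg.hermForm n F q (s • Pi.single x 1 + t • Pi.single y 1) (s • Pi.single x 1 + t • Pi.single y 1) =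
      s * s ^ q + t * t ^ q := by
  have hq := q_ne_zero hF
  rw [Cfsg.hermForm, Finset.sum_eq_add x y hxy]
  · simp [Pi.single_eq_of_ne hxy, Pi.single_eq_of_ne hxy.symm]
  · intro i _ hi
    simp [Pi.single_eq_of_ne hi.1, Pi.single_eq_of_ne hi.2, zero_pow hq]
  · simp
  · simp

include hF in
/-- The pair blocks generate. -/
theorem gen_pairs (hq3 : 3 ≤ q) {R : Finset (Fin n)} (hR : R.card = 3) :
    (SOn R : Subgroup (Cfsg.SU n F q)) ≤
      Subgroup.closure {g | ∃ P : Finset (Fin n), P ⊆ R ∧ P.card = 2 ∧ g ∈ SOn P} := by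
  classical
  set H := Subgroup.closure {g : Cfsg.SU n F q | ∃ P : Finset (Fin n), P ⊆ R ∧ P.card = 2 ∧ g ∈ SOn P}
  obtain ⟨a, b, c, hab, hac, hbc, rfl⟩ := Finset.card_eq_three.1 hR
  have hq := q_ne_zero hF
  have hpair : ∀ {x y : Fin n}, x ∈ ({a, b, c} : Finset (Fin n)) → y ∈ ({a, b, c} : Finset (Fin n)) → x ≠ y →
      (SOn {x, y} : Subgroup (Cfsg.SU n F q)) ≤ H := fun {x y} hx hy hxy g hg =>
    Subgroup.subset_closure ⟨{x, y}, Finset.insert_subset hx (Finset.singleton_subset_iff.2 hy),
      Finset.card_pair hxy, hg⟩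
  have sout : ∀ {x y : Fin n} (s t : F) (i : Fin n), i ∉ ({x, y} : Finset (Fin n)) →
      (s • Pi.single x 1 + t • Pi.single y 1 : Fin n → F) i = 0 := fun {x y} s t i hi => by
    simp only [Finset.mem_insert, Finset.mem_singleton, not_or] at hi
    simp [Pi.single_eq_of_ne hi.1, Pi.single_eq_of_ne hi.2]
  let O : Set (Fin n → F) := {v | ∃ h ∈ H, act h (Pi.single c 1) = v}
  have hO : ∀ g ∈ H, ∀ v ∈ O, act g v ∈ O := by
    rintro g hg _ ⟨h, hh, rfl⟩
    exact ⟨g * h, mul_mem hg hh, act_mul _ _ _⟩
  have hc : (Pi.single c 1 : Fin n → F) ∈ O := ⟨1, one_mem _, act_one _⟩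
  have base : ∀ x ∈ ({a, b, c} : Finset (Fin n)), (Pi.single x 1 : Fin n → F) ∈ O := by
    intro x hx
    rcases eq_or_ne x c with rfl | hxc
    · exact hc
    obtain ⟨g, hg, e⟩ := on_two hF (Finset.card_pair hxc.symm)
      (fun i hi => single_out (F := F) (T := {c, x}) (by simp) hi)
      (fun i hi => single_out (F := F) (T := {c, x}) (by simp) hi) (herm_unit hF c) (herm_unit hF x)
    exact ⟨g, hpair (by simp) hx hxc.symm hg, e⟩
  have two : ∀ x ∈ ({a, b, c} : Finset (Fin n)), ∀ y ∈ ({a, b, c} : Finset (Fin n)), x ≠ y → ∀ s t : F,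
      s * s ^ q + t * t ^ q = 1 → (s • Pi.single x 1 + t • Pi.single y 1 : Fin n → F) ∈ O := by
    intro x hx y hy hxy s t hst
    obtain ⟨g, hg, e⟩ := on_two hF (Finset.card_pair hxy)
      (fun i hi => single_out (F := F) (T := {x, y}) (by simp) hi) (sout s t) (herm_unit hF x)
      (by rw [herm_two hF hxy, hst])
    rw [← e]
    exact hO g (hpair hx hy hxy hg) _ (base x hx)
  -- a pair with nonzero sum
  have step : ∀ x y z : Fin n, x ≠ y → x ≠ z → y ≠ z → ({x, y, z} : Finset (Fin n)) = {a, b, c} → ∀ r s t : F,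
      r * r ^ q + s * s ^ q + t * t ^ q = 1 → r * r ^ q + s * s ^ q ≠ 0 →
      (r • Pi.single x 1 + s • Pi.single y 1 + t • Pi.single z 1 : Fin n → F) ∈ O := by
    intro x y z hxy hxz hyz hset r s t hsum hne
    have hx : x ∈ ({a, b, c} : Finset (Fin n)) := hset ▸ by simp
    have hy : y ∈ ({a, b, c} : Finset (Fin n)) := hset ▸ by simp
    have hz : z ∈ ({a, b, c} : Finset (Fin n)) := hset ▸ by simp
    obtain ⟨l, hl⟩ := exists_norm hF (a := r * r ^ q + s * s ^ q) (by
      rw [← qFrob_apply hF, map_add, map_mul, map_mul, qFrob_apply, qFrob_apply, qFrob_apply, qFrob_apply,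
        frob_frob hF, frob_frob hF]
      ring)
    have hl0 : l ≠ 0 := fun e => hne (by rw [← hl, e, zero_mul])
    obtain ⟨g, hg, e⟩ := on_two hF (Finset.card_pair hxy)
      (fun i hi => single_out (F := F) (T := {x, y}) (by simp) hi) (sout (r / l) (s / l)) (herm_unit hF x)
      (by
        rw [herm_two hF hxy, div_pow, div_pow]
        have : l ^ q ≠ 0 := pow_ne_zero _ hl0
        field_simp
        linear_combination -hl)
    have key : act g (l • Pi.single x 1 + t • Pi.single z 1) =
        r • Pi.single x 1 + s • Pi.single y 1 + t • Pi.single z 1 := by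
      rw [act_add, act_smul, act_smul, e, act_eq_self hq hg (v := Pi.single z 1) (fun i hi => ?_), smul_add,
        smul_smul, smul_smul, mul_div_cancel₀ r hl0, mul_div_cancel₀ s hl0]
      simp only [Finset.mem_insert, Finset.mem_singleton] at hi
      rcases hi with rfl | rfl <;> simp [hxz, hyz]
    rw [← key]
    exact hO g (hpair hx hy hxy hg) _ (two x hx z hz hxz l t (by rw [hl]; linear_combination hsum))
  -- every unit vector
  have main : ∀ r s t : F, r * r ^ q + s * s ^ q + t * t ^ q = 1 →
      (r • Pi.single a 1 + s • Pi.single b 1 + t • Pi.single c 1 : Fin n → F) ∈ O := by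
    intro r s t hsum
    by_cases h1 : r * r ^ q + s * s ^ q = 0
    swap
    · exact step a b c hab hac hbc rfl r s t hsum h1
    by_cases h2 : r * r ^ q + t * t ^ q = 0
    swap
    · have := step a c b hac hab hbc.symm (by ext i; simp; tauto) r t s (by linear_combination hsum) h2
      rwa [add_right_comm] at this
    by_cases h3 : s * s ^ q + t * t ^ q = 0
    swap
    · have := step b c a hbc hab.symm hac.symm (by ext i; simp; tauto) s t r (by linear_combination hsum) h3
      rwa [add_comm (s • _ + t • _), ← add_assoc] at this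
    have hr1 : r * r ^ q = 1 := by linear_combination hsum - h3
    have hs1 : s * s ^ q = 1 := by linear_combination hsum - h2
    have ht1 : t * t ^ q = 1 := by linear_combination hsum - h1
    have hch : (2 : F) = 0 := by linear_combination h1 - hr1 - hs1
    -- an element of nonzero trace whose norm is not one
    obtain ⟨ρ, hρT, hρN⟩ : ∃ ρ : F, ρ + ρ ^ q ≠ 0 ∧ ρ * ρ ^ q ≠ 1 := by
      obtain ⟨w, hw⟩ := Classical.exists_qFrob_trace_one hF
      rw [qFrob_apply] at hw
      by_cases hwN : w * w ^ q = 1
      swap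
      · exact ⟨w, by rw [hw]; exact one_ne_zero, hwN⟩
      obtain ⟨k, hk⟩ : ∃ k : (SUFour.Kf hF), k ≠ 0 ∧ k ≠ 1 := by
        by_contra hcon
        push_neg at hcon
        have hle : Nat.card (SUFour.Kf hF) ≤ 2 := by
          let f : Bool → SUFour.Kf hF := fun i => if i then 1 else 0
          have : Function.Surjective f := fun k => by
            by_cases hk0 : k = 0
            · exact ⟨false, by simp [f, hk0]⟩
            · exact ⟨true, by simp [f, hcon k hk0]⟩
          simpa using Nat.card_le_card_of_surjective f this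
        rw [SUFour.card_Kf] at hle
        omega
      have hkq : (k : F) ^ q = k := by rw [← qFrob_apply hF]; exact k.2
      refine ⟨k * w, ?_, ?_⟩
      · rw [mul_pow, hkq, ← mul_add, hw, mul_one]
        exact fun e => hk.1 (Subtype.ext e)
      · rw [mul_pow, hkq]
        intro e
        have e' : ((k : F) - 1) * ((k : F) - 1) = 0 := by
          linear_combination e - (k : F) * (k : F) * hwN - ((k : F) - 1) * hch
        exact hk.2 (Subtype.ext (sub_eq_zero.1 (mul_self_eq_zero.1 e')))
    have hd : (1 : F) + ρ * ρ ^ q ≠ 0 := fun e => hρN (by linear_combination e - hch)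
    obtain ⟨α, hα⟩ := exists_norm hF (a := (1 + ρ * ρ ^ q)⁻¹) (by
      rw [inv_pow, ← qFrob_apply hF, map_add, map_one, map_mul, qFrob_apply, qFrob_apply, frob_frob hF, mul_comm ρ])
    have hα' : α * α ^ q * (1 + ρ * ρ ^ q) = 1 := by rw [hα, inv_mul_cancel₀ hd]
    set u : Fin n → F := (r * α) • Pi.single a 1 + (s * (α * ρ)) • Pi.single b 1 with hu
    obtain ⟨g, hg, e⟩ := on_two hF (Finset.card_pair hab)
      (fun i hi => single_out (F := F) (T := {a, b}) (by simp) hi) (sout _ _) (herm_unit hF a)
      (show Cfsg.hermForm n F q u u = 1 by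
        rw [hu, herm_two hF hab, mul_pow, mul_pow, mul_pow]
        linear_combination hα' + α * α ^ q * hr1 + α * α ^ q * (ρ * ρ ^ q) * hs1)
    set v : Fin n → F := r • Pi.single a 1 + s • Pi.single b 1 + t • Pi.single c 1 with hv
    set v' := act g⁻¹ v with hv'
    have hgR : g⁻¹ ∈ (SOn {a, b} : Subgroup (Cfsg.SU n F q)) := inv_mem hg
    have va : v' a = α ^ q + (α * ρ) ^ q := by
      have h := act_herm g⁻¹ v u
      rw [← hv', show act g⁻¹ u = Pi.single a 1 by rw [hu, ← e, act_inv_act], herm_single_right hq] at h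
      rw [h, Cfsg.hermForm, Finset.sum_eq_add a b hab]
      · simp only [hv, hu, Pi.add_apply, Pi.smul_apply, smul_eq_mul, Pi.single_eq_same, Pi.single_eq_of_ne hab,
          Pi.single_eq_of_ne hab.symm, Pi.single_eq_of_ne hac, Pi.single_eq_of_ne hbc, mul_zero, mul_one, add_zero,
          zero_add, mul_pow]
        linear_combination α ^ q * hr1 + α ^ q * ρ ^ q * hs1
      · intro i _ hi
        simp [hu, Pi.single_eq_of_ne hi.1, Pi.single_eq_of_ne hi.2, zero_pow hq]
      · simp
      · simp
    have vc : v' c = t := by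
      rw [hv', act_apply_out hq hgR v (by simp [hac.symm, hbc.symm])]
      simp [hv, Pi.single_eq_of_ne hac.symm, Pi.single_eq_of_ne hbc.symm]
    have hsup : ∀ i, i ∉ ({a, b, c} : Finset (Fin n)) → v' i = 0 := fun i hi => by
      rw [hv', act_apply_out hq hgR v (fun h => hi (by simp at h ⊢; tauto))]
      simp only [Finset.mem_insert, Finset.mem_singleton, not_or] at hi
      simp [hv, Pi.single_eq_of_ne hi.1, Pi.single_eq_of_ne hi.2.1, Pi.single_eq_of_ne hi.2.2]
    have hdec : v' = v' a • Pi.single a 1 + v' b • Pi.single b 1 + v' c • Pi.single c 1 := by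
      funext i
      by_cases hia : i = a
      · subst hia; simp [hab, hac]
      by_cases hib : i = b
      · subst hib; simp [hab.symm, hbc]
      by_cases hic : i = c
      · subst hic; simp [hac.symm, hbc.symm]
      simp [hia, hib, hic, hsup i (by simp [hia, hib, hic])]
    have hnorm : v' a * v' a ^ q + v' b * v' b ^ q + v' c * v' c ^ q = 1 := by
      have h : Cfsg.hermForm n F q v v = 1 := by
        rw [hv, Cfsg.hermForm, ← Finset.sum_subset (Finset.subset_univ ({a, b, c} : Finset (Fin n))) (fun i _ hi => by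
          simp only [Finset.mem_insert, Finset.mem_singleton, not_or] at hi
          simp [Pi.single_eq_of_ne hi.1, Pi.single_eq_of_ne hi.2.1, Pi.single_eq_of_ne hi.2.2])]
        rw [Finset.sum_insert (by simp [hab, hac]), Finset.sum_pair hbc]
        simp [Pi.single_eq_of_ne hab, Pi.single_eq_of_ne hab.symm, Pi.single_eq_of_ne hac,
          Pi.single_eq_of_ne hac.symm, Pi.single_eq_of_ne hbc, Pi.single_eq_of_ne hbc.symm]
        linear_combination hsum
      rw [← act_herm g⁻¹, ← hv', Cfsg.hermForm, ← Finset.sum_subset (Finset.subset_univ ({a, b, c} : Finset (Fin n)))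
        (fun i _ hi => by simp [hsup i hi, zero_pow hq]), Finset.sum_insert (by simp [hab, hac]),
        Finset.sum_pair hbc] at h
      linear_combination h
    have hne : v' a * v' a ^ q + v' c * v' c ^ q ≠ 0 := by
      rw [vc, va, ← qFrob_apply hF (x := α ^ q + _), map_add, qFrob_apply, qFrob_apply, frob_frob hF, frob_frob hF,
        ht1, mul_pow]
      intro h0
      refine hρT ?_
      have h4 : α * α ^ q * (ρ + ρ ^ q) = 0 := by linear_combination h0 - hα' - hch
      exact (mul_eq_zero.1 h4).resolve_left (by rw [hα]; exact inv_ne_zero hd)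
    have hv'O : v' ∈ O := by
      rw [hdec]
      have := step a c b hac hab hbc.symm (by ext i; simp; tauto) (v' a) (v' c) (v' b)
        (by linear_combination hnorm) hne
      rwa [add_right_comm] at this
    have := hO g (hpair (by simp) (by simp) hab hg) _ hv'O
    rwa [hv', act_act_inv] at this
  intro g hg
  set v := act g (Pi.single c 1)
  have hvs : ∀ i, i ∉ ({a, b, c} : Finset (Fin n)) → v i = 0 := supp_of_mem hF hg (by simp)
  have hdec : v = v a • Pi.single a 1 + v b • Pi.single b 1 + v c • Pi.single c 1 := by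
    funext i
    by_cases hia : i = a
    · subst hia; simp [hab, hac]
    by_cases hib : i = b
    · subst hib; simp [hab.symm, hbc]
    by_cases hic : i = c
    · subst hic; simp [hac.symm, hbc.symm]
    simp [hia, hib, hic, hvs i (by simp [hia, hib, hic])]
  have hnorm : v a * v a ^ q + v b * v b ^ q + v c * v c ^ q = 1 := by
    have h := (act_herm g (Pi.single c 1) (Pi.single c 1)).trans (herm_unit hF c)
    rw [Cfsg.hermForm, ← Finset.sum_subset (Finset.subset_univ ({a, b, c} : Finset (Fin n)))
      (fun i _ hi => by simp [v, hvs i hi, zero_pow hq]), Finset.sum_insert (by simp [hab, hac]),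
      Finset.sum_pair hbc] at h
    linear_combination h
  have hv : v ∈ O := hdec ▸ main _ _ _ hnorm
  obtain ⟨h, hh, e⟩ := hv
  have hHR : H ≤ SOn {a, b, c} := (Subgroup.closure_le _).2 fun x ⟨P, hP, _, hx⟩ => SOn_mono hP hx
  have hfix : h⁻¹ * g ∈ (SOn {a, b} : Subgroup (Cfsg.SU n F q)) := fun i hi => by
    by_cases hic : i = c
    · subst hic; rw [act_mul, show act g (Pi.single i 1) = v from rfl, ← e, act_inv_act]
    · exact (mul_mem (inv_mem (hHR hh)) hg) i (by simp at hi ⊢; tauto)
  simpa using mul_mem hh (hpair (by simp) (by simp) hab hfix)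

end CfsgLib.Pres.SUn
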