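import Cfsg.Agent.Lib.Pres.SUGlue

/-!
# Few generators for the setwise stabiliser of four coordinates
-/

set_option autoImplicit false

namespace CfsgLib.Pres.SUn

open Equiv

/-- A three-cycle and a second one with another support generate the even permutations of four points. -/
theorem four_even (H : Subgroup (Perm (Fin 4))) (c d : Perm (Fin 4)) (hc : c ∈ H) (hd : d ∈ H) (w : List (List Bool))
    (hw : ∀ π : Perm (Fin 4), Perm.sign π = 1 → ∃ l ∈ w, (l.map fun b => if b then c else d).prod = π)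
    {π : Perm (Fin 4)} (hπ : Perm.sign π = 1) : π ∈ H := by
  obtain ⟨l, -, rfl⟩ := hw π hπ
  refine Subgroup.list_prod_mem _ fun x hx => ?_
  obtain ⟨b, -, rfl⟩ := List.mem_map.1 hx
  cases b
  · exact hd
  · exact hc

/-- Words of length at most four. -/
def words4 : List (List Bool) :=
  [[], [true], [false], [true, true], [true, false], [false, true], [false, false]] ++
    ([[true, true], [true, false], [false, true], [false, false]].flatMap fun l => [true :: l, false :: l]) ++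
    (([[true, true], [true, false], [false, true], [false, false]].flatMap fun l => [true :: l, false :: l]).flatMap
      fun l => [true :: l, false :: l])

set_option maxRecDepth 4000 in
theorem words4_spec : ∀ d ∈ [swap (0 : Fin 4) 3 * swap 1 2 * (swap 0 1 * swap 1 2) * (swap (0 : Fin 4) 3 * swap 1 2)⁻¹,
      finRotate 4 * (swap 0 1 * swap 1 2) * (finRotate 4)⁻¹, swap (1 : Fin 4) 2 * swap 2 3],
    ∀ π : Perm (Fin 4), Perm.sign π = 1 →
      ∃ l ∈ words4, (l.map fun b => if b then swap (0 : Fin 4) 1 * swap 1 2 else d).prod = π := by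
  decide +kernel

/-- The split of the coordinates. -/
def esplit {n m : ℕ} (h : 4 + m = n) : Fin 4 ⊕ Fin m ≃ Fin n := finSumFinEquiv.trans (finCongr h)

/-- A pair of permutations of the two parts. -/
def Psi {n m : ℕ} (h : 4 + m = n) : Perm (Fin 4) × Perm (Fin m) →* Perm (Fin n) :=
  (esplit h).permCongrHom.toMonoidHom.comp (Perm.sumCongrHom (Fin 4) (Fin m))

theorem Psi_inl {n m : ℕ} (h : 4 + m = n) (π : Perm (Fin 4) × Perm (Fin m)) (i : Fin 4) :
    Psi h π (esplit h (Sum.inl i)) = esplit h (Sum.inl (π.1 i)) := by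
  simp [Psi, Perm.sumCongrHom, Equiv.permCongrHom, Equiv.permCongr_apply]

theorem Psi_inr {n m : ℕ} (h : 4 + m = n) (π : Perm (Fin 4) × Perm (Fin m)) (i : Fin m) :
    Psi h π (esplit h (Sum.inr i)) = esplit h (Sum.inr (π.2 i)) := by
  simp [Psi, Perm.sumCongrHom, Equiv.permCongrHom, Equiv.permCongr_apply]

theorem Psi_sign {n m : ℕ} (h : 4 + m = n) (π : Perm (Fin 4) × Perm (Fin m)) :
    Perm.sign (Psi h π) = Perm.sign π.1 * Perm.sign π.2 := by
  show Perm.sign ((esplit h).permCongr (Perm.sumCongr π.1 π.2)) = _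
  rw [Perm.sign_permCongr]
  exact Perm.sign_sumCongr _ _

theorem mem_T0 {n m : ℕ} (h : 4 + m = n) (hn : 4 ≤ n) (x : Fin n) :
    x ∈ Finset.univ.map (f0 hn) ↔ ∃ i, esplit h (Sum.inl i) = x := by
  have e : ∀ i, f0 hn i = esplit h (Sum.inl i) := fun i => Fin.ext rfl
  simp [e]

theorem Psi_stab {n m : ℕ} (h : 4 + m = n) (hn : 4 ≤ n) (π : Perm (Fin 4) × Perm (Fin m)) :
    (Finset.univ.map (f0 hn)).map (Psi h π).toEmbedding = Finset.univ.map (f0 hn) := by
  refine Finset.eq_of_subset_of_card_le (fun x hx => ?_) (by simp)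
  obtain ⟨y, hy, rfl⟩ := Finset.mem_map.1 hx
  obtain ⟨i, rfl⟩ := (mem_T0 h hn y).1 hy
  exact (mem_T0 h hn _).2 ⟨π.1 i, (Psi_inl h π i).symm⟩

theorem Psi_fix {n m : ℕ} (h : 4 + m = n) (hn : 4 ≤ n) (σ : Perm (Fin 4)) {x : Fin n}
    (hx : x ∉ Finset.univ.map (f0 hn)) : Psi h (σ, 1) x = x := by
  obtain ⟨y, rfl⟩ := (esplit h).surjective x
  rcases y with i | i
  · exact absurd ((mem_T0 h hn _).2 ⟨i, rfl⟩) hx
  · rw [Psi_inr]; rfl

theorem exists_Psi {n m : ℕ} (h : 4 + m = n) (hn : 4 ≤ n) {σ : Perm (Fin n)}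
    (hσ : (Finset.univ.map (f0 hn)).map σ.toEmbedding = Finset.univ.map (f0 hn)) : ∃ π, Psi h π = σ := by
  have hmaps : Set.MapsTo ((esplit h).symm.permCongr σ) (Set.range Sum.inl) (Set.range Sum.inl) := by
    rintro _ ⟨i, rfl⟩
    have : σ (esplit h (Sum.inl i)) ∈ Finset.univ.map (f0 hn) := hσ ▸ Finset.mem_map_of_mem σ.toEmbedding
      ((mem_T0 h hn _).2 ⟨i, rfl⟩)
    obtain ⟨j, hj⟩ := (mem_T0 h hn _).1 this
    exact ⟨j, by simp [Equiv.permCongr_apply, ← hj]⟩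
  obtain ⟨π, hπ⟩ := Perm.mem_sumCongrHom_range_of_perm_mapsTo_inl hmaps
  refine ⟨π, ?_⟩
  show (esplit h).permCongr (Perm.sumCongrHom (Fin 4) (Fin m) π) = σ
  rw [hπ]
  ext x
  simp [Equiv.permCongr_apply]

/-- Closure in the pairs. -/
theorem stab_le {n m : ℕ} (h : 4 + m = n) (hn : 4 ≤ n) (Γ : Subgroup (alternatingGroup (Fin n)))
    (heven : ∀ π : Perm (Fin 4), Perm.sign π = 1 → ∃ γ ∈ Γ, (γ : Perm (Fin n)) = Psi h (π, 1))
    (hsnd : ∀ π2 : Perm (Fin m), ∃ γ ∈ Γ, ∃ π1, (γ : Perm (Fin n)) = Psi h (π1, π2))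
    {σ : alternatingGroup (Fin n)}
    (hσ : (Finset.univ.map (f0 hn)).map (σ : Perm (Fin n)).toEmbedding = Finset.univ.map (f0 hn)) : σ ∈ Γ := by
  obtain ⟨⟨π1, π2⟩, hπ⟩ := exists_Psi h hn hσ
  obtain ⟨γ, hγ, π1', hγ'⟩ := hsnd π2
  have h1 : Perm.sign (Psi h (π1, π2)) = 1 := hπ ▸ Perm.mem_alternatingGroup.1 σ.2
  have h2 : Perm.sign (Psi h (π1', π2)) = 1 := hγ' ▸ Perm.mem_alternatingGroup.1 γ.2
  rw [Psi_sign] at h1 h2
  have h3 : Perm.sign (π1 * π1'⁻¹) = 1 := by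
    rw [map_mul, map_inv, mul_inv_eq_one]
    exact mul_right_cancel (h1.trans h2.symm)
  obtain ⟨δ, hδ, hδ'⟩ := heven _ h3
  have : σ = δ * γ := Subtype.ext (by
    rw [Subgroup.coe_mul, hδ', hγ', ← map_mul, Prod.mk_mul_mk, one_mul, inv_mul_cancel_right, hπ])
  exact this ▸ mul_mem hδ hγ

/-- An element of the alternating group from a pair. -/
def mkA {n m : ℕ} (h : 4 + m = n) (π : Perm (Fin 4) × Perm (Fin m)) (hs : Perm.sign π.1 * Perm.sign π.2 = 1) :
    alternatingGroup (Fin n) :=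
  ⟨Psi h π, Perm.mem_alternatingGroup.2 (by rw [Psi_sign, hs])⟩

theorem sgn_three {m : ℕ} :
    Perm.sign (swap (0 : Fin 4) 1 * swap 1 2) * Perm.sign (1 : Perm (Fin m)) = 1 := by
  rw [map_one, mul_one]; decide

theorem mkA_ne {n m : ℕ} (h : 4 + m = n) :
    mkA h (swap (0 : Fin 4) 1 * swap 1 2, 1) sgn_three ≠ 1 := fun e => by
  have e' := congrArg (fun x : alternatingGroup (Fin n) => (x : Perm (Fin n)) (esplit h (Sum.inl 0))) e
  simp only [mkA, Psi_inl, Subgroup.coe_one, Perm.one_apply] at e'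
  exact absurd (Sum.inl_injective ((esplit h).injective e')) (by decide)

/-- For five points two three-cycles generate the stabiliser. -/
theorem stab_five {n : ℕ} (hn : 4 ≤ n) (h5 : n = 5) : ∃ c : Fin 2 → alternatingGroup (Fin n),
    c 0 ≠ 1 ∧ (∀ i, ∀ x, x ∉ Finset.univ.map (f0 hn) → (c i : Perm (Fin n)) x = x) ∧
    ∀ σ : alternatingGroup (Fin n),
      (Finset.univ.map (f0 hn)).map (σ : Perm (Fin n)).toEmbedding = Finset.univ.map (f0 hn) →
        σ ∈ Subgroup.closure (Set.range c) := by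
  have h : 4 + 1 = n := by omega
  let c := mkA h (swap (0 : Fin 4) 1 * swap 1 2, 1) sgn_three
  let d := mkA h (swap (1 : Fin 4) 2 * swap 2 3, 1) (by decide)
  refine ⟨![c, d], mkA_ne h, ?_, fun σ hσ => ?_⟩
  · intro i x hx
    fin_cases i <;> exact Psi_fix h hn _ hx
  set Γ := Subgroup.closure (Set.range ![c, d])
  refine stab_le h hn Γ (fun π hπ => ?_) (fun π2 => ⟨1, one_mem _, 1, ?_⟩) hσ
  · have key : π ∈ ((Γ.map (alternatingGroup (Fin n)).subtype).comap
        ((Psi h).comp (MonoidHom.inl _ _))) :=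
      four_even ((Γ.map (alternatingGroup (Fin n)).subtype).comap ((Psi h).comp (MonoidHom.inl _ _))) (swap (0 : Fin 4) 1 * swap 1 2) (swap (1 : Fin 4) 2 * swap 2 3)
        ⟨c, Subgroup.subset_closure ⟨0, rfl⟩, rfl⟩ ⟨d, Subgroup.subset_closure ⟨1, rfl⟩, rfl⟩ _
        (words4_spec _ (by simp)) hπ
    obtain ⟨γ, hγ, e⟩ := key
    exact ⟨γ, hγ, e⟩
  · rw [Subsingleton.elim π2 1, ← Prod.one_eq_mk, map_one]; rfl

/-- From six points on a three-cycle and two more elements generate the stabiliser. -/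
theorem stab_six {n : ℕ} (hn : 4 ≤ n) (h6 : 6 ≤ n) : ∃ (c : Fin 1 → alternatingGroup (Fin n))
    (s : Fin 2 → alternatingGroup (Fin n)),
    c 0 ≠ 1 ∧ (∀ i, ∀ x, x ∉ Finset.univ.map (f0 hn) → (c i : Perm (Fin n)) x = x) ∧
    (∀ i, (Finset.univ.map (f0 hn)).map ((s i : Perm (Fin n))).toEmbedding = Finset.univ.map (f0 hn)) ∧
    ∀ σ : alternatingGroup (Fin n),
      (Finset.univ.map (f0 hn)).map (σ : Perm (Fin n)).toEmbedding = Finset.univ.map (f0 hn) →
        σ ∈ Subgroup.closure (Set.range c ∪ Set.range s) := by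
  obtain ⟨m, h, hm⟩ : ∃ m, 4 + m = n ∧ 2 ≤ m := ⟨n - 4, by omega, by omega⟩
  have : NeZero m := ⟨by omega⟩
  set c0 : Perm (Fin 4) := swap (0 : Fin 4) 1 * swap 1 2 with hc0
  set z : Fin m := 0
  set ρ := finRotate m
  have hzρ : z ≠ ρ z := by
    have := (Perm.mem_support.1 (show z ∈ ρ.support by rw [support_finRotate_of_le hm]; exact Finset.mem_univ z))
    exact Ne.symm this
  obtain ⟨β, hβs, hβd⟩ : ∃ β : Perm (Fin 4), Perm.sign β * Perm.sign ρ = 1 ∧
      (β * c0 * β⁻¹) ∈ [swap (0 : Fin 4) 3 * swap 1 2 * (swap 0 1 * swap 1 2) * (swap (0 : Fin 4) 3 * swap 1 2)⁻¹,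
        finRotate 4 * (swap 0 1 * swap 1 2) * (finRotate 4)⁻¹, swap (1 : Fin 4) 2 * swap 2 3] := by
    rcases Int.units_eq_one_or (Perm.sign ρ) with e | e
    · exact ⟨swap (0 : Fin 4) 3 * swap 1 2, by rw [e, mul_one]; decide, by simp [hc0]⟩
    · exact ⟨finRotate 4, by rw [e]; decide, by simp [hc0]⟩
  let c := mkA h (c0, 1) sgn_three
  let a := mkA h (swap (0 : Fin 4) 1, swap z (ρ z)) (by
    rw [Perm.sign_swap hzρ, Perm.sign_swap (show (0 : Fin 4) ≠ 1 by decide)]; rfl)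
  let b := mkA h (β, ρ) hβs
  refine ⟨![c], ![a, b], mkA_ne h, fun i x hx => ?_, fun i => ?_, fun σ hσ => ?_⟩
  · fin_cases i; exact Psi_fix h hn _ hx
  · fin_cases i <;> exact Psi_stab h hn _
  set Γ := Subgroup.closure (Set.range ![c] ∪ Set.range ![a, b])
  have mc : c ∈ Γ := Subgroup.subset_closure (Or.inl ⟨0, rfl⟩)
  have ma : a ∈ Γ := Subgroup.subset_closure (Or.inr ⟨0, rfl⟩)
  have mb : b ∈ Γ := Subgroup.subset_closure (Or.inr ⟨1, rfl⟩)
  refine stab_le h hn Γ (fun π hπ => ?_) (fun π2 => ?_) hσ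
  · have md : (β * c0 * β⁻¹) ∈ ((Γ.map (alternatingGroup (Fin n)).subtype).comap
        ((Psi h).comp (MonoidHom.inl _ _))) := by
      refine ⟨b * c * b⁻¹, mul_mem (mul_mem mb mc) (inv_mem mb), ?_⟩
      show Psi h (β, ρ) * Psi h (c0, 1) * (Psi h (β, ρ))⁻¹ = Psi h (β * c0 * β⁻¹, 1)
      rw [← map_inv, ← map_mul, ← map_mul]
      simp
    have key : π ∈ ((Γ.map (alternatingGroup (Fin n)).subtype).comap
        ((Psi h).comp (MonoidHom.inl _ _))) :=
      four_even ((Γ.map (alternatingGroup (Fin n)).subtype).comap ((Psi h).comp (MonoidHom.inl _ _))) c0 (β * c0 * β⁻¹) ⟨c, mc, rfl⟩ md _ (words4_spec _ hβd) hπ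
    obtain ⟨γ, hγ, e⟩ := key
    exact ⟨γ, hγ, e⟩
  · have key : Subgroup.closure {ρ, swap z (ρ z)} ≤
        ((Γ.map (alternatingGroup (Fin n)).subtype).comap (Psi h)).map (MonoidHom.snd _ _) := by
      rw [Subgroup.closure_le]
      rintro x (rfl | rfl)
      · exact ⟨(β, ρ), ⟨b, mb, rfl⟩, rfl⟩
      · exact ⟨(swap 0 1, swap z (ρ z)), ⟨a, ma, rfl⟩, rfl⟩
    rw [Perm.closure_cycle_adjacent_swap (isCycle_finRotate_of_le hm) (support_finRotate_of_le hm)] at key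
    obtain ⟨⟨π1, π2'⟩, ⟨γ, hγ, e⟩, e'⟩ := key (Subgroup.mem_top π2)
    obtain rfl : π2' = π2 := e'
    exact ⟨γ, hγ, π1, e⟩

end CfsgLib.Pres.SUn
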