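import Cfsg.Agent.Lib.Pres.SUAmalgam
import Cfsg.Agent.Lib.Pres.SLnPres

/-!
# Permutations of the coordinates of the special unitary group
-/

set_option autoImplicit false

namespace CfsgLib.Pres.SUn

open Matrix Equiv

variable {F : Type*} [Field F] {q n k l : ℕ}

/-- Even permutation matrices in the special unitary group. -/
def permSU : alternatingGroup (Fin n) →* Cfsg.SU n F q :=
  (permSL (F := F) (n := n)).codRestrict _ fun σ u v => by
    show Cfsg.hermForm n F q (((σ : Perm (Fin n))⁻¹).permMatrix F *ᵥ u) (((σ : Perm (Fin n))⁻¹).permMatrix F *ᵥ v) = _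
    rw [Perm.permMatrix, PEquiv.toMatrix_toPEquiv_mulVec, PEquiv.toMatrix_toPEquiv_mulVec]
    exact Equiv.sum_comp ((σ : Perm (Fin n))⁻¹) fun i => u i * v i ^ q

theorem act_permSU (σ : alternatingGroup (Fin n)) (v : Fin n → F) (i : Fin n) :
    act (permSU σ : Cfsg.SU n F q) v ((σ : Perm (Fin n)) i) = v i := by
  show ((((σ : Perm (Fin n))⁻¹).permMatrix F) *ᵥ v) ((σ : Perm (Fin n)) i) = _
  rw [Perm.permMatrix, PEquiv.toMatrix_toPEquiv_mulVec]
  simp

theorem permSU_blk (σ : alternatingGroup (Fin n)) (f : Fin k ↪ Fin n) (x : Cfsg.SU k F q) :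
    (permSU σ : Cfsg.SU n F q) * blk f x * (permSU σ)⁻¹ = blk (f.trans (σ : Perm (Fin n)).toEmbedding) x := by
  rw [mul_inv_eq_iff_eq_mul]
  refine eq_of_act fun v => funext fun j => ?_
  obtain ⟨i, rfl⟩ := (σ : Perm (Fin n)).surjective j
  rw [act_mul, act_mul, act_permSU]
  by_cases hi : ∃ a, f a = i
  · obtain ⟨a, rfl⟩ := hi
    rw [act_blk_in, show (σ : Perm (Fin n)) (f a) = (f.trans (σ : Perm (Fin n)).toEmbedding) a from rfl, act_blk_in]
    exact congrFun (congrArg _ (funext fun b => (act_permSU σ v (f b)).symm)) a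
  · rw [act_blk_out f x v hi, act_blk_out (f.trans _) x _ (fun ⟨a, ha⟩ =>
      hi ⟨a, (σ : Perm (Fin n)).injective ha⟩), act_permSU]

theorem blk_blk (f : Fin k ↪ Fin n) (g : Fin l ↪ Fin k) (x : Cfsg.SU l F q) :
    blk f (blk g x) = blk (g.trans f) x := by
  refine eq_of_act fun v => funext fun j => ?_
  by_cases hj : ∃ a, f a = j
  · obtain ⟨a, rfl⟩ := hj
    rw [act_blk_in]
    by_cases ha : ∃ b, g b = a
    · obtain ⟨b, rfl⟩ := ha
      rw [act_blk_in, show f (g b) = (g.trans f) b from rfl, act_blk_in]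
      rfl
    · rw [act_blk_out g x _ ha, act_blk_out (g.trans f) x v fun ⟨b, hb⟩ => ha ⟨b, f.injective hb⟩]
  · rw [act_blk_out f _ v hj, act_blk_out (g.trans f) x v fun ⟨b, hb⟩ => hj ⟨g b, hb⟩]

/-- The elements of a block supported on a smaller block. -/
theorem exists_sub (hq : q ≠ 0) (f : Fin k ↪ Fin n) (g : Fin l ↪ Fin k) {x : Cfsg.SU k F q}
    (hx : blk f x ∈ SOn (Finset.univ.map (g.trans f))) : ∃ y, blk g y = x := by
  rw [← range_blk hq] at hx
  obtain ⟨y, hy⟩ := hx
  exact ⟨y, blk_injective f (by rw [blk_blk, hy])⟩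

/-- An even permutation taking one list of distinct coordinates to another. -/
theorem exists_even_map {m : ℕ} (f g : Fin m ↪ Fin n) (a b : Fin m) (hab : a ≠ b) :
    ∃ σ : alternatingGroup (Fin n), f.trans (σ : Perm (Fin n)).toEmbedding = g ∨
      f.trans (σ : Perm (Fin n)).toEmbedding = (Equiv.swap a b).toEmbedding.trans g := by
  have := Equiv.Perm.isMultiplyPretransitive (Fin n) m
  obtain ⟨π, hπ⟩ := MulAction.exists_smul_eq (Perm (Fin n)) f g
  have hπ' : ∀ i, π (f i) = g i := fun i => congrArg (fun h : Fin m ↪ Fin n => h i) hπ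
  rcases Int.units_eq_one_or (Perm.sign π) with hs | hs
  · exact ⟨⟨π, Perm.mem_alternatingGroup.2 hs⟩, Or.inl (DFunLike.ext _ _ hπ')⟩
  · refine ⟨⟨π * Equiv.swap (f a) (f b), Perm.mem_alternatingGroup.2 (by
      rw [map_mul, hs, Perm.sign_swap (f.injective.ne hab)]; rfl)⟩, Or.inr (DFunLike.ext _ _ fun i => ?_)⟩
    show π (Equiv.swap (f a) (f b) (f i)) = g (Equiv.swap a b i)
    rw [← f.injective.map_swap, hπ']

end CfsgLib.Pres.SUn
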