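import Cfsg.Agent.Lib.Pres.SUThreeModel

/-!
# Two generators of `SU₃(2)`
-/

set_option autoImplicit false

namespace CfsgLib.Pres.SUThree

open Matrix
open CfsgLib.Classical (qFrob qFrob_apply qFrob_qFrob)

theorem add_cancel_two {R : Type*} [Ring R] [CharP R 2] (a b : R) : a + (a + b) = b := by rw [← add_assoc, CharTwo.add_self_eq_zero, zero_add]
section

variable {F : Type*} [Field F] [CharP F 2] (ω : F)
local notation "XM" => (!![1, 1, ω; 0, 1, 1; 0, 0, 1] : Matrix (Fin 3) (Fin 3) F)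
local notation "YM" => (!![(ω + 1), (ω + 1), 1; ω, 1, 0; 1, 0, 0] : Matrix (Fin 3) (Fin 3) F)
theorem qw (h : ω * ω = ω + 1) : (!![1, ω + 1, ω + 1; 0, 1, ω; 0, 0, 1] : Matrix (Fin 3) (Fin 3) F) * !![0,0,1;0,-1,0;1,0,0] = YM := by
  ext i j; fin_cases i <;> fin_cases j <;>
      simp [Matrix.mul_apply, Fin.sum_univ_three, h, mul_add, add_mul, CharTwo.neg_eq, CharTwo.add_self_eq_zero, add_cancel_two, add_assoc, add_comm, add_left_comm]
theorem word (h : ω * ω = ω + 1) : YM * XM * XM * XM * YM * YM * YM * XM = (!![0,0,1;0,-1,0;1,0,0] : Matrix (Fin 3) (Fin 3) F) := by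
  have e1 : (!![(ω + 1), (ω + 1), 1; ω, 1, 0; 1, 0, 0] : Matrix (Fin 3) (Fin 3) F) * XM = !![(ω + 1), 0, (ω + 1); ω, (ω + 1), ω; 1, 1, ω] := by
    ext i j; fin_cases i <;> fin_cases j <;>
      simp [Matrix.mul_apply, Fin.sum_univ_three, h, mul_add, add_mul, CharTwo.neg_eq, CharTwo.add_self_eq_zero, add_cancel_two, add_assoc, add_comm, add_left_comm]
  have e2 : (!![(ω + 1), 0, (ω + 1); ω, (ω + 1), ω; 1, 1, ω] : Matrix (Fin 3) (Fin 3) F) * XM = !![(ω + 1), (ω + 1), ω; ω, 1, ω; 1, 0, 1] := by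
    ext i j; fin_cases i <;> fin_cases j <;>
      simp [Matrix.mul_apply, Fin.sum_univ_three, h, mul_add, add_mul, CharTwo.neg_eq, CharTwo.add_self_eq_zero, add_cancel_two, add_assoc, add_comm, add_left_comm]
  have e3 : (!![(ω + 1), (ω + 1), ω; ω, 1, ω; 1, 0, 1] : Matrix (Fin 3) (Fin 3) F) * XM = !![(ω + 1), 0, 0; ω, (ω + 1), 0; 1, 1, (ω + 1)] := by
    ext i j; fin_cases i <;> fin_cases j <;>
      simp [Matrix.mul_apply, Fin.sum_univ_three, h, mul_add, add_mul, CharTwo.neg_eq, CharTwo.add_self_eq_zero, add_cancel_two, add_assoc, add_comm, add_left_comm]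
  have e4 : (!![(ω + 1), 0, 0; ω, (ω + 1), 0; 1, 1, (ω + 1)] : Matrix (Fin 3) (Fin 3) F) * YM = !![ω, ω, (ω + 1); 0, ω, ω; ω, ω, 1] := by
    ext i j; fin_cases i <;> fin_cases j <;>
      simp [Matrix.mul_apply, Fin.sum_univ_three, h, mul_add, add_mul, CharTwo.neg_eq, CharTwo.add_self_eq_zero, add_cancel_two, add_assoc, add_comm, add_left_comm]
  have e5 : (!![ω, ω, (ω + 1); 0, ω, ω; ω, ω, 1] : Matrix (Fin 3) (Fin 3) F) * YM = !![1, (ω + 1), ω; 1, ω, 0; (ω + 1), (ω + 1), ω] := by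
    ext i j; fin_cases i <;> fin_cases j <;>
      simp [Matrix.mul_apply, Fin.sum_univ_three, h, mul_add, add_mul, CharTwo.neg_eq, CharTwo.add_self_eq_zero, add_cancel_two, add_assoc, add_comm, add_left_comm]
  have e6 : (!![1, (ω + 1), ω; 1, ω, 0; (ω + 1), (ω + 1), ω] : Matrix (Fin 3) (Fin 3) F) * YM = !![0, 0, 1; 0, 1, 1; 1, 1, (ω + 1)] := by
    ext i j; fin_cases i <;> fin_cases j <;>
      simp [Matrix.mul_apply, Fin.sum_univ_three, h, mul_add, add_mul, CharTwo.neg_eq, CharTwo.add_self_eq_zero, add_cancel_two, add_assoc, add_comm, add_left_comm]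
  have e7 : (!![0, 0, 1; 0, 1, 1; 1, 1, (ω + 1)] : Matrix (Fin 3) (Fin 3) F) * XM = !![0,0,1;0,-1,0;1,0,0] := by
    ext i j; fin_cases i <;> fin_cases j <;>
      simp [Matrix.mul_apply, Fin.sum_univ_three, h, mul_add, add_mul, CharTwo.neg_eq, CharTwo.add_self_eq_zero, add_cancel_two, add_assoc, add_comm, add_left_comm]
  rw [e1, e2, e3, e4, e5, e6, e7]

end

open _root_.Classical in
/-- `SU₃(2)` has two generators. -/
theorem su_three_two_gens {F : Type*} [Field F] [Fintype F] {q : ℕ} (hF : Fintype.card F = q ^ 2) (hq : q = 2) :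
    ∃ g : Fin 2 → Cfsg.SU 3 F q, Subgroup.closure (Set.range g) = ⊤ := by
  subst hq
  have hch : (2 : F) = 0 := by
    have h := FiniteField.cast_card_eq_zero F
    rw [hF] at h
    push_cast at h
    exact mul_self_eq_zero.1 (by linear_combination h)
  have : CharP F 2 := CharTwo.of_one_ne_zero_of_two_eq_zero one_ne_zero hch
  obtain ⟨g0, hg0⟩ := IsCyclic.exists_generator (α := Fˣ)
  set ω : F := (g0 : F) with hωdef
  have hω3 : ω ^ 3 = 1 := by
    rw [hωdef, ← Units.val_pow_eq_pow_val, show g0 ^ 3 = 1 by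
      have h := pow_card_eq_one' (x := g0)
      rwa [Nat.card_units, Nat.card_eq_fintype_card, hF] at h, Units.val_one]
  have hω1 : ω ≠ 1 := fun e => by
    have hc := orderOf_eq_card_of_forall_mem_zpowers hg0
    rw [show g0 = 1 from Units.ext (by simpa [hωdef] using e), orderOf_one, Nat.card_units, Nat.card_eq_fintype_card,
      hF] at hc
    norm_num at hc
  have hω2 : ω * ω = ω + 1 := by
    have : (ω - 1) * (ω ^ 2 + ω + 1) = 0 := by linear_combination hω3
    linear_combination (mul_eq_zero.1 this).resolve_left (sub_ne_zero.2 hω1) - (1 + ω) * hch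
  have hσω : qFrob hF ω = ω + 1 := by rw [qFrob_apply, sq, hω2]
  let x : Par hF := Par.mk 1 ω (by rw [hσω, map_one]; linear_combination (ω + 1) * hch)
  let y : Par hF := Par.mk ω (ω + 1) (by rw [map_add, map_one, hσω]; linear_combination hω2 + (2 * ω + 2) * hch)
  let g : Fin 2 → U3g hF := ![Qe x, Qe y * We hF]
  suffices hg : Subgroup.closure (Set.range g) = ⊤ by
    refine ⟨fun i => toSU3 hF (g i), ?_⟩
    have := congrArg (Subgroup.map (toSU3 hF).toMonoidHom) hg
    rwa [MonoidHom.map_closure, ← Set.range_comp, Subgroup.map_top_of_surjective _ (toSU3 hF).surjective] at this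
  set S := Subgroup.closure (Set.range g)
  have hx : Qe x ∈ S := Subgroup.subset_closure ⟨0, rfl⟩
  have hyw : Qe y * We hF ∈ S := Subgroup.subset_closure ⟨1, rfl⟩
  have hmX : m3 hF (Qe x) = !![1, 1, ω; 0, 1, 1; 0, 0, 1] := by
    rw [m3_Qe, qMat, Par.mk_a, Par.mk_b, map_one, CharTwo.neg_eq]
  have hmY : m3 hF (Qe y * We hF) = !![ω + 1, ω + 1, 1; ω, 1, 0; 1, 0, 0] := by
    rw [← qw ω hω2, m3_mul, m3_Qe, m3_We, qMat, Par.mk_a, Par.mk_b, hσω, CharTwo.neg_eq]
  have hW : We hF ∈ S := by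
    have e : Qe y * We hF * Qe x * Qe x * Qe x * (Qe y * We hF) * (Qe y * We hF) * (Qe y * We hF) * Qe x = We hF :=
      u3_ext hF (by
        simp only [m3_mul hF (_ * _ * _ * _ * _ * _ * _), m3_mul hF (_ * _ * _ * _ * _ * _), m3_mul hF (Qe y * We hF * _),
          m3_mul hF (Qe y * We hF * _ * _), m3_mul hF (Qe y * We hF * _ * _ * _),
          m3_mul hF (Qe y * We hF * _ * _ * _ * _), m3_mul hF (Qe y * We hF * _ * _ * _ * _ * _),
          m3_mul hF (Qe y * We hF), hmX, hmY, m3_We]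
        exact word ω hω2)
    rw [← e]
    exact mul_mem (mul_mem (mul_mem (mul_mem (mul_mem (mul_mem (mul_mem hyw hx) hx) hx) hyw) hyw) hyw) hx
  have hy : Qe y ∈ S := by
    rw [show Qe y = Qe y * We hF * We hF by rw [mul_assoc, We_sq, mul_one]]
    exact mul_mem hyw hW
  have hQ1 : ∀ v : Par hF, v.a = 0 → Qe v ∈ S := by
    intro v ha
    by_cases hb : v.b = 0
    · rw [eq_zero_of_b hb, Qe_one]; exact one_mem S
    · have h := v.rel
      rw [ha, mul_zero, add_zero, qFrob_apply] at h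
      have hb1 : v.b = 1 := sub_eq_zero.1 ((mul_eq_zero.1
        (show v.b * (v.b - 1) = 0 by linear_combination h - v.b * hch)).resolve_left hb)
      rw [Par.ext' (x := v) (y := x.mul x) (by simp only [ha, Par.mul, x, Par.mk_a]; linear_combination -hch)
        (by simp only [hb1, Par.mul, x, Par.mk_a, Par.mk_b, map_one]; linear_combination (1 - ω) * hch), ← Qe_mul]
      exact mul_mem hx hx
  have hF4 : ∀ a : F, a = 0 ∨ a = 1 ∨ a = ω ∨ a = 1 + ω := by
    intro a
    by_cases ha : a = 0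
    · exact Or.inl ha
    obtain ⟨i, hi⟩ := (isOfFinOrder_of_finite g0).mem_powers_iff_mem_zpowers.2 (hg0 (Units.mk0 a ha))
    have hia : a = ω ^ (i % 3) := by
      rw [show a = ((g0 ^ i : Fˣ) : F) from (congrArg Units.val hi).symm, Units.val_pow_eq_pow_val]
      conv_lhs => rw [← Nat.mod_add_div i 3, pow_add, pow_mul, hω3, one_pow, mul_one]
    have hi3 : i % 3 < 3 := Nat.mod_lt _ (by norm_num)
    interval_cases h : i % 3
    · exact Or.inr (Or.inl (hia.trans (pow_zero _)))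
    · exact Or.inr (Or.inr (Or.inl (hia.trans (pow_one _))))
    · exact Or.inr (Or.inr (Or.inr (hia.trans (by rw [sq, hω2, add_comm]))))
  have hQ : ∀ v : Par hF, Qe v ∈ S := by
    intro v
    obtain ⟨w, hwa, hw⟩ : ∃ w : Par hF, w.a = v.a ∧ Qe w ∈ S := by
      rcases hF4 v.a with h | h | h | h <;> rw [h]
      · exact ⟨Par.one, rfl, by rw [Qe_one]; exact one_mem S⟩
      · exact ⟨x, rfl, hx⟩
      · exact ⟨y, rfl, hy⟩
      · exact ⟨x.mul y, rfl, by rw [← Qe_mul]; exact mul_mem hx hy⟩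
    let d : Par hF := Par.mk 0 (v.b - w.b) (by
      have r1 := v.rel
      have r2 := w.rel
      rw [hwa] at r2
      rw [map_sub, map_zero, mul_zero, add_zero]
      linear_combination r1 - r2)
    rw [show v = w.mul d from Par.ext' (by simp [Par.mul, d, hwa]) (by simp [Par.mul, d]), ← Qe_mul]
    exact mul_mem hw (hQ1 d rfl)
  have hH : ∀ c, He hF c ∈ S := by
    intro c
    have key : ∀ v : Par hF, ∀ hb : v.b ≠ 0, He hF (v.mid hb) ∈ S := fun v hb => by
      have e : He hF (v.mid hb) = (Qe v.fst)⁻¹ * (We hF * Qe v * We hF) * (Qe v.snd)⁻¹ * We hF := by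
        rw [bruhat v hb]
        simp only [mul_assoc, inv_mul_cancel_left, mul_inv_cancel_left, We_sq, mul_one]
      rw [e]
      exact mul_mem (mul_mem (mul_mem (inv_mem (hQ _)) (mul_mem (mul_mem hW (hQ v)) hW)) (inv_mem (hQ _))) hW
    have hxb : x.b ≠ 0 := g0.ne_zero
    have hgen : flip hF g0 = x.mid hxb := congrArg (flip hF) (Units.ext rfl)
    have hg : He hF (flip hF g0) ∈ S := hgen ▸ key x hxb
    obtain ⟨i, hi⟩ := Subgroup.mem_zpowers_iff.1 (hg0 (flip hF c))
    have e : c = (flip hF g0) ^ i := by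
      rw [← map_zpow, hi]
      exact Units.ext (by rw [flip_val, flip_val, map_inv₀, qFrob_qFrob, inv_inv])
    rw [e, map_zpow]
    exact zpow_mem hg i
  rw [eq_top_iff]
  intro t _
  rcases cells t with ⟨a, c, rfl⟩ | ⟨a, c, b, rfl⟩
  · exact mul_mem (hQ a) (hH c)
  · exact mul_mem (mul_mem (mul_mem (hQ a) (hH c)) hW) (hQ b)

end CfsgLib.Pres.SUThree
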