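import Cfsg.Agent.Lib.Pres.SUThreeBound
import Cfsg.Agent.Lib.Pres.PresTools

/-!
# A short presentation of `SU₃`
-/

set_option autoImplicit false

namespace CfsgLib.Pres.SUThree

open Matrix
open CfsgLib.Classical (qFrob)
open CfsgLib.Pres.SUFour (Kf card_Kf data)

set_option maxHeartbeats 800000 in
/-- `SU₃` has three generators and twenty-one relators. -/
theorem su_three_pres {F : Type*} [Field F] [Fintype F] {q : ℕ} (hF : Fintype.card F = q ^ 2) (h2 : q ≠ 2) :
    PresBy 3 (Cfsg.SU 3 F q) 21 := by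
  classical
  refine PresBy.congr ?_ (toSU3 hF)
  obtain ⟨p, hchar⟩ := CharP.exists F
  obtain ⟨m, hp, hm⟩ := FiniteField.card F p
  have : Fact p.Prime := ⟨hp⟩
  have : CharP (Kf hF) p := (RingHom.charP_iff (Kf hF).subtype Subtype.val_injective p).2 inferInstance
  obtain ⟨n, -, hn⟩ := FiniteField.card (Kf hF) p
  have hn' : q = p ^ (n : ℕ) := by rw [← hn, ← Nat.card_eq_fintype_card, card_Kf]
  let _ : Algebra (ZMod p) (Kf hF) := ZMod.algebra (Kf hF) p
  obtain ⟨ω, hω⟩ := IsCyclic.exists_generator (α := Fˣ)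
  set k : (Kf hF)ˣ := (data hF).Nu ω with hk
  have hkgen : ∀ y : (Kf hF)ˣ, y ∈ Subgroup.zpowers k := fun y => by
    obtain ⟨c, hc⟩ := (data hF).exists_norm (SUFour.hFK hF) (SUFour.hσ hF) y
    obtain ⟨i, rfl⟩ := Subgroup.mem_zpowers_iff.1 (hω c)
    exact ⟨i, by rw [← hc, map_zpow]⟩
  have hkord : orderOf k = p ^ (n : ℕ) - 1 := by
    rw [orderOf_eq_card_of_forall_mem_zpowers hkgen, Nat.card_units, card_Kf, hn']
  obtain ⟨BK, hBK⟩ := exists_power_basis (p := p) (k : Kf hF) hn fun d hd hd2 e => by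
    have h1 : k ^ (p ^ d - 1) = 1 := by
      refine Units.ext (mul_right_cancel₀ k.ne_zero ?_)
      rw [Units.val_pow_eq_pow_val, Units.val_one, one_mul, ← pow_succ,
        show p ^ d - 1 + 1 = p ^ d by have := Nat.one_le_pow d p hp.pos; omega, e]
    have h3 := Nat.le_of_dvd (by have := Nat.one_lt_pow hd.ne' hp.one_lt; omega)
      (hkord ▸ orderOf_dvd_of_pow_eq_one h1)
    have h4 : p ^ d < p ^ (n : ℕ) := Nat.pow_lt_pow_right hp.one_lt (by omega)
    have := Nat.one_le_pow d p hp.pos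
    omega
  obtain ⟨jz, hjz⟩ : ∃ j : ℕ, (1 : Kf hF) + k ≠ 0 → (k : Kf hF) ^ j = 1 + k := by
    by_cases h0 : (1 : Kf hF) + k = 0
    · exact ⟨0, fun h => absurd h0 h⟩
    · obtain ⟨j, -, hj⟩ := (isOfFinOrder_of_finite k).mem_zpowers_iff_mem_range_orderOf.1 (hkgen (Units.mk0 _ h0))
        |> fun h => by simpa using h
      exact ⟨j, fun _ => by simpa using congrArg Units.val hj⟩
  have hlog : ∀ c : Fˣ, ∃ i : ℕ, ω ^ i = c := fun c => by
    obtain ⟨i, hi⟩ := ((isOfFinOrder_of_finite ω).mem_powers_iff_mem_zpowers).2 (hω c)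
    exact ⟨i, hi⟩
  choose dlog hdlog using hlog
  obtain ⟨x0, hx0⟩ : ∃ x0 : Par hF, x0.a = 1 := by
    obtain ⟨t, ht⟩ := Classical.exists_qFrob_trace_one hF
    refine ⟨Par.mk 1 (-t) ?_, rfl⟩
    rw [map_neg, map_one, one_mul]
    linear_combination -ht
  let C : Cfg hF p n :=
    { ω := ω, hω := hω, x0 := x0, x0a := hx0, BK := BK, hBK := hBK, jz := jz, hjz := hjz
      Qexp := dlog (flip hF ω), hQexp := (hdlog _).symm, dlog := dlog, hdlog := hdlog }
  have : CharP F p := hchar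
  let a : Fin 3 → FreeGroup (Fin 3) := FreeGroup.of
  let eqs := C.eqs h2 (a 0) (a 1) (a 2)
  let rels : Finset (FreeGroup (Fin 3)) := (eqs.map fun x => x.1 * x.2⁻¹).toFinset
  refine ⟨rels, (List.toFinset_card_le _).trans (le_of_eq (by rw [List.length_map]; exact C.eqs_length h2 _ _ _)), ?_⟩
  let t : Fin 3 → U3g hF := ![C.u0, C.h0, We hF]
  have hold : ∀ r ∈ rels, FreeGroup.lift t r = 1 := by
    intro r hr
    rw [List.mem_toFinset, List.mem_map] at hr
    obtain ⟨x, hx, rfl⟩ := hr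
    rw [map_mul, map_inv, mul_inv_eq_one]
    have := C.eqs_model h2 (FreeGroup.lift t x.1, FreeGroup.lift t x.2) (by
      have e := List.mem_map_of_mem (f := fun y => (FreeGroup.lift t y.1, FreeGroup.lift t y.2)) hx
      rw [← C.map_eqs] at e
      simpa [a, t] using e)
    exact this
  let Φ : PresentedGroup (↑rels : Set (FreeGroup (Fin 3))) →* U3g hF := PresentedGroup.toGroup hold
  let π : FreeGroup (Fin 3) →* PresentedGroup (↑rels : Set (FreeGroup (Fin 3))) := PresentedGroup.mk _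
  have hR : ∀ x ∈ C.eqs h2 (π (a 0)) (π (a 1)) (π (a 2)), x.1 = x.2 := by
    rw [C.map_eqs]
    intro x hx
    obtain ⟨y, hy, rfl⟩ := List.mem_map.1 hx
    have := PresentedGroup.one_of_mem (rels := (↑rels : Set (FreeGroup (Fin 3))))
      (List.mem_toFinset.2 (List.mem_map.2 ⟨y, hy, rfl⟩))
    rwa [map_mul, map_inv, mul_inv_eq_one] at this
  have hΦ : ∀ i, Φ (π (a i)) = t i := fun i => PresentedGroup.toGroup.of hold
  have hgen : Subgroup.closure {π (a 0), π (a 1), π (a 2)} = ⊤ := by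
    rw [← top_le_iff, ← PresentedGroup.closure_range_of (↑rels : Set (FreeGroup (Fin 3))), Subgroup.closure_le]
    rintro _ ⟨i, rfl⟩
    refine Subgroup.subset_closure ?_
    fin_cases i
    · exact Or.inl rfl
    · exact Or.inr (Or.inl rfl)
    · exact Or.inr (Or.inr rfl)
  exact ⟨MulEquiv.ofBijective Φ (C.bound h2 hn' hR Φ (hΦ 0) (hΦ 1) (hΦ 2) hgen)⟩

end CfsgLib.Pres.SUThree
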