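import Cfsg.Agent.Lib.KnownB.SUTwoGen
import Cfsg.Agent.Lib.Classical.UMinDegMain
import Cfsg.Agent.Lib.Pres.SUThreePres
import Cfsg.Agent.S0281

/-!
# Small generating sets of special unitary groups
-/

set_option autoImplicit false

namespace CfsgLib.Pres

open Matrix
open scoped commutatorElement
open CfsgLib.Classical (qFrob qFrob_apply qFrob_qFrob)

variable {F : Type*} [Field F] [Fintype F] {q : ℕ}

/-- Lifting generators of the quotient by the centre of a perfect group. -/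
theorem closure_eq_top_of_perfect {G : Type*} [Group G] (hp : commutator G = ⊤) (S : Subgroup G)
    (hS : S.map (QuotientGroup.mk' (Subgroup.center G)) = ⊤) : S = ⊤ := by
  have hsup : S ⊔ Subgroup.center G = ⊤ := by
    rw [← QuotientGroup.ker_mk' (Subgroup.center G), ← Subgroup.comap_map_eq, hS, Subgroup.comap_top]
  rw [eq_top_iff, ← hp, commutator_def, Subgroup.commutator_le]
  intro a _ b _
  have hmem : ∀ x : G, ∃ s ∈ S, ∃ z ∈ Subgroup.center G, s * z = x := fun x =>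
    Subgroup.mem_sup_of_normal_right.1 (hsup ▸ Subgroup.mem_top x)
  obtain ⟨s, hs, z, hz, rfl⟩ := hmem a
  obtain ⟨t, ht, y, hy, rfl⟩ := hmem b
  have cz := Subgroup.mem_center_iff.1 hz
  have cy := Subgroup.mem_center_iff.1 hy
  have e : ⁅s * z, t * y⁆ = ⁅s, t⁆ := by
    simp only [commutatorElement_def, _root_.mul_inv_rev]
    calc s * z * (t * y) * (z⁻¹ * s⁻¹) * (y⁻¹ * t⁻¹) = s * (z * (t * y)) * z⁻¹ * s⁻¹ * (y⁻¹ * t⁻¹) := by
          simp only [mul_assoc]
      _ = s * t * (y * s⁻¹) * (y⁻¹ * t⁻¹) := by rw [← cz (t * y)]; group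
      _ = s * t * (s⁻¹ * y) * (y⁻¹ * t⁻¹) := by rw [cy]
      _ = _ := by group
  rw [e]
  exact mul_mem (mul_mem (mul_mem hs ht) (inv_mem hs)) (inv_mem ht)

/-- `SU` has two generators. -/
theorem su_two_gen (hF : Fintype.card F = q ^ 2) {n : ℕ} (hn : 3 ≤ n) (h32 : n = 3 → q ≠ 2) :
    ∃ g : Fin 2 → Cfsg.SU n F q, Subgroup.closure (Set.range g) = ⊤ := by
  obtain ⟨a, b, hab⟩ := KnownB.SUTwoGen.psu_two_gen hF hn h32
  obtain ⟨a', rfl⟩ := QuotientGroup.mk'_surjective _ a
  obtain ⟨b', rfl⟩ := QuotientGroup.mk'_surjective _ b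
  refine ⟨![a', b'], closure_eq_top_of_perfect (Classical.UMinDeg.commutator_su hF hn fun h => h32 h.1 h.2) _ ?_⟩
  rw [MonoidHom.map_closure, ← hab]
  congr 1
  simp [Set.image_pair, Set.pair_comm]

/-- `PSU` has two generators. -/
theorem psu_two_gens (hF : Fintype.card F = q ^ 2) {n : ℕ} (hn : 3 ≤ n) (h32 : n = 3 → q ≠ 2) :
    ∃ g : Fin 2 → Cfsg.PSU n F q, Subgroup.closure (Set.range g) = ⊤ := by
  obtain ⟨a, b, hab⟩ := KnownB.SUTwoGen.psu_two_gen hF hn h32
  exact ⟨![a, b], by rw [← hab]; congr 1; simp [Set.pair_comm]⟩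

/-- A presentation gives generators. -/
theorem PresBy.exists_gens {k K : ℕ} {T : Type*} [Group T] (h : PresBy k T K) :
    ∃ g : Fin k → T, Subgroup.closure (Set.range g) = ⊤ := by
  obtain ⟨rels, -, ⟨e⟩⟩ := h
  refine ⟨fun i => e (PresentedGroup.of i), ?_⟩
  have := congrArg (Subgroup.map e.toMonoidHom) (PresentedGroup.closure_range_of (↑rels : Set (FreeGroup (Fin k))))
  rw [MonoidHom.map_closure, ← Set.range_comp, Subgroup.map_top_of_surjective _ e.surjective] at this
  exact this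

open SUThree in
/-- `SU₃` has four generators. -/
theorem su_three_gens (hF : Fintype.card F = q ^ 2) :
    ∃ g : Fin 4 → Cfsg.SU 3 F q, Subgroup.closure (Set.range g) = ⊤ := by
  classical
  rcases eq_or_ne q 2 with rfl | h2
  swap
  · obtain ⟨g, hg⟩ := (su_three_pres hF h2).exists_gens
    refine ⟨Fin.cons 1 g, top_le_iff.1 (hg ▸ Subgroup.closure_mono ?_)⟩
    rintro _ ⟨i, rfl⟩
    exact ⟨i.succ, Fin.cons_succ _ _ _⟩
  obtain ⟨ω, hω⟩ := IsCyclic.exists_generator (α := Fˣ)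
  obtain ⟨t, ht⟩ := Classical.exists_qFrob_trace_one hF
  have hch : (2 : F) = 0 := by
    have h := FiniteField.cast_card_eq_zero F
    rw [hF] at h
    push_cast at h
    exact mul_self_eq_zero.1 (by linear_combination h)
  let mkx : F → Par hF := fun a => Par.mk a (-(qFrob hF a * a) * t) (by
    rw [map_mul, map_neg, map_mul, qFrob_qFrob]
    linear_combination -(qFrob hF a * a) * ht)
  let g : Fin 4 → U3g hF := ![He hF ω, We hF, Qe (mkx 1), Qe (mkx ω)]
  suffices hg : Subgroup.closure (Set.range g) = ⊤ by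
    refine ⟨fun i => toSU3 hF (g i), ?_⟩
    have := congrArg (Subgroup.map (toSU3 hF).toMonoidHom) hg
    rwa [MonoidHom.map_closure, ← Set.range_comp, Subgroup.map_top_of_surjective _ (toSU3 hF).surjective] at this
  set S := Subgroup.closure (Set.range g)
  have hH : ∀ c, He hF c ∈ S := fun c => by
    obtain ⟨i, rfl⟩ := Subgroup.mem_zpowers_iff.1 (hω c)
    rw [map_zpow]
    exact zpow_mem (show He hF ω ∈ S from Subgroup.subset_closure ⟨0, rfl⟩) i
  have hW : We hF ∈ S := Subgroup.subset_closure ⟨1, rfl⟩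
  have h1 : Qe (mkx 1) ∈ S := Subgroup.subset_closure ⟨2, rfl⟩
  have hw : Qe (mkx ω) ∈ S := Subgroup.subset_closure ⟨3, rfl⟩
  -- the centre of the radical
  have hz1 : ∀ v : Par hF, v.a = 0 → v.b ≠ 0 → v.b = 1 := by
    intro v ha hb
    have h := v.rel
    rw [ha, mul_zero, add_zero, qFrob_apply] at h
    have h' : v.b * (v.b - 1) = 0 := by linear_combination h - v.b * hch
    exact sub_eq_zero.1 ((mul_eq_zero.1 h').resolve_left hb)
  have hsq : Qe ((mkx 1).mul (mkx 1)) ∈ S := by rw [← Qe_mul]; exact mul_mem h1 h1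
  have sqa : ((mkx 1).mul (mkx 1)).a = 0 := by simp only [Par.mul, Par.mk_a, mkx]; linear_combination hch
  have sqb : ((mkx 1).mul (mkx 1)).b = 1 := by
    simp only [Par.mul, Par.mk_b, Par.mk_a, mkx, map_one, mul_one]
    linear_combination (-t - 1) * hch
  have hQ0 : ∀ v : Par hF, v.a = 0 → Qe v ∈ S := by
    intro v ha
    by_cases hb : v.b = 0
    · rw [eq_zero_of_b hb, Qe_one]; exact one_mem S
    · rwa [Par.ext' (ha.trans sqa.symm) ((hz1 v ha hb).trans sqb.symm)]
  have hω3 : (ω : F) ^ 3 = 1 := by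
    rw [← Units.val_pow_eq_pow_val, show ω ^ 3 = 1 by
      have h := pow_card_eq_one' (x := ω)
      rwa [Nat.card_units, Nat.card_eq_fintype_card, hF] at h, Units.val_one]
  have hω1 : (ω : F) ≠ 1 := fun e => by
    have hc := orderOf_eq_card_of_forall_mem_zpowers hω
    rw [show ω = 1 from Units.ext (by simpa using e), orderOf_one, Nat.card_units, Nat.card_eq_fintype_card, hF] at hc
    norm_num at hc
  have hω2 : (ω : F) ^ 2 = 1 + ω := by
    have : ((ω : F) - 1) * ((ω : F) ^ 2 + ω + 1) = 0 := by linear_combination hω3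
    linear_combination (mul_eq_zero.1 this).resolve_left (sub_ne_zero.2 hω1) - (1 + (ω : F)) * hch
  have hQa : ∀ a : F, ∃ v : Par hF, v.a = a ∧ Qe v ∈ S := by
    intro a
    by_cases ha : a = 0
    · exact ⟨Par.one, ha.symm ▸ rfl, by rw [Qe_one]; exact one_mem S⟩
    obtain ⟨i, hi⟩ := (isOfFinOrder_of_finite ω).mem_powers_iff_mem_zpowers.2 (hω (Units.mk0 a ha))
    have hia : a = (ω : F) ^ (i % 3) := by
      rw [show a = ((ω ^ i : Fˣ) : F) from (congrArg Units.val hi).symm, Units.val_pow_eq_pow_val]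
      conv_lhs => rw [← Nat.mod_add_div i 3, pow_add, pow_mul, hω3, one_pow, mul_one]
    have hi3 : i % 3 < 3 := Nat.mod_lt _ (by norm_num)
    interval_cases h : i % 3
    · exact ⟨mkx 1, by rw [hia, pow_zero]; rfl, h1⟩
    · exact ⟨mkx ω, by rw [hia, pow_one]; rfl, hw⟩
    · exact ⟨(mkx 1).mul (mkx ω), by rw [hia, hω2]; rfl, by rw [← Qe_mul]; exact mul_mem h1 hw⟩
  have hQ : ∀ x : Par hF, Qe x ∈ S := by
    intro x
    obtain ⟨v, hva, hv⟩ := hQa x.a
    obtain ⟨d, hd, hda⟩ := Cfg.div_mem v x hva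
    rw [show Qe x = Qe v * ((Qe v)⁻¹ * Qe x) by group, ← hd]
    exact mul_mem hv (hQ0 d hda)
  rw [eq_top_iff]
  intro x _
  rcases cells x with ⟨a, c, rfl⟩ | ⟨a, c, b, rfl⟩
  · exact mul_mem (hQ a) (hH c)
  · exact mul_mem (mul_mem (mul_mem (hQ a) (hH c)) hW) (hQ b)

/-- `SU₂` has three generators. -/
theorem su2_three_gens (hF : Fintype.card F = q ^ 2) :
    ∃ g : Fin 3 → Cfsg.SU 2 F q, Subgroup.closure (Set.range g) = ⊤ := by
  classical
  obtain ⟨rels, hr, ⟨e⟩⟩ := (presentations (SUFour.Kf hF)).1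
  have hK : Fintype.card (SUFour.Kf hF) = q := SUFour.fintype_card_Kf hF
  obtain ⟨f⟩ := Cfsg.Agent.S0281.result hF hK
  exact (PresBy.congr ⟨rels, hr, ⟨e⟩⟩ f.symm).exists_gens

end CfsgLib.Pres
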