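import Cfsg.Agent.Lib.Pres.SUGlueFour
import Cfsg.Agent.Lib.Pres.SUFourFour
import Cfsg.Agent.Lib.Pres.SUFourPres
import Cfsg.Agent.Lib.Pres.SUThreeTwo
import Cfsg.Agent.Lib.Pres.SUTwoGens
import Cfsg.Agent.Lib.Pres.SUCenterCyclic

/-!
# Presentations of `SU_n` with six generators
-/

set_option autoImplicit false

namespace CfsgLib.Pres

open Matrix
open scoped MatrixGroups

variable {F : Type*} [Field F] [Fintype F] {q n : ℕ}

/-- Two generators of `SU₃` for every `q`. -/
theorem su_three_two_gens_all (hF : Fintype.card F = q ^ 2) :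
    ∃ g : Fin 2 → Cfsg.SU 3 F q, Subgroup.closure (Set.range g) = ⊤ := by
  by_cases h2 : q = 2
  · exact SUThree.su_three_two_gens hF h2
  · exact su_two_gen hF le_rfl fun _ => h2

/-- Two generators of `SU₂(2)`. -/
theorem su2_two_gens_two (hF : Fintype.card F = q ^ 2) (h2 : q = 2) :
    ∃ g : Fin 2 → Cfsg.SU 2 F q, Subgroup.closure (Set.range g) = ⊤ := by
  classical
  have hK : Fintype.card (SUFour.Kf hF) = q := SUFour.fintype_card_Kf hF
  obtain ⟨f⟩ := Cfsg.Agent.S0281.result hF hK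
  obtain ⟨p, hchar⟩ := CharP.exists (SUFour.Kf hF)
  obtain ⟨m, hp, hm⟩ := FiniteField.card (SUFour.Kf hF) p
  have : Fact p.Prime := ⟨hp⟩
  let _ : Algebra (ZMod p) (SUFour.Kf hF) := ZMod.algebra (SUFour.Kf hF) p
  have : CharP (SUFour.Kf hF) p := hchar
  obtain ⟨S⟩ := exists_stdData (SUFour.Kf hF) p
  have hz : S.z = 1 := by
    have h := pow_card_eq_one' (x := S.z)
    rwa [Nat.card_units, Nat.card_eq_fintype_card, hK, show q - 1 = 1 by omega, pow_one] at h
  refine ⟨![f.symm (Classical.uElt 1), f.symm (wElt (SUFour.Kf hF))], ?_⟩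
  have h := congrArg (Subgroup.map f.symm.toMonoidHom) (closure_std S.z S.b S.B S.hB)
  rw [MonoidHom.map_closure, ← Set.range_comp, Subgroup.map_top_of_surjective _ f.symm.surjective] at h
  refine top_le_iff.1 (h.ge.trans ((Subgroup.closure_le _).2 ?_))
  rintro _ ⟨i, rfl⟩
  fin_cases i
  · exact Subgroup.subset_closure ⟨0, rfl⟩
  · show f.symm (dElt S.z) ∈ _
    rw [hz, ← pow_zero (1 : (SUFour.Kf hF)ˣ), ← dElt_pow, pow_zero, map_one]
    exact one_mem _
  · exact Subgroup.subset_closure ⟨1, rfl⟩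

/-- `SU_n` has six generators, `35` relators for `n = 5` and `39` for `n ≥ 6`. -/
theorem su_pres_six (hF : Fintype.card F = q ^ 2) (hn : 5 ≤ n) :
    PresBy 6 (Cfsg.SU n F q) (if n = 5 then 35 else 39) := by
  have hq := Classical.two_le_of_card_sq hF
  obtain ⟨x4, hx4⟩ := su_two_gen hF (show 3 ≤ 4 by norm_num) (by omega)
  obtain ⟨g3, hg3⟩ := su_three_two_gens_all hF
  have h4 := SUFour.su_four_pres_four hF
  rcases Nat.eq_or_lt_of_le hn with h5 | h6
  · subst h5
    obtain ⟨c, hne, hfix, hgen⟩ := SUn.stab_five (show 4 ≤ 5 by norm_num) rfl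
    have hA := Short.hasPres_small_alt (show 3 ≤ 5 by norm_num) (by norm_num)
    have hsgen : ∀ σ : alternatingGroup (Fin 5), (Finset.univ.map (SUn.f0 (show 4 ≤ 5 by norm_num))).map
        (σ : Equiv.Perm (Fin 5)).toEmbedding = Finset.univ.map (SUn.f0 (show 4 ≤ 5 by norm_num)) →
          σ ∈ Subgroup.closure (Set.range c ∪ Set.range (Fin.elim0 : Fin 0 → alternatingGroup (Fin 5))) :=
      fun σ hσ => Subgroup.closure_mono Set.subset_union_left (hgen σ hσ)
    rw [if_pos rfl]
    by_cases h2 : q = 2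
    · obtain ⟨gm, hgm⟩ := su2_two_gens_two hF h2
      refine (SUn.su_n_core_four hF le_rfl h4 hA x4 hx4 g3 hg3 gm hgm le_rfl (by norm_num) (by norm_num) (Or.inr rfl)
        c 0 hne hfix Fin.elim0 (fun i => i.elim0) hsgen).mono ?_
      rw [if_pos h2, if_neg (by omega)]
      norm_num
    · obtain ⟨gm, hgm⟩ := su2_three_gens hF
      refine (SUn.su_n_core_four hF le_rfl h4 hA x4 hx4 g3 hg3 gm hgm le_rfl (by norm_num) (by norm_num) (Or.inr rfl)
        c 0 hne hfix Fin.elim0 (fun i => i.elim0) hsgen).mono ?_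
      rw [if_neg h2, if_pos (by omega)]
  · obtain ⟨c, s, hne, hfix, hs, hgen⟩ := SUn.stab_six (show 4 ≤ n by omega) (show 6 ≤ n by omega)
    have hA := Short.hasPres_alt_six (show 3 ≤ n by omega)
    rw [if_neg (by omega)]
    refine (SUn.su_n_core_four hF hn h4 hA x4 hx4 g3 hg3 g3 hg3 (by norm_num) le_rfl (by omega) (Or.inl rfl)
      c 0 hne hfix s hs hgen).mono ?_
    by_cases h2 : q = 2
    · rw [if_pos h2, if_neg (by omega)]; norm_num
    · rw [if_neg h2, if_pos (by omega)]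

end CfsgLib.Pres
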