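import Cfsg.Agent.Lib.Pres.SUThreeRadical

/-!
# A group satisfying the equations for `SU₃` is `SU₃`
-/

set_option autoImplicit false

namespace CfsgLib.Pres.SUThree

open Matrix
open CfsgLib.Classical (qFrob qFrob_apply qFrob_qFrob)
open CfsgLib.Pres.SUFour (Kf σ_fix card_Kf data)

variable {F : Type*} [Field F] [Fintype F] {q : ℕ} {hF : Fintype.card F = q ^ 2}

theorem Par.mul_one' (x : Par hF) : x.mul Par.one = x :=
  Par.ext' (by simp [Par.mul, Par.one]) (by simp [Par.mul, Par.one])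

/-- The inverse parameters. -/
noncomputable def Par.inv (x : Par hF) : Par hF :=
  Par.mk (-x.a) (qFrob hF x.b) (by
    rw [qFrob_qFrob, map_neg]
    linear_combination x.rel)

theorem Par.mul_inv' (x : Par hF) : x.mul x.inv = Par.one := by
  refine Par.ext' (by simp [Par.mul, Par.inv, Par.one]) ?_
  simp only [Par.mul, Par.inv, Par.mk_a, Par.mk_b, Par.one]
  linear_combination x.rel

theorem Par.b_ne {x : Par hF} (h : x ≠ Par.one) : x.b ≠ 0 := fun e => h (eq_zero_of_b e)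

theorem flip_flip (c : Fˣ) : flip hF (flip hF c) = c := by
  refine Units.ext ?_
  rw [flip_val, flip_val, map_inv₀, qFrob_qFrob, inv_inv]

/-- The phase of a parameter. -/
noncomputable def Par.ph (x : Par hF) : F := -x.b / qFrob hF x.b

theorem Par.ph_act (c : Fˣ) (x : Par hF) : (x.act c).ph = x.ph := by
  have h1 : (c : F) ≠ 0 := c.ne_zero
  have h2 : qFrob hF (c : F) ≠ 0 := (map_ne_zero _).2 h1
  rw [Par.ph, Par.ph, Par.act, Par.mk_b, map_mul, map_mul, qFrob_qFrob]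
  field_simp

/-- The data obtained from the equations. -/
structure Rad {G : Type*} [Group G] (Φ : G →* U3g hF) (w : G) where
  /-- The radical. -/
  ψ : Par hF → G
  mul : ∀ x y, ψ (x.mul y) = ψ x * ψ y
  Φψ : ∀ x, Φ (ψ x) = Qe x
  /-- The torus. -/
  θ : Fˣ →* G
  Φθ : ∀ c, Φ (θ c) = He hF c
  conj : ∀ c x, θ c * ψ x * (θ c)⁻¹ = ψ (x.act c)
  ww : w * w = 1
  wθ : ∀ c, w * θ c * w = θ (flip hF c)
  Φw : Φ w = We hF

namespace Rad

variable {G : Type*} [Group G] {Φ : G →* U3g hF} {w : G} (R : Rad Φ w)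

theorem ψ_one : R.ψ Par.one = 1 := by
  have h := R.mul Par.one Par.one
  rwa [Par.mul_one', left_eq_mul] at h

theorem ψ_inv (x : Par hF) : R.ψ x.inv = (R.ψ x)⁻¹ :=
  eq_inv_of_mul_eq_one_right (by rw [← R.mul, Par.mul_inv', ψ_one])

theorem θ_ψ (c : Fˣ) (x : Par hF) : R.θ c * R.ψ x = R.ψ (x.act c) * R.θ c := by
  rw [← R.conj c x, inv_mul_cancel_right]

theorem ψ_θ (c : Fˣ) (x : Par hF) : R.ψ x * R.θ c = R.θ c * R.ψ (x.act c⁻¹) := by
  have h := R.θ_ψ c⁻¹ x
  rw [map_inv] at h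
  rw [← mul_inv_eq_iff_eq_mul.2 h]
  group

theorem w_θ (c : Fˣ) : w * R.θ c = R.θ (flip hF c) * w := by
  rw [← R.wθ c, mul_assoc (w * R.θ c), R.ww, mul_one]

theorem θ_w (c : Fˣ) : R.θ c * w = w * R.θ (flip hF c) := by
  rw [w_θ, flip_flip]

/-- The conjugate of a radical element lies in the big cell. -/
def Good (x : Par hF) : Prop :=
  ∃ (a : Par hF) (c : Fˣ) (b : Par hF), w * R.ψ x * w = R.ψ a * R.θ c * w * R.ψ b

theorem good_exact {x : Par hF} (hb : x.b ≠ 0) (h : R.Good x) :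
    w * R.ψ x * w = R.ψ x.fst * R.θ (x.mid hb) * w * R.ψ x.snd := by
  obtain ⟨a, c, b, e⟩ := h
  have e' := congrArg Φ e
  simp only [map_mul, R.Φψ, R.Φθ, R.Φw, bruhat x hb] at e'
  obtain ⟨rfl, rfl, rfl⟩ := big_injective e'
  exact e

theorem good_act {x : Par hF} (h : R.Good x) (c : Fˣ) : R.Good (x.act c) := by
  obtain ⟨a, m, b, e⟩ := h
  refine ⟨a.act (flip hF c), flip hF c * m * c⁻¹, b.act (flip hF c), ?_⟩
  have key : w * R.ψ (x.act c) * w = R.θ (flip hF c) * (w * R.ψ x * w) * (R.θ (flip hF c))⁻¹ := by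
    rw [← R.conj, ← R.wθ c]
    have hw : w⁻¹ = w := inv_eq_of_mul_eq_one_right R.ww
    simp only [_root_.mul_inv_rev, hw]
    simp only [mul_assoc]
    rw [← mul_assoc w w, R.ww, one_mul, ← mul_assoc w w, R.ww, one_mul]
  rw [key, e, ← map_inv, ← map_inv]
  calc R.θ (flip hF c) * (R.ψ a * R.θ m * w * R.ψ b) * R.θ (flip hF c⁻¹)
      = R.θ (flip hF c) * R.ψ a * (R.θ m * w) * (R.ψ b * R.θ (flip hF c⁻¹)) := by simp only [mul_assoc]
    _ = R.ψ (a.act (flip hF c)) * (R.θ (flip hF c) * R.θ m) * (w * R.θ (flip hF c⁻¹)) *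
        R.ψ (b.act (flip hF c)) := by
      rw [R.θ_ψ (flip hF c) a, R.ψ_θ (flip hF c⁻¹) b, ← map_inv (flip hF), inv_inv]
      simp only [mul_assoc]
    _ = _ := by
      rw [R.w_θ (flip hF c⁻¹), flip_flip]
      simp only [map_mul, mul_assoc]

theorem good_comp {u z : Par hF} (hu : u.b ≠ 0) (hz : z.b ≠ 0) (hb : (u.mul z).b ≠ 0) (gu : R.Good u)
    (gz : R.Good z) (gv : R.Good (u.snd.mul z.fst)) : R.Good (u.mul z) := by
  obtain ⟨a, m, b, e⟩ := R.good_act gv (z.mid hz)⁻¹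
  refine ⟨u.fst.mul (a.act (u.mid hu * flip hF (z.mid hz))),
    u.mid hu * flip hF (z.mid hz) * m, b.mul z.snd, ?_⟩
  have e1 := R.good_exact hu gu
  have e2 := R.good_exact hz gz
  have hw2 : ∀ t : G, w * (w * t) = t := fun t => by rw [← mul_assoc, R.ww, one_mul]
  calc w * R.ψ (u.mul z) * w = (w * R.ψ u * w) * (w * R.ψ z * w) := by
        rw [R.mul]; simp only [mul_assoc, hw2]
    _ = R.ψ u.fst * R.θ (u.mid hu) * (w * (R.ψ (u.snd.mul z.fst) * R.θ (z.mid hz)) * w) * R.ψ z.snd := by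
        rw [e1, e2, R.mul]; simp only [mul_assoc]
    _ = R.ψ u.fst * R.θ (u.mid hu) * (R.θ (flip hF (z.mid hz)) * (w * R.ψ ((u.snd.mul z.fst).act (z.mid hz)⁻¹) * w)) *
        R.ψ z.snd := by
        rw [R.ψ_θ (z.mid hz) (u.snd.mul z.fst), ← mul_assoc w (R.θ (z.mid hz)), R.w_θ (z.mid hz)]
        simp only [mul_assoc]
    _ = R.ψ u.fst * (R.θ (u.mid hu * flip hF (z.mid hz)) * R.ψ a) * R.θ m * w * (R.ψ b * R.ψ z.snd) := by
        rw [e, map_mul]; simp only [mul_assoc]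
    _ = _ := by
        rw [R.θ_ψ (u.mid hu * flip hF (z.mid hz)) a, R.mul, R.mul, map_mul _ _ m]
        simp only [mul_assoc]

/-- The two cells. -/
def InK (g : G) : Prop :=
  (∃ x c, g = R.ψ x * R.θ c) ∨ ∃ x c y, g = R.ψ x * R.θ c * w * R.ψ y

theorem inK_left (x : Par hF) (c : Fˣ) {g : G} (h : R.InK g) : R.InK (R.ψ x * R.θ c * g) := by
  rcases h with ⟨y, d, rfl⟩ | ⟨y, d, z, rfl⟩
  · refine Or.inl ⟨x.mul (y.act c), c * d, ?_⟩
    rw [R.mul, map_mul, mul_assoc (R.ψ x), ← mul_assoc (R.θ c), R.θ_ψ]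
    simp only [mul_assoc]
  · refine Or.inr ⟨x.mul (y.act c), c * d, z, ?_⟩
    rw [R.mul, map_mul, show R.ψ x * R.θ c * (R.ψ y * R.θ d * w * R.ψ z) =
      R.ψ x * (R.θ c * R.ψ y) * R.θ d * w * R.ψ z by simp only [mul_assoc], R.θ_ψ]
    simp only [mul_assoc]

theorem inK_right (x : Par hF) {g : G} (h : R.InK g) : R.InK (g * R.ψ x) := by
  rcases h with ⟨y, d, rfl⟩ | ⟨y, d, z, rfl⟩
  · refine Or.inl ⟨y.mul (x.act d), d, ?_⟩
    rw [R.mul, mul_assoc, R.θ_ψ, ← mul_assoc]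
  · exact Or.inr ⟨y, d, z.mul x, by rw [R.mul]; simp only [mul_assoc]⟩

variable (hgood : ∀ x : Par hF, x.b ≠ 0 → R.Good x)
include hgood

theorem inK_mid (x : Par hF) : R.InK (w * R.ψ x * w) := by
  rcases eq_or_ne x Par.one with rfl | hx
  · exact Or.inl ⟨Par.one, 1, by rw [R.ψ_one, map_one, mul_one, R.ww, mul_one]⟩
  · exact Or.inr ⟨_, _, _, R.good_exact (Par.b_ne hx) (hgood x (Par.b_ne hx))⟩

theorem inK_w {g : G} (h : R.InK g) : R.InK (w * g) := by
  have small : ∀ x c, R.InK (w * (R.ψ x * R.θ c)) := fun x c => by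
    rw [show w * (R.ψ x * R.θ c) = (w * R.ψ x * w) * (w * R.θ c) by
      rw [mul_assoc, ← mul_assoc w w, R.ww, one_mul, mul_assoc], R.w_θ]
    rcases R.inK_mid hgood x with ⟨y, d, hy⟩ | ⟨y, d, z, hy⟩ <;> rw [hy]
    · exact Or.inr ⟨y, d * flip hF c, Par.one, by rw [R.ψ_one, map_mul]; simp only [mul_assoc, mul_one]⟩
    · rw [show R.ψ y * R.θ d * w * R.ψ z * (R.θ (flip hF c) * w) =
        R.ψ y * R.θ d * (w * (R.ψ z * R.θ (flip hF c))) * w by simp only [mul_assoc], R.ψ_θ (flip hF c) z,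
        ← mul_assoc w (R.θ (flip hF c)), R.w_θ (flip hF c),
        flip_flip, show R.ψ y * R.θ d * (R.θ c * w * R.ψ (z.act (flip hF c)⁻¹)) * w =
        R.ψ y * R.θ (d * c) * (w * R.ψ (z.act (flip hF c)⁻¹) * w) by rw [map_mul]; simp only [mul_assoc]]
      exact R.inK_left _ _ (R.inK_mid hgood _)
  rcases h with ⟨x, c, rfl⟩ | ⟨x, c, y, rfl⟩
  · exact small x c
  · rw [show w * (R.ψ x * R.θ c * w * R.ψ y) = w * (R.ψ x * R.θ c) * w * R.ψ y by simp only [mul_assoc]]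
    refine R.inK_right _ ?_
    rcases small x c with ⟨a, d, ha⟩ | ⟨a, d, b, ha⟩ <;> rw [ha]
    · exact Or.inr ⟨a, d, Par.one, by rw [R.ψ_one, mul_one]⟩
    · rw [show R.ψ a * R.θ d * w * R.ψ b * w = R.ψ a * R.θ d * (w * R.ψ b * w) by simp only [mul_assoc]]
      exact R.inK_left _ _ (R.inK_mid hgood _)

theorem bijective (hgen : Subgroup.closure (Set.range R.ψ ∪ Set.range R.θ ∪ {w}) = ⊤) : Function.Bijective Φ := by
  have all : ∀ g, R.InK g := by
    have key : ∀ g ∈ Subgroup.closure (Set.range R.ψ ∪ Set.range R.θ ∪ {w}),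
        ∀ k, R.InK k → R.InK (g * k) := by
      intro g hg
      induction hg using Subgroup.closure_induction'' with
      | mem x hx =>
        intro k hk
        rcases hx with (⟨x, rfl⟩ | ⟨c, rfl⟩) | rfl
        · have := R.inK_left x 1 hk
          rwa [map_one, mul_one] at this
        · have := R.inK_left Par.one c hk
          rwa [R.ψ_one, one_mul] at this
        · exact R.inK_w hgood hk
      | inv_mem x hx =>
        intro k hk
        rcases hx with (⟨x, rfl⟩ | ⟨c, rfl⟩) | rfl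
        · have := R.inK_left x.inv 1 hk
          rwa [map_one, mul_one, R.ψ_inv] at this
        · have := R.inK_left Par.one c⁻¹ hk
          rwa [R.ψ_one, one_mul, map_inv] at this
        · rw [inv_eq_of_mul_eq_one_right R.ww]; exact R.inK_w hgood hk
      | one => intro k hk; rwa [one_mul]
      | mul x y _ _ hx hy => intro k hk; rw [mul_assoc]; exact hx _ (hy _ hk)
    intro g
    have := key g (hgen ▸ Subgroup.mem_top g) 1 (Or.inl ⟨Par.one, 1, by rw [R.ψ_one, map_one, mul_one]⟩)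
    rwa [mul_one] at this
  refine ⟨(injective_iff_map_eq_one Φ).2 fun g hg => ?_, fun t => ?_⟩
  · have h1 : (1 : U3g hF) = Qe Par.one * He hF 1 := by rw [Qe_one, map_one, mul_one]
    rw [h1] at hg
    rcases all g with ⟨x, c, rfl⟩ | ⟨x, c, y, rfl⟩
    · simp only [map_mul, R.Φψ, R.Φθ] at hg
      obtain ⟨rfl, rfl⟩ := small_injective hg
      rw [R.ψ_one, map_one, mul_one]
    · simp only [map_mul, R.Φψ, R.Φθ, R.Φw] at hg
      exact absurd hg.symm small_ne_big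
  · rcases cells t with ⟨x, c, rfl⟩ | ⟨x, c, y, rfl⟩
    · exact ⟨R.ψ x * R.θ c, by rw [map_mul, R.Φψ, R.Φθ]⟩
    · exact ⟨R.ψ x * R.θ c * w * R.ψ y, by simp only [map_mul, R.Φψ, R.Φθ, R.Φw]⟩

end Rad

namespace Cfg

variable {p e : ℕ} [Fact p.Prime] [Algebra (ZMod p) (Kf hF)]
variable (C : Cfg hF p e) (h2 : q ≠ 2)

theorem ph_eq_pow {x : Par hF} (hb : x.b ≠ 0) : ∃ i : ℕ, x.ph = C.y1 ^ i := by
  have hs : qFrob hF x.b ≠ 0 := (map_ne_zero _).2 hb
  have hph : x.ph ≠ 0 := div_ne_zero (neg_ne_zero.2 hb) hs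
  obtain ⟨n, hn⟩ := C.hω' (Units.mk0 _ hph)
  have hq := Classical.two_le_of_card_sq hF
  have h1 : C.ω ^ (n * (q + 1)) = 1 := by
    rw [pow_mul, hn]
    refine Units.ext ?_
    rw [Units.val_pow_eq_pow_val, Units.val_mk0, Units.val_one, pow_succ, ← qFrob_apply hF, Par.ph, map_div₀,
      map_neg, qFrob_qFrob]
    field_simp
  have hdvd := orderOf_dvd_of_pow_eq_one h1
  rw [C.orderOf_ω, show q ^ 2 - 1 = (q - 1) * (q + 1) by rw [mul_comm]; simpa [sq] using Nat.sq_sub_sq q 1] at hdvd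
  obtain ⟨i, rfl⟩ := Nat.dvd_of_mul_dvd_mul_right (by omega) hdvd
  refine ⟨i, ?_⟩
  rw [y1, ← pow_mul, ← Units.val_pow_eq_pow_val, hn, Units.val_mk0]

theorem ph_a_zero {x : Par hF} (hb : x.b ≠ 0) : x.ph = 1 ↔ x.a = 0 := by
  have hs : qFrob hF x.b ≠ 0 := (map_ne_zero _).2 hb
  rw [Par.ph, div_eq_one_iff_eq hs]
  constructor
  · intro h
    have := x.rel
    rw [← h, add_neg_cancel, zero_add, mul_eq_zero, map_eq_zero] at this
    exact this.elim id id
  · intro h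
    have := x.rel
    rw [h, mul_zero, add_zero] at this
    linear_combination -this

theorem xy_ph {a : F} (ha : a ≠ 0) : (C.xy a).ph = C.y1 := by
  have hy := C.y1_norm
  have h1 : (1 : F) - qFrob hF C.y1 ≠ 0 := sub_ne_zero.2 fun e => C.y1_ne_one (by
    have := hy; rw [← e, one_mul] at this; exact this)
  have h2' : (1 : F) - C.y1 ≠ 0 := sub_ne_zero.2 (Ne.symm C.y1_ne_one)
  have hs : qFrob hF a ≠ 0 := (map_ne_zero _).2 ha
  rw [Par.ph, xy, Par.mk_b, map_div₀, map_neg, map_mul, qFrob_qFrob, map_sub, map_one, qFrob_qFrob]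
  field_simp
  linear_combination hy

theorem eq_xy {x : Par hF} (h : x.ph = C.y1) (hb : x.b ≠ 0) : x = C.xy x.a := by
  have hy := C.y1_norm
  have h1 : (1 : F) - qFrob hF C.y1 ≠ 0 := sub_ne_zero.2 fun e => C.y1_ne_one (by
    have := hy; rw [← e, one_mul] at this; exact this)
  have hs : qFrob hF x.b ≠ 0 := (map_ne_zero _).2 hb
  refine Par.ext' rfl ?_
  rw [xy, Par.mk_b, eq_div_iff h1]
  rw [Par.ph, div_eq_iff hs] at h
  linear_combination x.rel + qFrob hF C.y1 * h + qFrob hF x.b * hy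

theorem xy_seed (a : F) (ha : a ≠ 0) : ∃ (r : Fin 3) (c : Fˣ), C.xy a = (C.seed r).act c := by
  obtain ⟨n, hn⟩ := C.hω' (Units.mk0 a ha)
  refine ⟨⟨n % 3, Nat.mod_lt _ (by norm_num)⟩, C.ω ^ ((2 * q + 1) * (n / 3)), ?_⟩
  have hμ : muHom hF (C.ω ^ (2 * q + 1)) = C.ω ^ 3 := by
    refine Units.ext ?_
    rw [muHom_val, Units.val_pow_eq_pow_val, Units.val_pow_eq_pow_val, map_pow, qFrob_apply, ← pow_mul, ← pow_mul,
      div_eq_iff (pow_ne_zero _ C.ω_ne), ← pow_add, ← Units.val_pow_eq_pow_val, ← Units.val_pow_eq_pow_val]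
    congr 1
    rw [pow_eq_pow_iff_modEq, C.orderOf_ω, Nat.modEq_iff_dvd]
    have hq := Classical.two_le_of_card_sq hF
    refine ⟨-4, ?_⟩
    rw [Nat.cast_sub (by nlinarith)]
    push_cast
    ring
  have hy := C.y1_norm
  have h1 : (1 : F) - qFrob hF C.y1 ≠ 0 := sub_ne_zero.2 fun e => C.y1_ne_one (by
    have := hy; rw [← e, one_mul] at this; exact this)
  have hs : (C.seed ⟨n % 3, Nat.mod_lt _ (by norm_num)⟩).ph = C.y1 := C.xy_ph (pow_ne_zero _ C.ω_ne)
  have hb : (C.seed ⟨n % 3, Nat.mod_lt _ (by norm_num)⟩).b ≠ 0 := fun e => by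
    rw [Par.ph, e, neg_zero, zero_div] at hs
    have := C.y1_norm
    rw [← hs, mul_zero] at this
    exact zero_ne_one this
  set c : Fˣ := C.ω ^ ((2 * q + 1) * (n / 3))
  set s := C.seed ⟨n % 3, Nat.mod_lt _ (by norm_num)⟩ with hs'
  have hca : (s.act c).a = a := by
    show qFrob hF (c : F) ^ 2 / (c : F) * (C.ω : F) ^ (n % 3) = a
    rw [← muHom_val, show c = (C.ω ^ (2 * q + 1)) ^ (n / 3) from pow_mul _ _ _, map_pow, hμ, ← pow_mul,
      ← Units.val_pow_eq_pow_val, ← Units.val_mul, ← pow_add, Nat.div_add_mod n 3, hn, Units.val_mk0]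
  have hcb : (s.act c).b ≠ 0 :=
    mul_ne_zero (mul_ne_zero c.ne_zero ((map_ne_zero _).2 c.ne_zero)) hb
  rw [C.eq_xy ((Par.ph_act c s).trans hs) hcb, hca]

variable {G : Type*} [Group G] {u h w : G}

include h2 in
theorem all_good {Φ : G →* U3g hF} (R : Rad Φ w) (g1 : R.Good (C.zc 1)) (gs : ∀ r, R.Good (C.seed r)) :
    ∀ x : Par hF, x.b ≠ 0 → R.Good x := by
  have central : ∀ x : Par hF, x.b ≠ 0 → x.a = 0 → R.Good x := by
    intro x hb ha
    obtain ⟨γ, rfl⟩ := C.exists_zc h2 x ha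
    have hγ : γ ≠ 0 := by rintro rfl; simp [zc_b] at hb
    obtain ⟨c, hc⟩ := (data hF).exists_norm (SUFour.hFK hF) (SUFour.hσ hF) (Units.mk0 γ hγ)
    have hc' : (c : F) * qFrob hF (c : F) = (γ : F) := congrArg (fun t : (Kf hF)ˣ => ((t : Kf hF) : F)) hc
    have e : C.zc γ = (C.zc 1).act c := by
      refine Par.ext' (by simp [Par.act, zc_a]) ?_
      simp only [Par.act, Par.mk_b, zc_b, OneMemClass.coe_one, hc']
      ring
    rw [e]
    exact R.good_act g1 c
  have main : ∀ (i : ℕ) (x : Par hF), x.b ≠ 0 → x.ph = C.y1 ^ i → R.Good x := by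
    intro i
    induction i with
    | zero => exact fun x hb h => central x hb ((ph_a_zero hb).1 (by rwa [pow_zero] at h))
    | succ i ih =>
      intro x hb h
      by_cases ha : x.a = 0
      · exact central x hb ha
      have huph : (C.xy x.a).ph = C.y1 := C.xy_ph ha
      have hub : (C.xy x.a).b ≠ 0 := fun e => ha (by simpa [xy_a, Par.one] using congrArg Par.a (eq_zero_of_b e))
      have gu : R.Good (C.xy x.a) := by
        obtain ⟨r, c, e⟩ := C.xy_seed x.a ha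
        rw [e]
        exact R.good_act (gs r) c
      set u' := C.xy x.a
      have hua : u'.a = x.a := rfl
      by_cases hbb : u'.b = x.b
      · rwa [← Par.ext' hua hbb]
      let z : Par hF := Par.mk 0 (x.b - u'.b) (by
        have r1 := x.rel
        have r2 := u'.rel
        rw [hua] at r2
        rw [map_sub, map_zero, mul_zero, add_zero]
        linear_combination r1 - r2)
      have hzb : z.b ≠ 0 := sub_ne_zero.2 (Ne.symm hbb)
      have hx : x = u'.mul z := Par.ext' (by simp [Par.mul, z, hua]) (by simp [Par.mul, z])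
      rw [hx]
      refine R.good_comp hub hzb (hx ▸ hb) gu (central z hzb rfl) ?_
      have hsu : qFrob hF u'.b ≠ 0 := (map_ne_zero _).2 hub
      have hvb : (u'.snd.mul z.fst).b = x.b / (u'.b * z.b) := by
        simp only [Par.mul, Par.snd, Par.fst, z, Par.mk_a, Par.mk_b, neg_zero, zero_div, mul_zero, sub_zero]
        field_simp
        ring
      have hsb : qFrob hF x.b ≠ 0 := (map_ne_zero _).2 hb
      have hvne : (u'.snd.mul z.fst).b ≠ 0 := hvb ▸ div_ne_zero hb (mul_ne_zero hub hzb)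
      refine ih _ hvne ?_
      have hy0 : C.y1 ≠ 0 := pow_ne_zero _ C.ω_ne
      have hzph : z.ph = 1 := (ph_a_zero hzb).2 rfl
      refine mul_right_cancel₀ hy0 ?_
      rw [← pow_succ, ← h, ← huph]
      rw [Par.ph, Par.ph, Par.ph, hvb, map_div₀, map_mul]
      rw [Par.ph, div_eq_one_iff_eq ((map_ne_zero _).2 hzb)] at hzph
      rw [← hzph]
      field_simp
  intro x hb
  obtain ⟨i, hi⟩ := C.ph_eq_pow hb
  exact main i x hb hi

/-- A group satisfying the equations, generated by the three elements, is `SU₃`. -/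
theorem bound [CharP F p] (hcard : q = p ^ e) (hR : ∀ x ∈ C.eqs h2 u h w, x.1 = x.2) (Φ : G →* U3g hF)
    (hu : Φ u = C.u0) (hh : Φ h = C.h0) (hw : Φ w = We hF) (hgen : Subgroup.closure {u, h, w} = ⊤) :
    Function.Bijective Φ := by
  classical
  obtain ⟨ψ, hmul, hψ0, hΦψ, hwq, hζ, hact⟩ := C.radical h2 hcard hR Φ hu hh
  have hR' := hR
  simp only [eqs, List.forall_mem_append, List.forall_mem_cons, List.not_mem_nil, IsEmpty.forall_iff, implies_true,
    and_true, List.mem_ofFn, forall_exists_index, forall_apply_eq_imp_iff] at hR'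
  obtain ⟨⟨hN, -, -, -, -, -, -, -, -, -, -, -, -, -, -, hww, hwh, hwz⟩, hseed⟩ := hR'
  have hd : orderOf h ∣ orderOf C.ω := by rw [C.orderOf_ω]; exact orderOf_dvd_of_pow_eq_one hN
  set θ : Fˣ →* G := monoidHomOfForallMemZpowers C.hω hd
  have hθω : θ C.ω = h := monoidHomOfForallMemZpowers_apply_gen _ _
  have hθpow : ∀ n : ℕ, θ (C.ω ^ n) = h ^ n := fun n => by rw [map_pow, hθω]
  have hΦθ : ∀ c, Φ (θ c) = He hF c := fun c => by
    obtain ⟨n, rfl⟩ := C.hω' c
    rw [hθpow, map_pow, hh, map_pow]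
    rfl
  have hwθ : ∀ c, w * θ c * w = θ (flip hF c) := fun c => by
    obtain ⟨n, rfl⟩ := C.hω' c
    have hwi : w⁻¹ = w := inv_eq_of_mul_eq_one_right hww
    have e : w * θ C.ω * w = θ (flip hF C.ω) := by rw [hθω, C.hQexp, hθpow, hwh]
    rw [map_pow, map_pow, map_pow, ← e]
    conv_rhs => rw [show w * θ C.ω * w = w * θ C.ω * w⁻¹ by rw [hwi], conj_pow, hwi]
  let R : Rad Φ w := ⟨ψ, hmul, hΦψ, θ, hΦθ, fun c x => by
    obtain ⟨n, rfl⟩ := C.hω' c
    rw [hθpow, hact], hww, hwθ, hw⟩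
  have good_of : ∀ x : Par hF, x.b ≠ 0 → w * ψ x * w = C.cellWord h2 u h w x → R.Good x := fun x hb e =>
    ⟨x.fst, x.mid hb, x.snd, by
      show w * ψ x * w = ψ x.fst * θ (x.mid hb) * w * ψ x.snd
      rw [e, cellWord, dif_pos hb, hwq, hwq, ← hθpow, C.hdlog]⟩
  have g1 : R.Good (C.zc 1) := good_of _ (by simp [zc_b, C.lam_ne h2]) (by rw [← hζ]; exact hwz)
  have gs : ∀ r, R.Good (C.seed r) := fun r => good_of _ (C.y1_seed_b h2 r) (by rw [← hwq]; exact hseed r)
  refine R.bijective (C.all_good h2 R g1 gs) (eq_top_iff.2 (hgen ▸ Subgroup.closure_mono ?_))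
  rintro x (rfl | rfl | rfl)
  · exact Or.inl (Or.inl ⟨C.x0, hψ0⟩)
  · exact Or.inl (Or.inr ⟨C.ω, hθω⟩)
  · exact Or.inr rfl

end Cfg

end CfsgLib.Pres.SUThree
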