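import Cfsg.Agent.Lib.Pres.SUFourModel

/-!
# The Bruhat decomposition of `SU₃`

The form is the antidiagonal one.
-/

set_option autoImplicit false

namespace CfsgLib.Pres.SUThree

open Matrix
open CfsgLib.Classical (qFrob qFrob_apply qFrob_qFrob)
open CfsgLib.KnownA.SUModel (ct ct_apply ct_mul ct_one sug mat mat_injective)
open CfsgLib.Pres.SUFour (Kf σ_fix card_Kf)

variable {F : Type*} [Field F] [Fintype F] {q : ℕ} (hF : Fintype.card F = q ^ 2)

/-- The antidiagonal form. -/
def J3 (F : Type*) [Field F] : Matrix (Fin 3) (Fin 3) F := !![0, 0, 1; 0, 1, 0; 1, 0, 0]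

local notation "J" => J3 F

/-- The group of the antidiagonal form. -/
def U3g : Subgroup (Matrix.SpecialLinearGroup (Fin 3) F) where
  carrier := {g | ct hF (g : Matrix (Fin 3) (Fin 3) F) * J * (g : Matrix (Fin 3) (Fin 3) F) = J}
  one_mem' := by simp [ct_one]
  mul_mem' := fun {a b} ha hb => by
    show ct hF ((a : Matrix (Fin 3) (Fin 3) F) * (b : Matrix (Fin 3) (Fin 3) F)) * J *
      ((a : Matrix (Fin 3) (Fin 3) F) * (b : Matrix (Fin 3) (Fin 3) F)) = J
    calc _ = ct hF (b : Matrix (Fin 3) (Fin 3) F) *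
          (ct hF (a : Matrix (Fin 3) (Fin 3) F) * J * (a : Matrix (Fin 3) (Fin 3) F)) *
          (b : Matrix (Fin 3) (Fin 3) F) := by rw [ct_mul]; simp only [Matrix.mul_assoc]
      _ = _ := by
        rw [show ct hF (a : Matrix (Fin 3) (Fin 3) F) * J * (a : Matrix (Fin 3) (Fin 3) F) = J from ha]; exact hb
  inv_mem' := fun {a} ha => by
    have h1 : (a : Matrix (Fin 3) (Fin 3) F) *
        ((a⁻¹ : Matrix.SpecialLinearGroup (Fin 3) F) : Matrix (Fin 3) (Fin 3) F) = 1 := by
      rw [← Matrix.SpecialLinearGroup.coe_mul, mul_inv_cancel, Matrix.SpecialLinearGroup.coe_one]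
    set b := ((a⁻¹ : Matrix.SpecialLinearGroup (Fin 3) F) : Matrix (Fin 3) (Fin 3) F)
    show ct hF b * J * b = J
    calc ct hF b * J * b = ct hF b * (ct hF (a : Matrix (Fin 3) (Fin 3) F) * J * (a : Matrix (Fin 3) (Fin 3) F)) *
          b := by
          rw [show ct hF (a : Matrix (Fin 3) (Fin 3) F) * J * (a : Matrix (Fin 3) (Fin 3) F) = J from ha]
      _ = ct hF ((a : Matrix (Fin 3) (Fin 3) F) * b) * J * ((a : Matrix (Fin 3) (Fin 3) F) * b) := by
          rw [ct_mul]; simp only [Matrix.mul_assoc]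
      _ = J := by rw [h1, ct_one, Matrix.one_mul, Matrix.mul_one]

/-- The matrix of an element. -/
def m3 (g : U3g hF) : Matrix (Fin 3) (Fin 3) F := ((g : Matrix.SpecialLinearGroup (Fin 3) F) : Matrix (Fin 3) (Fin 3) F)

theorem m3_mul (g h : U3g hF) : m3 hF (g * h) = m3 hF g * m3 hF h := rfl

theorem m3_one : m3 hF (1 : U3g hF) = 1 := rfl

theorem u3_ext {g h : U3g hF} (e : m3 hF g = m3 hF h) : g = h := Subtype.ext (Subtype.ext e)

theorem exists_base3 : ∃ (C D : Matrix (Fin 3) (Fin 3) F), C * D = 1 ∧ ct hF C * C = J := by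
  classical
  have hq := Classical.two_le_of_card_sq hF
  have hm1 : (-1 : F) ≠ 0 := neg_ne_zero.2 one_ne_zero
  have hm2 : (-1 : F) ^ q = -1 := by rw [← qFrob_apply hF, map_neg, map_one]
  have hcard := Classical.card_norm_fibre hF hm1 hm2
  have : Nontrivial {x : F // x ^ (q + 1) = -1} := Finite.one_lt_card_iff_nontrivial.1 (by omega)
  obtain ⟨⟨μ, hμ⟩, ⟨ν, hν⟩, hne⟩ := exists_pair_ne {x : F // x ^ (q + 1) = -1}
  have hne' : μ ≠ ν := fun e => hne (Subtype.ext e)
  have hNμ : qFrob hF μ * μ = -1 := by rw [qFrob_apply, ← pow_succ, hμ]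
  have hNν : qFrob hF ν * ν = -1 := by rw [qFrob_apply, ← pow_succ, hν]
  have hμ0 : μ ≠ 0 := fun e => hm1 (by rw [← hμ, e, zero_pow (by omega)])
  have hd : 1 + qFrob hF μ * ν ≠ 0 := fun e => hne' (mul_left_cancel₀
    ((map_ne_zero (qFrob hF)).2 hμ0) (by linear_combination hNμ - e))
  set l := (1 + qFrob hF μ * ν)⁻¹ with hl
  have hl1 : l * (1 + qFrob hF μ * ν) = 1 := inv_mul_cancel₀ hd
  have hl2 : qFrob hF l * (1 + qFrob hF ν * μ) = 1 := by
    have := congrArg (qFrob hF) hl1
    rw [map_mul, map_add, map_one, map_mul, qFrob_qFrob] at this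
    linear_combination this
  let C : Matrix (Fin 3) (Fin 3) F := !![1, 0, l; μ, 0, l * ν; 0, 1, 0]
  have hCC : ct hF C * C = J := by
    ext i j
    fin_cases i <;> fin_cases j <;>
      simp [C, J3, ct_apply, Matrix.mul_apply, Fin.sum_univ_three] <;>
      first | linear_combination hNμ | linear_combination hl1 | linear_combination hl2 |
        linear_combination qFrob hF l * l * hNν
  refine ⟨C, J * ct hF C, mul_eq_one_comm.1 ?_, hCC⟩
  rw [Matrix.mul_assoc, hCC]
  ext i j
  fin_cases i <;> fin_cases j <;> simp [J3, Matrix.mul_apply, Fin.sum_univ_three]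

/-- The change of basis. -/
noncomputable def C3 : Matrix (Fin 3) (Fin 3) F := (exists_base3 hF).choose
/-- Its inverse. -/
noncomputable def D3 : Matrix (Fin 3) (Fin 3) F := (exists_base3 hF).choose_spec.choose

theorem C_D3 : C3 hF * D3 hF = 1 := (exists_base3 hF).choose_spec.choose_spec.1
theorem D_C3 : D3 hF * C3 hF = 1 := mul_eq_one_comm.1 (C_D3 hF)
theorem ct_C3 : ct hF (C3 hF) * C3 hF = J := (exists_base3 hF).choose_spec.choose_spec.2

theorem det_conj_C3 (x : Matrix (Fin 3) (Fin 3) F) :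
    (C3 hF * x * D3 hF).det = x.det ∧ (D3 hF * x * C3 hF).det = x.det := by
  have h : (C3 hF).det * (D3 hF).det = 1 := by rw [← det_mul, C_D3, det_one]
  refine ⟨?_, ?_⟩ <;>
  · rw [det_mul, det_mul]
    linear_combination x.det * h

/-- The identification with the standard group. -/
noncomputable def toSug3 : U3g hF ≃* sug hF (Fin 3) where
  toFun g := KnownA.SUModel.mk hF (C3 hF * m3 hF g * D3 hF) (by
      have hx : ct hF (m3 hF g) * J * m3 hF g = J := g.2
      calc ct hF (C3 hF * m3 hF g * D3 hF) * (C3 hF * m3 hF g * D3 hF)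
          = ct hF (D3 hF) * (ct hF (m3 hF g) * (ct hF (C3 hF) * C3 hF) * m3 hF g) * D3 hF := by
            rw [ct_mul, ct_mul]; simp only [Matrix.mul_assoc]
        _ = ct hF (D3 hF) * (ct hF (C3 hF) * C3 hF) * D3 hF := by rw [ct_C3, hx]
        _ = ct hF (C3 hF * D3 hF) * (C3 hF * D3 hF) := by rw [ct_mul]; simp only [Matrix.mul_assoc]
        _ = 1 := by rw [C_D3, ct_one, Matrix.one_mul])
    (((det_conj_C3 hF _).1).trans g.1.2)
  invFun h := ⟨⟨D3 hF * mat hF h * C3 hF, ((det_conj_C3 hF _).2).trans (KnownA.SUModel.det_mat hF h)⟩, by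
      show ct hF (D3 hF * mat hF h * C3 hF) * J * (D3 hF * mat hF h * C3 hF) = J
      rw [← ct_C3 hF]
      calc ct hF (D3 hF * mat hF h * C3 hF) * (ct hF (C3 hF) * C3 hF) * (D3 hF * mat hF h * C3 hF)
          = ct hF (C3 hF) * (ct hF (mat hF h) * (ct hF (C3 hF * D3 hF) * (C3 hF * D3 hF)) * mat hF h) * C3 hF := by
            rw [ct_mul, ct_mul, ct_mul]; simp only [Matrix.mul_assoc]
        _ = _ := by rw [C_D3, ct_one, Matrix.one_mul, Matrix.mul_one, KnownA.SUModel.ct_mat, Matrix.mul_one]⟩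
  left_inv g := u3_ext hF (by
    show D3 hF * (C3 hF * _ * D3 hF) * C3 hF = _
    simp only [← Matrix.mul_assoc, D_C3, Matrix.one_mul]
    rw [Matrix.mul_assoc, D_C3, Matrix.mul_one])
  right_inv h := mat_injective hF (by
    show C3 hF * (D3 hF * mat hF h * C3 hF) * D3 hF = _
    simp only [← Matrix.mul_assoc, C_D3, Matrix.one_mul]
    rw [Matrix.mul_assoc, C_D3, Matrix.mul_one])
  map_mul' g h := mat_injective hF (by
    rw [map_mul]
    show C3 hF * _ * D3 hF = C3 hF * _ * D3 hF * (C3 hF * _ * D3 hF)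
    rw [m3_mul]
    simp only [Matrix.mul_assoc]
    rw [← Matrix.mul_assoc (D3 hF) (C3 hF), D_C3, Matrix.one_mul])

/-- The standard group `SU₃`. -/
noncomputable def toSU3 : U3g hF ≃* Cfsg.SU 3 F q :=
  (toSug3 hF).trans (MulEquiv.subgroupCongr (KnownA.SUModel.sug_eq_su hF 3))

theorem card_u3g : Nat.card (U3g hF) = q ^ 3 * ((q ^ 2 - 1) * (q ^ 3 + 1)) := by
  have hq := Classical.two_le_of_card_sq hF
  rw [Nat.card_congr (toSU3 hF).toEquiv]
  refine Nat.eq_of_mul_eq_mul_left (show 0 < q + 1 by omega) ?_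
  rw [Classical.card_su_mul hF (by norm_num), Classical.card_gu hF]
  simp only [Finset.prod_range_succ, Finset.range_zero, Finset.prod_empty, one_mul]
  norm_num [Nat.even_iff]
  ring

/-- The parameters of the unipotent radical. -/
def Par : Type _ := {x : F × F // x.2 + qFrob hF x.2 + qFrob hF x.1 * x.1 = 0}

variable {hF}

/-- The first coordinate. -/
def Par.a (x : Par hF) : F := x.1.1
/-- The second coordinate. -/
def Par.b (x : Par hF) : F := x.1.2

theorem Par.rel (x : Par hF) : x.b + qFrob hF x.b + qFrob hF x.a * x.a = 0 := x.2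

theorem Par.ext' {x y : Par hF} (h1 : x.a = y.a) (h2 : x.b = y.b) : x = y := Subtype.ext (Prod.ext h1 h2)

/-- Parameters from coordinates. -/
def Par.mk (a b : F) (h : b + qFrob hF b + qFrob hF a * a = 0) : Par hF := ⟨(a, b), h⟩

@[simp] theorem Par.mk_a (a b : F) (h : b + qFrob hF b + qFrob hF a * a = 0) : (Par.mk a b h).a = a := rfl
@[simp] theorem Par.mk_b (a b : F) (h : b + qFrob hF b + qFrob hF a * a = 0) : (Par.mk a b h).b = b := rfl

noncomputable instance : Fintype (Par hF) := by unfold Par; exact Fintype.ofFinite _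

theorem card_par : Nat.card (Par hF) = q ^ 3 := by
  classical
  obtain ⟨t, ht⟩ := Classical.exists_qFrob_trace_one hF
  obtain ⟨r, hr⟩ : ∃ r, qFrob hF r ≠ r := by
    by_contra h
    exact Classical.qFrob_ne_id hF (RingHom.ext fun x => not_not.1 fun hx => h ⟨x, hx⟩)
  set l := qFrob hF r - r with hl
  have hl0 : l ≠ 0 := sub_ne_zero.2 hr
  have hlσ : qFrob hF l = -l := by rw [hl, map_sub, qFrob_qFrob, neg_sub]
  let e : Par hF ≃ F × Kf hF :=
    { toFun := fun x => (x.a, ⟨(x.b + qFrob hF x.a * x.a * t) / l, by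
        show qFrob hF _ = _
        rw [map_div₀, map_add, map_mul, map_mul, qFrob_qFrob, hlσ, div_neg, ← neg_div]
        congr 1
        linear_combination -x.rel - qFrob hF x.a * x.a * ht⟩)
      invFun := fun y => Par.mk y.1 (l * (y.2 : F) - qFrob hF y.1 * y.1 * t) (by
        rw [map_sub, map_mul, map_mul, map_mul, qFrob_qFrob, hlσ, σ_fix]
        linear_combination -qFrob hF y.1 * y.1 * ht)
      left_inv := fun x => Par.ext' rfl (by simp only [Par.mk_b]; field_simp; ring)
      right_inv := fun y => Prod.ext rfl (Subtype.ext (by simp only [Par.mk_a, Par.mk_b]; field_simp; ring)) }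
  rw [Nat.card_congr e, Nat.card_prod, Nat.card_eq_fintype_card, hF, card_Kf]
  ring

variable (hF)

/-- The matrix of a radical element. -/
noncomputable def qMat (a b : F) : Matrix (Fin 3) (Fin 3) F := !![1, -qFrob hF a, b; 0, 1, a; 0, 0, 1]

variable {hF}

/-- The radical elements. -/
noncomputable def Qe (x : Par hF) : U3g hF :=
  ⟨⟨qMat hF x.a x.b, by simp [qMat, Matrix.det_fin_three]⟩, by
    show ct hF (qMat hF x.a x.b) * J * qMat hF x.a x.b = J
    have h := x.rel
    ext i j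
    fin_cases i <;> fin_cases j <;>
      simp [qMat, J3, ct_apply, qFrob_qFrob, Matrix.mul_apply, Fin.sum_univ_three] <;>
      first | ring1 | linear_combination h | linear_combination -h⟩

theorem m3_Qe (x : Par hF) : m3 hF (Qe x) = qMat hF x.a x.b := rfl

/-- The product of parameters. -/
noncomputable def Par.mul (x y : Par hF) : Par hF :=
  Par.mk (x.a + y.a) (x.b + y.b - qFrob hF x.a * y.a) (by
    simp only [map_sub, map_add, map_mul, qFrob_qFrob]
    linear_combination x.rel + y.rel)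

theorem Qe_mul (x y : Par hF) : Qe x * Qe y = Qe (x.mul y) := by
  refine u3_ext hF ?_
  simp only [m3_mul, m3_Qe, qMat, Par.mul, Par.mk_a, Par.mk_b]
  ext i j
  fin_cases i <;> fin_cases j <;> simp [Matrix.mul_apply, Fin.sum_univ_three] <;> ring

theorem Qe_injective : Function.Injective (Qe (hF := hF)) := fun x y h => by
  have e := congrArg (m3 hF) h
  exact Par.ext' (by simpa [m3_Qe, qMat] using congrFun (congrFun e 1) 2)
    (by simpa [m3_Qe, qMat] using congrFun (congrFun e 0) 2)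

/-- The identity parameters. -/
def Par.one : Par hF := Par.mk 0 0 (by simp)

theorem Qe_one : Qe (Par.one (hF := hF)) = 1 := by
  refine u3_ext hF ?_
  rw [m3_Qe, m3_one, qMat]
  ext i j
  fin_cases i <;> fin_cases j <;> simp [Par.one]

variable (hF)

/-- The torus. -/
noncomputable def He : Fˣ →* U3g hF where
  toFun c := ⟨⟨!![(c : F), 0, 0; 0, qFrob hF c / c, 0; 0, 0, (qFrob hF (c : F))⁻¹], by
      have h1 : (c : F) ≠ 0 := c.ne_zero
      have h2 : qFrob hF (c : F) ≠ 0 := (map_ne_zero _).2 h1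
      simp [Matrix.det_fin_three]; field_simp⟩, by
    have h1 : (c : F) ≠ 0 := c.ne_zero
    have h2 : qFrob hF (c : F) ≠ 0 := (map_ne_zero _).2 h1
    show ct hF _ * J * _ = J
    ext i j
    fin_cases i <;> fin_cases j <;>
      simp [J3, ct_apply, qFrob_qFrob, Matrix.mul_apply, Fin.sum_univ_three, map_div₀, map_inv₀] <;>
      field_simp⟩
  map_one' := u3_ext hF (by
    show !![((1 : Fˣ) : F), 0, 0; 0, qFrob hF ((1 : Fˣ) : F) / ((1 : Fˣ) : F), 0;
      0, 0, (qFrob hF ((1 : Fˣ) : F))⁻¹] = (1 : Matrix (Fin 3) (Fin 3) F)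
    ext i j
    fin_cases i <;> fin_cases j <;> simp)
  map_mul' c d := u3_ext hF (by
    show !![((c * d : Fˣ) : F), 0, 0; 0, qFrob hF ((c * d : Fˣ) : F) / ((c * d : Fˣ) : F), 0;
        0, 0, (qFrob hF ((c * d : Fˣ) : F))⁻¹] =
      !![(c : F), 0, 0; 0, qFrob hF c / c, 0; 0, 0, (qFrob hF (c : F))⁻¹] *
        !![(d : F), 0, 0; 0, qFrob hF d / d, 0; 0, 0, (qFrob hF (d : F))⁻¹]
    ext i j
    fin_cases i <;> fin_cases j <;> simp [Matrix.mul_apply, Fin.sum_univ_three] <;> field_simp)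

theorem m3_He (c : Fˣ) :
    m3 hF (He hF c) = !![(c : F), 0, 0; 0, qFrob hF c / c, 0; 0, 0, (qFrob hF (c : F))⁻¹] := rfl

/-- The Weyl element. -/
noncomputable def We : U3g hF :=
  ⟨⟨!![0, 0, 1; 0, -1, 0; 1, 0, 0], by simp [Matrix.det_fin_three]⟩, by
    show ct hF _ * J * _ = J
    ext i j
    fin_cases i <;> fin_cases j <;> simp [J3, ct_apply, Matrix.mul_apply, Fin.sum_univ_three]⟩

theorem m3_We : m3 hF (We hF) = !![0, 0, 1; 0, -1, 0; 1, 0, 0] := rfl

theorem We_sq : We hF * We hF = 1 := by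
  refine u3_ext hF ?_
  rw [m3_mul, m3_We, m3_one]
  ext i j
  fin_cases i <;> fin_cases j <;> simp [Matrix.mul_apply, Fin.sum_univ_three]

/-- `c ↦ (σ c)⁻¹`. -/
noncomputable def flip : Fˣ →* Fˣ :=
  (Units.map (qFrob hF : F →* F) : Fˣ →* Fˣ)⁻¹

theorem flip_val (c : Fˣ) : ((flip hF c : Fˣ) : F) = (qFrob hF (c : F))⁻¹ := by
  show (((Units.map (qFrob hF : F →* F) c)⁻¹ : Fˣ) : F) = _
  rw [Units.val_inv_eq_inv_val]
  rfl

theorem We_He (c : Fˣ) : We hF * He hF c * We hF = He hF (flip hF c) := by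
  have h1 : (c : F) ≠ 0 := c.ne_zero
  have h2 : qFrob hF (c : F) ≠ 0 := (map_ne_zero _).2 h1
  refine u3_ext hF ?_
  simp only [m3_mul, m3_We, m3_He, flip_val]
  ext i j
  fin_cases i <;> fin_cases j <;> simp [Matrix.mul_apply, Fin.sum_univ_three, map_inv₀, qFrob_qFrob] <;>
    field_simp

variable {hF}

/-- The torus acting on parameters. -/
noncomputable def Par.act (c : Fˣ) (x : Par hF) : Par hF :=
  Par.mk (qFrob hF (c : F) ^ 2 / (c : F) * x.a) ((c : F) * qFrob hF (c : F) * x.b) (by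
    have h1 : (c : F) ≠ 0 := c.ne_zero
    have h2 : qFrob hF (c : F) ≠ 0 := (map_ne_zero _).2 h1
    simp only [map_mul, map_div₀, map_pow, qFrob_qFrob]
    field_simp
    linear_combination (c : F) * qFrob hF (c : F) * x.rel)

theorem He_Qe (c : Fˣ) (x : Par hF) : He hF c * Qe x * (He hF c)⁻¹ = Qe (x.act c) := by
  have h1 : (c : F) ≠ 0 := c.ne_zero
  have h2 : qFrob hF (c : F) ≠ 0 := (map_ne_zero _).2 h1
  rw [mul_inv_eq_iff_eq_mul]
  refine u3_ext hF ?_
  simp only [m3_mul, m3_He, m3_Qe, qMat, Par.act, Par.mk_a, Par.mk_b]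
  ext i j
  fin_cases i <;> fin_cases j <;>
    simp [Matrix.mul_apply, Fin.sum_univ_three, map_mul, map_div₀, map_pow, qFrob_qFrob] <;> field_simp

/-- The first parameter of the decomposition of a conjugated radical element. -/
noncomputable def Par.fst (x : Par hF) : Par hF :=
  Par.mk (-x.a / x.b) x.b⁻¹ (by
    rcases eq_or_ne x.b 0 with e | e
    · simp [e]
    have e' : qFrob hF x.b ≠ 0 := (map_ne_zero _).2 e
    simp only [map_div₀, map_neg, map_inv₀]
    field_simp
    linear_combination x.rel)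

/-- The last parameter of the decomposition. -/
noncomputable def Par.snd (x : Par hF) : Par hF :=
  Par.mk (-x.a / qFrob hF x.b) x.b⁻¹ (by
    rcases eq_or_ne x.b 0 with e | e
    · simp [e]
    have e' : qFrob hF x.b ≠ 0 := (map_ne_zero _).2 e
    simp only [map_div₀, map_neg, map_inv₀, qFrob_qFrob]
    field_simp
    linear_combination x.rel)

/-- The torus part of the decomposition. -/
noncomputable def Par.mid (x : Par hF) (hb : x.b ≠ 0) : Fˣ := flip hF (Units.mk0 x.b hb)

theorem bruhat (x : Par hF) (hb : x.b ≠ 0) :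
    We hF * Qe x * We hF = Qe x.fst * He hF (x.mid hb) * We hF * Qe x.snd := by
  have e' : qFrob hF x.b ≠ 0 := (map_ne_zero _).2 hb
  have h := x.rel
  refine u3_ext hF ?_
  simp only [m3_mul, m3_We, m3_He, m3_Qe, qMat, Par.fst, Par.snd, Par.mid, flip_val, Units.val_mk0, Par.mk_a,
    Par.mk_b]
  ext i j
  fin_cases i <;> fin_cases j <;>
    simp [Matrix.mul_apply, Fin.sum_univ_three, map_div₀, map_neg, map_inv₀, qFrob_qFrob] <;>
    field_simp <;> first | ring1 | linear_combination h | linear_combination -h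

theorem eq_zero_of_b {x : Par hF} (hb : x.b = 0) : x = Par.one := by
  refine Par.ext' ?_ hb
  have h := x.rel
  rw [hb, map_zero, add_zero, zero_add, mul_eq_zero, map_eq_zero] at h
  exact h.elim id id

theorem big_injective {x x' y y' : Par hF} {c c' : Fˣ}
    (e : Qe x * He hF c * We hF * Qe y = Qe x' * He hF c' * We hF * Qe y') : x = x' ∧ c = c' ∧ y = y' := by
  have e2 := congrArg (m3 hF) e
  simp only [m3_mul, m3_He, m3_We, m3_Qe, qMat] at e2
  have h1 : (c : F) ≠ 0 := c.ne_zero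
  have h2 : qFrob hF (c : F) ≠ 0 := (map_ne_zero _).2 h1
  have r0 := congrFun (congrFun e2 2) 0
  have r1 := congrFun (congrFun e2 2) 1
  have r2 := congrFun (congrFun e2 2) 2
  simp [Matrix.mul_apply, Fin.sum_univ_three] at r0 r1 r2
  have hc : c = c' := Units.ext ((qFrob hF).injective r0)
  subst hc
  have hy : y = y' := by
    refine Par.ext' ?_ ?_
    · exact (qFrob hF).injective (by simpa [h2] using r1)
    · simpa [h2] using r2
  subst hy
  have e3 : Qe x = Qe x' := mul_right_cancel (mul_right_cancel (mul_right_cancel e))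
  exact ⟨Qe_injective e3, rfl, rfl⟩

theorem small_injective {x x' : Par hF} {c c' : Fˣ} (e : Qe x * He hF c = Qe x' * He hF c') : x = x' ∧ c = c' := by
  have r0 := congrFun (congrFun (congrArg (m3 hF) e) 0) 0
  simp [m3_mul, m3_He, m3_Qe, qMat, Matrix.mul_apply, Fin.sum_univ_three] at r0
  have hc : c = c' := Units.ext r0
  subst hc
  exact ⟨Qe_injective (mul_right_cancel e), rfl⟩

theorem small_ne_big {x x' y : Par hF} {c c' : Fˣ} : Qe x * He hF c ≠ Qe x' * He hF c' * We hF * Qe y := by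
  intro e
  have r0 := congrFun (congrFun (congrArg (m3 hF) e) 2) 0
  simp [m3_mul, m3_He, m3_We, m3_Qe, qMat, Matrix.mul_apply, Fin.sum_univ_three] at r0
  exact (map_ne_zero _).2 c'.ne_zero r0.symm

/-- Everything is in one of the two cells. -/
theorem cells (g : U3g hF) : (∃ x c, g = Qe x * He hF c) ∨ ∃ x c y, g = Qe x * He hF c * We hF * Qe y := by
  classical
  let f : (Par hF × Fˣ) ⊕ (Par hF × Fˣ × Par hF) → U3g hF :=
    Sum.elim (fun z => Qe z.1 * He hF z.2) fun z => Qe z.1 * He hF z.2.1 * We hF * Qe z.2.2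
  have hf : Function.Injective f := by
    rintro (⟨x, c⟩ | ⟨x, c, y⟩) (⟨x', c'⟩ | ⟨x', c', y'⟩) e
    · obtain ⟨rfl, rfl⟩ := small_injective e; rfl
    · exact absurd e small_ne_big
    · exact absurd e.symm small_ne_big
    · obtain ⟨rfl, rfl, rfl⟩ := big_injective e; rfl
  have hcard : Nat.card ((Par hF × Fˣ) ⊕ (Par hF × Fˣ × Par hF)) = Nat.card (U3g hF) := by
    have hq := Classical.two_le_of_card_sq hF
    rw [Nat.card_sum, Nat.card_prod, Nat.card_prod, Nat.card_prod, card_par, card_u3g, Classical.units_card_sq hF,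
      show q ^ 2 - 1 = (q - 1) * (q + 1) by rw [mul_comm]; simpa [sq] using Nat.sq_sub_sq q 1]
    ring
  obtain ⟨z, rfl⟩ := ((Nat.bijective_iff_injective_and_card f).2 ⟨hf, hcard⟩).2 g
  rcases z with ⟨x, c⟩ | ⟨x, c, y⟩
  exacts [Or.inl ⟨x, c, rfl⟩, Or.inr ⟨x, c, y, rfl⟩]

end CfsgLib.Pres.SUThree
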