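import Cfsg.Agent.Lib.Pres.SUThreeWord

/-!
# The radical of a group satisfying the equations for `SU₃`
-/

set_option autoImplicit false

namespace CfsgLib.Pres.SUThree

open Matrix
open CfsgLib.Classical (qFrob qFrob_apply qFrob_qFrob)
open CfsgLib.Pres.SUFour (Kf σ_fix card_Kf data)

variable {F : Type*} [Field F] [Fintype F] {q : ℕ} {hF : Fintype.card F = q ^ 2}
variable {p e : ℕ} [Fact p.Prime] [Algebra (ZMod p) (Kf hF)]

namespace Cfg

variable (C : Cfg hF p e) (h2 : q ≠ 2)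
variable {G : Type*} [Group G] {u h w : G}

include C in
theorem e_pos : 0 < e := by
  rcases Nat.eq_zero_or_pos e with rfl | he
  · have := C.BK.index_nonempty
    exact (Nonempty.elim this fun i => i.elim0)
  · exact he

theorem wd_basis' (x : G) (y : G) (b : ℕ) (i : Fin e) :
    wd x y b (coord C.BK (C.BK i)) = x ^ (b * (i : ℕ)) * y * (x ^ (b * (i : ℕ)))⁻¹ :=
  wd_basis x y b C.BK i

open _root_.Classical in
set_option maxHeartbeats 800000 in
/-- The central elements. -/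
theorem central (hR : ∀ x ∈ C.eqs h2 u h w, x.1 = x.2) :
    ∃ ζ : Kf hF → G, (∀ β γ, ζ (β + γ) = ζ β * ζ γ) ∧ (∀ γ, ζ γ = C.ζw u h γ) ∧ ζ 1 = zz u h ∧
      (∀ (n : ℕ) γ, h ^ n * ζ γ * (h ^ n)⁻¹ = ζ ((C.k : Kf hF) ^ n * γ)) ∧ ∀ γ, Commute u (ζ γ) := by
  have : NeZero e := ⟨C.e_pos.ne'⟩
  obtain ⟨-, hzp, hzc, hzt, hze, hs1, hsP, hsQ, hsP2, -, -, -, htri, -⟩ := by
    simpa only [eqs, List.forall_mem_append, List.forall_mem_cons, and_assoc] using hR
  set z := zz u h with hz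
  by_cases hk : (1 : Kf hF) + C.k ≠ 0
  all_goals
    first
      | rw [if_pos hk] at hzt htri
      | skip
  · set k : Kf hF := (C.k : Kf hF)
    -- all conjugates of `z` commute
    have e1 : cj h (1 : ℤ) z = h * z * h⁻¹ := by simp [cj]
    let Cz : ℤ → Prop := fun m => Commute z (cj h m z)
    have htri' : ∀ m : ℤ, cj h (m + C.jz) z = cj h m z * cj h (m + 1) z := fun m => by
      rw [← cj_add, ← cj_add h m 1, ← map_mul, cj_nat, e1]
      exact congrArg _ hzt
    have sym : ∀ m, Cz m → Cz (-m) := fun m hm => commute_cj_neg h z hm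
    have C0 : Cz 0 := by show Commute _ _; rw [cj_zero]
    have C1 : Cz (0 + 1) := by show Commute _ _; rw [zero_add, e1]; exact hzc
    have all : ∀ i : ℕ, Cz (0 + 1 * (i : ℤ)) := by
      refine shift_all (C := Cz) (C.jz : ℤ) 1 (fun m a b => ?_) (fun m a b => ?_) (fun m a b => ?_) 0 C0 C1
      · show Commute _ _
        rw [htri']; exact Commute.mul_right a b
      · show Commute _ _
        have e : cj h (m + 1) z = (cj h m z)⁻¹ * cj h (m + C.jz) z := by rw [htri', inv_mul_cancel_left]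
        rw [e]; exact Commute.mul_right (Commute.inv_right a) b
      · have a' : Commute z (cj h (-m + 1) z) := by
          have := sym _ a; rwa [neg_sub, sub_eq_neg_add] at this
        have b' : Commute z (cj h (-m + C.jz) z) := by
          have := sym _ b; rwa [neg_sub, sub_eq_neg_add] at this
        have e : cj h (-m) z = cj h (-m + C.jz) z * (cj h (-m + 1) z)⁻¹ := by rw [htri', mul_inv_cancel_right]
        have h' : Cz (-m) := by show Commute _ _; rw [e]; exact b'.mul_right a'.inv_right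
        have := sym _ h'; rwa [neg_neg] at this
    have hcomm : ∀ i j : Fin e, Commute (h ^ (1 * (i : ℕ)) * z * (h ^ (1 * (i : ℕ)))⁻¹)
        (h ^ (1 * (j : ℕ)) * z * (h ^ (1 * (j : ℕ)))⁻¹) := by
      intro i j
      rw [← cj_nat, ← cj_nat, commute_cj_iff]
      rcases Nat.le_total (1 * (i : ℕ)) (1 * (j : ℕ)) with hij | hij
      · have := all (1 * (j : ℕ) - 1 * (i : ℕ))
        rwa [zero_add, one_mul, Nat.cast_sub hij] at this
      · have := sym _ (all (1 * (i : ℕ) - 1 * (j : ℕ)))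
        rwa [zero_add, one_mul, Nat.cast_sub hij, neg_sub] at this
    have hs : h * z * h⁻¹ = wd h z 1 (coord C.BK k) := by
      rcases Nat.lt_or_ge 1 e with he | he
      · have e' := C.wd_basis' h z 1 ⟨1, he⟩
        rw [C.hBK] at e'
        simp only [pow_one, mul_one] at e'
        exact e'.symm
      · obtain rfl : e = 1 := by have := C.e_pos; omega
        simp only [pow_one] at hze
        exact hze
    obtain ⟨ζ, hadd, h1, hact, hwd⟩ := exists_root_map h z 1 k k C.BK C.hBK hzp hcomm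
      (by rw [one_mul]; exact hze) hs
    have hpow : ∀ (n : ℕ) γ, h ^ n * ζ γ * (h ^ n)⁻¹ = ζ (k ^ n * γ) := by
      intro n
      induction n with
      | zero => intro γ; simp
      | succ n ih =>
        intro γ
        rw [pow_succ, show h ^ n * h * ζ γ * (h ^ n * h)⁻¹ = h ^ n * (h * ζ γ * h⁻¹) * (h ^ n)⁻¹ by group, hact, ih,
          pow_succ, mul_assoc]
    refine ⟨ζ, hadd, hwd, h1, hpow, fun γ => ?_⟩
    have h0 : ζ 0 = 1 := by
      have := hadd 0 0
      rwa [add_zero, left_eq_mul] at this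
    have hneg : ∀ β, ζ (-β) = (ζ β)⁻¹ := fun β =>
      eq_inv_of_mul_eq_one_left (by rw [← hadd, neg_add_cancel, h0])
    have hzz : ∀ β γ, Commute (ζ β) (ζ γ) := fun β γ => by
      show _ * _ = _ * _
      rw [← hadd, ← hadd, add_comm]
    have hwd' : ∀ γ, C.ζw u h γ = ζ γ := fun γ => (hwd γ).symm
    rw [hwd'] at hs1 hsP hsQ hsP2
    simp only [hwd'] at htri
    have hk0 : k ≠ 0 := C.k.ne_zero
    have hk2 : k ^ (q + 1) = k ^ 2 := by
      have := congrArg Units.val C.k_pow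
      rwa [Units.val_pow_eq_pow_val, Units.val_pow_eq_pow_val] at this
    have hkj : k ^ ((q + 1) * C.jz) = (1 + k) ^ 2 := by
      rw [pow_mul, hk2, ← pow_mul, mul_comm, pow_mul, show k ^ C.jz = 1 + k from C.hjz hk]
    have up : ∀ (n : ℕ) β, Commute u (ζ β) → Commute (h ^ n * u * (h ^ n)⁻¹) (ζ (k ^ n * β)) := fun n β hc => by
      rw [← hpow]; exact hc.map (MulAut.conj (h ^ n)).toMonoidHom
    have dn : ∀ (n : ℕ) β, Commute (h ^ n * u * (h ^ n)⁻¹) (ζ β) → Commute u (ζ (β * (k ^ n)⁻¹)) := fun n β hc => by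
      have e : β = k ^ n * (β * (k ^ n)⁻¹) := by field_simp
      rw [e, ← hpow] at hc
      have := hc.map (MulAut.conj ((h ^ n)⁻¹)).toMonoidHom
      simp only [MulEquiv.coe_toMonoidHom, MulAut.conj_apply, inv_inv] at this
      rwa [show (h ^ n)⁻¹ * (h ^ n * u * (h ^ n)⁻¹) * h ^ n = u by group,
        show (h ^ n)⁻¹ * (h ^ n * ζ (β * (k ^ n)⁻¹) * (h ^ n)⁻¹) * h ^ n = ζ (β * (k ^ n)⁻¹) by group] at this
    refine partial_fractions C.k C.k_gen hk (S := {β | Commute u (ζ β)}) ?_ ?_ ?_ hs1 hsP hsQ hsP2 ?_ ?_ γ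
    · show Commute _ _
      rw [h0]; exact Commute.one_right _
    · intro a b ha hb
      show Commute _ _
      rw [hadd]; exact Commute.mul_right ha hb
    · intro a ha
      show Commute _ _
      rw [hneg]; exact Commute.inv_right ha
    · intro b hb hb'
      show Commute _ _
      have a := up (q + 1) _ hb'
      rw [hk2, show k ^ 2 * (b * k⁻¹ ^ 2) = b by field_simp] at a
      have c := (Commute.mul_left hb a).mul_left (hzz (C.gam ((C.u0 * (C.h0 ^ (q + 1) * C.u0 * (C.h0 ^ (q + 1))⁻¹))⁻¹ *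
        (C.h0 ^ ((q + 1) * C.jz) * C.u0 * (C.h0 ^ ((q + 1) * C.jz))⁻¹))) b)
      rw [← htri] at c
      have d := dn _ _ c
      rwa [hkj, ← inv_pow] at d
    · intro b hb hb'
      show Commute _ _
      have a := up ((q + 1) * C.jz) _ hb'
      rw [hkj, show (1 + k) ^ 2 * (b * (1 + k)⁻¹ ^ 2) = b by field_simp] at a
      rw [htri] at a
      have c := ((Commute.inv_left hb).mul_left a).mul_left (Commute.inv_left (hzz (C.gam ((C.u0 * (C.h0 ^ (q + 1) *
        C.u0 * (C.h0 ^ (q + 1))⁻¹))⁻¹ * (C.h0 ^ ((q + 1) * C.jz) * C.u0 * (C.h0 ^ ((q + 1) * C.jz))⁻¹))) b))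
      simp only [inv_mul_cancel_left, ← mul_assoc, inv_mul_cancel, one_mul, mul_inv_cancel_right] at c
      have d := dn _ _ c
      rwa [hk2, ← inv_pow] at d
  · -- the field with three elements
    rw [not_not] at hk
    set k : Kf hF := (C.k : Kf hF)
    have hkneg : k = -1 := eq_neg_of_add_eq_zero_right hk
    have hgen : ∀ x : Kf hF, x ≠ 0 → x = 1 ∨ x = -1 := fun x hx => by
      obtain ⟨n, hn⟩ := Subgroup.mem_zpowers_iff.1 (C.k_gen (Units.mk0 x hx))
      have e := congrArg Units.val hn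
      rw [Units.val_zpow_eq_zpow_val, show ((C.k : (Kf hF)ˣ) : Kf hF) = -1 from hkneg, Units.val_mk0] at e
      rcases Int.even_or_odd n with hn | hn
      · left; rw [← e, hn.neg_one_zpow]
      · right; rw [← e, hn.neg_one_zpow]
    have he : e = 1 := by
      by_contra hne
      have h1 : 1 < e := by have := C.e_pos; omega
      have b0 := C.hBK ⟨0, by omega⟩
      have b1 := C.hBK ⟨1, h1⟩
      simp only [pow_zero, pow_one] at b0 b1
      have hsum : C.BK ⟨0, by omega⟩ + C.BK ⟨1, h1⟩ = 0 := by rw [b0, b1]; exact hk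
      have := congrArg (fun x => C.BK.repr x ⟨1, h1⟩) hsum
      simp [Module.Basis.repr_self, Fin.ext_iff] at this
    subst he
    have hs : h * z * h⁻¹ = wd h z 1 (coord C.BK k) := by
      simp only [pow_one] at hze
      exact hze
    obtain ⟨ζ, hadd, h1, hact, hwd⟩ := exists_root_map h z 1 k k C.BK C.hBK hzp
      (fun i j => by rw [Subsingleton.elim i j]) (by rw [one_mul]; exact hze) hs
    have hpow : ∀ (n : ℕ) γ, h ^ n * ζ γ * (h ^ n)⁻¹ = ζ (k ^ n * γ) := by
      intro n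
      induction n with
      | zero => intro γ; simp
      | succ n ih =>
        intro γ
        rw [pow_succ, show h ^ n * h * ζ γ * (h ^ n * h)⁻¹ = h ^ n * (h * ζ γ * h⁻¹) * (h ^ n)⁻¹ by group, hact, ih,
          pow_succ, mul_assoc]
    refine ⟨ζ, hadd, hwd, h1, hpow, fun γ => ?_⟩
    have h0 : ζ 0 = 1 := by
      have := hadd 0 0
      rwa [add_zero, left_eq_mul] at this
    have c1 : Commute u (ζ 1) := by rw [hwd]; exact hs1
    rcases eq_or_ne γ 0 with rfl | hγ
    · rw [h0]; exact Commute.one_right _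
    rcases hgen γ hγ with rfl | rfl
    · exact c1
    · rw [eq_inv_of_mul_eq_one_left (show ζ (-1) * ζ 1 = 1 by rw [← hadd, neg_add_cancel, h0])]
      exact c1.inv_right

open _root_.Classical in
set_option maxHeartbeats 1600000 in
/-- The radical. -/
theorem radical [CharP F p] (hcard : q = p ^ e) (hR : ∀ x ∈ C.eqs h2 u h w, x.1 = x.2) (Φ : G →* U3g hF)
    (hu : Φ u = C.u0) (hh : Φ h = C.h0) :
    ∃ ψ : Par hF → G, (∀ x y, ψ (x.mul y) = ψ x * ψ y) ∧ ψ C.x0 = u ∧ (∀ x, Φ (ψ x) = Qe x) ∧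
      (∀ x, C.wq h2 u h x = ψ x) ∧ (∀ γ, C.ζw u h γ = ψ (C.zc γ)) ∧
      ∀ (n : ℕ) x, h ^ n * ψ x * (h ^ n)⁻¹ = ψ (x.act (C.ω ^ n)) := by
  obtain ⟨ζ, hadd, hwd, hz1, hζact, hζu⟩ := C.central h2 hR
  obtain ⟨hN, -, -, -, -, -, -, -, -, hup, hcg, hcg', htri, hme, hh2, -⟩ := by
    simpa only [eqs, List.forall_mem_append, List.forall_mem_cons, and_assoc] using hR
  have he := C.e_pos
  have hp := (Fact.out : p.Prime).pos
  have h0 : ζ 0 = 1 := by
    have := hadd 0 0
    rwa [add_zero, left_eq_mul] at this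
  let ζh : Multiplicative (Kf hF) →* G := MonoidHom.mk' (fun c => ζ c.toAdd) fun a b => hadd _ _
  set Z := ζh.range with hZ
  have hmemZ : ∀ γ, ζ γ ∈ Z := fun γ => ⟨Multiplicative.ofAdd γ, rfl⟩
  have : Finite Z := Finite.of_surjective _ ζh.rangeRestrict_surjective
  have hZcard : Nat.card Z ≤ q := by
    refine (Nat.card_le_card_of_surjective _ ζh.rangeRestrict_surjective).trans (le_of_eq ?_)
    exact card_Kf hF
  have hZc : ∀ c ∈ Z, ∀ d ∈ Z, Commute c d := by
    rintro _ ⟨a, rfl⟩ _ ⟨b, rfl⟩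
    show ζ _ * ζ _ = ζ _ * ζ _
    rw [← hadd, ← hadd, add_comm]
  -- conjugates of `u` centralise `Z`
  have hZcj : ∀ (m : ℤ) c, c ∈ Z → cj h m c ∈ Z := by
    rintro m _ ⟨a, rfl⟩
    obtain ⟨n, hn⟩ : ∃ n : ℕ, h ^ m = h ^ n := by
      refine ⟨(m % ((q ^ 2 - 1 : ℕ) : ℤ)).toNat, ?_⟩
      have hq := Classical.two_le_of_card_sq hF
      have hpos : 0 < q ^ 2 - 1 := by have := Nat.pow_le_pow_left hq 2; omega
      rw [← zpow_natCast, Int.toNat_of_nonneg (Int.emod_nonneg _ (by omega))]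
      conv_lhs => rw [← Int.emod_add_mul_ediv m ((q ^ 2 - 1 : ℕ) : ℤ)]
      rw [_root_.zpow_add, _root_.zpow_mul, zpow_natCast, hN, _root_.one_zpow, mul_one]
    show (MulAut.conj (h ^ m)) (ζ _) ∈ Z
    rw [hn, MulAut.conj_apply, hζact]
    exact hmemZ _
  have hcent : ∀ (m : ℤ), ∀ c ∈ Z, Commute (cj h m u) c := by
    intro m c hc
    obtain ⟨a, ha⟩ := hZcj (-m) c hc
    have := (hζu a.toAdd).map (cj h m).toMonoidHom
    rw [show ζ a.toAdd = cj h (-m) c from ha] at this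
    simpa [cj_add, cj_zero] using this
  have hq := Classical.two_le_of_card_sq hF
  -- commutators modulo `Z`
  let Cc : ℤ → Prop := fun m => u * cj h m u * u⁻¹ * (cj h m u)⁻¹ ∈ Z
  have hu0 : ∀ c ∈ Z, Commute u c := fun c hc => by simpa [cj_zero] using hcent 0 c hc
  let S := commSub Z u hu0
  have hS : ∀ {m : ℤ}, Cc m → cj h m u ∈ S := fun {m} hm => ⟨hcent m, hm⟩
  have hS' : ∀ {m : ℤ}, cj h m u ∈ S → Cc m := fun {m} hm => hm.2
  have hZS : ∀ c ∈ Z, c ∈ S := fun c hc => ⟨fun d hd => hZc c hc d hd, by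
    rw [(hu0 c hc).eq, mul_inv_cancel_right, mul_inv_cancel]; exact one_mem Z⟩
  have sym : ∀ m, Cc m → Cc (-m) := fun m hm => by
    show _ ∈ Z
    have h1 := hZcj (-m) _ (inv_mem hm)
    simp only [map_mul, map_inv, cj_add, neg_add_cancel, cj_zero, _root_.mul_inv_rev, inv_inv] at h1
    simpa [mul_assoc] using h1
  have hBn : ∀ n : ℕ, cj h (n : ℤ) u = h ^ n * u * (h ^ n)⁻¹ := fun n => cj_nat h u n
  have hg1 : Cc (((q + 1 : ℕ) : ℤ)) := by
    show _ ∈ Z
    rw [hBn, hcg, ← hwd]; exact hmemZ _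
  have hg2 : Cc (1 + ((q + 1 : ℕ) : ℤ)) := by
    show _ ∈ Z
    rw [show (1 : ℤ) + ((q + 1 : ℕ) : ℤ) = ((q + 2 : ℕ) : ℤ) by push_cast; ring, hBn, hcg', ← hwd]; exact hmemZ _
  have hg0 : Cc 0 := by
    show _ ∈ Z
    rw [cj_zero, mul_inv_cancel_right, mul_inv_cancel]; exact one_mem Z
  have hone : Cc 1 := by
    show _ ∈ Z
    rw [show cj h (1 : ℤ) u = uh u h by simp [cj, uh]]
    show zz u h ∈ Z
    rw [← hz1]; exact hmemZ 1
  have hperiod : ∀ (m : ℤ) (M : ℕ), Cc (m + ((q ^ 2 - 1) * M : ℕ)) → Cc m := fun m M hm => by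
    have e : cj h (((q ^ 2 - 1) * M : ℕ) : ℤ) u = u := by rw [hBn, pow_mul, hN, one_pow, one_mul, inv_one, mul_one]
    have hm' : _ ∈ Z := hm
    rw [← cj_add, e] at hm'
    exact hm'
  have all : ∀ m₀ : ℤ, Cc m₀ → Cc (m₀ + ((q + 1 : ℕ) : ℤ)) → ∀ i : ℕ, Cc (m₀ + ((q + 1 : ℕ) : ℤ) * i) := by
    by_cases hk : (1 : Kf hF) + C.k ≠ 0
    · rw [if_pos hk] at htri
      dsimp only at htri
      set B : ℤ := ((q + 1 : ℕ) : ℤ)
      obtain ⟨c, hcZ, htri'⟩ : ∃ c ∈ Z, ∀ m : ℤ,
          cj h (m + (((q + 1) * C.jz : ℕ) : ℤ)) u = cj h m u * cj h (m + B) u * cj h m c := by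
        refine ⟨_, hmemZ (C.gam ((C.u0 * (C.h0 ^ (q + 1) * C.u0 * (C.h0 ^ (q + 1))⁻¹))⁻¹ *
          (C.h0 ^ ((q + 1) * C.jz) * C.u0 * (C.h0 ^ ((q + 1) * C.jz))⁻¹))), fun m => ?_⟩
        rw [← cj_add, ← cj_add h m B, ← map_mul, ← map_mul, hBn, hBn, htri, hwd]
      intro m₀ a0 a1 i
      refine shift_all (C := Cc) (((q + 1) * C.jz : ℕ) : ℤ) B (fun m a b => ?_) (fun m a b => ?_) (fun m a b => ?_)
        m₀ a0 a1 i
      · refine hS' ?_
        rw [htri']
        exact mul_mem (mul_mem (hS a) (hS b)) (hZS _ (hZcj _ _ hcZ))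
      · refine hS' ?_
        have e : cj h (m + B) u = (cj h m u)⁻¹ * cj h (m + (((q + 1) * C.jz : ℕ) : ℤ)) u * (cj h m c)⁻¹ := by
          rw [htri']; group
        rw [e]
        exact mul_mem (mul_mem (inv_mem (hS a)) (hS b)) (inv_mem (hZS _ (hZcj _ _ hcZ)))
      · have a' : Cc (-m + B) := by have := sym _ a; rwa [neg_sub, sub_eq_neg_add] at this
        have b' : Cc (-m + (((q + 1) * C.jz : ℕ) : ℤ)) := by
          have := sym _ b; rwa [neg_sub, sub_eq_neg_add] at this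
        have h' : Cc (-m) := by
          refine hS' ?_
          have e : cj h (-m) u = cj h (-m + (((q + 1) * C.jz : ℕ) : ℤ)) u * (cj h (-m) c)⁻¹ * (cj h (-m + B) u)⁻¹ := by
            rw [htri']; group
          rw [e]
          exact mul_mem (mul_mem (hS b') (inv_mem (hZS _ (hZcj _ _ hcZ)))) (inv_mem (hS a'))
        have := sym _ h'; rwa [neg_neg] at this
    · -- `u ^ (h ^ (q + 1))` is the inverse of `u`
      rw [not_not] at hk
      intro m₀ a0 a1 i
      induction i using Nat.twoStepInduction with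
      | zero => simpa using a0
      | one => simpa using a1
      | more i ih _ =>
        have hk2 : (C.k : Kf hF) ^ 2 = 1 := by rw [eq_neg_of_add_eq_zero_right hk]; ring
        have hq3 : q - 1 ∣ 2 := by
          have hordk : orderOf C.k = q - 1 := by
            rw [orderOf_eq_card_of_forall_mem_zpowers C.k_gen, Nat.card_units, card_Kf]
          exact hordk ▸ orderOf_dvd_of_pow_eq_one (Units.ext (by rw [Units.val_pow_eq_pow_val, hk2, Units.val_one]))
        have := Nat.le_of_dvd (by norm_num) hq3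
        have hq3' : q = 3 := by omega
        have hn : 2 * (q + 1) = q ^ 2 - 1 := by subst hq3'; norm_num
        show _ ∈ Z
        rw [show m₀ + ((q + 1 : ℕ) : ℤ) * ((i + 2 : ℕ) : ℤ) =
          (m₀ + ((q + 1 : ℕ) : ℤ) * i) + ((2 * (q + 1) : ℕ) : ℤ) by push_cast; ring, ← cj_add, hBn, hn, hN, one_mul,
          inv_one, mul_one]
        exact ih
  have hBB : ∀ i : ℤ, Cc (((q + 1 : ℕ) : ℤ) * i) := by
    intro i
    obtain ⟨n, rfl | rfl⟩ := Int.eq_nat_or_neg i
    · simpa using all 0 hg0 (by rwa [zero_add]) n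
    · rw [mul_neg]; exact sym _ (by simpa using all 0 hg0 (by rwa [zero_add]) n)
  have hB1 : ∀ i : ℤ, Cc (1 + ((q + 1 : ℕ) : ℤ) * i) := by
    intro i
    refine hperiod _ (i.natAbs) ?_
    have hfac : (q ^ 2 - 1) * i.natAbs = (q + 1) * ((q - 1) * i.natAbs) := by
      rw [← mul_assoc]; congr 1; simpa [sq] using Nat.sq_sub_sq q 1
    obtain ⟨n, hn⟩ : ∃ n : ℕ, (n : ℤ) = i + ((q - 1) * i.natAbs : ℕ) := by
      refine ⟨(i + ((q - 1) * i.natAbs : ℕ)).toNat, Int.toNat_of_nonneg ?_⟩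
      have : i.natAbs ≤ (q - 1) * i.natAbs := Nat.le_mul_of_pos_left _ (by omega)
      omega
    have := all 1 hone hg2 n
    rw [hn, mul_add] at this
    rw [hfac]
    push_cast at this ⊢
    rwa [add_assoc] at *
  -- the generators of the radical
  let a : Fin (e + e) → G := Fin.append (fun i => cj h (((q + 1) * (i : ℕ) : ℕ) : ℤ) u)
    fun i => cj h ((((q + 1) * (i : ℕ) : ℕ) : ℤ) + 1) u
  obtain ⟨d, hd⟩ : ∃ d : Fin (e + e) → ℤ, ∀ i, a i = cj h (d i) u ∧
      ∃ j : ℤ, d i = ((q + 1 : ℕ) : ℤ) * j ∨ d i = 1 + ((q + 1 : ℕ) : ℤ) * j := by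
    refine ⟨Fin.append (fun i => (((q + 1) * (i : ℕ) : ℕ) : ℤ)) fun i => (((q + 1) * (i : ℕ) : ℕ) : ℤ) + 1,
      fun i => ?_⟩
    refine Fin.addCases (fun i => ?_) (fun i => ?_) i
    · exact ⟨by simp only [a, Fin.append_left], (i : ℕ), Or.inl (by simp only [Fin.append_left]; push_cast; ring)⟩
    · exact ⟨by simp only [a, Fin.append_right], (i : ℕ), Or.inr (by simp only [Fin.append_right]; push_cast; ring)⟩
  have hpair : ∀ i j, a i * a j * (a i)⁻¹ * (a j)⁻¹ ∈ Z := by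
    intro i j
    have key : Cc (d j - d i) := by
      obtain ⟨-, x, hx⟩ := hd i
      obtain ⟨-, y, hy⟩ := hd j
      rcases hx with hx | hx <;> rcases hy with hy | hy <;> rw [hx, hy]
      · rw [← mul_sub]; exact hBB _
      · rw [add_sub_assoc, ← mul_sub]; exact hB1 _
      · rw [show ((q + 1 : ℕ) : ℤ) * y - (1 + ((q + 1 : ℕ) : ℤ) * x) = -(1 + ((q + 1 : ℕ) : ℤ) * (x - y)) by ring]
        exact sym _ (hB1 _)
      · rw [add_sub_add_left_eq_sub, ← mul_sub]; exact hBB _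
    have h1 := hZcj (d i) _ key
    simp only [map_mul, map_inv, cj_add, add_sub_cancel] at h1
    rw [(hd i).1, (hd j).1]
    exact h1
  have hpowp : ∀ i, a i ^ p ∈ Z := fun i => by
    rw [(hd i).1, ← map_pow, hup, ← hwd]
    exact hZcj _ _ (hmemZ _)
  obtain ⟨hMfin, hMcard⟩ := card_closure_le hp Z hZc a (fun i c hc => by rw [(hd i).1]; exact hcent _ c hc) hpair hpowp
  set M := Subgroup.closure (Set.range a ∪ (Z : Set G)) with hM
  have hMq : Nat.card M ≤ q ^ 3 := by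
    refine hMcard.trans ((Nat.mul_le_mul_left _ hZcard).trans (le_of_eq ?_))
    rw [hcard, ← pow_succ' (p ^ e) 2 |>.symm] <;> rw [← pow_mul, ← pow_add] <;> congr 1 <;> ring
  have hA : ∀ i : Fin e, h ^ ((q + 1) * (i : ℕ)) * u * (h ^ ((q + 1) * (i : ℕ)))⁻¹ ∈ M := fun i => by
    rw [← hBn]
    exact Subgroup.subset_closure (Or.inl ⟨Fin.castAdd e i, by simp [a]⟩)
  have hB : ∀ i : Fin e, h ^ ((q + 1) * (i : ℕ)) * uh u h * (h ^ ((q + 1) * (i : ℕ)))⁻¹ ∈ M := fun i => by
    have ee : h ^ ((q + 1) * (i : ℕ)) * uh u h * (h ^ ((q + 1) * (i : ℕ)))⁻¹ =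
        cj h ((((q + 1) * (i : ℕ) : ℕ) : ℤ) + 1) u := by
      rw [← cj_add, cj_nat]; simp [cj, uh]
    rw [ee]
    exact Subgroup.subset_closure (Or.inl ⟨Fin.natAdd e i, by simp only [a, Fin.append_right]⟩)
  have hZM : ∀ c ∈ Z, c ∈ M := fun c hc => Subgroup.subset_closure (Or.inr hc)
  have wdA : ∀ α, wd h u (q + 1) (coord C.BK α) ∈ M := fun α => Subgroup.list_prod_mem _ fun y hy => by
    obtain ⟨i, rfl⟩ := List.mem_ofFn.1 hy
    exact pow_mem (hA i) _
  have wdB : ∀ β, wd h (uh u h) (q + 1) (coord C.BK β) ∈ M := fun β => Subgroup.list_prod_mem _ fun y hy => by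
    obtain ⟨i, rfl⟩ := List.mem_ofFn.1 hy
    exact pow_mem (hB i) _
  have wqM : ∀ x, C.wq h2 u h x ∈ M := fun x =>
    mul_mem (mul_mem (wdA _) (wdB _)) (hZM _ (hwd _ ▸ hmemZ _))
  -- the model
  have hΦwq : ∀ x, Φ (C.wq h2 u h x) = Qe x := fun x => by rw [map_wq, hu, hh, wq_model]
  let f : M → U3g hF := fun m => Φ m
  let r : Par hF → Set.range f := fun x => ⟨Qe x, ⟨C.wq h2 u h x, wqM x⟩, hΦwq x⟩
  have : Finite M := hMfin
  have hr : Function.Injective r := fun x y exy => Qe_injective (congrArg Subtype.val exy)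
  have hcard3 : Nat.card (Set.range f) = Nat.card M ∧ Nat.card (Set.range f) = q ^ 3 := by
    have h1 := Nat.card_le_card_of_injective r hr
    rw [card_par] at h1
    have h3 := Nat.card_le_card_of_surjective _ (Set.rangeFactorization_surjective (f := f))
    omega
  have hfinj : ∀ m ∈ M, ∀ m' ∈ M, Φ m = Φ m' → m = m' := by
    intro m hm m' hm' emm
    have hinj : Function.Injective f := by
      have := ((Nat.bijective_iff_surjective_and_card (Set.rangeFactorization f)).2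
        ⟨Set.rangeFactorization_surjective, hcard3.1.symm⟩).1
      exact fun a b e => this (Subtype.ext e)
    exact congrArg Subtype.val (hinj (a₁ := ⟨m, hm⟩) (a₂ := ⟨m', hm'⟩) emm)
  have hsurj : ∀ m ∈ M, ∃ x, Φ m = Qe x := by
    intro m hm
    obtain ⟨x, hx⟩ := ((Nat.bijective_iff_injective_and_card r).2 ⟨hr, by rw [card_par, hcard3.2]⟩).2
      ⟨Φ m, ⟨m, hm⟩, rfl⟩
    exact ⟨x, (congrArg Subtype.val hx).symm⟩
  -- the torus normalises
  have hgM : ∀ m ∈ M, h * m * h⁻¹ ∈ M := by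
    let M1 := Subgroup.closure (Set.range (fun i : Fin e => h ^ ((q + 1) * (i : ℕ)) * u * (h ^ ((q + 1) * (i : ℕ)))⁻¹) ∪
      (Z : Set G))
    have hZh : ∀ (n : ℕ), ∀ c ∈ Z, h ^ n * c * (h ^ n)⁻¹ ∈ Z := by
      rintro n _ ⟨b, rfl⟩; show _ * ζ _ * _ ∈ Z; rw [hζact]; exact hmemZ _
    have hZ1 : ∀ c ∈ Z, c ∈ M1 := fun c hc => Subgroup.subset_closure (Or.inr hc)
    have conjM : ∀ (x : G) (S : Set G) (K : Subgroup G), (∀ y ∈ S, x * y * x⁻¹ ∈ K) →
        ∀ y ∈ Subgroup.closure S, x * y * x⁻¹ ∈ K := fun x S K hS y hy => by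
      have : Subgroup.closure S ≤ K.comap (MulAut.conj x).toMonoidHom :=
        (Subgroup.closure_le _).2 fun a ha => hS a ha
      exact this hy
    have g1 : ∀ y ∈ M1, h ^ (q + 1) * y * (h ^ (q + 1))⁻¹ ∈ M1 := conjM _ _ _ (by
      rintro y (⟨i, rfl⟩ | hy)
      · rw [show h ^ (q + 1) * (h ^ ((q + 1) * (i : ℕ)) * u * (h ^ ((q + 1) * (i : ℕ)))⁻¹) * (h ^ (q + 1))⁻¹ =
          (h ^ (q + 1) * h ^ ((q + 1) * (i : ℕ))) * u * (h ^ (q + 1) * h ^ ((q + 1) * (i : ℕ)))⁻¹ by group,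
          ← pow_add, show (q + 1) + (q + 1) * (i : ℕ) = (q + 1) * ((i : ℕ) + 1) by ring]
        by_cases hi : (i : ℕ) + 1 < e
        · exact Subgroup.subset_closure (Or.inl ⟨⟨(i : ℕ) + 1, hi⟩, rfl⟩)
        · rw [show (i : ℕ) + 1 = e by omega, hme, ← hwd]
          refine mul_mem (Subgroup.list_prod_mem _ fun z hz => ?_) (hZ1 _ (hmemZ _))
          obtain ⟨j, rfl⟩ := List.mem_ofFn.1 hz
          exact pow_mem (show _ ∈ M1 from Subgroup.subset_closure (Or.inl ⟨j, rfl⟩)) _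
      · exact hZ1 _ (hZh _ y hy))
    have h1M : ∀ y ∈ M1, h * y * h⁻¹ ∈ M := conjM _ _ _ (by
      rintro y (⟨i, rfl⟩ | hy)
      · convert hB i using 1
        rw [uh, ← mul_assoc h, ← mul_assoc h, ← (Commute.self_pow h ((q + 1) * (i : ℕ))).symm.eq]
        group
      · simpa using hZM _ (hZh 1 y hy))
    have gB : ∀ y ∈ M, h ^ (q + 1) * y * (h ^ (q + 1))⁻¹ ∈ M := by
      have m1M : M1 ≤ M := by
        rw [Subgroup.closure_le]
        rintro y (⟨i, rfl⟩ | hy)
        exacts [hA i, hZM y hy]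
      refine conjM _ _ _ ?_
      rintro y (⟨i, rfl⟩ | hy)
      · refine Fin.addCases (fun i => ?_) (fun i => ?_) i
        · simp only [a, Fin.append_left]
          rw [hBn]
          exact m1M (g1 _ (Subgroup.subset_closure (Or.inl ⟨i, rfl⟩)))
        · simp only [a, Fin.append_right]
          rw [add_comm _ (1 : ℤ), ← cj_add, hBn, show cj h (1 : ℤ) = MulAut.conj h by simp [cj], MulAut.conj_apply]
          have := h1M _ (g1 _ (Subgroup.subset_closure (Or.inl ⟨i, rfl⟩)))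
          convert this using 1
          simp only [← mul_assoc, (Commute.self_pow h (q + 1)).symm.eq]
          group
      · exact hZM _ (hZh _ y hy)
    have gBpow : ∀ (n : ℕ) y, y ∈ M → h ^ ((q + 1) * n) * y * (h ^ ((q + 1) * n))⁻¹ ∈ M := by
      intro n
      induction n with
      | zero => intro y hy; simpa using hy
      | succ n ih =>
        intro y hy
        rw [show h ^ ((q + 1) * (n + 1)) * y * (h ^ ((q + 1) * (n + 1)))⁻¹ =
          h ^ (q + 1) * (h ^ ((q + 1) * n) * y * (h ^ ((q + 1) * n))⁻¹) * (h ^ (q + 1))⁻¹ by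
            rw [Nat.mul_succ, add_comm, pow_add]; group]
        exact gB _ (ih y hy)
    refine conjM _ _ _ ?_
    rintro y (⟨i, rfl⟩ | hy)
    · refine Fin.addCases (fun i => ?_) (fun i => ?_) i
      · simp only [a, Fin.append_left]
        rw [hBn]
        exact h1M _ (Subgroup.subset_closure (Or.inl ⟨i, rfl⟩))
      · simp only [a, Fin.append_right]
        have := gBpow (i : ℕ) _ (wqM (C.x0.act (C.ω ^ 2)))
        rw [← hh2] at this
        convert this using 1
        rw [← cj_add, cj_nat, show cj h (1 : ℤ) = MulAut.conj h by simp [cj], MulAut.conj_apply, sq]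
        simp only [← mul_assoc, (Commute.self_pow h ((q + 1) * (i : ℕ))).eq]
        group
    · simpa using hZM _ (hZh 1 y hy)
  have hgMpow : ∀ (n : ℕ) m, m ∈ M → h ^ n * m * (h ^ n)⁻¹ ∈ M := by
    intro n
    induction n with
    | zero => intro m hm; simpa using hm
    | succ n ih =>
      intro m hm
      rw [pow_succ, show h ^ n * h * m * (h ^ n * h)⁻¹ = h ^ n * (h * m * h⁻¹) * (h ^ n)⁻¹ by group]
      exact ih _ (hgM m hm)
  refine ⟨fun x => C.wq h2 u h x, fun x y => ?_, ?_, hΦwq, fun x => rfl, fun γ => ?_, fun n x => ?_⟩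
  · exact hfinj _ (wqM _) _ (mul_mem (wqM _) (wqM _)) (by rw [map_mul, hΦwq, hΦwq, hΦwq, Qe_mul])
  · refine hfinj _ (wqM _) _ ?_ (by rw [hΦwq, hu]; rfl)
    simpa using hA ⟨0, he⟩
  · exact hfinj _ (hwd γ ▸ hZM _ (hmemZ _)) _ (wqM _) (by rw [map_ζw, hu, hh, hΦwq, ζw_model])
  · exact hfinj _ (hgMpow n _ (wqM x)) _ (wqM _) (by
      rw [map_mul, map_mul, map_inv, map_pow, hh, hΦwq, hΦwq, h0_Qe])

end Cfg

end CfsgLib.Pres.SUThree
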