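import Mathlib

/-!
# Tools for the unipotent part of a presentation of `SU₃`
-/

set_option autoImplicit false

namespace CfsgLib.Pres.SUThree

/-- A triangle rule in both orientations carries an adjacent pair along a line. -/
theorem shift_all {C : ℤ → Prop} (A B : ℤ) (up : ∀ m, C m → C (m + B) → C (m + A))
    (up' : ∀ m, C m → C (m + A) → C (m + B)) (dn : ∀ m, C (m - B) → C (m - A) → C m) (m₀ : ℤ)
    (h0 : C m₀) (h1 : C (m₀ + B)) (i : ℕ) : C (m₀ + B * i) := by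
  suffices h : ∀ i : ℕ, C (m₀ + B * i) ∧ C (m₀ + B * i + B) from (h i).1
  intro i
  induction i with
  | zero => simpa using ⟨h0, h1⟩
  | succ i ih =>
    obtain ⟨c0, c1⟩ := ih
    set m := m₀ + B * (i : ℕ)
    have e : m₀ + B * ((i + 1 : ℕ) : ℤ) = m + B := by push_cast; ring
    rw [e]
    refine ⟨c1, ?_⟩
    have cA := up m c0 c1
    have cAB : C (m + A + B) := dn _ (by rwa [add_sub_cancel_right]) (by
      rwa [show m + A + B - A = m + B by ring])
    exact up' (m + B) c1 (by rwa [show m + B + A = m + A + B by ring])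

/-- An additive subset closed under two partial-fraction rules is everything. -/
theorem partial_fractions {K : Type*} [Field K] [Fintype K] (k : Kˣ) (hk : ∀ y : Kˣ, y ∈ Subgroup.zpowers k)
    (hk1 : (1 : K) + k ≠ 0) {S : Set K} (h0 : (0 : K) ∈ S) (hadd : ∀ a b, a ∈ S → b ∈ S → a + b ∈ S)
    (hneg : ∀ a, a ∈ S → -a ∈ S) (s1 : (1 : K) ∈ S) (sP : (k : K)⁻¹ ∈ S) (sQ : ((1 : K) + k)⁻¹ ∈ S)
    (sP2 : (k : K)⁻¹ ^ 2 ∈ S)
    (r1 : ∀ b, b ∈ S → b * (k : K)⁻¹ ^ 2 ∈ S → b * ((1 : K) + k)⁻¹ ^ 2 ∈ S)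
    (r2 : ∀ b, b ∈ S → b * ((1 : K) + k)⁻¹ ^ 2 ∈ S → b * (k : K)⁻¹ ^ 2 ∈ S) (x : K) : x ∈ S := by
  classical
  have hk0 : (k : K) ≠ 0 := k.ne_zero
  have hPQ : (k : K)⁻¹ * ((1 : K) + k)⁻¹ = (k : K)⁻¹ - ((1 : K) + k)⁻¹ := by field_simp; ring
  set P := (k : K)⁻¹
  set Q := ((1 : K) + k)⁻¹
  have hsub : ∀ a b, a ∈ S → b ∈ S → a - b ∈ S := fun a b ha hb => by
    rw [sub_eq_add_neg]; exact hadd _ _ ha (hneg _ hb)
  have hQ2 : Q ^ 2 ∈ S := by
    have := r1 1 s1 (by rwa [one_mul])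
    rwa [one_mul] at this
  have key : ∀ i : ℕ, P ^ i ∈ S ∧ P ^ i * Q ∈ S ∧ P ^ i * Q ^ 2 ∈ S ∧ P ^ (i + 1) ∈ S ∧
      P ^ (i + 1) * Q ∈ S ∧ P ^ (i + 1) * Q ^ 2 ∈ S := by
    intro i
    induction i with
    | zero =>
      have a1 : P * Q ∈ S := by rw [hPQ]; exact hsub _ _ sP sQ
      refine ⟨by simpa using s1, by simpa using sQ, by simpa using hQ2, by simpa using sP, by simpa using a1, ?_⟩
      rw [pow_one, sq, ← mul_assoc, hPQ, sub_mul, hPQ, ← sq]
      exact hsub _ _ (hsub _ _ sP sQ) hQ2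
    | succ i ih =>
      obtain ⟨b0, b1, b2, c0, c1, c2⟩ := ih
      have d0 : P ^ (i + 2) ∈ S := by
        rw [pow_add]
        exact r2 _ b0 b2
      have d1 : P ^ (i + 2) * Q ∈ S := by
        rw [show P ^ (i + 2) * Q = P ^ (i + 1) * (P * Q) by ring, hPQ, mul_sub, ← pow_succ]
        exact hsub _ _ d0 c1
      refine ⟨c0, c1, c2, d0, d1, ?_⟩
      rw [show P ^ (i + 2) * Q ^ 2 = P ^ (i + 1) * (P * Q) * Q by ring, hPQ, mul_sub, sub_mul, ← pow_succ,
        mul_assoc (P ^ (i + 1)), ← sq]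
      exact hsub _ _ d1 c2
  rcases eq_or_ne x 0 with rfl | hx
  · exact h0
  obtain ⟨m, hm⟩ := (isOfFinOrder_of_finite k⁻¹).mem_powers_iff_mem_zpowers.2
    (show Units.mk0 x hx ∈ Subgroup.zpowers k⁻¹ by rw [Subgroup.zpowers_inv]; exact hk _)
  have hm' : ((k⁻¹ : Kˣ) ^ m : Kˣ) = Units.mk0 x hx := hm
  have e := congrArg Units.val hm'
  rw [Units.val_pow_eq_pow_val, Units.val_inv_eq_inv_val, Units.val_mk0] at e
  rw [← e]
  exact (key m).1

variable {G : Type*} [Group G]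

/-- The elements whose commutator with `x` lies in `Z`, among those centralising `Z`. -/
def commSub (Z : Subgroup G) (x : G) (hx : ∀ c ∈ Z, Commute x c) : Subgroup G where
  carrier := {y | (∀ c ∈ Z, Commute y c) ∧ x * y * x⁻¹ * y⁻¹ ∈ Z}
  one_mem' := ⟨fun c _ => Commute.one_left c, by rw [mul_one, mul_inv_cancel, inv_one, mul_one]; exact one_mem Z⟩
  mul_mem' := fun {a b} ha hb => ⟨fun c hc => (ha.1 c hc).mul_left (hb.1 c hc), by
    have e : x * (a * b) * x⁻¹ * (a * b)⁻¹ =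
        (x * a * x⁻¹ * a⁻¹) * (a * (x * b * x⁻¹ * b⁻¹) * a⁻¹) := by group
    rw [e, (ha.1 _ hb.2).eq, mul_inv_cancel_right]
    exact mul_mem ha.2 hb.2⟩
  inv_mem' := fun {a} ha => ⟨fun c hc => (ha.1 c hc).inv_left, by
    have e : x * a⁻¹ * x⁻¹ * a⁻¹⁻¹ = a⁻¹ * (x * a * x⁻¹ * a⁻¹)⁻¹ * a := by group
    rw [e, mul_assoc, ← (ha.1 _ (inv_mem ha.2)).eq, inv_mul_cancel_left]
    exact inv_mem ha.2⟩

theorem mem_commSub {Z : Subgroup G} {x : G} {hx : ∀ c ∈ Z, Commute x c} {y : G} :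
    y ∈ commSub Z x hx ↔ (∀ c ∈ Z, Commute y c) ∧ x * y * x⁻¹ * y⁻¹ ∈ Z := Iff.rfl

/-- Ordered products of powers. -/
def wprod {m : ℕ} (a : Fin m → G) (v : Fin m → ℕ) : G := (List.ofFn fun i => a i ^ v i).prod

/-- A group generated modulo a central subgroup by commuting elements of order `p`. -/
theorem closure_le_products {m p : ℕ} (hp : 0 < p) (Z : Subgroup G) (hZ : ∀ c ∈ Z, ∀ d ∈ Z, Commute c d)
    (a : Fin m → G) (ha : ∀ i, ∀ c ∈ Z, Commute (a i) c)
    (haa : ∀ i j, a i * a j * (a i)⁻¹ * (a j)⁻¹ ∈ Z) (hap : ∀ i, a i ^ p ∈ Z) :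
    ∀ x ∈ Subgroup.closure (Set.range a ∪ (Z : Set G)),
      ∃ v : Fin m → Fin p, ∃ c ∈ Z, x = wprod a (fun i => v i) * c := by
  classical
  let N : Subgroup G := Subgroup.centralizer (Z : Set G)
  have hN : ∀ {y : G}, y ∈ N ↔ ∀ c ∈ Z, Commute y c := fun {y} => by
    rw [Subgroup.mem_centralizer_iff]
    exact ⟨fun h c hc => (h c hc).symm, fun h c hc => ((h c hc).eq).symm⟩
  have haN : ∀ i, a i ∈ N := fun i => hN.2 (ha i)
  let ZN : Subgroup N := Z.subgroupOf N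
  have : ZN.Normal := ⟨fun c hc g => by
    rw [Subgroup.mem_subgroupOf] at hc ⊢
    rw [Subgroup.coe_mul, Subgroup.coe_mul, (hN.1 g.2 _ hc).eq, Subgroup.coe_inv, mul_inv_cancel_right]
    exact hc⟩
  let b : Fin m → N ⧸ ZN := fun i => QuotientGroup.mk' ZN ⟨a i, haN i⟩
  have hbb : ∀ i j, b i * b j = b j * b i := fun i j => by
    rw [← commutatorElement_eq_one_iff_mul_comm, ← map_commutatorElement, QuotientGroup.mk'_apply,
      QuotientGroup.eq_one_iff, Subgroup.mem_subgroupOf]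
    exact haa i j
  set A := Subgroup.closure (Set.range b) with hA
  have : IsMulCommutative A := Subgroup.isMulCommutative_closure (by
    rintro _ ⟨i, rfl⟩ _ ⟨j, rfl⟩
    exact hbb i j)
  let _ : CommGroup A := { (inferInstance : Group A) with mul_comm := fun a b => mul_comm' a b }
  let S : Fin m → A := fun i => ⟨b i, Subgroup.subset_closure ⟨i, rfl⟩⟩
  have hSp : ∀ i, S i ^ p = 1 := fun i => Subtype.ext (by
    show b i ^ p = 1
    rw [← map_pow, QuotientGroup.mk'_apply, QuotientGroup.eq_one_iff, Subgroup.mem_subgroupOf]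
    exact hap i)
  let T : Subgroup A :=
    { carrier := {y | ∃ v : Fin m → ℕ, y = ∏ i, S i ^ v i}
      one_mem' := ⟨0, by simp⟩
      mul_mem' := by
        rintro _ _ ⟨v, rfl⟩ ⟨w, rfl⟩
        exact ⟨v + w, by simp only [Pi.add_apply, pow_add, Finset.prod_mul_distrib]⟩
      inv_mem' := by
        rintro _ ⟨v, rfl⟩
        refine ⟨fun i => (p - 1) * v i, inv_eq_of_mul_eq_one_right ?_⟩
        rw [← Finset.prod_mul_distrib]
        refine Finset.prod_eq_one fun i _ => ?_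
        rw [← pow_add, show v i + (p - 1) * v i = p * v i by
          obtain ⟨r, rfl⟩ : ∃ r, p = r + 1 := ⟨p - 1, by omega⟩
          rw [Nat.add_sub_cancel]; ring, pow_mul, hSp, one_pow] }
  have hT : ∀ y : A, y ∈ T := by
    rintro ⟨y, hy⟩
    induction hy using Subgroup.closure_induction with
    | mem y hy =>
      obtain ⟨i, rfl⟩ := hy
      refine ⟨fun j => if j = i then 1 else 0, ?_⟩
      refine (Eq.symm ((Finset.prod_eq_single i (fun j _ hj => by simp [hj])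
        (fun h => absurd (Finset.mem_univ i) h)).trans ?_))
      simp only [if_true, pow_one]; rfl
    | one => exact T.one_mem
    | mul y z hy hz ihy ihz => exact T.mul_mem ihy ihz
    | inv y hy ihy => exact T.inv_mem ihy
  intro x hx
  have hxN : x ∈ N := by
    refine (Subgroup.closure_le N).2 ?_ hx
    rintro y (⟨i, rfl⟩ | hy)
    · exact haN i
    · exact hN.2 fun c hc => hZ y hy c hc
  have hxA : QuotientGroup.mk' ZN ⟨x, hxN⟩ ∈ A := by
    have key : Subgroup.closure (Set.range a ∪ (Z : Set G)) ≤ ((A.comap (QuotientGroup.mk' ZN)).map N.subtype) := by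
      rw [Subgroup.closure_le]
      rintro y (⟨i, rfl⟩ | hy)
      · exact ⟨⟨a i, haN i⟩, Subgroup.subset_closure ⟨i, rfl⟩, rfl⟩
      · refine ⟨⟨y, hN.2 fun c hc => hZ y hy c hc⟩, ?_, rfl⟩
        show QuotientGroup.mk' ZN _ ∈ A
        rw [QuotientGroup.mk'_apply, (QuotientGroup.eq_one_iff _).2 (Subgroup.mem_subgroupOf.2 hy)]
        exact one_mem A
    obtain ⟨z, hz, hzx⟩ := key hx
    rwa [show (⟨x, hxN⟩ : N) = z from Subtype.ext hzx.symm]
  obtain ⟨v, hv⟩ := hT ⟨_, hxA⟩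
  refine ⟨fun i => ⟨v i % p, Nat.mod_lt _ hp⟩, ?_⟩
  let w : Fin m → ℕ := fun i => v i % p
  have hwN : wprod a w ∈ N := Subgroup.list_prod_mem _ fun y hy => by
    obtain ⟨i, rfl⟩ := List.mem_ofFn.1 hy
    exact pow_mem (haN i) _
  refine ⟨(wprod a w)⁻¹ * x, ?_, (mul_inv_cancel_left (wprod a w) x).symm⟩
  have e : QuotientGroup.mk' ZN ⟨wprod a w, hwN⟩ = QuotientGroup.mk' ZN ⟨x, hxN⟩ := by
    have h1 : (⟨wprod a w, hwN⟩ : N) = (List.ofFn fun i => (⟨a i, haN i⟩ : N) ^ w i).prod := by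
      refine Subtype.ext ?_
      rw [← Subgroup.coe_subtype, map_list_prod, List.map_ofFn]
      rfl
    have h2 := congrArg Subtype.val hv
    simp only at h2
    rw [h2, h1, map_list_prod, List.map_ofFn,
      show (∏ i, S i ^ v i) = ∏ i, S i ^ w i from Finset.prod_congr rfl fun i _ => pow_eq_pow_mod _ (hSp i),
      ← List.prod_ofFn, ← Subgroup.coe_subtype, map_list_prod, List.map_ofFn]
    rfl
  exact Subgroup.mem_subgroupOf.1 (QuotientGroup.eq.1 e)

/-- The order of such a group. -/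
theorem card_closure_le {m p : ℕ} (hp : 0 < p) (Z : Subgroup G) [Finite Z] (hZ : ∀ c ∈ Z, ∀ d ∈ Z, Commute c d)
    (a : Fin m → G) (ha : ∀ i, ∀ c ∈ Z, Commute (a i) c)
    (haa : ∀ i j, a i * a j * (a i)⁻¹ * (a j)⁻¹ ∈ Z) (hap : ∀ i, a i ^ p ∈ Z) :
    Finite (Subgroup.closure (Set.range a ∪ (Z : Set G))) ∧
      Nat.card (Subgroup.closure (Set.range a ∪ (Z : Set G))) ≤ p ^ m * Nat.card Z := by
  set M := Subgroup.closure (Set.range a ∪ (Z : Set G)) with hM
  let f : (Fin m → Fin p) × Z → M := fun x => ⟨wprod a (fun i => x.1 i) * x.2,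
    mul_mem (Subgroup.list_prod_mem _ fun y hy => by
      obtain ⟨i, rfl⟩ := List.mem_ofFn.1 hy
      exact pow_mem (show a i ∈ M from Subgroup.subset_closure (Or.inl ⟨i, rfl⟩)) _)
    (show (x.2 : G) ∈ M from Subgroup.subset_closure (Or.inr x.2.2))⟩
  have hf : Function.Surjective f := fun x => by
    obtain ⟨v, c, hc, e⟩ := closure_le_products hp Z hZ a ha haa hap x.1 x.2
    exact ⟨(v, ⟨c, hc⟩), Subtype.ext e.symm⟩
  refine ⟨Finite.of_surjective f hf, (Nat.card_le_card_of_surjective f hf).trans (le_of_eq ?_)⟩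
  rw [Nat.card_prod, Nat.card_fun, Nat.card_fin, Nat.card_fin]

end CfsgLib.Pres.SUThree
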