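import Cfsg.Agent.Lib.Pres.SUThreeModel
import Cfsg.Agent.Lib.Pres.SUThreeUnip
import Cfsg.Agent.Lib.Pres.SLTwo

/-!
# The equations presenting `SU₃` and their validity in the model
-/

set_option autoImplicit false

namespace CfsgLib.Pres.SUThree

open Matrix
open CfsgLib.Classical (qFrob qFrob_apply qFrob_qFrob)
open CfsgLib.Pres.SUFour (Kf σ_fix card_Kf data)

variable {F : Type*} [Field F] [Fintype F] {q : ℕ} (hF : Fintype.card F = q ^ 2)

/-- `c ↦ (σ c)² / c`, the action of the torus on the first coordinate. -/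
noncomputable def muHom : Fˣ →* Fˣ :=
  (Units.map (qFrob hF : F →* F) : Fˣ →* Fˣ) ^ 2 / MonoidHom.id Fˣ

theorem muHom_val (c : Fˣ) : ((muHom hF c : Fˣ) : F) = qFrob hF (c : F) ^ 2 / (c : F) := by
  simp [muHom]

variable {p e : ℕ} [Algebra (ZMod p) (Kf hF)]

/-- The data of a presentation. -/
structure Cfg (p e : ℕ) [Algebra (ZMod p) (Kf hF)] where
  /-- A generator of the multiplicative group. -/
  ω : Fˣ
  hω : ∀ c : Fˣ, c ∈ Subgroup.zpowers ω
  /-- A radical element with first coordinate one. -/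
  x0 : Par hF
  x0a : x0.a = 1
  /-- The power basis. -/
  BK : Module.Basis (Fin e) (ZMod p) (Kf hF)
  hBK : ∀ i, BK i = (((data hF).Nu ω : (Kf hF)ˣ) : Kf hF) ^ (i : ℕ)
  /-- The exponent of `1 + k`. -/
  jz : ℕ
  hjz : (1 : Kf hF) + ((data hF).Nu ω : (Kf hF)ˣ) ≠ 0 →
    (((data hF).Nu ω : (Kf hF)ˣ) : Kf hF) ^ jz = 1 + ((data hF).Nu ω : (Kf hF)ˣ)
  /-- The exponent of `(σ ω)⁻¹`. -/
  Qexp : ℕ
  hQexp : flip hF ω = ω ^ Qexp
  /-- Discrete logarithm. -/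
  dlog : Fˣ → ℕ
  hdlog : ∀ c, ω ^ dlog c = c

namespace Cfg

variable {hF} (C : Cfg hF p e)

/-- The generator of the fixed field. -/
noncomputable def k : (Kf hF)ˣ := (data hF).Nu C.ω
/-- The multiplier on the first coordinate. -/
noncomputable def μ : F := ((muHom hF C.ω : Fˣ) : F)
/-- The skew element. -/
noncomputable def lam : F := qFrob hF C.μ - C.μ

theorem k_val : ((C.k : Kf hF) : F) = (C.ω : F) * qFrob hF (C.ω : F) := rfl

theorem μ_ne : C.μ ≠ 0 := Units.ne_zero _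

theorem ω_ne : (C.ω : F) ≠ 0 := Units.ne_zero _

theorem μ_pow : C.μ ^ (q + 1) = ((C.k : Kf hF) : F) := by
  have h1 := C.ω_ne
  have h2 : qFrob hF (C.ω : F) ≠ 0 := (map_ne_zero _).2 h1
  rw [pow_succ, ← qFrob_apply hF, k_val, μ, muHom_val, map_div₀, map_pow, qFrob_qFrob]
  field_simp

theorem hω' : ∀ c : Fˣ, ∃ n : ℕ, C.ω ^ n = c := fun c => ⟨C.dlog c, C.hdlog c⟩

theorem orderOf_ω : orderOf C.ω = q ^ 2 - 1 := by
  rw [orderOf_eq_card_of_forall_mem_zpowers C.hω, Nat.card_units, Nat.card_eq_fintype_card, hF]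

theorem k_gen : ∀ y : (Kf hF)ˣ, y ∈ Subgroup.zpowers C.k := fun y => by
  obtain ⟨c, hc⟩ := (data hF).exists_norm (SUFour.hFK hF) (SUFour.hσ hF) y
  obtain ⟨n, rfl⟩ := Subgroup.mem_zpowers_iff.1 (C.hω c)
  exact ⟨n, by rw [← hc, map_zpow]; rfl⟩

theorem k_pow_card : C.k ^ (q - 1) = 1 := by
  have h := pow_card_eq_one' (x := C.k)
  rwa [Nat.card_units, card_Kf] at h

theorem k_pow : C.k ^ (q + 1) = C.k ^ 2 := by
  have hq := Classical.two_le_of_card_sq hF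
  rw [show q + 1 = q - 1 + 2 by omega, pow_add, C.k_pow_card, one_mul]

theorem σμ_ne (h2 : q ≠ 2) : qFrob hF C.μ ≠ C.μ := by
  intro h
  have hq := Classical.two_le_of_card_sq hF
  rw [μ, muHom_val, map_div₀, map_pow, qFrob_qFrob, div_eq_div_iff ((map_ne_zero _).2 C.ω_ne) C.ω_ne] at h
  have h' : (C.ω : F) ^ 3 = qFrob hF (C.ω : F) ^ 3 := by linear_combination h
  rw [qFrob_apply, ← Units.val_pow_eq_pow_val, ← pow_mul, ← Units.val_pow_eq_pow_val] at h'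
  have h'' := Units.ext h'
  rw [show q * 3 = 3 + (q - 1) * 3 by omega, pow_add, left_eq_mul] at h''
  have hdvd := orderOf_dvd_of_pow_eq_one h''
  rw [C.orderOf_ω, show q ^ 2 - 1 = (q - 1) * (q + 1) by rw [mul_comm]; simpa [sq] using Nat.sq_sub_sq q 1] at hdvd
  have := Nat.le_of_dvd (by norm_num) ((Nat.mul_dvd_mul_iff_left (show 0 < q - 1 by omega)).1 hdvd)
  omega

theorem lam_ne (h2 : q ≠ 2) : C.lam ≠ 0 := sub_ne_zero.2 (C.σμ_ne h2)

theorem lam_skew : qFrob hF C.lam = -C.lam := by rw [lam, map_sub, qFrob_qFrob, neg_sub]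

/-- A central parameter. -/
noncomputable def zc (γ : Kf hF) : Par hF :=
  Par.mk 0 (C.lam * (γ : F)) (by rw [map_mul, σ_fix, lam_skew]; ring_nf)

theorem zc_a (γ : Kf hF) : (C.zc γ).a = 0 := rfl
theorem zc_b (γ : Kf hF) : (C.zc γ).b = C.lam * (γ : F) := rfl

theorem zc_mul (β γ : Kf hF) : (C.zc β).mul (C.zc γ) = C.zc (β + γ) :=
  Par.ext' (by simp [Par.mul, zc_a]) (by simp [Par.mul, zc_a, zc_b]; ring)

theorem zc_act (n : ℕ) (γ : Kf hF) : (C.zc γ).act (C.ω ^ n) = C.zc ((C.k : Kf hF) ^ n * γ) :=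
  Par.ext' (by simp [Par.act, zc_a]) (by
    simp only [Par.act, Par.mk_b, zc_b, Subfield.coe_mul, SubmonoidClass.coe_pow, k_val, Units.val_pow_eq_pow_val,
      map_pow, mul_pow]
    ring)

theorem exists_zc (h2 : q ≠ 2) (x : Par hF) (hx : x.a = 0) : ∃ γ, C.zc γ = x := by
  refine ⟨⟨x.b / C.lam, ?_⟩, Par.ext' hx.symm (mul_div_cancel₀ _ (C.lam_ne h2))⟩
  show qFrob hF (x.b / C.lam) = x.b / C.lam
  have h := x.rel
  rw [hx, mul_zero, add_zero] at h
  rw [map_div₀, lam_skew, eq_neg_of_add_eq_zero_right h, neg_div_neg_eq]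

theorem exists_ab (h2 : q ≠ 2) (a : F) : ∃ α β : Kf hF, (α : F) + C.μ * (β : F) = a := by
  have hl : qFrob hF C.μ - C.μ ≠ 0 := C.lam_ne h2
  have hb : qFrob hF ((qFrob hF a - a) / (qFrob hF C.μ - C.μ)) = (qFrob hF a - a) / (qFrob hF C.μ - C.μ) := by
    rw [map_div₀, map_sub, map_sub, qFrob_qFrob, qFrob_qFrob, ← neg_sub a, ← neg_sub C.μ, neg_div_neg_eq]
  refine ⟨⟨a - C.μ * ((qFrob hF a - a) / (qFrob hF C.μ - C.μ)), ?_⟩, ⟨_, hb⟩, sub_add_cancel _ _⟩
  show qFrob hF (a - C.μ * ((qFrob hF a - a) / (qFrob hF C.μ - C.μ))) =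
    a - C.μ * ((qFrob hF a - a) / (qFrob hF C.μ - C.μ))
  rw [map_sub, map_mul, hb]
  field_simp
  ring

variable [Fact p.Prime]

section words

variable {G : Type*} [Group G] (u h : G)

/-- The second element. -/
def uh : G := h * u * h⁻¹

/-- The central element. -/
def zz : G := u * uh u h * u⁻¹ * (uh u h)⁻¹

/-- A word for a central element. -/
noncomputable def ζw (γ : Kf hF) : G := wd h (zz u h) 1 (coord C.BK γ)

/-- A word with first coordinate `α + μ β`. -/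
noncomputable def aw (α β : Kf hF) : G := wd h u (q + 1) (coord C.BK α) * wd h (uh u h) (q + 1) (coord C.BK β)

theorem map_uh {H : Type*} [Group H] (f : G →* H) : f (uh u h) = uh (f u) (f h) := by simp [uh]

theorem map_zz {H : Type*} [Group H] (f : G →* H) : f (zz u h) = zz (f u) (f h) := by simp [zz, map_uh]

theorem map_ζw {H : Type*} [Group H] (f : G →* H) (γ : Kf hF) : f (C.ζw u h γ) = C.ζw (f u) (f h) γ := by
  rw [ζw, ζw, map_wd, map_zz]

theorem map_aw {H : Type*} [Group H] (f : G →* H) (α β : Kf hF) : f (C.aw u h α β) = C.aw (f u) (f h) α β := by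
  rw [aw, aw, map_mul, map_wd, map_wd, map_uh]

end words

/-- The first generator of the model. -/
noncomputable def u0 : U3g hF := Qe C.x0
/-- The second generator of the model. -/
noncomputable def h0 : U3g hF := He hF C.ω

theorem h0_Qe (n : ℕ) (x : Par hF) : C.h0 ^ n * Qe x * (C.h0 ^ n)⁻¹ = Qe (x.act (C.ω ^ n)) := by
  rw [h0, ← map_pow, He_Qe]

theorem uh0 : uh C.u0 C.h0 = Qe (C.x0.act C.ω) := by
  rw [uh, u0, h0, He_Qe]

theorem x0_act_a : (C.x0.act C.ω).a = C.μ := by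
  simp [Par.act, C.x0a, μ, muHom_val]

theorem zz0 : zz C.u0 C.h0 = Qe (C.zc 1) := by
  rw [zz, uh0, u0, mul_inv_eq_iff_eq_mul, mul_inv_eq_iff_eq_mul, Qe_mul, Qe_mul, Qe_mul]
  congr 1
  refine Par.ext' ?_ ?_
  · simp [Par.mul, zc_a]; ring
  · simp only [Par.mul, Par.mk_a, Par.mk_b, zc_a, zc_b, OneMemClass.coe_one, x0_act_a, C.x0a, map_zero, map_one,
      map_add, lam]
    ring

theorem ζw_model (γ : Kf hF) : C.ζw C.u0 C.h0 γ = Qe (C.zc γ) := by
  have h0' : Qe (C.zc 0) = 1 := by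
    rw [← Qe_one]
    congr 1
    exact Par.ext' rfl (by simp [zc_b, Par.one])
  let ν : Multiplicative (Kf hF) →* U3g hF :=
    MonoidHom.mk' (fun c => Qe (C.zc c.toAdd)) fun a b => by
      show Qe (C.zc (a.toAdd + b.toAdd)) = _
      rw [Qe_mul, zc_mul]
  have hpow : ∀ (m : ℕ) (c : Kf hF), Qe (C.zc c) ^ m = Qe (C.zc (m • c)) := by
    intro m c
    induction m with
    | zero => rw [pow_zero, zero_nsmul, h0']
    | succ m ih => rw [pow_succ, ih, succ_nsmul, Qe_mul, zc_mul]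
  have hterm : ∀ i : Fin e, (C.h0 ^ (1 * (i : ℕ)) * zz C.u0 C.h0 * (C.h0 ^ (1 * (i : ℕ)))⁻¹) ^ coord C.BK γ i =
      ν (Multiplicative.ofAdd (coord C.BK γ i • C.BK i)) := fun i => by
    rw [one_mul, zz0, h0_Qe, zc_act, mul_one, hpow, C.hBK]
    rfl
  rw [ζw, wd, show (fun i : Fin e => (C.h0 ^ (1 * (i : ℕ)) * zz C.u0 C.h0 * (C.h0 ^ (1 * (i : ℕ)))⁻¹) ^
      coord C.BK γ i) = fun i => ν (Multiplicative.ofAdd (coord C.BK γ i • C.BK i)) from funext hterm,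
    show (fun i : Fin e => ν (Multiplicative.ofAdd (coord C.BK γ i • C.BK i))) =
      (⇑ν ∘ fun i => Multiplicative.ofAdd (coord C.BK γ i • C.BK i)) from rfl, ← List.map_ofFn, ← map_list_prod,
    List.prod_ofFn, ← ofAdd_sum, sum_coord]
  rfl

omit [Algebra (ZMod p) (Kf hF)] [Fact p.Prime] in
theorem Qe_list {n : ℕ} (x : Fin n → Par hF) : ∃ y : Par hF, Qe y = (List.ofFn fun i => Qe (x i)).prod ∧
    y.a = ∑ i, (x i).a := by
  induction n with
  | zero => exact ⟨Par.one, by simp [Qe_one], by simp [Par.one]⟩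
  | succ n ih =>
    obtain ⟨y, hy, hya⟩ := ih fun i => x i.succ
    exact ⟨(x 0).mul y, by rw [List.ofFn_succ, List.prod_cons, ← hy, Qe_mul],
      by simp [Par.mul, Fin.sum_univ_succ, hya]⟩

omit [Algebra (ZMod p) (Kf hF)] [Fact p.Prime] in
theorem Qe_pow (x : Par hF) (m : ℕ) : ∃ y : Par hF, Qe y = Qe x ^ m ∧ y.a = m • x.a := by
  induction m with
  | zero => exact ⟨Par.one, by simp [Qe_one], by simp [Par.one]⟩
  | succ m ih =>
    obtain ⟨y, hy, hya⟩ := ih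
    exact ⟨y.mul x, by rw [pow_succ, ← hy, Qe_mul], by rw [Par.mul, Par.mk_a, hya, succ_nsmul]⟩

theorem wd_model (x : Par hF) (α : Kf hF) :
    ∃ y : Par hF, Qe y = wd C.h0 (Qe x) (q + 1) (coord C.BK α) ∧ y.a = (α : F) * x.a := by
  choose y hy hya using fun i : Fin e => Qe_pow (x.act (C.ω ^ ((q + 1) * (i : ℕ)))) (coord C.BK α i)
  obtain ⟨z, hz, hza⟩ := Qe_list y
  refine ⟨z, ?_, ?_⟩
  · rw [hz, wd]
    congr 1
    refine congrArg List.ofFn (funext fun i => ?_)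
    rw [hy, h0_Qe]
  · rw [hza]
    have hact : ∀ i : Fin e, (x.act (C.ω ^ ((q + 1) * (i : ℕ)))).a = ((C.BK i : Kf hF) : F) * x.a := fun i => by
      show qFrob hF _ ^ 2 / _ * x.a = _
      rw [← muHom_val, map_pow, Units.val_pow_eq_pow_val, C.hBK, SubmonoidClass.coe_pow, ← μ, pow_mul, μ_pow]
      rfl
    simp only [hya, hact, ← smul_mul_assoc, ← Finset.sum_mul]
    congr 1
    conv_rhs => rw [← sum_coord C.BK α]
    rw [AddSubmonoidClass.coe_finset_sum]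
    simp

theorem aw_model (α β : Kf hF) :
    ∃ y : Par hF, Qe y = C.aw C.u0 C.h0 α β ∧ y.a = (α : F) + C.μ * (β : F) := by
  obtain ⟨y1, hy1, ha1⟩ := C.wd_model C.x0 α
  obtain ⟨y2, hy2, ha2⟩ := C.wd_model (C.x0.act C.ω) β
  refine ⟨y1.mul y2, by rw [aw, uh0, ← Qe_mul, hy1, hy2]; rfl, ?_⟩
  simp only [Par.mul, Par.mk_a, ha1, ha2, C.x0a, x0_act_a]
  ring

theorem exists_word (h2 : q ≠ 2) (x : Par hF) :
    ∃ t : Kf hF × Kf hF × Kf hF, C.aw C.u0 C.h0 t.1 t.2.1 * C.ζw C.u0 C.h0 t.2.2 = Qe x := by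
  obtain ⟨α, β, hab⟩ := C.exists_ab h2 x.a
  obtain ⟨y, hy, hya⟩ := C.aw_model α β
  obtain ⟨γ, hγ⟩ := C.exists_zc h2 (Par.mk 0 (x.b - y.b) (by
    have h1 := x.rel
    have h3 := y.rel
    rw [hya, hab] at h3
    rw [map_sub]
    simp only [map_zero, mul_zero, add_zero]
    linear_combination h1 - h3) : Par hF) rfl
  refine ⟨(α, β, γ), ?_⟩
  rw [← hy, ζw_model, hγ, Qe_mul]
  congr 1
  exact Par.ext' (by simp [Par.mul, hya, hab]) (by simp [Par.mul])

variable (h2 : q ≠ 2)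

/-- A word for a radical element. -/
noncomputable def wq {G : Type*} [Group G] (u h : G) (x : Par hF) : G :=
  C.aw u h (C.exists_word h2 x).choose.1 (C.exists_word h2 x).choose.2.1 *
    C.ζw u h (C.exists_word h2 x).choose.2.2

theorem map_wq {G H : Type*} [Group G] [Group H] (f : G →* H) (u h : G) (x : Par hF) :
    f (C.wq h2 u h x) = C.wq h2 (f u) (f h) x := by
  rw [wq, wq, map_mul, map_aw, map_ζw]

theorem wq_model (x : Par hF) : C.wq h2 C.u0 C.h0 x = Qe x := (C.exists_word h2 x).choose_spec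

/-- The scalar of a radical element in the centre (zero otherwise). -/
noncomputable def gam (g : U3g hF) : Kf hF :=
  open _root_.Classical in if hg : ∃ γ, Qe (C.zc γ) = g then hg.choose else 0

omit [Fact p.Prime] in
include h2 in
theorem gam_spec {x : Par hF} (hx : x.a = 0) : Qe (C.zc (C.gam (Qe x))) = Qe x := by
  obtain ⟨γ, hγ⟩ := C.exists_zc h2 x hx
  have h : ∃ γ, Qe (C.zc γ) = Qe x := ⟨γ, by rw [hγ]⟩
  rw [gam, dif_pos h]
  exact h.choose_spec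

/-- The seeds with `-b / σ b` the chosen generator of the norm-one group. -/
noncomputable def y1 : F := (C.ω : F) ^ (q - 1)

omit [Fact p.Prime] in
theorem y1_norm : qFrob hF C.y1 * C.y1 = 1 := by
  rw [y1, map_pow, ← mul_pow, mul_comm, ← C.k_val, ← SubmonoidClass.coe_pow, ← Units.val_pow_eq_pow_val,
    C.k_pow_card]
  rfl

omit [Fact p.Prime] in
theorem y1_ne_one : C.y1 ≠ 1 := by
  intro h
  have hq := Classical.two_le_of_card_sq hF
  rw [y1, ← Units.val_pow_eq_pow_val] at h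
  have hdvd := Nat.le_of_dvd (by omega) (orderOf_dvd_of_pow_eq_one (Units.ext h : C.ω ^ (q - 1) = 1))
  rw [C.orderOf_ω] at hdvd
  have h5 : 2 * q ≤ q ^ 2 := by rw [sq]; exact Nat.mul_le_mul_right q hq
  omega

/-- The radical element over `a` with `-b / σ b` the generator. -/
noncomputable def xy (a : F) : Par hF :=
  Par.mk a (-(qFrob hF a * a) / (1 - qFrob hF C.y1)) (by
    have hy := C.y1_norm
    have h1 : (1 : F) - qFrob hF C.y1 ≠ 0 := sub_ne_zero.2 fun e => C.y1_ne_one (by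
      have := hy; rw [← e, one_mul] at this; exact this)
    have h2' : (1 : F) - C.y1 ≠ 0 := sub_ne_zero.2 (Ne.symm C.y1_ne_one)
    rw [map_div₀, map_neg, map_mul, qFrob_qFrob, map_sub, map_one, qFrob_qFrob]
    field_simp
    linear_combination qFrob hF a * a * hy)

omit [Fact p.Prime] in
theorem xy_a (a : F) : (C.xy a).a = a := rfl

/-- The three seeds. -/
noncomputable def seed (r : Fin 3) : Par hF := C.xy ((C.ω : F) ^ (r : ℕ))

/-- The right-hand side of the decomposition. -/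
noncomputable def cellWord {G : Type*} [Group G] (u h w : G) (x : Par hF) : G :=
  C.wq h2 u h x.fst *
    h ^ (open _root_.Classical in if hb : x.b ≠ 0 then C.dlog (x.mid hb) else 0) * w * C.wq h2 u h x.snd

open _root_.Classical in
/-- The equations. -/
noncomputable def eqs {G : Type*} [Group G] (u h w : G) : List (G × G) :=
  [(h ^ (q ^ 2 - 1), 1),
   (zz u h ^ p, 1),
   (zz u h * (h * zz u h * h⁻¹), h * zz u h * h⁻¹ * zz u h),
   (if (1 : Kf hF) + C.k ≠ 0 then (h ^ C.jz * zz u h * (h ^ C.jz)⁻¹, zz u h * (h * zz u h * h⁻¹)) else (1, 1)),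
   (h ^ e * zz u h * (h ^ e)⁻¹, C.ζw u h ((C.k : Kf hF) ^ e)),
   (u * C.ζw u h 1, C.ζw u h 1 * u),
   (u * C.ζw u h (C.k : Kf hF)⁻¹, C.ζw u h (C.k : Kf hF)⁻¹ * u),
   (u * C.ζw u h ((1 : Kf hF) + C.k)⁻¹, C.ζw u h ((1 : Kf hF) + C.k)⁻¹ * u),
   (u * C.ζw u h ((C.k : Kf hF)⁻¹ ^ 2), C.ζw u h ((C.k : Kf hF)⁻¹ ^ 2) * u),
   (u ^ p, C.ζw u h (C.gam (C.u0 ^ p))),
   (u * (h ^ (q + 1) * u * (h ^ (q + 1))⁻¹) * u⁻¹ * (h ^ (q + 1) * u * (h ^ (q + 1))⁻¹)⁻¹,
      C.ζw u h (C.gam (C.u0 * (C.h0 ^ (q + 1) * C.u0 * (C.h0 ^ (q + 1))⁻¹) * C.u0⁻¹ *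
        (C.h0 ^ (q + 1) * C.u0 * (C.h0 ^ (q + 1))⁻¹)⁻¹))),
   (u * (h ^ (q + 2) * u * (h ^ (q + 2))⁻¹) * u⁻¹ * (h ^ (q + 2) * u * (h ^ (q + 2))⁻¹)⁻¹,
      C.ζw u h (C.gam (C.u0 * (C.h0 ^ (q + 2) * C.u0 * (C.h0 ^ (q + 2))⁻¹) * C.u0⁻¹ *
        (C.h0 ^ (q + 2) * C.u0 * (C.h0 ^ (q + 2))⁻¹)⁻¹))),
   (if (1 : Kf hF) + C.k ≠ 0 then (h ^ ((q + 1) * C.jz) * u * (h ^ ((q + 1) * C.jz))⁻¹,
      u * (h ^ (q + 1) * u * (h ^ (q + 1))⁻¹) * C.ζw u h (C.gam ((C.u0 * (C.h0 ^ (q + 1) * C.u0 * (C.h0 ^ (q + 1))⁻¹))⁻¹ *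
        (C.h0 ^ ((q + 1) * C.jz) * C.u0 * (C.h0 ^ ((q + 1) * C.jz))⁻¹)))) else (1, 1)),
   (h ^ ((q + 1) * e) * u * (h ^ ((q + 1) * e))⁻¹,
      wd h u (q + 1) (coord C.BK ((C.k : Kf hF) ^ e)) * C.ζw u h (C.gam ((wd C.h0 C.u0 (q + 1)
        (coord C.BK ((C.k : Kf hF) ^ e)))⁻¹ * (C.h0 ^ ((q + 1) * e) * C.u0 * (C.h0 ^ ((q + 1) * e))⁻¹)))),
   (h ^ 2 * u * (h ^ 2)⁻¹, C.wq h2 u h (C.x0.act (C.ω ^ 2))),
   (w * w, 1),
   (w * h * w, h ^ C.Qexp),
   (w * C.ζw u h 1 * w, C.cellWord h2 u h w (C.zc 1))] ++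
  List.ofFn fun r : Fin 3 => (w * C.wq h2 u h (C.seed r) * w, C.cellWord h2 u h w (C.seed r))

theorem eqs_length {G : Type*} [Group G] (u h w : G) : (C.eqs h2 u h w).length = 21 := by
  simp [eqs]

theorem map_eqs {G H : Type*} [Group G] [Group H] (f : G →* H) (u h w : G) :
    C.eqs h2 (f u) (f h) (f w) = (C.eqs h2 u h w).map fun x => (f x.1, f x.2) := by
  simp only [eqs, cellWord, List.map_append, List.map_ofFn, List.map_cons, List.map_nil, map_mul, map_inv, map_pow,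
    map_one, map_wq, map_ζw, map_wd, map_zz, apply_ite (fun x : G × G => (f x.1, f x.2)), Function.comp_def]

omit [Fact p.Prime] in
include h2 in
theorem y1_seed_b (r : Fin 3) : (C.seed r).b ≠ 0 := by
  intro hb
  have := congrArg Par.a (eq_zero_of_b hb)
  simp [seed, xy_a, Par.one] at this

omit [Algebra (ZMod p) (Kf hF)] [Fact p.Prime] in
theorem He_inj : Function.Injective (He hF) := fun c d e => by
  have := congrFun (congrFun (congrArg (m3 hF) e) 0) 0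
  exact Units.ext (by simpa [m3_He] using this)

theorem cellWord_model {x : Par hF} (hb : x.b ≠ 0) :
    C.cellWord h2 C.u0 C.h0 (We hF) x = We hF * Qe x * We hF := by
  rw [cellWord, dif_pos hb, wq_model, wq_model, bruhat x hb, h0, ← map_pow, C.hdlog]

omit [Algebra (ZMod p) (Kf hF)] in
theorem par_pow_p [CharP F p] (x : Par hF) : ∃ y : Par hF, Qe y = Qe x ^ p ∧ y.a = 0 := by
  obtain ⟨y, hy, hya⟩ := Qe_pow x p
  exact ⟨y, hy, by rw [hya, nsmul_eq_mul, CharP.cast_eq_zero F p, zero_mul]⟩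

omit [Algebra (ZMod p) (Kf hF)] [Fact p.Prime] in
theorem comm_mem (x y : Par hF) : ∃ v : Par hF, Qe v = Qe x * Qe y * (Qe x)⁻¹ * (Qe y)⁻¹ ∧ v.a = 0 := by
  refine ⟨Par.mk 0 (qFrob hF y.a * x.a - qFrob hF x.a * y.a) (by
    simp only [map_sub, map_mul, qFrob_qFrob, map_zero, mul_zero, add_zero]; ring), ?_, rfl⟩
  rw [eq_comm, mul_inv_eq_iff_eq_mul, mul_inv_eq_iff_eq_mul, Qe_mul, Qe_mul, Qe_mul]
  congr 1
  refine Par.ext' ?_ ?_
  · simp [Par.mul]; ring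
  · simp only [Par.mul, Par.mk_a, Par.mk_b, map_zero, map_add, zero_mul, sub_zero, zero_add]
    ring

omit [Algebra (ZMod p) (Kf hF)] [Fact p.Prime] in
theorem div_mem (x y : Par hF) (h : x.a = y.a) : ∃ v : Par hF, Qe v = (Qe x)⁻¹ * Qe y ∧ v.a = 0 := by
  refine ⟨Par.mk 0 (y.b - x.b) (by
    have h1 := x.rel
    have h3 := y.rel
    rw [h] at h1
    simp only [map_sub, map_zero, mul_zero, add_zero]
    linear_combination h3 - h1), ?_, rfl⟩
  rw [eq_comm, inv_mul_eq_iff_eq_mul, Qe_mul]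
  congr 1
  exact Par.ext' (by simp [Par.mul, h]) (by simp [Par.mul])

include h2 in
theorem eqs_model [CharP F p] : ∀ x ∈ C.eqs h2 C.u0 C.h0 (We hF), x.1 = x.2 := by
  classical
  have hz : ∀ γ, C.ζw C.u0 C.h0 γ = Qe (C.zc γ) := C.ζw_model
  have hgam : ∀ g : U3g hF, (∃ v : Par hF, Qe v = g ∧ v.a = 0) → C.ζw C.u0 C.h0 (C.gam g) = g := by
    rintro g ⟨v, rfl, hv⟩
    rw [hz, C.gam_spec h2 hv]
  have hcomm : ∀ γ, C.u0 * C.ζw C.u0 C.h0 γ = C.ζw C.u0 C.h0 γ * C.u0 := fun γ => by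
    rw [hz, u0, Qe_mul, Qe_mul]
    congr 1
    exact Par.ext' (by simp [Par.mul, zc_a]) (by simp [Par.mul, zc_a]; ring)
  have hconj : ∀ n, C.h0 ^ n * C.u0 * (C.h0 ^ n)⁻¹ = Qe (C.x0.act (C.ω ^ n)) := fun n => C.h0_Qe n C.x0
  have hord : C.ω ^ (q ^ 2 - 1) = 1 := by rw [← C.orderOf_ω, pow_orderOf_eq_one]
  have hμn : ∀ n : ℕ, (C.x0.act (C.ω ^ ((q + 1) * n))).a = ((C.k : Kf hF) : F) ^ n := fun n => by
    show qFrob hF _ ^ 2 / _ * C.x0.a = _
    rw [← muHom_val, C.x0a, mul_one, map_pow, Units.val_pow_eq_pow_val, pow_mul]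
    exact congrArg (fun t : F => t ^ n) C.μ_pow
  intro x hx
  simp only [eqs, List.mem_append, List.mem_cons, List.not_mem_nil, or_false, List.mem_ofFn] at hx
  rcases hx with (rfl | rfl | rfl | rfl | rfl | rfl | rfl | rfl | rfl | rfl | rfl | rfl | rfl | rfl | rfl | rfl |
    rfl | rfl) | ⟨r, rfl⟩
  · show C.h0 ^ _ = 1
    rw [h0, ← map_pow, hord, map_one]
  · show zz C.u0 C.h0 ^ p = 1
    rw [zz0]
    have hp' : ∀ m : ℕ, Qe (C.zc 1) ^ m = Qe (C.zc (m : Kf hF)) := by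
      intro m
      induction m with
      | zero => rw [pow_zero, Nat.cast_zero, ← Qe_one]; exact congrArg Qe (Par.ext' rfl (by simp [zc_b, Par.one]))
      | succ m ih => rw [pow_succ, ih, Qe_mul, zc_mul, Nat.cast_succ]
    rw [hp']
    rw [show ((p : ℕ) : Kf hF) = 0 from Subtype.ext (by simp [CharP.cast_eq_zero F p]), ← Qe_one]
    exact congrArg Qe (Par.ext' rfl (by simp [zc_b, Par.one]))
  · show zz C.u0 C.h0 * _ = _
    rw [zz0, ← pow_one C.h0, h0_Qe, zc_act, Qe_mul, Qe_mul, zc_mul, zc_mul, add_comm]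
  · split_ifs with hk
    · show C.h0 ^ C.jz * zz C.u0 C.h0 * _ = zz C.u0 C.h0 * _
      rw [zz0]
      conv_rhs => rw [← pow_one C.h0]
      rw [h0_Qe, h0_Qe, zc_act, zc_act, Qe_mul, zc_mul, mul_one, mul_one, pow_one,
        show (C.k : Kf hF) ^ C.jz = 1 + C.k from C.hjz hk]
    · rfl
  · show C.h0 ^ e * zz C.u0 C.h0 * _ = _
    rw [zz0, hz, h0_Qe, zc_act, mul_one]
  · exact hcomm _
  · exact hcomm _
  · exact hcomm _
  · exact hcomm _
  · show C.u0 ^ p = _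
    exact (hgam _ (par_pow_p C.x0)).symm
  · refine (hgam _ ?_).symm
    rw [hconj]
    exact comm_mem _ _
  · refine (hgam _ ?_).symm
    rw [hconj]
    exact comm_mem _ _
  · split_ifs with hk
    · show C.h0 ^ _ * C.u0 * _ = _
      rw [hgam]
      · group
      · rw [hconj, hconj, u0, Qe_mul]
        refine div_mem _ _ ?_
        have h1 := hμn 1
        rw [mul_one, pow_one] at h1
        rw [hμn, ← SubmonoidClass.coe_pow, show (C.k : Kf hF) ^ C.jz = 1 + C.k from C.hjz hk]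
        simp [Par.mul, C.x0a, h1]
    · rfl
  · show C.h0 ^ _ * C.u0 * _ = _
    rw [hgam]
    · group
    · obtain ⟨y, hy, hya⟩ := C.wd_model C.x0 ((C.k : Kf hF) ^ e)
      rw [hconj, show wd C.h0 C.u0 (q + 1) (coord C.BK ((C.k : Kf hF) ^ e)) = Qe y from hy.symm]
      refine div_mem _ _ ?_
      rw [hμn, hya, C.x0a, mul_one, SubmonoidClass.coe_pow]
  · show C.h0 ^ 2 * C.u0 * _ = _
    rw [hconj, wq_model]
  · exact We_sq hF
  · show We hF * C.h0 * We hF = C.h0 ^ C.Qexp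
    rw [h0, We_He, C.hQexp, map_pow]
  · show We hF * C.ζw C.u0 C.h0 1 * We hF = _
    rw [hz, cellWord_model]
    simp [zc_b, C.lam_ne h2]
  · show We hF * C.wq h2 C.u0 C.h0 (C.seed r) * We hF = _
    rw [wq_model, cellWord_model _ _ (C.y1_seed_b h2 r)]

end Cfg

end CfsgLib.Pres.SUThree
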