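import Cfsg.Agent.Lib.Pres.SUBlock

/-!
# Transitivity of the coordinate blocks of the special unitary group, and their generation
-/

set_option autoImplicit false

namespace CfsgLib.Pres.SUn

open Matrix
open CfsgLib.Geom (HasWittExt)
open CfsgLib.Classical (hermB hermB_apply qFrob qFrob_apply)

variable {F : Type*} [Field F] [Fintype F] {q n k : ℕ} (hF : Fintype.card F = q ^ 2)

local notation "⟪" u ", " v "⟫" => Cfsg.hermForm _ F q u v

include hF in
theorem herm_fixed (v : Fin n → F) : Cfsg.hermForm n F q v v ^ q = Cfsg.hermForm n F q v v := by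
  have := CfsgLib.MaxSub.herm_self_fixed (CfsgLib.MaxSub.isUnitaryForm_hermForm hF n) v
  rwa [CfsgLib.MaxSub.qConj_apply] at this

include hF in
theorem exists_norm {a : F} (ha : a ^ q = a) : ∃ t : F, t * t ^ q = a := by
  obtain ⟨t, ht⟩ := CfsgLib.MaxSub.exists_norm_eq (CfsgLib.MaxSub.isUnitaryForm_hermForm hF 1)
    (e := a) (by rw [CfsgLib.MaxSub.qConj_apply]; exact ha)
  exact ⟨t, by rwa [CfsgLib.MaxSub.qConj_apply] at ht⟩

include hF in
theorem frob_frob (x : F) : (x ^ q) ^ q = x := by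
  rw [← pow_mul, ← sq, ← hF, FiniteField.pow_card]

include hF in
theorem exists_theta : ∃ θ : F, θ * θ ^ q = -1 :=
  exists_norm hF (by rw [← qFrob_apply hF, map_neg, map_one])

/-- A fixed element of norm minus one. -/
noncomputable def th : F := (exists_theta hF).choose

theorem th_norm : th hF * th hF ^ q = -1 := (exists_theta hF).choose_spec

include hF in
/-- Witt's lemma for a single vector. -/
theorem gu_trans {x y : Fin k → F} (hx : x ≠ 0) (hy : y ≠ 0)
    (h : Cfsg.hermForm k F q x x = Cfsg.hermForm k F q y y) :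
    ∃ M : Matrix (Fin k) (Fin k) F,
      (∀ u v, Cfsg.hermForm k F q (M *ᵥ u) (M *ᵥ v) = Cfsg.hermForm k F q u v) ∧ M *ᵥ x = y := by
  let X := Submodule.span F ({x} : Set (Fin k → F))
  let e := (LinearEquiv.toSpanNonzeroSingleton F (Fin k → F) x hx)
  let φ : X →ₗ[F] (Fin k → F) := (LinearMap.toSpanSingleton F (Fin k → F) y).comp e.symm.toLinearMap
  have hφ : ∀ c : F, φ (e c) = c • y := fun c => by simp [φ]
  obtain ⟨g, hg, hgX⟩ := CfsgLib.Geom.hasWittExt_hermB hF k X φ
    (fun a b hab => by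
      obtain ⟨c, rfl⟩ := e.surjective a
      obtain ⟨d, rfl⟩ := e.surjective b
      rw [hφ, hφ] at hab
      rw [smul_left_injective F hy hab])
    (fun a b => by
      obtain ⟨c, rfl⟩ := e.surjective a
      obtain ⟨d, rfl⟩ := e.surjective b
      rw [hφ, hφ]
      simp only [e, LinearEquiv.toSpanNonzeroSingleton_apply, map_smulₛₗ, LinearMap.smul_apply, smul_eq_mul,
        RingHom.id_apply, hermB_apply, h])
  refine ⟨LinearMap.toMatrix' g.toLinearMap, fun u v => ?_, ?_⟩
  · rw [LinearMap.toMatrix'_mulVec, LinearMap.toMatrix'_mulVec, ← hermB_apply hF, ← hermB_apply hF]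
    exact hg v u
  · rw [LinearMap.toMatrix'_mulVec]
    have := hgX (e 1)
    rw [hφ, one_smul] at this
    simpa [e] using this

omit [Fintype F] in
theorem herm_diag (hq : q ≠ 0) (d : Fin k → F) (hd : ∀ i, d i * d i ^ q = 1) (u v : Fin k → F) :
    Cfsg.hermForm k F q (Matrix.diagonal d *ᵥ u) (Matrix.diagonal d *ᵥ v) = Cfsg.hermForm k F q u v := by
  refine Finset.sum_congr rfl fun i _ => ?_
  simp only [Matrix.mulVec_diagonal, mul_pow]
  linear_combination (u i * v i ^ q) * hd i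

include hF in
theorem det_norm {M : Matrix (Fin k) (Fin k) F}
    (hM : ∀ u v, Cfsg.hermForm k F q (M *ᵥ u) (M *ᵥ v) = Cfsg.hermForm k F q u v) : M.det * M.det ^ q = 1 := by
  have hMT : M.transpose * M.map (qFrob hF) = 1 := by
    ext i j
    have := hM (Pi.single i 1) (Pi.single j 1)
    rw [herm_single_right (q_ne_zero hF)] at this
    simp only [Matrix.mulVec_single_one, Cfsg.hermForm] at this
    rw [Matrix.mul_apply, Matrix.one_apply]
    simpa [qFrob_apply, Pi.single_apply, eq_comm] using this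
  have := congrArg Matrix.det hMT
  rw [Matrix.det_mul, Matrix.det_transpose, Matrix.det_one, ← RingHom.mapMatrix_apply,
    ← RingHom.map_det, qFrob_apply] at this
  exact this

include hF in
/-- Repairing the determinant away from the image vector. -/
theorem su_of_gu {x y : Fin k → F} {l : Fin k} (hl : y l = 0) (M : Matrix (Fin k) (Fin k) F)
    (hM : ∀ u v, Cfsg.hermForm k F q (M *ᵥ u) (M *ᵥ v) = Cfsg.hermForm k F q u v) (hx : M *ᵥ x = y) :
    ∃ g : Cfsg.SU k F q, act g x = y := by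
  have hd := det_norm hF hM
  have hd0 : M.det ≠ 0 := fun h => by simp [h] at hd
  let d : Fin k → F := Function.update 1 l M.det⁻¹
  have hdl : ∀ i, d i * d i ^ q = 1 := fun i => by
    rcases eq_or_ne i l with rfl | hi
    · simp only [d, Function.update_self, inv_pow, ← mul_inv, hd, inv_one]
    · simp [d, Function.update_of_ne hi]
  have hdet : (Matrix.diagonal d).det = M.det⁻¹ := by
    rw [Matrix.det_diagonal, Finset.prod_update_of_mem (Finset.mem_univ l)]
    simp
  refine ⟨⟨⟨Matrix.diagonal d * M, by rw [Matrix.det_mul, hdet, inv_mul_cancel₀ hd0]⟩, fun u v => ?_⟩, ?_⟩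
  · show Cfsg.hermForm k F q ((Matrix.diagonal d * M) *ᵥ u) ((Matrix.diagonal d * M) *ᵥ v) = _
    rw [← Matrix.mulVec_mulVec, ← Matrix.mulVec_mulVec, herm_diag (q_ne_zero hF) d hdl, hM]
  · show (Matrix.diagonal d * M) *ᵥ x = y
    rw [← Matrix.mulVec_mulVec, hx]
    funext i
    rw [Matrix.mulVec_diagonal]
    rcases eq_or_ne i l with rfl | hi
    · rw [hl, mul_zero]
    · simp [d, Function.update_of_ne hi]

omit [Fintype F] in
theorem herm_pair (hq : q ≠ 0) {x y : Fin n} (hxy : x ≠ y) {v : Fin n → F}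
    (hv : ∀ i, i ≠ x → i ≠ y → v i = 0) (w : Fin n → F) :
    Cfsg.hermForm n F q v w = v x * w x ^ q + v y * w y ^ q := by
  rw [Cfsg.hermForm, Finset.sum_eq_add x y hxy]
  · intro i _ hi; rw [hv i hi.1 hi.2, zero_mul]
  · exact fun h => absurd (Finset.mem_univ x) h
  · exact fun h => absurd (Finset.mem_univ y) h

/-- The normal form supported on two given coordinates. -/
noncomputable def nf (x y : Fin n) (a : F) : Fin n → F := by
  classical
  exact if h : ∃ t : F, t * t ^ q = a ∧ a ≠ 0 then h.choose • Pi.single x 1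
    else Pi.single x 1 + th hF • Pi.single y 1

theorem nf_out {x y : Fin n} (a : F) {i : Fin n} (hx : i ≠ x) (hy : i ≠ y) : nf hF x y a i = 0 := by
  unfold nf
  split_ifs with h <;> simp [Pi.single_eq_of_ne hx, Pi.single_eq_of_ne hy]

theorem nf_herm {x y : Fin n} (hxy : x ≠ y) {a : F} (ha : a ^ q = a) :
    Cfsg.hermForm n F q (nf hF x y a) (nf hF x y a) = a := by
  have hq := q_ne_zero hF
  rw [herm_pair hq hxy (fun i => nf_out hF a)]
  unfold nf
  split_ifs with h
  · simp only [Pi.smul_apply, Pi.single_eq_same, Pi.single_eq_of_ne hxy.symm, smul_eq_mul, mul_one, mul_zero,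
      zero_mul, add_zero]
    exact h.choose_spec.1
  · have ha0 : a = 0 := by
      by_contra h0
      obtain ⟨t, ht⟩ := exists_norm hF ha
      exact h ⟨t, ht, h0⟩
    simp [Pi.single_eq_of_ne hxy, Pi.single_eq_of_ne hxy.symm, th_norm, ha0]

theorem nf_ne {x y : Fin n} (hxy : x ≠ y) (a : F) : nf hF x y a ≠ 0 := by
  intro h
  have h' := congrFun h x
  unfold nf at h'
  split_ifs at h' with hh
  · simp at h'
    obtain ⟨e1, e2⟩ := hh.choose_spec
    rw [h', zero_mul] at e1
    exact e2 e1.symm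
  · simp [Pi.single_eq_of_ne hxy] at h'

include hF in
theorem su_trans (hk : 3 ≤ k) {x y : Fin k → F} (hx : x ≠ 0) (hy : y ≠ 0)
    (h : Cfsg.hermForm k F q x x = Cfsg.hermForm k F q y y) : ∃ g : Cfsg.SU k F q, act g x = y := by
  let a : Fin k := ⟨0, by omega⟩
  let b : Fin k := ⟨1, by omega⟩
  have hab : a ≠ b := by simp [a, b]
  have key : ∀ v : Fin k → F, v ≠ 0 → ∃ g : Cfsg.SU k F q, act g v = nf hF a b (Cfsg.hermForm k F q v v) := by
    intro v hv
    obtain ⟨M, hM, hMv⟩ := gu_trans hF hv (nf_ne hF hab (Cfsg.hermForm k F q v v))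
      (nf_herm hF hab (herm_fixed hF v)).symm
    exact su_of_gu hF (l := ⟨2, by omega⟩) (nf_out hF _ (by simp [a]) (by simp [b])) M hM hMv
  obtain ⟨g, hg⟩ := key x hx
  obtain ⟨g', hg'⟩ := key y hy
  exact ⟨g'⁻¹ * g, by rw [act_mul, hg, h, ← hg', act_inv_act]⟩

include hF in
theorem su_two {x y : Fin 2 → F} (hx : Cfsg.hermForm 2 F q x x = 1) (hy : Cfsg.hermForm 2 F q y y = 1) :
    ∃ g : Cfsg.SU 2 F q, act g x = y := by
  have hq := q_ne_zero hF
  have key : ∀ v : Fin 2 → F, Cfsg.hermForm 2 F q v v = 1 →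
      ∃ g : Cfsg.SU 2 F q, act g (Pi.single 0 1) = v := by
    intro v hv
    rw [Cfsg.hermForm, Fin.sum_univ_two] at hv
    refine ⟨⟨⟨!![v 0, -(v 1) ^ q; v 1, v 0 ^ q], by rw [Matrix.det_fin_two_of]; linear_combination hv⟩,
      fun u w => ?_⟩, ?_⟩
    · show Cfsg.hermForm 2 F q (!![v 0, -(v 1) ^ q; v 1, v 0 ^ q] *ᵥ u) (!![v 0, -(v 1) ^ q; v 1, v 0 ^ q] *ᵥ w) = _
      simp only [Cfsg.hermForm, Fin.sum_univ_two, Matrix.mulVec, dotProduct, Matrix.of_apply, Matrix.cons_val',
        Matrix.cons_val_zero, Matrix.cons_val_one, Matrix.cons_val_fin_one]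
      simp only [← qFrob_apply hF, map_add, map_mul, map_neg, Classical.qFrob_qFrob hF] at hv ⊢
      linear_combination (u 0 * qFrob hF (w 0) + u 1 * qFrob hF (w 1)) * hv
    · funext i
      fin_cases i <;> simp [act]
  obtain ⟨g, hg⟩ := key x hx
  obtain ⟨g', hg'⟩ := key y hy
  exact ⟨g' * g⁻¹, by rw [act_mul, ← hg, act_inv_act, hg']⟩

omit [Fintype F] in
theorem herm_supp (f : Fin k ↪ Fin n) (hq : q ≠ 0) {u v : Fin n → F}
    (hu : ∀ i, i ∉ Finset.univ.map f → u i = 0) :
    Cfsg.hermForm n F q u v = Cfsg.hermForm k F q (fun a => u (f a)) fun a => v (f a) := by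
  rw [herm_split f, Finset.sum_eq_zero fun i hi => by rw [hu i (Finset.mem_sdiff.1 hi).2, zero_mul], add_zero]

include hF in
theorem on_trans_aux (f : Fin k ↪ Fin n) {x y : Fin n → F} (hx : ∀ i, i ∉ Finset.univ.map f → x i = 0)
    (hy : ∀ i, i ∉ Finset.univ.map f → y i = 0)
    (hex : ∃ g : Cfsg.SU k F q, act g (fun a => x (f a)) = fun a => y (f a)) :
    ∃ g ∈ (SOn (Finset.univ.map f) : Subgroup (Cfsg.SU n F q)), act g x = y := by
  obtain ⟨g, hg⟩ := hex
  refine ⟨blk f g, by rw [← range_blk (q_ne_zero hF)]; exact ⟨g, rfl⟩, funext fun i => ?_⟩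
  by_cases hi : ∃ a, f a = i
  · obtain ⟨a, rfl⟩ := hi
    rw [act_blk_in, hg]
  · have hi' : i ∉ Finset.univ.map f := fun h => by
      obtain ⟨a, -, ha⟩ := Finset.mem_map.1 h
      exact hi ⟨a, ha⟩
    rw [act_blk_out f g x hi, hx i hi', hy i hi']

omit [Fintype F] in
theorem exists_enum (T : Finset (Fin n)) : ∃ f : Fin T.card ↪ Fin n, Finset.univ.map f = T :=
  ⟨(T.orderEmbOfFin rfl).toEmbedding, by simp⟩

omit [Fintype F] in
theorem restrict_ne (f : Fin k ↪ Fin n) {x : Fin n → F} (hx : ∀ i, i ∉ Finset.univ.map f → x i = 0) (h : x ≠ 0) :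
    (fun a => x (f a)) ≠ 0 := fun e => h (funext fun i => by
  by_cases hi : i ∈ Finset.univ.map f
  · obtain ⟨a, -, rfl⟩ := Finset.mem_map.1 hi
    exact congrFun e a
  · exact hx i hi)

include hF in
/-- Transitivity on the vectors of a given norm supported on at least three coordinates. -/
theorem on_trans {T : Finset (Fin n)} (hT : 3 ≤ T.card) {x y : Fin n → F} (hx : ∀ i, i ∉ T → x i = 0)
    (hy : ∀ i, i ∉ T → y i = 0) (hx0 : x ≠ 0) (hy0 : y ≠ 0)
    (h : Cfsg.hermForm n F q x x = Cfsg.hermForm n F q y y) :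
    ∃ g ∈ (SOn T : Subgroup (Cfsg.SU n F q)), act g x = y := by
  obtain ⟨f, hf⟩ := exists_enum T
  rw [← hf] at hx hy ⊢
  refine on_trans_aux hF f hx hy (su_trans hF hT (restrict_ne f hx hx0) (restrict_ne f hy hy0) ?_)
  rw [← herm_supp f (q_ne_zero hF) hx, ← herm_supp f (q_ne_zero hF) hy, h]

include hF in
/-- Transitivity on unit vectors supported on two coordinates. -/
theorem on_two {T : Finset (Fin n)} (hT : T.card = 2) {x y : Fin n → F} (hx : ∀ i, i ∉ T → x i = 0)
    (hy : ∀ i, i ∉ T → y i = 0) (hxx : Cfsg.hermForm n F q x x = 1) (hyy : Cfsg.hermForm n F q y y = 1) :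
    ∃ g ∈ (SOn T : Subgroup (Cfsg.SU n F q)), act g x = y := by
  obtain ⟨f, hf⟩ : ∃ f : Fin 2 ↪ Fin n, Finset.univ.map f = T :=
    ⟨(T.orderEmbOfFin hT).toEmbedding, by simp⟩
  rw [← hf] at hx hy ⊢
  exact on_trans_aux hF f hx hy (su_two hF (by rw [← herm_supp f (q_ne_zero hF) hx, hxx])
    (by rw [← herm_supp f (q_ne_zero hF) hy, hyy]))

include hF in
/-- Unit vectors, at least two coordinates. -/
theorem on_unit {T : Finset (Fin n)} (hT : 2 ≤ T.card) {x y : Fin n → F} (hx : ∀ i, i ∉ T → x i = 0)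
    (hy : ∀ i, i ∉ T → y i = 0) (hxx : Cfsg.hermForm n F q x x = 1) (hyy : Cfsg.hermForm n F q y y = 1) :
    ∃ g ∈ (SOn T : Subgroup (Cfsg.SU n F q)), act g x = y := by
  rcases Nat.eq_or_lt_of_le hT with h | h
  · exact on_two hF h.symm hx hy hxx hyy
  · have h0 : ∀ z : Fin n → F, Cfsg.hermForm n F q z z = 1 → z ≠ 0 := fun z hz e => by
      simp [e, Cfsg.hermForm] at hz
    exact on_trans hF h hx hy (h0 x hxx) (h0 y hyy) (hxx.trans hyy.symm)

end CfsgLib.Pres.SUn
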