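import Cfsg.Agent.Lib.Pres.SLThreeCore

/-!
# A bound for groups with the root relations of `Sp₄`

`a` is the short and `b` the long simple root; the cosets of the stabiliser of the first basis vector are swept
out by the chain of cells `1`, `s_a`, `s_b s_a`, `s_a s_b s_a`.
-/

set_option autoImplicit false

namespace CfsgLib.Pres.SpFour

open Matrix
open scoped MatrixGroups
open CfsgLib.Classical (uElt uElt_val uElt_add)

variable {F : Type*} [Field F] {G : Type*} [Group G]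

/-- The root element of the short simple root (or of the long one, for the second homomorphism). -/
def X (φ : SL(2, F) →* G) (t : F) : G := φ (uElt t)

/-- The root element of the sum of the simple roots. -/
def P (φa φb : SL(2, F) →* G) (t : F) : G := φb (wElt F) * X φa (-t) * (φb (wElt F))⁻¹

/-- The highest root element. -/
def R (φa φb : SL(2, F) →* G) (t : F) : G := φa (wElt F) * X φb t * (φa (wElt F))⁻¹

/-- The relations. -/
structure Rels (φa φb : SL(2, F) →* G) : Prop where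
  ha_b : ∀ (c : Fˣ) (M : SL(2, F)), φa (dElt c) * φb M * (φa (dElt c))⁻¹ = φb (dConj (c ^ 2)⁻¹ M)
  hb_a : ∀ (c : Fˣ) (M : SL(2, F)), φb (dElt c) * φa M * (φb (dElt c))⁻¹ = φa (dConj c⁻¹ M)
  braid : φa (wElt F) * φb (wElt F) * φa (wElt F) * φb (wElt F) =
    φb (wElt F) * φa (wElt F) * φb (wElt F) * φa (wElt F)
  waP : ∀ t, φa (wElt F) * P φa φb t * (φa (wElt F))⁻¹ = P φa φb (-t)
  wbR : ∀ t, φb (wElt F) * R φa φb t * (φb (wElt F))⁻¹ = R φa φb t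
  cAR : ∀ s t, Commute (X φa s) (R φa φb t)
  cBR : ∀ s t, Commute (X φb s) (R φa φb t)
  cPB : ∀ s t, Commute (P φa φb s) (X φb t)
  cPR : ∀ s t, Commute (P φa φb s) (R φa φb t)
  cAP : ∀ s t, X φa s * P φa φb t = R φa φb (2 * s * t) * P φa φb t * X φa s
  cAB : ∀ s t, X φa s * X φb t = P φa φb (s * t) * R φa φb (s ^ 2 * t) * X φb t * X φa s

theorem X_add (φ : SL(2, F) →* G) (s t : F) : X φ (s + t) = X φ s * X φ t := by
  rw [X, X, X, uElt_add, map_mul]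

theorem X_zero (φ : SL(2, F) →* G) : X φ (0 : F) = 1 := by rw [X, uElt_zero, map_one]

theorem X_neg (φ : SL(2, F) →* G) (t : F) : X φ (-t) = (X φ t)⁻¹ := by rw [X, X, uElt_neg, map_inv]

theorem dElt_neg_one : dElt (-1 : Fˣ) = (-1 : SL(2, F)) := by
  refine Subtype.ext ?_
  ext i j
  fin_cases i <;> fin_cases j <;> simp [dElt]

theorem dElt_mul (c c' : Fˣ) : dElt c * dElt c' = dElt (c * c') := by
  refine Subtype.ext ?_
  rw [Matrix.SpecialLinearGroup.coe_mul]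
  ext i j
  fin_cases i <;> fin_cases j <;> simp [dElt, Matrix.mul_apply, Fin.sum_univ_two, mul_comm]

theorem dElt_inv (c : Fˣ) : (dElt c)⁻¹ = dElt c⁻¹ := by
  refine inv_eq_of_mul_eq_one_right ?_
  rw [dElt_mul, mul_inv_cancel]
  refine Subtype.ext ?_
  ext i j
  fin_cases i <;> fin_cases j <;> simp [dElt]

theorem dElt_conj_w (c : Fˣ) : dElt c * wElt F = wElt F * dElt c⁻¹ := by
  have h : wElt F * dElt c⁻¹ * (wElt F)⁻¹ = (dElt c⁻¹)⁻¹ := wElt_dElt c⁻¹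
  rw [dElt_inv, inv_inv] at h
  rw [← h]
  group

theorem w_uElt_w (t : Fˣ) :
    wElt F * uElt (t : F) * wElt F = uElt (-((t⁻¹ : Fˣ) : F)) * wElt F * dElt (-t) * uElt (-((t⁻¹ : Fˣ) : F)) := by
  refine Subtype.ext ?_
  simp only [Matrix.SpecialLinearGroup.coe_mul, uElt_val]
  ext i j
  fin_cases i <;> fin_cases j <;> simp [dElt, wElt, Matrix.mul_apply, Fin.sum_univ_two]

namespace Rels

variable {φa φb : SL(2, F) →* G} (Rl : Rels φa φb)
include Rl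

local notation "A" => X φa
local notation "B" => X φb
local notation "PP" => P φa φb
local notation "RR" => R φa φb
local notation "wa" => φa (wElt F)
local notation "wb" => φb (wElt F)

theorem wa_sq : wa * wa = φa (dElt (-1)) := by rw [← map_mul, wElt_sq, dElt_neg_one]

theorem wb_sq : wb * wb = φb (dElt (-1)) := by rw [← map_mul, wElt_sq, dElt_neg_one]

theorem aA (c : Fˣ) (t : F) : φa (dElt c) * A t * (φa (dElt c))⁻¹ = A ((c : F) ^ 2 * t) := by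
  rw [X, X, ← map_inv, ← map_mul, ← map_mul, dElt_conj]

theorem bB (c : Fˣ) (t : F) : φb (dElt c) * B t * (φb (dElt c))⁻¹ = B ((c : F) ^ 2 * t) := by
  rw [X, X, ← map_inv, ← map_mul, ← map_mul, dElt_conj]

theorem aB (c : Fˣ) (t : F) :
    φa (dElt c) * B t * (φa (dElt c))⁻¹ = B (((c⁻¹ : Fˣ) : F) ^ 2 * t) := by
  rw [X, Rl.ha_b, dConj_uElt, ← inv_pow, Units.val_pow_eq_pow_val]
  rfl

theorem bA (c : Fˣ) (t : F) : φb (dElt c) * A t * (φb (dElt c))⁻¹ = A (((c⁻¹ : Fˣ) : F) * t) := by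
  rw [X, Rl.hb_a, dConj_uElt]
  rfl

theorem wb_ha (c : Fˣ) : wb * φa (dElt c) * wb⁻¹ = φa (dElt c) * φb (dElt (c ^ 2)) := by
  have h := Rl.ha_b c⁻¹ (wElt F)
  rw [dConj_wElt, inv_pow, inv_inv, map_mul, ← dElt_inv, map_inv, inv_inv] at h
  rw [show wb * φa (dElt c) * wb⁻¹ = φa (dElt c) * ((φa (dElt c))⁻¹ * wb * φa (dElt c)) * wb⁻¹ by group, h]
  group

theorem wa_hb (c : Fˣ) : wa * φb (dElt c) * wa⁻¹ = φb (dElt c) * φa (dElt c) := by
  have h := Rl.hb_a c⁻¹ (wElt F)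
  rw [dConj_wElt, inv_inv, map_mul, ← dElt_inv, map_inv, inv_inv] at h
  rw [show wa * φb (dElt c) * wa⁻¹ = φb (dElt c) * ((φb (dElt c))⁻¹ * wa * φb (dElt c)) * wa⁻¹ by group, h]
  group

theorem ha_hb (c d : Fˣ) : φa (dElt c) * φb (dElt d) = φb (dElt d) * φa (dElt c) := by
  have h := Rl.ha_b c (dElt d)
  rwa [dConj_dElt, mul_inv_eq_iff_eq_mul] at h

theorem aP (c : Fˣ) (t : F) : φa (dElt c) * PP t * (φa (dElt c))⁻¹ = PP t := by
  have hw : φa (dElt c) * wb * (φa (dElt c))⁻¹ = φb (dElt (c ^ 2)⁻¹) * wb := by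
    rw [Rl.ha_b, dConj_wElt, map_mul]
  rw [P, show φa (dElt c) * (wb * A (-t) * wb⁻¹) * (φa (dElt c))⁻¹ =
      (φa (dElt c) * wb * (φa (dElt c))⁻¹) * (φa (dElt c) * A (-t) * (φa (dElt c))⁻¹) *
        (φa (dElt c) * wb * (φa (dElt c))⁻¹)⁻¹ by group, hw, Rl.aA,
    show φb (dElt (c ^ 2)⁻¹) * wb = wb * φb (dElt (c ^ 2)) by
      rw [← map_mul, ← map_mul, dElt_conj_w, inv_inv],
    show wb * φb (dElt (c ^ 2)) * A ((c : F) ^ 2 * -t) * (wb * φb (dElt (c ^ 2)))⁻¹ =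
      wb * (φb (dElt (c ^ 2)) * A ((c : F) ^ 2 * -t) * (φb (dElt (c ^ 2)))⁻¹) * wb⁻¹ by group, Rl.bA,
    ← Units.val_pow_eq_pow_val, ← mul_assoc, ← Units.val_mul, inv_mul_cancel, Units.val_one, one_mul]

theorem bP (d : Fˣ) (t : F) : φb (dElt d) * PP t * (φb (dElt d))⁻¹ = PP ((d : F) * t) := by
  rw [P, P, show φb (dElt d) * (wb * A (-t) * wb⁻¹) * (φb (dElt d))⁻¹ =
      (φb (dElt d) * wb) * A (-t) * (φb (dElt d) * wb)⁻¹ by group, ← map_mul, dElt_conj_w, map_mul,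
    show wb * φb (dElt d⁻¹) * A (-t) * (wb * φb (dElt d⁻¹))⁻¹ =
      wb * (φb (dElt d⁻¹) * A (-t) * (φb (dElt d⁻¹))⁻¹) * wb⁻¹ by group, Rl.bA, inv_inv, mul_neg]

theorem aR (c : Fˣ) (t : F) : φa (dElt c) * RR t * (φa (dElt c))⁻¹ = RR ((c : F) ^ 2 * t) := by
  rw [R, R, show φa (dElt c) * (wa * B t * wa⁻¹) * (φa (dElt c))⁻¹ =
      (φa (dElt c) * wa) * B t * (φa (dElt c) * wa)⁻¹ by group, ← map_mul, dElt_conj_w, map_mul,
    show wa * φa (dElt c⁻¹) * B t * (wa * φa (dElt c⁻¹))⁻¹ =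
      wa * (φa (dElt c⁻¹) * B t * (φa (dElt c⁻¹))⁻¹) * wa⁻¹ by group, Rl.aB, inv_inv]

theorem bR (d : Fˣ) (t : F) : φb (dElt d) * RR t * (φb (dElt d))⁻¹ = RR t := by
  have hw : φb (dElt d) * wa * (φb (dElt d))⁻¹ = φa (dElt d⁻¹) * wa := by
    rw [Rl.hb_a, dConj_wElt, map_mul]
  rw [R, show φb (dElt d) * (wa * B t * wa⁻¹) * (φb (dElt d))⁻¹ =
      (φb (dElt d) * wa * (φb (dElt d))⁻¹) * (φb (dElt d) * B t * (φb (dElt d))⁻¹) *
        (φb (dElt d) * wa * (φb (dElt d))⁻¹)⁻¹ by group, hw, Rl.bB,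
    show φa (dElt d⁻¹) * wa = wa * φa (dElt d) by rw [← map_mul, ← map_mul, dElt_conj_w, inv_inv],
    show wa * φa (dElt d) * B ((d : F) ^ 2 * t) * (wa * φa (dElt d))⁻¹ =
      wa * (φa (dElt d) * B ((d : F) ^ 2 * t) * (φa (dElt d))⁻¹) * wa⁻¹ by group, Rl.aB,
    ← mul_assoc, ← mul_pow, ← Units.val_mul, inv_mul_cancel, Units.val_one, one_pow, one_mul]

theorem wbA (t : F) : wb * A t * wb⁻¹ = PP (-t) := by rw [P, neg_neg]

theorem wbP (t : F) : wb * PP t * wb⁻¹ = A t := by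
  rw [P, show wb * (wb * A (-t) * wb⁻¹) * wb⁻¹ = (wb * wb) * A (-t) * (wb * wb)⁻¹ by group, Rl.wb_sq, Rl.bA,
    inv_neg_one, Units.val_neg, Units.val_one, neg_mul_neg, one_mul]

theorem waB (t : F) : wa * B t * wa⁻¹ = RR t := rfl

theorem waR (t : F) : wa * RR t * wa⁻¹ = B t := by
  rw [R, show wa * (wa * B t * wa⁻¹) * wa⁻¹ = (wa * wa) * B t * (wa * wa)⁻¹ by group, Rl.wa_sq, Rl.aB,
    inv_neg_one, Units.val_neg, Units.val_one, neg_sq, one_pow, one_mul]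

theorem P_zero : PP (0 : F) = 1 := by rw [P, neg_zero, X_zero, mul_one, mul_inv_cancel]

theorem P_add (s t : F) : PP (s + t) = PP s * PP t := by rw [P, P, P, neg_add, X_add]; group

theorem P_neg (t : F) : PP (-t) = (PP t)⁻¹ :=
  eq_inv_of_mul_eq_one_left (by rw [← Rl.P_add, neg_add_cancel, Rl.P_zero])

theorem R_add (s t : F) : RR (s + t) = RR s * RR t := by rw [R, R, R, X_add]; group

theorem R_zero : RR (0 : F) = 1 := by rw [R, X_zero, mul_one, mul_inv_cancel]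

theorem R_neg (t : F) : RR (-t) = (RR t)⁻¹ :=
  eq_inv_of_mul_eq_one_left (by rw [← Rl.R_add, neg_add_cancel, Rl.R_zero])

end Rels

/-- Left multiplication by `g` keeps the set. -/
def Stab {S : Subgroup G} (Ω : Set (G ⧸ S)) (g : G) : Prop := ∀ ω ∈ Ω, g • ω ∈ Ω

theorem stab_closure {S : Subgroup G} {Ω : Set (G ⧸ S)} {T : Set G} (h1 : ∀ g ∈ T, Stab Ω g)
    (h2 : ∀ g ∈ T, Stab Ω g⁻¹) : ∀ g ∈ Subgroup.closure T, Stab Ω g := by
  intro g hg
  induction hg using Subgroup.closure_induction'' with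
  | mem y hy => exact h1 y hy
  | inv_mem y hy => exact h2 y hy
  | one => intro ω hω; rwa [one_smul]
  | mul y z _ _ hy hz => intro ω hω; rw [mul_smul]; exact hy _ (hz _ hω)

/-- One cell added in front. -/
def step {S : Subgroup G} (x : F → G) (w : G) (Ω : Set (G ⧸ S)) : Set (G ⧸ S) :=
  {ω | ∃ t, ∃ ω' ∈ Ω, ω = (x t * w) • ω'}

theorem conj_closure (g : G) (T : Set G) (K : Subgroup G) (hT : ∀ a ∈ T, g * a * g⁻¹ ∈ K) :
    ∀ a ∈ Subgroup.closure T, g * a * g⁻¹ ∈ K := fun a ha => by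
  have : Subgroup.closure T ≤ K.comap (MulAut.conj g).toMonoidHom :=
    (Subgroup.closure_le _).2 fun a ha => hT a ha
  exact this ha

/-- The radical and the torus keep a new cell. -/
theorem step_stab {S : Subgroup G} {Ω : Set (G ⧸ S)} (φ : SL(2, F) →* G) (Q T : Subgroup G)
    (hQX : ∀ t, ∀ q ∈ Q, X φ t * q * (X φ t)⁻¹ ∈ Q)
    (hQw : ∀ q ∈ Q, (φ (wElt F))⁻¹ * q * φ (wElt F) ∈ Q)
    (hTX : ∀ τ ∈ T, ∀ t, ∃ t', τ * X φ t * τ⁻¹ = X φ t')
    (hTw : ∀ τ ∈ T, (φ (wElt F))⁻¹ * τ * φ (wElt F) ∈ T)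
    (hQ : ∀ q ∈ Q, Stab Ω q) (hT : ∀ τ ∈ T, Stab Ω τ) :
    (∀ t, Stab (step (X φ) (φ (wElt F)) Ω) (X φ t)) ∧ (∀ q ∈ Q, Stab (step (X φ) (φ (wElt F)) Ω) q) ∧
      ∀ τ ∈ T, Stab (step (X φ) (φ (wElt F)) Ω) τ := by
  refine ⟨?_, ?_, ?_⟩
  · rintro s _ ⟨t, ω, hω, rfl⟩
    exact ⟨s + t, ω, hω, by rw [← mul_smul, ← mul_assoc, X_add]⟩
  · rintro q hq _ ⟨t, ω, hω, rfl⟩
    have h1 := hQX (-t) q hq
    rw [X_neg, inv_inv] at h1
    refine ⟨t, _, hQ _ (hQw _ h1) ω hω, ?_⟩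
    rw [← mul_smul, ← mul_smul]
    congr 1
    group
  · rintro τ hτ _ ⟨t, ω, hω, rfl⟩
    obtain ⟨t', ht'⟩ := hTX τ hτ t
    refine ⟨t', _, hT _ (hTw _ hτ) ω hω, ?_⟩
    rw [← mul_smul, ← mul_smul, ← ht']
    congr 1
    group

/-- The Weyl element of a cell sends it to itself or back. -/
theorem step_flip {S : Subgroup G} {Ω : Set (G ⧸ S)} (φ : SL(2, F) →* G)
    (hX : ∀ t, Stab Ω (X φ t)) (hT : ∀ c : Fˣ, Stab Ω (φ (dElt c))) :
    ∀ ω ∈ step (X φ) (φ (wElt F)) Ω, φ (wElt F) • ω ∈ Ω ∪ step (X φ) (φ (wElt F)) Ω := by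
  rintro _ ⟨t, ω, hω, rfl⟩
  rcases eq_or_ne t 0 with rfl | ht
  · left
    rw [X_zero, one_mul, ← mul_smul, ← map_mul, wElt_sq, ← dElt_neg_one]
    exact hT _ ω hω
  · right
    obtain ⟨s, rfl⟩ : ∃ s : Fˣ, (s : F) = t := ⟨Units.mk0 t ht, rfl⟩
    refine ⟨-((s⁻¹ : Fˣ) : F), _, hT (-s) _ (hX (-((s⁻¹ : Fˣ) : F)) ω hω), ?_⟩
    rw [← mul_smul, ← mul_smul, ← mul_smul]
    congr 1
    simp only [X, ← map_mul]
    congr 1
    rw [← mul_assoc, w_uElt_w]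

/-- The bound. -/
theorem bound [Fintype F] (φa φb : SL(2, F) →* G) (Rl : Rels φa φb)
    (hgen : Subgroup.closure ((φa.range : Set G) ∪ φb.range) = ⊤) :
    Finite G ∧ Nat.card G ≤
      (Fintype.card F ^ 4 - 1) * (Fintype.card F ^ 3 * Nat.card SL(2, F)) := by
  classical
  set A := X φa with hA
  set B := X φb with hB
  set PP := P φa φb with hPP
  set RR := R φa φb with hRR
  set wa := φa (wElt F) with hwa
  set wb := φb (wElt F) with hwb
  let Qb : Subgroup G := Subgroup.closure (Set.range A ∪ Set.range PP ∪ Set.range RR)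
  let Qa : Subgroup G := Subgroup.closure (Set.range B ∪ Set.range PP ∪ Set.range RR)
  let T : Subgroup G := Subgroup.closure (Set.range (fun c => φa (dElt c)) ∪ Set.range fun c => φb (dElt c))
  have mA : ∀ t, A t ∈ Qb := fun t => Subgroup.subset_closure (Or.inl (Or.inl ⟨t, rfl⟩))
  have mP : ∀ t, PP t ∈ Qb := fun t => Subgroup.subset_closure (Or.inl (Or.inr ⟨t, rfl⟩))
  have mR : ∀ t, RR t ∈ Qb := fun t => Subgroup.subset_closure (Or.inr ⟨t, rfl⟩)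
  have nB : ∀ t, B t ∈ Qa := fun t => Subgroup.subset_closure (Or.inl (Or.inl ⟨t, rfl⟩))
  have nP : ∀ t, PP t ∈ Qa := fun t => Subgroup.subset_closure (Or.inl (Or.inr ⟨t, rfl⟩))
  have nR : ∀ t, RR t ∈ Qa := fun t => Subgroup.subset_closure (Or.inr ⟨t, rfl⟩)
  have mTa : ∀ c, φa (dElt c) ∈ T := fun c => Subgroup.subset_closure (Or.inl ⟨c, rfl⟩)
  have mTb : ∀ c, φb (dElt c) ∈ T := fun c => Subgroup.subset_closure (Or.inr ⟨c, rfl⟩)
  have hQbB : ∀ t, ∀ q ∈ Qb, B t * q * (B t)⁻¹ ∈ Qb := fun t => conj_closure _ _ _ (by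
    rintro _ ((⟨s, rfl⟩ | ⟨s, rfl⟩) | ⟨s, rfl⟩)
    · have h := Rl.cAB s t
      have e : B t * A s * (B t)⁻¹ = (PP (s * t) * RR (s ^ 2 * t))⁻¹ * A s := by
        rw [mul_inv_eq_iff_eq_mul, mul_assoc, h]
        simp only [← hA, ← hB, ← hPP, ← hRR]
        group
      rw [e]
      exact mul_mem (inv_mem (mul_mem (mP _) (mR _))) (mA _)
    · rw [← (Rl.cPB s t).eq, mul_inv_cancel_right]; exact mP s
    · rw [(Rl.cBR t s).eq, mul_inv_cancel_right]; exact mR s)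
  have hQaA : ∀ t, ∀ q ∈ Qa, A t * q * (A t)⁻¹ ∈ Qa := fun t => conj_closure _ _ _ (by
    rintro _ ((⟨s, rfl⟩ | ⟨s, rfl⟩) | ⟨s, rfl⟩)
    · rw [Rl.cAB t s, mul_inv_cancel_right]
      exact mul_mem (mul_mem (nP _) (nR _)) (nB _)
    · rw [Rl.cAP t s, mul_inv_cancel_right]
      exact mul_mem (nR _) (nP _)
    · rw [(Rl.cAR t s).eq, mul_inv_cancel_right]; exact nR s)
  have hQbw : ∀ q ∈ Qb, wb * q * wb⁻¹ ∈ Qb := conj_closure _ _ _ (by
    rintro _ ((⟨s, rfl⟩ | ⟨s, rfl⟩) | ⟨s, rfl⟩)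
    · rw [Rl.wbA]; exact mP _
    · rw [Rl.wbP]; exact mA _
    · rw [Rl.wbR]; exact mR _)
  have hQaw : ∀ q ∈ Qa, wa * q * wa⁻¹ ∈ Qa := conj_closure _ _ _ (by
    rintro _ ((⟨s, rfl⟩ | ⟨s, rfl⟩) | ⟨s, rfl⟩)
    · rw [Rl.waB]; exact nR _
    · rw [Rl.waP]; exact nP _
    · rw [Rl.waR]; exact nB _)
  have hQbT : ∀ c, ∀ q ∈ Qb, φb (dElt c) * q * (φb (dElt c))⁻¹ ∈ Qb := fun c => conj_closure _ _ _ (by
    rintro _ ((⟨s, rfl⟩ | ⟨s, rfl⟩) | ⟨s, rfl⟩)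
    · rw [Rl.bA]; exact mA _
    · rw [Rl.bP]; exact mP _
    · rw [Rl.bR]; exact mR _)
  have hQaT : ∀ c, ∀ q ∈ Qa, φa (dElt c) * q * (φa (dElt c))⁻¹ ∈ Qa := fun c => conj_closure _ _ _ (by
    rintro _ ((⟨s, rfl⟩ | ⟨s, rfl⟩) | ⟨s, rfl⟩)
    · rw [Rl.aB]; exact nB _
    · rw [Rl.aP]; exact nP _
    · rw [Rl.aR]; exact nR _)
  have hQbw' : ∀ q ∈ Qb, wb⁻¹ * q * wb ∈ Qb := fun q hq => by
    have := hQbw _ (hQbT (-1) q hq)
    rw [← Rl.wb_sq] at this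
    have e := hQbT (-1)⁻¹ _ this
    rw [← dElt_inv, map_inv, ← Rl.wb_sq] at e
    have e' := hQbT (-1)⁻¹ _ (hQbw _ hq)
    rw [← dElt_inv, map_inv, ← Rl.wb_sq] at e'
    convert e' using 1
    simp only [← hwb]
    group
  have hQaw' : ∀ q ∈ Qa, wa⁻¹ * q * wa ∈ Qa := fun q hq => by
    have e' := hQaT (-1)⁻¹ _ (hQaw _ hq)
    rw [← dElt_inv, map_inv, ← Rl.wa_sq] at e'
    convert e' using 1
    simp only [← hwa]
    group
  have hTX : ∀ τ ∈ T, (∀ t, ∃ t', τ * A t * τ⁻¹ = A t') ∧ ∀ t, ∃ t', τ * B t * τ⁻¹ = B t' := by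
    intro τ hτ
    induction hτ using Subgroup.closure_induction'' with
    | mem y hy =>
      rcases hy with ⟨c, rfl⟩ | ⟨c, rfl⟩
      · exact ⟨fun t => ⟨_, Rl.aA c t⟩, fun t => ⟨_, Rl.aB c t⟩⟩
      · exact ⟨fun t => ⟨_, Rl.bA c t⟩, fun t => ⟨_, Rl.bB c t⟩⟩
    | inv_mem y hy =>
      rcases hy with ⟨c, rfl⟩ | ⟨c, rfl⟩
      · simp only [← map_inv φa (dElt c), dElt_inv]
        exact ⟨fun t => ⟨_, Rl.aA _ t⟩, fun t => ⟨_, Rl.aB _ t⟩⟩
      · simp only [← map_inv φb (dElt c), dElt_inv]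
        exact ⟨fun t => ⟨_, Rl.bA _ t⟩, fun t => ⟨_, Rl.bB _ t⟩⟩
    | one => exact ⟨fun t => ⟨t, by group⟩, fun t => ⟨t, by group⟩⟩
    | mul y z _ _ hy hz =>
      refine ⟨fun t => ?_, fun t => ?_⟩
      · obtain ⟨t1, e1⟩ := hz.1 t
        obtain ⟨t2, e2⟩ := hy.1 t1
        exact ⟨t2, by rw [← e2, ← e1]; group⟩
      · obtain ⟨t1, e1⟩ := hz.2 t
        obtain ⟨t2, e2⟩ := hy.2 t1
        exact ⟨t2, by rw [← e2, ← e1]; group⟩
  have hTw : ∀ τ ∈ T, wa * τ * wa⁻¹ ∈ T ∧ wb * τ * wb⁻¹ ∈ T := fun τ hτ =>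
    ⟨conj_closure wa _ T (by
      rintro _ (⟨c, rfl⟩ | ⟨c, rfl⟩)
      · rw [hwa, ← map_inv, ← map_mul, ← map_mul, wElt_dElt, dElt_inv]; exact mTa _
      · rw [Rl.wa_hb]; exact mul_mem (mTb _) (mTa _)) τ hτ,
    conj_closure wb _ T (by
      rintro _ (⟨c, rfl⟩ | ⟨c, rfl⟩)
      · rw [Rl.wb_ha]; exact mul_mem (mTa _) (mTb _)
      · rw [hwb, ← map_inv, ← map_mul, ← map_mul, wElt_dElt, dElt_inv]; exact mTb _) τ hτ⟩
  have hTwa : ∀ τ ∈ T, wa⁻¹ * τ * wa ∈ T := fun τ hτ => by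
    have h1 : (φa (dElt (-1)))⁻¹ * (wa * τ * wa⁻¹) * φa (dElt (-1)) ∈ T :=
      mul_mem (mul_mem (inv_mem (mTa _)) (hTw τ hτ).1) (mTa _)
    rw [← Rl.wa_sq] at h1
    convert h1 using 1
    simp only [← hwa]
    group
  have hTwb : ∀ τ ∈ T, wb⁻¹ * τ * wb ∈ T := fun τ hτ => by
    have h1 : (φb (dElt (-1)))⁻¹ * (wb * τ * wb⁻¹) * φb (dElt (-1)) ∈ T :=
      mul_mem (mul_mem (inv_mem (mTb _)) (hTw τ hτ).2) (mTb _)
    rw [← Rl.wb_sq] at h1
    convert h1 using 1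
    simp only [← hwb]
    group
  -- the stabiliser
  obtain ⟨S, hS⟩ : ∃ S, S = Qb ⊔ φb.range := ⟨_, rfl⟩
  have hQS : ∀ q ∈ Qb, q ∈ S := fun q hq => hS ▸ Subgroup.mem_sup_left hq
  have hbS : ∀ M, φb M ∈ S := fun M => hS ▸ Subgroup.mem_sup_right ⟨M, rfl⟩
  have hBS : ∀ t, B t ∈ S := fun t => hbS _
  let C0 : Set (G ⧸ S) := Set.range fun c : Fˣ => (φa (dElt c) : G ⧸ S)
  have c0 : ∀ g : G, ∀ c, (φa (dElt c))⁻¹ * g * φa (dElt c) ∈ S →
      g • (φa (dElt c) : G ⧸ S) = (φa (dElt c) : G ⧸ S) := fun g c h => by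
    refine QuotientGroup.eq.2 ?_
    have := inv_mem h
    convert this using 1
    show (g * φa (dElt c))⁻¹ * φa (dElt c) = _
    group
  have hU0 : ∀ g : G, g ∈ Set.range A ∪ Set.range B ∪ Set.range PP ∪ Set.range RR → Stab C0 g := by
    rintro g hg _ ⟨c, rfl⟩
    refine ⟨c, (c0 g c ?_).symm⟩
    rw [← map_inv, dElt_inv, show φa (dElt c) = (φa (dElt c⁻¹))⁻¹ by rw [← map_inv, dElt_inv, inv_inv]]
    rcases hg with ((⟨t, rfl⟩ | ⟨t, rfl⟩) | ⟨t, rfl⟩) | ⟨t, rfl⟩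
    · rw [Rl.aA]; exact hQS _ (mA _)
    · rw [Rl.aB]; exact hBS _
    · rw [Rl.aP]; exact hQS _ (mP _)
    · rw [Rl.aR]; exact hQS _ (mR _)
  have hT0 : ∀ τ ∈ T, Stab C0 τ := by
    refine stab_closure ?_ ?_
    all_goals
      rintro _ (⟨d, rfl⟩ | ⟨d, rfl⟩) _ ⟨c, rfl⟩
    · exact ⟨d * c, by show (φa (dElt (d * c)) : G ⧸ S) = _; rw [← dElt_mul, map_mul]; rfl⟩
    · refine ⟨c, (c0 _ c ?_).symm⟩
      rw [mul_assoc, ← Rl.ha_hb, inv_mul_cancel_left]; exact hbS _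
    · exact ⟨d⁻¹ * c, by
        show (φa (dElt (d⁻¹ * c)) : G ⧸ S) = _
        rw [← dElt_mul, map_mul, ← dElt_inv, map_inv]; rfl⟩
    · refine ⟨c, (c0 _ c ?_).symm⟩
      rw [mul_assoc, ← map_inv φb, dElt_inv, ← Rl.ha_hb, inv_mul_cancel_left]; exact hbS _
  have hwb0 : Stab C0 wb := by
    rintro _ ⟨c, rfl⟩
    refine ⟨c, (c0 _ c ?_).symm⟩
    have h := Rl.ha_b c⁻¹ (wElt F)
    rw [← dElt_inv, map_inv, inv_inv] at h
    rw [h]; exact hbS _
  -- cells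
  let C1 := step A wa C0
  let C2 := step B wb C1
  let C3 := step A wa C2
  let Good : Set (G ⧸ S) → Prop := fun Ω =>
    (∀ t, Stab Ω (A t)) ∧ (∀ t, Stab Ω (B t)) ∧ (∀ t, Stab Ω (PP t)) ∧ (∀ t, Stab Ω (RR t)) ∧ ∀ τ ∈ T, Stab Ω τ
  have good0 : Good C0 := ⟨fun t => hU0 _ (Or.inl (Or.inl (Or.inl ⟨t, rfl⟩))),
    fun t => hU0 _ (Or.inl (Or.inl (Or.inr ⟨t, rfl⟩))), fun t => hU0 _ (Or.inl (Or.inr ⟨t, rfl⟩)),
    fun t => hU0 _ (Or.inr ⟨t, rfl⟩), hT0⟩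
  have goodQa : ∀ Ω, Good Ω → ∀ q ∈ Qa, Stab Ω q := by
    rintro Ω ⟨gA, gB, gP, gR, gT⟩
    refine stab_closure ?_ ?_
    · rintro _ ((⟨s, rfl⟩ | ⟨s, rfl⟩) | ⟨s, rfl⟩)
      exacts [gB s, gP s, gR s]
    · rintro _ ((⟨s, rfl⟩ | ⟨s, rfl⟩) | ⟨s, rfl⟩)
      · rw [hB, ← X_neg]; exact gB _
      · rw [hPP, ← Rl.P_neg]; exact gP _
      · rw [hRR, ← Rl.R_neg]; exact gR _
  have goodQb : ∀ Ω, Good Ω → ∀ q ∈ Qb, Stab Ω q := by
    rintro Ω ⟨gA, gB, gP, gR, gT⟩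
    refine stab_closure ?_ ?_
    · rintro _ ((⟨s, rfl⟩ | ⟨s, rfl⟩) | ⟨s, rfl⟩)
      exacts [gA s, gP s, gR s]
    · rintro _ ((⟨s, rfl⟩ | ⟨s, rfl⟩) | ⟨s, rfl⟩)
      · rw [hA, ← X_neg]; exact gA _
      · rw [hPP, ← Rl.P_neg]; exact gP _
      · rw [hRR, ← Rl.R_neg]; exact gR _
  have stepA : ∀ Ω, Good Ω → Good (step A wa Ω) := fun Ω h => by
    obtain ⟨k1, k2, k3⟩ := step_stab (Ω := Ω) φa Qa T hQaA hQaw' (fun τ hτ => (hTX τ hτ).1) hTwa
      (goodQa Ω h) h.2.2.2.2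
    exact ⟨k1, fun t => k2 _ (nB t), fun t => k2 _ (nP t), fun t => k2 _ (nR t), k3⟩
  have stepB : ∀ Ω, Good Ω → Good (step B wb Ω) := fun Ω h => by
    obtain ⟨k1, k2, k3⟩ := step_stab (Ω := Ω) φb Qb T hQbB hQbw' (fun τ hτ => (hTX τ hτ).2) hTwb
      (goodQb Ω h) h.2.2.2.2
    exact ⟨fun t => k2 _ (mA t), k1, fun t => k2 _ (mP t), fun t => k2 _ (mR t), k3⟩
  have good1 : Good C1 := stepA _ good0
  have good2 : Good C2 := stepB _ good1
  have good3 : Good C3 := stepA _ good2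
  have into : ∀ (φ : SL(2, F) →* G) (Ω : Set (G ⧸ S)), ∀ ω ∈ Ω,
      φ (wElt F) • ω ∈ step (X φ) (φ (wElt F)) Ω := fun φ Ω ω hω =>
    ⟨0, ω, hω, by rw [X_zero, one_mul]⟩
  have hwb3 : Stab C3 wb := by
    rintro _ ⟨t, _, ⟨u, _, ⟨s, ω, hω, rfl⟩, rfl⟩, rfl⟩
    have e1 : wb * A t = PP (-t) * wb := by rw [hPP, ← Rl.wbA]; simp only [hwb, hA]; group
    have e2 : wb * wa * B u = RR u * (wb * wa) := by
      calc wb * wa * B u = wb * (wa * B u * wa⁻¹) * wb⁻¹ * (wb * wa) := by group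
        _ = _ := by rw [Rl.waB, Rl.wbR]
    have e3 : wb * wa * wb * A s = A s * (wb * wa * wb) := by
      calc wb * wa * wb * A s = wb * (wa * (wb * A s * wb⁻¹) * wa⁻¹) * wb⁻¹ * (wb * wa * wb) := by group
        _ = wb * PP s * wb⁻¹ * (wb * wa * wb) := by rw [hA, hwb, Rl.wbA, hwa, Rl.waP, neg_neg, hPP]
        _ = _ := by rw [hPP, hwb, Rl.wbP, hA]
    have e : wb * (A t * wa) * (B u * wb) * (A s * wa) =
        PP (-t) * RR u * A s * (wa * (wb * (wa * wb))) := by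
      calc wb * (A t * wa) * (B u * wb) * (A s * wa) = wb * A t * wa * B u * wb * A s * wa := by group
        _ = PP (-t) * (wb * wa * B u) * wb * A s * wa := by rw [e1]; group
        _ = PP (-t) * RR u * (wb * wa * wb * A s) * wa := by rw [e2]; group
        _ = PP (-t) * RR u * A s * (wb * wa * wb * wa) := by rw [e3]; group
        _ = _ := by rw [← Rl.braid]; simp only [hwa, hwb]; group
    rw [← mul_smul, ← mul_smul, ← mul_smul, e, mul_smul, mul_smul, mul_smul, mul_smul, mul_smul, mul_smul]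
    exact good3.2.2.1 _ _ (good3.2.2.2.1 _ _ (good3.1 _ _
      (into φa _ _ (into φb _ _ (into φa _ _ (hwb0 ω hω))))))
  let Ω : Set (G ⧸ S) := C0 ∪ C1 ∪ C2 ∪ C3
  have hTΩ : ∀ τ ∈ T, Stab Ω τ := by
    rintro τ hτ ω (((h | h) | h) | h)
    exacts [Or.inl (Or.inl (Or.inl (good0.2.2.2.2 τ hτ ω h))), Or.inl (Or.inl (Or.inr (good1.2.2.2.2 τ hτ ω h))),
      Or.inl (Or.inr (good2.2.2.2.2 τ hτ ω h)), Or.inr (good3.2.2.2.2 τ hτ ω h)]
  have hAΩ : ∀ t, Stab Ω (A t) := by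
    rintro t ω (((h | h) | h) | h)
    exacts [Or.inl (Or.inl (Or.inl (good0.1 t ω h))), Or.inl (Or.inl (Or.inr (good1.1 t ω h))),
      Or.inl (Or.inr (good2.1 t ω h)), Or.inr (good3.1 t ω h)]
  have hBΩ : ∀ t, Stab Ω (B t) := by
    rintro t ω (((h | h) | h) | h)
    exacts [Or.inl (Or.inl (Or.inl (good0.2.1 t ω h))), Or.inl (Or.inl (Or.inr (good1.2.1 t ω h))),
      Or.inl (Or.inr (good2.2.1 t ω h)), Or.inr (good3.2.1 t ω h)]
  have hwaΩ : Stab Ω wa := by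
    rintro ω (((h | h) | h) | h)
    · exact Or.inl (Or.inl (Or.inr (into φa _ _ h)))
    · rcases step_flip φa good0.1 (fun c => good0.2.2.2.2 _ (mTa c)) ω h with h | h
      exacts [Or.inl (Or.inl (Or.inl h)), Or.inl (Or.inl (Or.inr h))]
    · exact Or.inr (into φa _ _ h)
    · rcases step_flip φa good2.1 (fun c => good2.2.2.2.2 _ (mTa c)) ω h with h | h
      exacts [Or.inl (Or.inr h), Or.inr h]
  have hwbΩ : Stab Ω wb := by
    rintro ω (((h | h) | h) | h)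
    · exact Or.inl (Or.inl (Or.inl (hwb0 ω h)))
    · exact Or.inl (Or.inr (into φb _ _ h))
    · rcases step_flip φb good1.2.1 (fun c => good1.2.2.2.2 _ (mTb c)) ω h with h | h
      exacts [Or.inl (Or.inl (Or.inr h)), Or.inl (Or.inr h)]
    · exact Or.inr (hwb3 ω h)
  have hwa' : Stab Ω wa⁻¹ := fun ω hω => by
    have e : wa⁻¹ = φa (dElt (-1)⁻¹) * wa := by
      rw [← dElt_inv, map_inv, ← Rl.wa_sq, _root_.mul_inv_rev, inv_mul_cancel_right]
    rw [e, mul_smul]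
    exact hTΩ _ (mTa _) _ (hwaΩ ω hω)
  have hwb' : Stab Ω wb⁻¹ := fun ω hω => by
    have e : wb⁻¹ = φb (dElt (-1)⁻¹) * wb := by
      rw [← dElt_inv, map_inv, ← Rl.wb_sq, _root_.mul_inv_rev, inv_mul_cancel_right]
    rw [e, mul_smul]
    exact hTΩ _ (mTb _) _ (hwbΩ ω hω)
  have hφ : ∀ (φ : SL(2, F) →* G), (∀ t, Stab Ω (X φ t)) → Stab Ω (φ (wElt F)) →
      Stab Ω (φ (wElt F))⁻¹ → ∀ M, Stab Ω (φ M) := by
    intro φ hX hw hw' M
    let H : Subgroup G := Subgroup.closure (Set.range (X φ) ∪ {φ (wElt F)})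
    have hw2 : φ (wElt F) ∈ H := Subgroup.subset_closure (Or.inr rfl)
    have hx2 : ∀ t, X φ t ∈ H := fun t => Subgroup.subset_closure (Or.inl ⟨t, rfl⟩)
    have hM : φ M ∈ H := by
      refine KnownB.SLnSt.range_le (fun t => ?_) (fun t => ?_) M
      · convert hx2 t using 1
        show φ _ = φ _
        congr 1
        refine Subtype.ext ?_
        rw [uElt_val]
        rfl
      · rw [show KnownB.SLnSt.lo t = wElt F * uElt (-t) * (wElt F)⁻¹ from Subtype.ext (by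
          rw [← lElt, lElt_val]; rfl), map_mul, map_mul, map_inv]
        exact mul_mem (mul_mem hw2 (hx2 _)) (inv_mem hw2)
    refine stab_closure ?_ ?_ _ hM
    · rintro _ (⟨t, rfl⟩ | rfl)
      exacts [hX t, hw]
    · rintro _ (⟨t, rfl⟩ | rfl)
      · rw [← X_neg]; exact hX _
      · exact hw'
  have huniv : ∀ ω : G ⧸ S, ω ∈ Ω := fun ω => by
    obtain ⟨g, rfl⟩ := QuotientGroup.mk_surjective ω
    have hg : Stab Ω g := by
      refine stab_closure ?_ ?_ g (hgen ▸ Subgroup.mem_top g)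
      · rintro _ (⟨M, rfl⟩ | ⟨M, rfl⟩)
        exacts [hφ φa hAΩ hwaΩ hwa' M, hφ φb hBΩ hwbΩ hwb' M]
      · rintro _ (⟨M, rfl⟩ | ⟨M, rfl⟩) <;> rw [← map_inv]
        exacts [hφ φa hAΩ hwaΩ hwa' M⁻¹, hφ φb hBΩ hwbΩ hwb' M⁻¹]
    have h1 : ((1 : G) : G ⧸ S) ∈ Ω := Or.inl (Or.inl (Or.inl ⟨1, by
      show ((φa (dElt 1) : G) : G ⧸ S) = _
      rw [show dElt (1 : Fˣ) = (1 : SL(2, F)) from Subtype.ext (by
        ext i j; fin_cases i <;> fin_cases j <;> simp [dElt]), map_one]⟩))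
    have h2 := hg _ h1
    rwa [show g • ((1 : G) : G ⧸ S) = ((g * 1 : G) : G ⧸ S) from rfl, mul_one] at h2
  -- counting
  let f : (Fˣ ⊕ F × Fˣ) ⊕ (F × F × Fˣ ⊕ F × F × F × Fˣ) → G ⧸ S :=
    Sum.elim
      (Sum.elim (fun c => (φa (dElt c) : G ⧸ S)) fun x => (A x.1 * wa) • (φa (dElt x.2) : G ⧸ S))
      (Sum.elim (fun x => (B x.1 * wb) • (A x.2.1 * wa) • (φa (dElt x.2.2) : G ⧸ S))
        fun x => (A x.1 * wa) • (B x.2.1 * wb) • (A x.2.2.1 * wa) • (φa (dElt x.2.2.2) : G ⧸ S))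
  have hf : Function.Surjective f := by
    intro ω
    rcases huniv ω with ((⟨c, rfl⟩ | ⟨t, _, ⟨c, rfl⟩, rfl⟩) | ⟨u, _, ⟨t, _, ⟨c, rfl⟩, rfl⟩, rfl⟩) |
        ⟨v, _, ⟨u, _, ⟨t, _, ⟨c, rfl⟩, rfl⟩, rfl⟩, rfl⟩
    exacts [⟨.inl (.inl c), rfl⟩, ⟨.inl (.inr (t, c)), rfl⟩, ⟨.inr (.inl (u, t, c)), rfl⟩,
      ⟨.inr (.inr (v, u, t, c)), rfl⟩]
  have : Finite (G ⧸ S) := Finite.of_surjective f hf
  have hidx : S.index ≤ Fintype.card F ^ 4 - 1 := by
    rw [Subgroup.index_eq_card]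
    refine (Nat.card_le_card_of_surjective f hf).trans (le_of_eq ?_)
    simp only [Nat.card_sum, Nat.card_prod, Nat.card_units, Nat.card_eq_fintype_card (α := F)]
    have h1 := Fintype.card_pos (α := F)
    obtain ⟨k, hk⟩ : ∃ k, Fintype.card F = k + 1 := ⟨Fintype.card F - 1, by omega⟩
    rw [hk, Nat.add_sub_cancel]
    refine eq_tsub_of_add_eq ?_
    ring
  -- the stabiliser is small
  let g : F × F × F → Qb := fun x => ⟨RR x.1 * PP x.2.1 * A x.2.2,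
    mul_mem (mul_mem (mR _) (mP _)) (mA _)⟩
  have hgs : Function.Surjective g := by
    let Q' : Subgroup G :=
      { carrier := Set.range fun x : F × F × F => RR x.1 * PP x.2.1 * A x.2.2
        one_mem' := ⟨(0, 0, 0), by simp only [hRR, hPP, hA, Rl.R_zero, Rl.P_zero, X_zero, mul_one]⟩
        mul_mem' := by
          rintro _ _ ⟨⟨r, q, a⟩, rfl⟩ ⟨⟨r', q', a'⟩, rfl⟩
          refine ⟨(r + r' + 2 * a * q', q + q', a + a'), ?_⟩
          simp only [hRR, hPP, hA, Rl.R_add, Rl.P_add, X_add]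
          calc R φa φb r * R φa φb r' * R φa φb (2 * a * q') * (P φa φb q * P φa φb q') * (X φa a * X φa a')
              = R φa φb r * ((R φa φb r' * R φa φb (2 * a * q')) * P φa φb q) * P φa φb q' * X φa a * X φa a' := by
                group
            _ = R φa φb r * (P φa φb q * (R φa φb r' * R φa φb (2 * a * q'))) * P φa φb q' * X φa a * X φa a' := by
                rw [((Rl.cPR q r').mul_right (Rl.cPR q (2 * a * q'))).eq]
            _ = R φa φb r * P φa φb q * R φa φb r' * (R φa φb (2 * a * q') * P φa φb q' * X φa a) * X φa a' := by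
                group
            _ = R φa φb r * P φa φb q * (R φa φb r' * X φa a) * P φa φb q' * X φa a' := by
                rw [← Rl.cAP]; group
            _ = R φa φb r * P φa φb q * X φa a * (R φa φb r' * P φa φb q' * X φa a') := by
                rw [← (Rl.cAR a r').eq]; group
        inv_mem' := by
          rintro _ ⟨⟨r, q, a⟩, rfl⟩
          refine ⟨(-r + 2 * a * q, -q, -a), ?_⟩
          simp only [hRR, hPP, hA, Rl.R_add, Rl.R_neg, Rl.P_neg, X_neg, _root_.mul_inv_rev]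
          have e : X φa a * (P φa φb q)⁻¹ = (R φa φb (2 * a * q))⁻¹ * (P φa φb q)⁻¹ * X φa a := by
            rw [← Rl.P_neg, Rl.cAP, mul_neg, Rl.R_neg]
          calc (R φa φb r)⁻¹ * R φa φb (2 * a * q) * (P φa φb q)⁻¹ * (X φa a)⁻¹
              = (R φa φb r)⁻¹ * (R φa φb (2 * a * q) * (P φa φb q)⁻¹) * (X φa a)⁻¹ := by group
            _ = (R φa φb r)⁻¹ * ((P φa φb q)⁻¹ * R φa φb (2 * a * q)) * (X φa a)⁻¹ := by
                rw [((Rl.cPR q (2 * a * q)).inv_left).eq]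
            _ = (R φa φb r)⁻¹ * ((X φa a)⁻¹ * (P φa φb q)⁻¹) := by
                have : (P φa φb q)⁻¹ * R φa φb (2 * a * q) * (X φa a)⁻¹ = (X φa a)⁻¹ * (P φa φb q)⁻¹ := by
                  rw [eq_inv_mul_iff_mul_eq]
                  calc X φa a * ((P φa φb q)⁻¹ * R φa φb (2 * a * q) * (X φa a)⁻¹)
                      = X φa a * (P φa φb q)⁻¹ * R φa φb (2 * a * q) * (X φa a)⁻¹ := by group
                    _ = (R φa φb (2 * a * q))⁻¹ * (P φa φb q)⁻¹ * (X φa a * R φa φb (2 * a * q)) * (X φa a)⁻¹ := by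
                      rw [e]; group
                    _ = (R φa φb (2 * a * q))⁻¹ * ((P φa φb q)⁻¹ * R φa φb (2 * a * q)) := by
                      rw [(Rl.cAR a (2 * a * q)).eq]; group
                    _ = _ := by rw [((Rl.cPR q (2 * a * q)).inv_left).eq, inv_mul_cancel_left]
                rw [mul_assoc, this]
            _ = ((X φa a)⁻¹ * (P φa φb q)⁻¹) * (R φa φb r)⁻¹ :=
                (((Rl.cAR a r).inv_left.mul_left (Rl.cPR q r).inv_left).inv_right.eq).symm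
            _ = _ := by group }
    have hle : Qb ≤ Q' := by
      refine (Subgroup.closure_le _).2 ?_
      rintro _ ((⟨s, rfl⟩ | ⟨s, rfl⟩) | ⟨s, rfl⟩)
      · exact ⟨(0, 0, s), by simp only [hRR, hPP, hA, Rl.R_zero, Rl.P_zero, one_mul]⟩
      · exact ⟨(0, s, 0), by simp only [hRR, hPP, hA, Rl.R_zero, X_zero, one_mul, mul_one]⟩
      · exact ⟨(s, 0, 0), by simp only [hRR, hPP, hA, Rl.P_zero, X_zero, mul_one]⟩
    intro x
    obtain ⟨y, hy⟩ := hle x.2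
    exact ⟨y, Subtype.ext hy⟩
  have : Finite Qb := Finite.of_surjective g hgs
  have : Finite φb.range := Finite.of_surjective _ φb.rangeRestrict_surjective
  have hQcard : Nat.card Qb ≤ Fintype.card F ^ 3 := by
    refine (Nat.card_le_card_of_surjective g hgs).trans (le_of_eq ?_)
    simp only [Nat.card_prod, Nat.card_eq_fintype_card (α := F)]
    ring
  have hnorm : φb.range ≤ Subgroup.normalizer (Qb : Set G) := by
    have h1 : ∀ M, ∀ q ∈ Qb, φb M * q * (φb M)⁻¹ ∈ Qb := by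
      intro M
      let H : Subgroup G := Subgroup.normalizer (Qb : Set G)
      have key : φb M ∈ H := by
        have mem : ∀ z : G, (∀ q ∈ Qb, z * q * z⁻¹ ∈ Qb) → (∀ q ∈ Qb, z⁻¹ * q * z ∈ Qb) → z ∈ H :=
          fun z h1 h2 => Subgroup.mem_normalizer_iff.2 fun q => ⟨h1 q, fun hq => by
            have := h2 _ hq
            convert this using 1
            group⟩
        have hwH : wb ∈ H := mem _ hQbw hQbw'
        have hxH : ∀ t, B t ∈ H := fun t => mem _ (hQbB t) fun q hq => by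
          have := hQbB (-t) q hq
          rwa [hB, X_neg, inv_inv] at this
        refine KnownB.SLnSt.range_le (fun t => ?_) (fun t => ?_) M
        · convert hxH t using 1
          show φb _ = φb _
          congr 1
          refine Subtype.ext ?_
          rw [uElt_val]
          rfl
        · rw [show KnownB.SLnSt.lo t = wElt F * uElt (-t) * (wElt F)⁻¹ from Subtype.ext (by
            rw [← lElt, lElt_val]; rfl), map_mul, map_mul, map_inv]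
          exact mul_mem (mul_mem hwH (hxH _)) (inv_mem hwH)
      exact fun q hq => (Subgroup.mem_normalizer_iff.1 key q).1 hq
    rintro _ ⟨M, rfl⟩
    rw [Subgroup.mem_normalizer_iff]
    refine fun q => ⟨h1 M q, fun hq => ?_⟩
    have := h1 M⁻¹ _ hq
    rw [map_inv] at this
    convert this using 1
    group
  obtain ⟨hSfin, hScard⟩ := KnownB.SLnSt.card_sup_le (K := F) hnorm
  rw [← hS] at hSfin hScard
  have hbcard : Nat.card φb.range ≤ Nat.card SL(2, F) :=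
    Nat.card_le_card_of_surjective _ φb.rangeRestrict_surjective
  refine ⟨Finite.of_subgroup_quotient S, ?_⟩
  rw [← S.card_mul_index, mul_comm]
  exact Nat.mul_le_mul hidx (hScard.trans (Nat.mul_le_mul hQcard hbcard))

end CfsgLib.Pres.SpFour
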