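import Cfsg.Agent.Lib.Pres.SpBound

/-!
# The induction for the order of a group with the relations of `Sp_{2n}`
-/

set_option autoImplicit false

namespace CfsgLib.Pres.SpN

open Matrix
open scoped MatrixGroups
open CfsgLib.Classical (uElt uElt_val uElt_add)

universe u v

section

variable {F : Type u} [Field F] {ι : Type} [Fintype ι] [DecidableEq ι]

/-- The complement of an index. -/
abbrev Rest (k : ι) : Type := {i : ι // i ≠ k}

/-- The inclusion of the complement. -/
def restEmb (k : ι) : Rest k ↪ ι := Function.Embedding.subtype _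

theorem restEmb_apply {k : ι} (i : Rest k) : restEmb k i = (i : ι) := rfl

theorem ne_restEmb {k : ι} (a : Rest k) : k ≠ restEmb k a := fun h => a.2 h.symm

theorem extG_fix (k : ι) (A : GL (Rest k) F) : Blk k (extG (restEmb k) A) := by
  refine ⟨?_, ?_⟩ <;> funext i
  · rw [Matrix.mulVec_single_one, Matrix.col_apply, extG_val, extM_apply_right _ _ ne_restEmb,
      Matrix.one_apply, Pi.single_apply]
  · rw [Matrix.single_one_vecMul, Matrix.row_apply, extG_val, extM_apply_left _ _ ne_restEmb,
      Matrix.one_apply, Pi.single_apply]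
    simp [eq_comm]

theorem extG_mulVec {k : ι} (A : GL (Rest k) F) (j : Rest k) :
    (extG (restEmb k) A : Matrix ι ι F) *ᵥ e F (j : ι) =
      fun i => if h : i = k then 0 else ((A : Matrix (Rest k) (Rest k) F) *ᵥ e F j) ⟨i, h⟩ := by
  funext i
  rw [Matrix.mulVec_single_one, Matrix.col_apply, extG_val]
  split_ifs with h
  · subst h
    rw [extM_apply_left _ _ ne_restEmb, Matrix.one_apply_ne j.2.symm]
  · rw [Matrix.mulVec_single_one, Matrix.col_apply]
    exact extM_apply (restEmb k) _ ⟨i, h⟩ j

theorem blk_ext {k : ι} {o : Rest k} {A : GL (Rest k) F} (h : Blk o A) : Blk (o : ι) (extG (restEmb k) A) := by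
  refine ⟨?_, ?_⟩
  · rw [extG_mulVec, h.1]
    funext i
    split_ifs with hi
    · rw [Pi.single_apply, if_neg (fun hh => o.2 (hh.symm.trans hi))]
    · simp [Pi.single_apply, Subtype.ext_iff]
  · funext i
    rw [Matrix.single_one_vecMul, Matrix.row_apply, extG_val]
    by_cases hi : i = k
    · subst hi
      rw [extM_apply_right _ _ ne_restEmb, Matrix.one_apply, Pi.single_apply]
      rw [if_neg (fun h => o.2 h), if_neg (fun h => o.2 h.symm)]
    · rw [show i = restEmb k ⟨i, hi⟩ from rfl, show (o : ι) = restEmb k o from rfl, extM_apply]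
      have := congrFun h.2 ⟨i, hi⟩
      rw [Matrix.single_one_vecMul, Matrix.row_apply] at this
      rw [this, Pi.single_apply, Pi.single_apply]
      simp only [Subtype.ext_iff, restEmb_apply]
      exact if_congr Iff.rfl rfl rfl

theorem toGL_extS {α : Type} [Fintype α] [DecidableEq α] (f : α ↪ ι) (A : Matrix.SpecialLinearGroup α F) :
    (Matrix.SpecialLinearGroup.toGL (extS f A) : GL ι F) = extG f (Matrix.SpecialLinearGroup.toGL A) :=
  Units.ext rfl

theorem exists_ext {k : ι} {B : GL ι F} (hB : Blk k B) : ∃ A : GL (Rest k) F, extG (restEmb k) A = B := by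
  have he : extM (restEmb k) ((B : Matrix ι ι F).submatrix (restEmb k) (restEmb k)) = (B : Matrix ι ι F) := by
    ext i j
    by_cases hi : i = k
    · subst hi
      rw [extM_apply_left _ _ ne_restEmb]
      have := congrFun hB.2 j
      rw [Matrix.single_one_vecMul, Matrix.row_apply] at this
      rw [this, Matrix.one_apply, Pi.single_apply]
      simp [eq_comm]
    by_cases hj : j = k
    · subst hj
      rw [extM_apply_right _ _ ne_restEmb]
      have := congrFun hB.1 i
      rw [Matrix.mulVec_single_one, Matrix.col_apply] at this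
      rw [this, Matrix.one_apply, Pi.single_apply]
    conv_lhs => rw [show i = restEmb k ⟨i, hi⟩ from rfl, show j = restEmb k ⟨j, hj⟩ from rfl, extM_apply]
    rfl
  refine ⟨Matrix.GeneralLinearGroup.mkOfDetNeZero ((B : Matrix ι ι F).submatrix (restEmb k) (restEmb k)) ?_,
    Units.ext he⟩
  rw [← extM_det (restEmb k), he]
  exact (Matrix.GeneralLinearGroup.det_ne_zero B)

theorem slPart_extG {k : ι} (o : Rest k) (A : GL (Rest k) F) :
    slPart (o : ι) (extG (restEmb k) A) = extS (restEmb k) (slPart o A) := by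
  refine toGL_inj ?_
  rw [slPart_toGL, toGL_extS, slPart_toGL, extG_det, map_mul, map_inv, extG_dg]
  rfl

end

section

variable {F : Type u} [Field F] {ι : Type} [Fintype ι] [DecidableEq ι] {G : Type v} [Group G]
  {o : ι} {φ : Matrix.SpecialLinearGroup ι F →* G} {ψ : SL(2, F) →* G}

theorem spRels_rest (R : SpRels o φ ψ) {k : ι} (hk : o ≠ k) :
    SpRels (⟨o, hk⟩ : Rest k) (φ.comp (extS (restEmb k))) ψ where
  comm B M hB := R.comm _ M (by rw [toGL_extS]; exact blk_ext hB)
  conjD c A B h := R.conjD c _ _ (by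
    rw [toGL_extS, toGL_extS, h, map_mul, map_mul, map_inv, extG_dg]
    rfl)
  pair j hj := by
    have h : (j : ι) ≠ o := fun hh => hj (Subtype.ext hh)
    have e : (φ.comp (extS (restEmb k))).comp (emb hj) = φ.comp (emb h) := MonoidHom.ext fun M => by
      show φ (extS (restEmb k) (emb hj M)) = φ (emb h M)
      rw [emb, extS_extS]
      congr 2
    rw [e]
    exact R.pair j h

theorem spRels_codRestrict (R : SpRels o φ ψ) (L : Subgroup G) (hφ : ∀ A, φ A ∈ L) (hψ : ∀ M, ψ M ∈ L) :
    SpRels o (φ.codRestrict L hφ) (ψ.codRestrict L hψ) where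
  comm B M hB := Subtype.ext (R.comm B M hB)
  conjD c A B h := Subtype.ext (R.conjD c A B h)
  pair j hj :=
    { ha_b := fun c M => Subtype.ext ((R.pair j hj).ha_b c M)
      hb_a := fun c M => Subtype.ext ((R.pair j hj).hb_a c M)
      braid := Subtype.ext (R.pair j hj).braid
      waP := fun t => Subtype.ext ((R.pair j hj).waP t)
      wbR := fun t => Subtype.ext ((R.pair j hj).wbR t)
      cAR := fun s t => Subtype.ext ((R.pair j hj).cAR s t)
      cBR := fun s t => Subtype.ext ((R.pair j hj).cBR s t)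
      cPB := fun s t => Subtype.ext ((R.pair j hj).cPB s t)
      cPR := fun s t => Subtype.ext ((R.pair j hj).cPR s t)
      cAP := fun s t => Subtype.ext ((R.pair j hj).cAP s t)
      cAB := fun s t => Subtype.ext ((R.pair j hj).cAB s t) }

variable (R : SpRels o φ ψ) {k : ι} (hk : k ≠ o)

/-- The Levi part of the stabiliser. -/
def levi (φ : Matrix.SpecialLinearGroup ι F →* G) (ψ : SL(2, F) →* G) (k : ι) : Subgroup G :=
  Subgroup.closure (Set.range (φ.comp (extS (restEmb k))) ∪ Set.range ψ)

include hk in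
theorem lam_ext_mem (A : GL (Rest k) F) : lam o R (extG (restEmb k) A) ∈ levi φ ψ k := by
  rw [lam_apply, show o = ((⟨o, hk.symm⟩ : Rest k) : ι) from rfl, slPart_extG]
  exact mul_mem (Subgroup.subset_closure (Or.inl ⟨_, rfl⟩)) (Subgroup.subset_closure (Or.inr ⟨_, rfl⟩))

/-- The unipotent radical of the stabiliser. -/
def Qset (k : ι) : Set G :=
  {g | ∃ (S : Matrix ι ι F) (r : ι → F), Sᵀ = S ∧ (∀ i j, i ≠ k → j ≠ k → S i j = 0) ∧ r k = 0 ∧
    g = sG R S * lam o R (loG k r)}

theorem loG_col {k : ι} {r : ι → F} (hr : r k = 0) : ∀ i, i ≠ k → (loG k r : Matrix ι ι F) i k = 0 := by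
  intro i hi
  rw [loG_val hr, loM, Matrix.add_apply, Matrix.vecMulVec_apply, Matrix.one_apply_ne hi]
  simp [hi]

theorem congr_symm {S : Matrix ι ι F} (hS : Sᵀ = S) (A : Matrix ι ι F) : (A * S * Aᵀ)ᵀ = A * S * Aᵀ := by
  rw [Matrix.transpose_mul, Matrix.transpose_mul, Matrix.transpose_transpose, hS, Matrix.mul_assoc]

/-- The radical as a subgroup. -/
noncomputable def radical (k : ι) : Subgroup G where
  carrier := Qset R k
  one_mem' := ⟨0, 0, Matrix.transpose_zero, fun _ _ _ _ => rfl, rfl, by rw [sG_zero, loG_zero, map_one, one_mul]⟩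
  mul_mem' := by
    rintro _ _ ⟨S, r, hS, hS0, hr, rfl⟩ ⟨S', r', hS', hS0', hr', rfl⟩
    refine ⟨S + (loG k r : Matrix ι ι F) * S' * (loG k r : Matrix ι ι F)ᵀ, r + r', ?_, fun i j hi hj => ?_,
      by simp [hr, hr'], ?_⟩
    · rw [Matrix.transpose_add, hS, congr_symm hS']
    · rw [Matrix.add_apply, hS0 i j hi hj, mul_apply_zero hS0' (loG_col hr) i j hi hj, add_zero]
    · rw [sG_add, ← sG_conj R (loG k r) hS', loG_add hr hr', map_mul]
      group
  inv_mem' := by
    rintro _ ⟨S, r, hS, hS0, hr, rfl⟩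
    have hr' : (-r) k = 0 := by simp [hr]
    refine ⟨(loG k (-r) : Matrix ι ι F) * (-S) * (loG k (-r) : Matrix ι ι F)ᵀ, -r,
      congr_symm (by rw [Matrix.transpose_neg, hS]) _, ?_, hr', ?_⟩
    · exact mul_apply_zero (fun i j hi hj => by rw [Matrix.neg_apply, hS0 i j hi hj, neg_zero]) (loG_col hr')
    · rw [← sG_conj R (loG k (-r)) (by rw [Matrix.transpose_neg, hS]), sG_neg, loG_neg hr, map_inv]
      group

theorem sG_mem_radical {S : Matrix ι ι F} (hS : Sᵀ = S) (h0 : ∀ i j, i ≠ k → j ≠ k → S i j = 0) :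
    sG R S ∈ radical R k :=
  ⟨S, 0, hS, h0, rfl, by rw [loG_zero, map_one, mul_one]⟩

theorem lo_mem_radical {r : ι → F} (hr : r k = 0) : lam o R (loG k r) ∈ radical R k :=
  ⟨0, r, Matrix.transpose_zero, fun _ _ _ _ => rfl, hr, by rw [sG_zero, one_mul]⟩

/-- Elements conjugating the radical into itself. -/
def Pres1 (k : ι) (g : G) : Prop := ∀ q ∈ radical R k, g * q * g⁻¹ ∈ radical R k

theorem pres_mul {g h : G} (hg : Pres1 R k g) (hh : Pres1 R k h) : Pres1 R k (g * h) := fun q hq => by
  rw [show g * h * q * (g * h)⁻¹ = g * (h * q * h⁻¹) * g⁻¹ by group]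
  exact hg _ (hh q hq)

theorem pres_of {g : G}
    (hS : ∀ S : Matrix ι ι F, Sᵀ = S → (∀ i j, i ≠ k → j ≠ k → S i j = 0) → g * sG R S * g⁻¹ ∈ radical R k)
    (hr : ∀ r : ι → F, r k = 0 → g * lam o R (loG k r) * g⁻¹ ∈ radical R k) : Pres1 R k g := by
  rintro _ ⟨S, r, hS', hS0, hr', rfl⟩
  rw [show g * (sG R S * lam o R (loG k r)) * g⁻¹ = (g * sG R S * g⁻¹) * (g * lam o R (loG k r) * g⁻¹) by group]
  exact mul_mem (hS S hS' hS0) (hr r hr')

theorem pres_ext (A : GL (Rest k) F) : Pres1 R k (lam o R (extG (restEmb k) A)) := by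
  set E := extG (restEmb k) A with hE
  have hB : Blk k E := extG_fix k A
  refine pres_of R (fun S hS h0 => ?_) fun r hr => ?_
  · rw [sG_conj R E hS]
    refine sG_mem_radical R (congr_symm hS _) (mul_apply_zero h0 fun i hi => ?_)
    have := congrFun hB.1 i
    rwa [Matrix.mulVec_single_one, Matrix.col_apply, Pi.single_eq_of_ne hi] at this
  · rw [← map_inv, ← map_mul, ← map_mul]
    have hr2 : (r ᵥ* ((E⁻¹ : GL ι F) : Matrix ι ι F)) k = 0 := by
      rw [← dotProduct_single_one (r ᵥ* ((E⁻¹ : GL ι F) : Matrix ι ι F)) k, ← Matrix.dotProduct_mulVec, hB.inv.1,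
        dotProduct_single_one, hr]
    rw [show E * loG k r * E⁻¹ = loG k (r ᵥ* ((E⁻¹ : GL ι F) : Matrix ι ι F)) from Units.ext (by
      rw [Units.val_mul, Units.val_mul, loG_val hr, loG_val hr2, loM, loM, mul_add, add_mul, mul_one,
        Units.mul_inv, Matrix.mul_vecMulVec, Matrix.vecMulVec_mul, hB.1])]
    exact lo_mem_radical R hr2

include hk in
theorem pres_x (t : F) : Pres1 R k (ψ (uElt t)) := by
  have hx : ψ (uElt t) = sG R (Matrix.single o o t) := (sG_o R t).symm
  refine pres_of R (fun S hS h0 => ?_) fun r hr => ?_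
  · rw [hx, ← sG_add, ← sG_neg, ← sG_add, show Matrix.single o o t + S + -Matrix.single o o t = S by abel]
    exact sG_mem_radical R hS h0
  · set E := Matrix.single o o t with hE
    have hEt : Eᵀ = E := Matrix.transpose_single o o t
    rw [hx, show sG R E * lam o R (loG k r) * (sG R E)⁻¹ =
      sG R E * (lam o R (loG k r) * sG R (-E) * (lam o R (loG k r))⁻¹) * lam o R (loG k r) by
        rw [sG_neg]; group, sG_conj R _ (by rw [Matrix.transpose_neg, hEt]), ← sG_add]
    refine mul_mem (sG_mem_radical R ?_ fun i j hi hj => ?_) (lo_mem_radical R hr)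
    · rw [Matrix.transpose_add, hEt, congr_symm (by rw [Matrix.transpose_neg, hEt])]
    · rw [loG_val hr, Matrix.add_apply, Matrix.mul_neg, Matrix.neg_mul, Matrix.neg_apply]
      simp only [loM, Matrix.transpose_add, Matrix.transpose_one, Matrix.transpose_vecMulVec, add_mul, mul_add,
        one_mul, mul_one, Matrix.mul_vecMulVec, Matrix.vecMulVec_mul, Matrix.vecMulVec_mul_vecMulVec, Matrix.add_apply,
        Matrix.vecMulVec_apply, e]
      simp [Pi.single_apply, hi, hj]

include hk in
theorem pres_w : Pres1 R k (ψ (wElt F)) := by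
  refine pres_of R (fun S hS h0 => ?_) fun r hr => ?_
  · have hoo : S o o = 0 := h0 o o hk.symm hk.symm
    rw [w_sG R hS hoo, mul_inv_cancel_right]
    have hu : (fun i => S i o) = Pi.single k (S k o) := funext fun i => by
      rcases eq_or_ne i k with rfl | hi
      · simp
      · simp [hi, h0 i o hi hk.symm]
    refine mul_mem (sG_mem_radical R (eraseRC_symm o hS) fun i j hi hj => ?_) ?_
    · simp [eraseRC, h0 i j hi hj]
    · rw [hu, show trG o (Pi.single k (S k o)) = loG k (Pi.single o (S k o)) from Units.ext (by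
        rw [trG_val (by simp [hk.symm]), loG_val (by simp [hk])]
        ext i j
        simp [trM, loM, Matrix.vecMulVec_apply, Pi.single_apply])]
      exact lo_mem_radical R (by simp [hk])
  · set r' := Function.update r o 0 with hr'
    have h1 : r' k = 0 := by simp [hr', hk, hr]
    have h2 : (Pi.single o (r o) : ι → F) k = 0 := by simp [hk]
    rw [show r = r' + Pi.single o (r o) from funext fun i => by
      rcases eq_or_ne i o with rfl | hi <;> simp [hr', *], loG_add h1 h2, map_mul,
      show ψ (wElt F) * (lam o R (loG k r') * lam o R (loG k (Pi.single o (r o)))) * (ψ (wElt F))⁻¹ =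
        (ψ (wElt F) * lam o R (loG k r') * (ψ (wElt F))⁻¹) *
          (ψ (wElt F) * lam o R (loG k (Pi.single o (r o))) * (ψ (wElt F))⁻¹) by group]
    refine mul_mem ?_ ?_
    · have hB : Blk o (loG k r') := by
        refine ⟨?_, ?_⟩ <;> rw [loG_val h1, loM] <;> funext i <;>
          simp [Matrix.add_mulVec, Matrix.vecMul_add, Matrix.vecMulVec_mulVec, Matrix.vecMul_vecMulVec,
            Matrix.one_apply, Matrix.vecMulVec_apply, Pi.single_apply, hr', hk, hk.symm, eq_comm]
      rw [(comm_blk R hB (wElt F)).symm.eq, mul_inv_cancel_right]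
      exact lo_mem_radical R h1
    · rw [show loG k (Pi.single o (r o)) = trG o (Pi.single k (r o)) from Units.ext (by
        rw [loG_val h2, trG_val (by simp [hk.symm])]
        ext i j
        simp [trM, loM, Matrix.vecMulVec_apply, Pi.single_apply]), w_tr R (by simp [hk.symm])]
      refine sG_mem_radical R (colT_symm o _) fun i j hi hj => ?_
      simp [colT, Matrix.vecMulVec_apply, hi, hj, Pi.single_apply]

include hk in
theorem levi_le_normalizer : levi φ ψ k ≤ Subgroup.normalizer (radical R k : Set G) := by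
  set N := Subgroup.normalizer (radical R k : Set G) with hN
  have mem : ∀ g, Pres1 R k g → Pres1 R k g⁻¹ → g ∈ N := fun g h1 h2 =>
    Subgroup.mem_normalizer_iff.2 fun q => ⟨h1 q, fun hq => by
      have := h2 _ hq
      convert this using 1
      group⟩
  have hext : ∀ A : GL (Rest k) F, lam o R (extG (restEmb k) A) ∈ N := fun A =>
    mem _ (pres_ext R A) (by rw [← map_inv, ← map_inv]; exact pres_ext R A⁻¹)
  have hd : lam o R (dg o (-1)) ∈ N := by
    have := hext (dg (⟨o, hk.symm⟩ : Rest k) (-1))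
    rwa [extG_dg] at this
  have hx : ∀ t, ψ (uElt t) ∈ N := fun t =>
    mem _ (pres_x R hk t) (by rw [← map_inv, ← uElt_neg]; exact pres_x R hk (-t))
  have hw : ψ (wElt F) ∈ N := by
    refine mem _ (pres_w R hk) ?_
    rw [show (ψ (wElt F))⁻¹ = (lam o R (dg o (-1)))⁻¹ * ψ (wElt F) by rw [← w_sq R]; group]
    exact pres_mul R (fun q hq => (Subgroup.mem_normalizer_iff.1 (inv_mem hd) q).1 hq) (pres_w R hk)
  rw [levi, Subgroup.closure_le]
  rintro _ (⟨A, rfl⟩ | ⟨M, rfl⟩)
  · rw [MonoidHom.comp_apply, ← lam_sl R, toGL_extS]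
    exact hext _
  refine KnownB.SLnSt.range_le (fun t => ?_) (fun t => ?_) M
  · rw [show KnownB.SLnSt.up t = uElt t from Subtype.ext (by rw [uElt_val]; rfl)]
    exact hx t
  · rw [show KnownB.SLnSt.lo t = wElt F * uElt (-t) * (wElt F)⁻¹ from Subtype.ext (by
      rw [← lElt, lElt_val]; rfl), map_mul, map_mul, map_inv]
    exact mul_mem (mul_mem hw (hx _)) (inv_mem hw)

include hk in
theorem stab_le : stab R k ≤ radical R k ⊔ levi φ ψ k := by
  have hsq : ∀ (v : ι → F) (t : F), v k = 0 → rootL R v t ∈ levi φ ψ k := by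
    intro v t hvk
    rcases eq_or_ne v 0 with rfl | hv
    · rw [rootL_zero_vec]; exact one_mem _
    set o' : Rest k := ⟨o, hk.symm⟩
    obtain ⟨A, hA⟩ := exists_col o' (v := fun i : Rest k => v i) (fun h => hv (funext fun i => by
      rcases eq_or_ne i k with rfl | hi
      · exact hvk
      · exact congrFun h ⟨i, hi⟩))
    have hv' : (extG (restEmb k) A : Matrix ι ι F) *ᵥ e F o = v := by
      rw [show e F o = e F ((o' : Rest k) : ι) from rfl, extG_mulVec]
      funext i
      split_ifs with h
      · rw [h, hvk]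
      · exact congrFun hA ⟨i, h⟩
    rw [← hv', ← rootL_eq]
    exact mul_mem (mul_mem (lam_ext_mem R hk A) (Subgroup.subset_closure (Or.inr ⟨_, rfl⟩)))
      (inv_mem (lam_ext_mem R hk A))
  rw [stab, Subgroup.closure_le]
  rintro _ ((⟨S, hS, rfl⟩ | ⟨A, hA, rfl⟩) | ⟨M, rfl⟩)
  · rw [SetLike.mem_coe, show S = (S - eraseRC k S) + eraseRC k S by rw [sub_add_cancel], sG_add]
    refine mul_mem (Subgroup.mem_sup_left (sG_mem_radical R ?_ fun i j hi hj => ?_)) (Subgroup.mem_sup_right ?_)
    · rw [Matrix.transpose_sub, hS, eraseRC_symm k hS]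
    · simp [eraseRC, hi, hj]
    · refine sym_induction (P := fun S => sG R (eraseRC k S) ∈ levi φ ψ k) ?_ (fun X Y hX hY => ?_)
        (fun v t => ?_) hS
      · rw [eraseRC_zero, sG_zero]; exact one_mem _
      · rw [eraseRC_add, sG_add]; exact mul_mem hX hY
      · rw [eraseRC_sq, sG_sq]; exact hsq _ _ (Function.update_self k 0 v)
  · obtain ⟨r, hr, B, hB, rfl⟩ := exists_lo_blk hA
    obtain ⟨B', rfl⟩ := exists_ext hB
    rw [SetLike.mem_coe, map_mul]
    exact mul_mem (Subgroup.mem_sup_left (lo_mem_radical R hr)) (Subgroup.mem_sup_right (lam_ext_mem R hk B'))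
  · exact Subgroup.mem_sup_right (Subgroup.subset_closure (Or.inr ⟨M, rfl⟩))

theorem radical_card [Fintype F] (n : ℕ) (hn : Fintype.card ι = n + 1) :
    Finite (radical R k) ∧ Nat.card (radical R k) ≤ Fintype.card F ^ (2 * n + 1) := by
  classical
  have hzero : ∀ w : Rest k → F, (fun i => if h : i = k then (0 : F) else w ⟨i, h⟩) k = 0 := fun w => by simp
  have hsymm : ∀ z : ι → F, (rowSym k z)ᵀ = rowSym k z := fun z => by
    ext i j
    simp only [rowSym, Matrix.transpose_apply, Matrix.of_apply]
    split_ifs with h1 h2 h3 <;> simp_all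
  have hrow : ∀ (z : ι → F) i j, i ≠ k → j ≠ k → rowSym k z i j = 0 := fun z i j hi hj => by
    simp [rowSym, hi, hj]
  let f : (ι → F) × (Rest k → F) → radical R k := fun p =>
    ⟨sG R (rowSym k p.1) * lam o R (loG k fun i => if h : i = k then 0 else p.2 ⟨i, h⟩),
      rowSym k p.1, _, hsymm p.1, hrow p.1, hzero p.2, rfl⟩
  have hf : Function.Surjective f := by
    rintro ⟨_, S, r, hS, h0, hr, rfl⟩
    refine ⟨(fun j => S k j, fun i => r i), Subtype.ext ?_⟩
    show sG R (rowSym k _) * lam o R (loG k _) = sG R S * lam o R (loG k r)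
    congr 3
    · ext i j
      simp only [rowSym, Matrix.of_apply]
      split_ifs with h1 h2
      · rw [h1]
      · rw [h2]; exact congrFun (congrFun hS i) k
      · exact (h0 i j h1 h2).symm
    · funext i
      split_ifs with h
      · rw [h, hr]
      · rfl
  refine ⟨Finite.of_surjective f hf, (Nat.card_le_card_of_surjective f hf).trans (le_of_eq ?_)⟩
  rw [Nat.card_eq_fintype_card, Fintype.card_prod, Fintype.card_fun, Fintype.card_fun, Fintype.card_subtype_compl,
    Fintype.card_subtype_eq, ← pow_add, hn]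
  congr 1
  omega

end

/-- A group with the relations of `Sp_{2n}` has at most that order. -/
theorem bound {F : Type u} [Field F] [Fintype F] : ∀ (n : ℕ) (ι : Type) [Fintype ι] [DecidableEq ι],
    Fintype.card ι = n + 1 → ∀ (G : Type v) [Group G] (o : ι) (φ : Matrix.SpecialLinearGroup ι F →* G)
    (ψ : SL(2, F) →* G), SpRels o φ ψ → Subgroup.closure (Set.range φ ∪ Set.range ψ) = ⊤ →
      Finite G ∧ Nat.card G ≤ spc (Fintype.card F) (n + 1) := by
  intro n
  induction n with
  | zero =>
    intro ι _ _ hn G _ o φ ψ _ hgen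
    have hι : Subsingleton ι := Fintype.card_le_one_iff_subsingleton.1 hn.le
    have hφ : ∀ A, φ A = 1 := fun A => by
      rw [show A = 1 from Subtype.ext (by
        ext i j
        obtain rfl := Subsingleton.elim i o
        obtain rfl := Subsingleton.elim j i
        have h := A.2
        rw [Matrix.det_eq_elem_of_subsingleton _ j] at h
        simpa using h), map_one]
    have hsurj : Function.Surjective ψ := by
      rw [← MonoidHom.range_eq_top, ← top_le_iff, ← hgen, Subgroup.closure_le]
      rintro _ (⟨A, rfl⟩ | ⟨M, rfl⟩)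
      exacts [by rw [hφ]; exact one_mem _, ⟨M, rfl⟩]
    have : Finite SL(2, F) := inferInstance
    refine ⟨Finite.of_surjective ψ hsurj, (Nat.card_le_card_of_surjective ψ hsurj).trans (le_of_eq ?_)⟩
    rw [card_sl]
    simp only [spc, mul_one]
    ring
  | succ n ih =>
    intro ι _ _ hn G _ o φ ψ R hgen
    obtain ⟨k, hk⟩ := Fintype.exists_ne_of_one_lt_card (by omega : 1 < Fintype.card ι) o
    have hφ : ∀ A, (φ.comp (extS (restEmb k))) A ∈ levi φ ψ k := fun A => Subgroup.subset_closure (Or.inl ⟨A, rfl⟩)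
    have hψ : ∀ M, ψ M ∈ levi φ ψ k := fun M => Subgroup.subset_closure (Or.inr ⟨M, rfl⟩)
    obtain ⟨hLfin, hLcard⟩ := ih (Rest k)
      (by rw [Fintype.card_subtype_compl, Fintype.card_subtype_eq, hn]; omega) (levi φ ψ k) ⟨o, hk.symm⟩ _ _
      (spRels_codRestrict (spRels_rest R hk.symm) (levi φ ψ k) hφ hψ) (by
        rw [eq_top_iff, ← Subgroup.map_le_map_iff_of_injective (f := (levi φ ψ k).subtype) Subtype.val_injective,
          MonoidHom.map_closure, ← MonoidHom.range_eq_map, Subgroup.range_subtype, Set.image_union, ← Set.range_comp,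
          ← Set.range_comp]
        exact le_refl _)
    obtain ⟨hGfin, hidx⟩ := index_stab_le R hk hgen
    obtain ⟨hQfin, hQcard⟩ := radical_card R (k := k) (n + 1) hn
    obtain ⟨hSfin, hScard⟩ := KnownB.SLnSt.card_sup_le (K := F) (levi_le_normalizer R hk)
    have := Finite.of_injective _ (Subgroup.inclusion_injective (stab_le R hk))
    have : Finite G := Finite.of_subgroup_quotient (stab R k)
    refine ⟨this, ?_⟩
    rw [← (stab R k).card_mul_index, mul_comm]
    have hs : spc (Fintype.card F) (n + 1 + 1) = (Fintype.card F ^ (2 * (n + 1) + 2) - 1) *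
        (Fintype.card F ^ (2 * (n + 1) + 1) * spc (Fintype.card F) (n + 1)) := rfl
    rw [hs]
    refine Nat.mul_le_mul (by rw [hn] at hidx; exact hidx) ?_
    exact ((Nat.card_le_card_of_injective _ (Subgroup.inclusion_injective (stab_le R hk))).trans hScard).trans
      (Nat.mul_le_mul hQcard hLcard)

end CfsgLib.Pres.SpN
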