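import Cfsg.Agent.Lib.Pres.SLThreeCore

/-!
# Matrices for presentations of `Sp_{2n}`: embeddings along injections, torus, elementary elements
-/

set_option autoImplicit false

namespace CfsgLib.Pres.SpN

open Matrix
open scoped MatrixGroups
open CfsgLib.Classical (uElt uElt_val uElt_add)

variable {F : Type*} [Field F] {α β ι : Type*} [Fintype α] [DecidableEq α] [Fintype β] [DecidableEq β]
  [Fintype ι] [DecidableEq ι]

/-- The inclusion matrix of an injection. -/
def inc (F : Type*) [Field F] (e : α ↪ ι) : Matrix ι α F := Matrix.of fun i a => if i = e a then 1 else 0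

theorem inc_transpose_mul (e : α ↪ ι) : (inc F e)ᵀ * inc F e = 1 := by
  ext a b
  simp [inc, Matrix.mul_apply, Matrix.one_apply, eq_comm]

theorem inc_mul_inc (e : α ↪ β) (f : β ↪ ι) : inc F f * inc F e = inc F (e.trans f) := by
  ext i a
  simp only [inc, Matrix.mul_apply, Matrix.of_apply]
  rw [Finset.sum_eq_single (e a) (fun b _ hb => by simp [hb]) (fun h => absurd (Finset.mem_univ _) h)]
  simp

/-- Extension of a matrix by the identity along an injection. -/
def extM (e : α ↪ ι) : Matrix α α F →* Matrix ι ι F where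
  toFun M := 1 + inc F e * (M - 1) * (inc F e)ᵀ
  map_one' := by simp
  map_mul' M N := by
    have h : (inc F e * (M - 1) * (inc F e)ᵀ) * (inc F e * (N - 1) * (inc F e)ᵀ) =
        inc F e * ((M - 1) * (N - 1)) * (inc F e)ᵀ := by
      rw [show (inc F e * (M - 1) * (inc F e)ᵀ) * (inc F e * (N - 1) * (inc F e)ᵀ) =
        inc F e * (M - 1) * ((inc F e)ᵀ * inc F e) * (N - 1) * (inc F e)ᵀ by simp [Matrix.mul_assoc],
        inc_transpose_mul, Matrix.mul_one, Matrix.mul_assoc (inc F e) (M - 1)]
    rw [add_mul, mul_add, mul_add, one_mul, one_mul, mul_one, h, add_assoc, ← Matrix.add_mul, ← Matrix.add_mul,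
      ← Matrix.mul_add, ← Matrix.mul_add]
    congr 3
    simp [sub_mul, mul_sub]

theorem extM_apply (e : α ↪ ι) (M : Matrix α α F) (a b : α) : extM e M (e a) (e b) = M a b := by
  simp [extM, inc, Matrix.mul_apply, Matrix.one_apply, eq_comm]

theorem extM_apply_left (e : α ↪ ι) (M : Matrix α α F) {i : ι} (hi : ∀ a, i ≠ e a) (j : ι) :
    extM e M i j = (1 : Matrix ι ι F) i j := by
  simp [extM, inc, Matrix.mul_apply, hi]

theorem extM_apply_right (e : α ↪ ι) (M : Matrix α α F) {j : ι} (hj : ∀ a, j ≠ e a) (i : ι) :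
    extM e M i j = (1 : Matrix ι ι F) i j := by
  simp [extM, inc, Matrix.mul_apply, hj]

theorem extM_det (e : α ↪ ι) (M : Matrix α α F) : (extM e M).det = M.det := by
  show (1 + inc F e * (M - 1) * (inc F e)ᵀ).det = _
  rw [Matrix.mul_assoc, Matrix.det_one_add_mul_comm, Matrix.mul_assoc, inc_transpose_mul, Matrix.mul_one,
    add_sub_cancel]

theorem extM_extM (e : α ↪ β) (f : β ↪ ι) (M : Matrix α α F) : extM f (extM e M) = extM (e.trans f) M := by
  show 1 + inc F f * (1 + inc F e * (M - 1) * (inc F e)ᵀ - 1) * (inc F f)ᵀ = 1 + inc F (e.trans f) * (M - 1) * (inc F (e.trans f))ᵀ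
  rw [add_sub_cancel_left, ← inc_mul_inc, Matrix.transpose_mul]
  simp [Matrix.mul_assoc]

/-- Extension along an injection, on `GL`. -/
def extG (e : α ↪ ι) : GL α F →* GL ι F := Units.map (extM e)

theorem extG_val (e : α ↪ ι) (A : GL α F) :
    (extG e A : Matrix ι ι F) = extM e (A : Matrix α α F) := rfl

theorem extG_det (e : α ↪ ι) (A : GL α F) :
    Matrix.GeneralLinearGroup.det (extG e A) = Matrix.GeneralLinearGroup.det A := Units.ext (extM_det e _)

/-- Extension along an injection, on `SL`. -/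
def extS (e : α ↪ ι) : Matrix.SpecialLinearGroup α F →* Matrix.SpecialLinearGroup ι F :=
  MonoidHom.mk' (fun A => ⟨extM e A.1, by rw [extM_det]; exact A.2⟩) fun A B => Subtype.ext (map_mul (extM e) _ _)

theorem extS_val (e : α ↪ ι) (A : Matrix.SpecialLinearGroup α F) :
    (extS e A : Matrix ι ι F) = extM e (A : Matrix α α F) := rfl

theorem extS_extS (e : α ↪ β) (f : β ↪ ι) (A : Matrix.SpecialLinearGroup α F) :
    extS f (extS e A) = extS (e.trans f) A := Subtype.ext (extM_extM e f _)

/-- A pair of indices. -/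
def pairEmb {k o : ι} (h : k ≠ o) : Fin 2 ↪ ι :=
  ⟨![k, o], by intro a b hab; fin_cases a <;> fin_cases b <;> simp_all [h.symm]⟩

/-- The rank-one subgroup of a pair of indices. -/
def emb {k o : ι} (h : k ≠ o) : SL(2, F) →* Matrix.SpecialLinearGroup ι F := extS (pairEmb h)

theorem emb_entry {k o : ι} (h : k ≠ o) (M : SL(2, F)) (i j : ι) : (emb h M : Matrix ι ι F) i j =
    if i = k ∧ j = k then M.1 0 0 else if i = k ∧ j = o then M.1 0 1 else if i = o ∧ j = k then M.1 1 0
    else if i = o ∧ j = o then M.1 1 1 else (1 : Matrix ι ι F) i j := by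
  rw [emb, extS_val]
  by_cases hi : i = k ∨ i = o
  swap
  · rw [not_or] at hi
    rw [extM_apply_left (pairEmb h) _ (fun a => by fin_cases a; exacts [hi.1, hi.2])]
    simp [hi]
  by_cases hj : j = k ∨ j = o
  swap
  · rw [not_or] at hj
    rw [extM_apply_right (pairEmb h) _ (fun a => by fin_cases a; exacts [hj.1, hj.2])]
    simp [hj]
  rcases hi with rfl | rfl <;> rcases hj with rfl | rfl
  · rw [if_pos ⟨rfl, rfl⟩]; exact extM_apply (pairEmb h) _ 0 0
  · rw [if_neg (fun e => h e.2.symm), if_pos ⟨rfl, rfl⟩]; exact extM_apply (pairEmb h) _ 0 1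
  · rw [if_neg (fun e => h e.1.symm), if_neg (fun e => h e.1.symm), if_pos ⟨rfl, rfl⟩]
    exact extM_apply (pairEmb h) _ 1 0
  · rw [if_neg (fun e => h e.1.symm), if_neg (fun e => h e.1.symm), if_neg (fun e => h e.2.symm),
      if_pos ⟨rfl, rfl⟩]
    exact extM_apply (pairEmb h) _ 1 1

/-- The torus of one index. -/
def dg (o : ι) : Fˣ →* GL ι F where
  toFun c := ⟨Matrix.diagonal (Function.update 1 o (c : F)), Matrix.diagonal (Function.update 1 o ((c⁻¹ : Fˣ) : F)),
    by
      rw [Matrix.diagonal_mul_diagonal, ← Matrix.diagonal_one]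
      congr 1
      funext i
      rcases eq_or_ne i o with rfl | hi <;> simp [*],
    by
      rw [Matrix.diagonal_mul_diagonal, ← Matrix.diagonal_one]
      congr 1
      funext i
      rcases eq_or_ne i o with rfl | hi <;> simp [*]⟩
  map_one' := Units.ext (by simp)
  map_mul' c c' := Units.ext (by
    show Matrix.diagonal _ = Matrix.diagonal _ * Matrix.diagonal _
    rw [Matrix.diagonal_mul_diagonal]
    congr 1
    funext i
    rcases eq_or_ne i o with rfl | hi <;> simp [*])

theorem dg_val (o : ι) (c : Fˣ) :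
    (dg o c : Matrix ι ι F) = Matrix.diagonal (Function.update 1 o (c : F)) := rfl

theorem dg_det (o : ι) (c : Fˣ) : Matrix.GeneralLinearGroup.det (dg o c) = c := by
  refine Units.ext ?_
  rw [Matrix.GeneralLinearGroup.val_det_apply, dg_val, Matrix.det_diagonal,
    Finset.prod_eq_single o (fun i _ hi => by simp [hi]) (fun h => absurd (Finset.mem_univ o) h),
    Function.update_self]

theorem extG_dg (e : α ↪ ι) (a : α) (c : Fˣ) : extG e (dg a c) = dg (e a) c := by
  refine Units.ext ?_
  rw [extG_val]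
  ext i j
  by_cases hi : ∃ b, i = e b
  · obtain ⟨b, rfl⟩ := hi
    by_cases hj : ∃ d, j = e d
    · obtain ⟨d, rfl⟩ := hj
      rw [extM_apply, dg_val, dg_val, Matrix.diagonal_apply, Matrix.diagonal_apply]
      simp [Function.update_apply]
    · simp only [not_exists] at hj
      rw [extM_apply_right e _ hj, dg_val, Matrix.diagonal_apply_ne _ (fun h => hj b h.symm),
        Matrix.one_apply_ne (fun h => hj b h.symm)]
  · simp only [not_exists] at hi
    rw [extM_apply_left e _ hi, dg_val, Matrix.diagonal_apply]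
    rcases eq_or_ne i j with rfl | hij
    · simp [hi a]
    · simp [hij]

/-- The unimodular part. -/
def slPart (o : ι) (A : GL ι F) : Matrix.SpecialLinearGroup ι F :=
  ⟨((A * (dg o (Matrix.GeneralLinearGroup.det A))⁻¹ : GL ι F) : Matrix ι ι F), by
    rw [← Matrix.GeneralLinearGroup.val_det_apply, map_mul, map_inv, dg_det, mul_inv_cancel, Units.val_one]⟩

theorem slPart_toGL (o : ι) (A : GL ι F) :
    (Matrix.SpecialLinearGroup.toGL (slPart o A) : GL ι F) = A * (dg o (Matrix.GeneralLinearGroup.det A))⁻¹ :=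
  Units.ext rfl

/-- The identity with one column replaced. -/
noncomputable def colG (i : ι) (v : ι → F) : GL ι F :=
  haveI := Classical.dec (v i = 0)
  if h : v i = 0 then 1 else Matrix.GeneralLinearGroup.mkOfDetNeZero ((1 : Matrix ι ι F).updateCol i v) (by
    rw [← Matrix.cramer_apply, Matrix.cramer_one]
    exact h)

theorem colG_val {i : ι} {v : ι → F} (h : v i ≠ 0) : (colG i v : Matrix ι ι F) = (1 : Matrix ι ι F).updateCol i v := by
  rw [colG, dif_neg h]; rfl

theorem colG_mulVec_self {i : ι} {v : ι → F} (h : v i ≠ 0) : (colG i v : Matrix ι ι F) *ᵥ Pi.single i 1 = v := by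
  funext a
  rw [colG_val h, Matrix.mulVec_single_one]
  simp [Matrix.col_apply]

theorem colG_mulVec_ne {i j : ι} {v : ι → F} (h : v i ≠ 0) (hj : j ≠ i) :
    (colG i v : Matrix ι ι F) *ᵥ Pi.single j 1 = Pi.single j 1 := by
  funext a
  rw [colG_val h, Matrix.mulVec_single_one]
  simp [Matrix.col_apply, Matrix.updateCol_ne hj, Matrix.one_apply, Pi.single_apply]

/-- A permutation matrix. -/
def permG (σ : Equiv.Perm ι) : GL ι F :=
  ⟨σ.permMatrix F, σ⁻¹.permMatrix F, by rw [← Matrix.permMatrix_mul]; simp,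
    by rw [← Matrix.permMatrix_mul]; simp⟩

theorem permG_mulVec (σ : Equiv.Perm ι) (v : ι → F) : ((permG σ : GL ι F) : Matrix ι ι F) *ᵥ v = v ∘ σ :=
  Matrix.permMatrix_mulVec _

theorem permG_inv (σ : Equiv.Perm ι) : (permG σ : GL ι F)⁻¹ = permG σ⁻¹ := Units.ext rfl

theorem permG_swap_mulVec (a b : ι) :
    ((permG (Equiv.swap a b) : GL ι F) : Matrix ι ι F) *ᵥ Pi.single a 1 = Pi.single b 1 := by
  funext i
  rw [permG_mulVec, Function.comp_apply, Pi.single_apply, Pi.single_apply]
  refine if_congr ?_ rfl rfl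
  rw [← Equiv.eq_symm_apply, Equiv.symm_swap, Equiv.swap_apply_left]

/-- Some element sends a basis vector to a given nonzero vector. -/
theorem exists_col (o : ι) {v : ι → F} (hv : v ≠ 0) :
    ∃ A : GL ι F, (A : Matrix ι ι F) *ᵥ Pi.single o 1 = v := by
  obtain ⟨i, hi⟩ := Function.ne_iff.1 hv
  refine ⟨colG i v * permG (Equiv.swap o i), ?_⟩
  rw [Units.val_mul, ← Matrix.mulVec_mulVec, permG_swap_mulVec, colG_mulVec_self hi]

/-- Two vectors: dependent, or columns of an invertible matrix. -/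
theorem exists_two (o : ι) {v : ι → F} (hv : v ≠ 0) (w : ι → F) :
    (∃ c : F, w = c • v) ∨ ∃ (A : GL ι F) (k : ι), k ≠ o ∧ (A : Matrix ι ι F) *ᵥ Pi.single o 1 = v ∧
      (A : Matrix ι ι F) *ᵥ Pi.single k 1 = w := by
  obtain ⟨A, hA⟩ := exists_col o hv
  set w' := ((A⁻¹ : GL ι F) : Matrix ι ι F) *ᵥ w with hw'
  have hw : (A : Matrix ι ι F) *ᵥ w' = w := by rw [hw', Matrix.mulVec_mulVec, Units.mul_inv, Matrix.one_mulVec]
  by_cases h : ∀ k, k ≠ o → w' k = 0
  · refine Or.inl ⟨w' o, ?_⟩
    rw [← hA, ← hw, ← Matrix.mulVec_smul]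
    congr 1
    funext i
    rcases eq_or_ne i o with rfl | hi
    · simp
    · simp [hi, h i hi]
  · simp only [not_forall] at h
    obtain ⟨k, hk, hk'⟩ := h
    refine Or.inr ⟨A * colG k w', k, hk, ?_, ?_⟩
    · rw [Units.val_mul, ← Matrix.mulVec_mulVec, colG_mulVec_ne hk' hk.symm, hA]
    · rw [Units.val_mul, ← Matrix.mulVec_mulVec, colG_mulVec_self hk', hw]

/-- A transvection in column `o`. -/
def trM (o : ι) (u : ι → F) : Matrix ι ι F := 1 + Matrix.vecMulVec u (Pi.single o 1)

/-- A transvection in row `o`. -/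
def loM (o : ι) (r : ι → F) : Matrix ι ι F := 1 + Matrix.vecMulVec (Pi.single o 1) r

theorem trM_mul (o : ι) (u u' : ι → F) (hu' : u' o = 0) : trM o u * trM o u' = trM o (u + u') := by
  simp only [trM, add_mul, mul_add, one_mul, mul_one, Matrix.vecMulVec_mul_vecMulVec]
  simp [hu', Matrix.add_vecMulVec, add_assoc, add_comm]

theorem loM_mul (o : ι) (r r' : ι → F) (hr : r o = 0) : loM o r * loM o r' = loM o (r + r') := by
  simp only [loM, add_mul, mul_add, one_mul, mul_one, Matrix.vecMulVec_mul_vecMulVec]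
  simp [hr, Matrix.vecMulVec_add, add_assoc, add_comm]

/-- A transvection in column `o`, invertible when the diagonal entry vanishes. -/
def trG (o : ι) (u : ι → F) : GL ι F :=
  ⟨trM o (Function.update u o 0), trM o (-Function.update u o 0),
    by rw [trM_mul o _ _ (by simp), add_neg_cancel]; simp [trM],
    by rw [trM_mul o _ _ (by simp), neg_add_cancel]; simp [trM]⟩

/-- A transvection in row `o`, invertible when the diagonal entry vanishes. -/
def loG (o : ι) (r : ι → F) : GL ι F :=
  ⟨loM o (Function.update r o 0), loM o (-Function.update r o 0),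
    by rw [loM_mul o _ _ (by simp), add_neg_cancel]; simp [loM],
    by rw [loM_mul o _ _ (by simp), neg_add_cancel]; simp [loM]⟩

theorem trG_val {o : ι} {u : ι → F} (hu : u o = 0) : (trG o u : Matrix ι ι F) = trM o u := by
  show trM o _ = _
  rw [show Function.update u o 0 = u from by rw [← hu, Function.update_eq_self]]

theorem loG_val {o : ι} {r : ι → F} (hr : r o = 0) : (loG o r : Matrix ι ι F) = loM o r := by
  show loM o _ = _
  rw [show Function.update r o 0 = r from by rw [← hr, Function.update_eq_self]]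

theorem trG_add {o : ι} {u u' : ι → F} (hu : u o = 0) (hu' : u' o = 0) : trG o (u + u') = trG o u * trG o u' := by
  refine Units.ext ?_
  rw [Units.val_mul, trG_val hu, trG_val hu', trG_val (by simp [hu, hu']), trM_mul o _ _ hu']

theorem loG_add {o : ι} {r r' : ι → F} (hr : r o = 0) (hr' : r' o = 0) : loG o (r + r') = loG o r * loG o r' := by
  refine Units.ext ?_
  rw [Units.val_mul, loG_val hr, loG_val hr', loG_val (by simp [hr, hr']), loM_mul o _ _ hr]

theorem trG_zero (o : ι) : (trG o (0 : ι → F)) = 1 := Units.ext (by rw [trG_val (u := (0 : ι → F)) rfl]; simp [trM])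

theorem loG_zero (o : ι) : (loG o (0 : ι → F)) = 1 := Units.ext (by rw [loG_val (r := (0 : ι → F)) rfl]; simp [loM])

theorem trG_neg {o : ι} {u : ι → F} (hu : u o = 0) : trG o (-u) = (trG o u)⁻¹ :=
  eq_inv_of_mul_eq_one_left (by rw [← trG_add (by simp [hu]) hu, neg_add_cancel, trG_zero])

theorem loG_neg {o : ι} {r : ι → F} (hr : r o = 0) : loG o (-r) = (loG o r)⁻¹ :=
  eq_inv_of_mul_eq_one_left (by rw [← loG_add (by simp [hr]) hr, neg_add_cancel, loG_zero])

theorem trG_single {k o : ι} (h : k ≠ o) (t : F) :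
    trG o (Pi.single k t) = Matrix.SpecialLinearGroup.toGL (emb h (uElt t)) := by
  refine Units.ext ?_
  rw [trG_val (by simp [h])]
  show trM o _ = (emb h (uElt t) : Matrix ι ι F)
  ext i j
  rw [emb_entry, uElt_val]
  simp only [trM, Matrix.add_apply, Matrix.vecMulVec_apply, Pi.single_apply, Matrix.one_apply]
  by_cases h1 : i = k <;> by_cases h2 : j = o <;> by_cases h3 : i = o <;> by_cases h4 : j = k <;>
    simp_all [h, h.symm]

theorem loG_single {k o : ι} (h : k ≠ o) (t : F) :
    loG o (Pi.single k t) = Matrix.SpecialLinearGroup.toGL (emb h (lElt t)) := by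
  refine Units.ext ?_
  rw [loG_val (by simp [h])]
  show loM o _ = (emb h (lElt t) : Matrix ι ι F)
  ext i j
  rw [emb_entry, lElt_val]
  simp only [loM, Matrix.add_apply, Matrix.vecMulVec_apply, Pi.single_apply, Matrix.one_apply]
  by_cases h1 : i = k <;> by_cases h2 : j = o <;> by_cases h3 : i = o <;> by_cases h4 : j = k <;>
    simp_all [h, h.symm]

/-- The basis vector `o` is fixed on both sides. -/
def Blk (o : ι) (A : GL ι F) : Prop :=
  (A : Matrix ι ι F) *ᵥ Pi.single o 1 = Pi.single o 1 ∧ Pi.single o 1 ᵥ* (A : Matrix ι ι F) = Pi.single o 1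

theorem Blk.mul {o : ι} {A B : GL ι F} (hA : Blk o A) (hB : Blk o B) : Blk o (A * B) := by
  refine ⟨?_, ?_⟩
  · rw [Units.val_mul, ← Matrix.mulVec_mulVec, hB.1, hA.1]
  · rw [Units.val_mul, ← Matrix.vecMul_vecMul, hA.2, hB.2]

theorem Blk.inv {o : ι} {A : GL ι F} (hA : Blk o A) : Blk o A⁻¹ := by
  refine ⟨?_, ?_⟩
  · conv_lhs => rw [← hA.1, Matrix.mulVec_mulVec, Units.inv_mul, Matrix.one_mulVec]
  · conv_lhs => rw [← hA.2, Matrix.vecMul_vecMul, Units.mul_inv, Matrix.vecMul_one]

/-- An element fixing a column is block diagonal times a row transvection. -/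
theorem exists_lo_blk {o : ι} {A : GL ι F} (h : (A : Matrix ι ι F) *ᵥ Pi.single o 1 = Pi.single o 1) :
    ∃ r : ι → F, r o = 0 ∧ ∃ B, Blk o B ∧ A = loG o r * B := by
  set r := Pi.single o 1 - Pi.single o 1 ᵥ* ((A⁻¹ : GL ι F) : Matrix ι ι F) with hr
  have hro : r o = 0 := by
    have h2 : ((A⁻¹ : GL ι F) : Matrix ι ι F) *ᵥ Pi.single o 1 = Pi.single o 1 := by
      conv_lhs => rw [← h, Matrix.mulVec_mulVec, Units.inv_mul, Matrix.one_mulVec]
    have h3 := congrFun h2 o
    rw [Matrix.mulVec_single_one, Pi.single_eq_same] at h3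
    rw [hr, Pi.sub_apply, Pi.single_eq_same, Matrix.single_one_vecMul]
    simp only [Matrix.row_apply, Matrix.col_apply] at h3 ⊢
    rw [h3, sub_self]
  refine ⟨r, hro, (loG o r)⁻¹ * A, ⟨?_, ?_⟩, by rw [mul_inv_cancel_left]⟩
  · rw [Units.val_mul, ← loG_neg hro, loG_val (by simp [hro]), ← Matrix.mulVec_mulVec, h, loM, Matrix.add_mulVec,
      Matrix.one_mulVec, Matrix.vecMulVec_mulVec]
    simp [hro]
  · rw [Units.val_mul, ← loG_neg hro, loG_val (by simp [hro]), ← Matrix.vecMul_vecMul, loM, Matrix.vecMul_add,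
      Matrix.vecMul_one, Matrix.vecMul_vecMulVec]
    rw [show Pi.single o 1 ⬝ᵥ Pi.single o (1 : F) = 1 by simp, one_smul, hr]
    rw [show Pi.single o 1 + -(Pi.single o 1 - Pi.single o 1 ᵥ* ((A⁻¹ : GL ι F) : Matrix ι ι F)) =
      Pi.single o 1 ᵥ* ((A⁻¹ : GL ι F) : Matrix ι ι F) by abel, Matrix.vecMul_vecMul, Units.inv_mul, Matrix.vecMul_one]

/-- An element fixing a row is a column transvection times a block diagonal one. -/
theorem exists_tr_blk {o : ι} {A : GL ι F} (h : Pi.single o 1 ᵥ* (A : Matrix ι ι F) = Pi.single o 1) :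
    ∃ u : ι → F, u o = 0 ∧ ∃ B, Blk o B ∧ A = trG o u * B := by
  set u := (A : Matrix ι ι F) *ᵥ Pi.single o 1 - Pi.single o 1 with hu
  have hAo : (A : Matrix ι ι F) o o = 1 := by
    have := congrFun h o
    rwa [Matrix.single_one_vecMul, Pi.single_eq_same] at this
  have huo : u o = 0 := by
    rw [hu, Pi.sub_apply, Matrix.mulVec_single_one, Pi.single_eq_same]
    simp [Matrix.col_apply, hAo]
  refine ⟨u, huo, (trG o u)⁻¹ * A, ⟨?_, ?_⟩, by rw [mul_inv_cancel_left]⟩
  · rw [Units.val_mul, ← trG_neg huo, trG_val (by simp [huo]), ← Matrix.mulVec_mulVec, trM, Matrix.add_mulVec,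
      Matrix.one_mulVec, Matrix.vecMulVec_mulVec]
    simp [hu, hAo]
  · rw [Units.val_mul, ← trG_neg huo, trG_val (by simp [huo]), ← Matrix.vecMul_vecMul, trM, Matrix.vecMul_add,
      Matrix.vecMul_one, Matrix.vecMul_vecMulVec]
    simp [huo, h]

end CfsgLib.Pres.SpN
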