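import Cfsg.Agent.Lib.Pres.SpMats
import Cfsg.Agent.Lib.Pres.SpFourRels

/-!
# The Siegel radical in a group with the relations of `Sp_{2n}`

`φ` is the Levi part `SL_n`, `ψ` the long root `SL₂` at the index `o`.
-/

set_option autoImplicit false

namespace CfsgLib.Pres.SpN

open Matrix
open scoped MatrixGroups
open CfsgLib.Classical (uElt uElt_val uElt_add)

variable {F : Type*} [Field F] {ι : Type*} [Fintype ι] [DecidableEq ι] {G : Type*} [Group G]

/-- The basis vector `i`. -/
abbrev e (F : Type*) [Field F] {ι : Type*} [DecidableEq ι] (i : ι) : ι → F := Pi.single i 1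

/-- The relations. -/
structure SpRels (o : ι) (φ : Matrix.SpecialLinearGroup ι F →* G) (ψ : SL(2, F) →* G) : Prop where
  comm : ∀ (B : Matrix.SpecialLinearGroup ι F) (M : SL(2, F)),
    Blk o (Matrix.SpecialLinearGroup.toGL B) → Commute (φ B) (ψ M)
  conjD : ∀ (c : Fˣ) (A B : Matrix.SpecialLinearGroup ι F),
    (Matrix.SpecialLinearGroup.toGL B : GL ι F) = dg o c * Matrix.SpecialLinearGroup.toGL A * (dg o c)⁻¹ →
      ψ (dElt c) * φ A * (ψ (dElt c))⁻¹ = φ B
  pair : ∀ (k : ι) (h : k ≠ o), SpFour.Rels (φ.comp (emb h)) ψ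

theorem dElt_conj_all (c : Fˣ) (M : SL(2, F)) : dElt c * M * (dElt c)⁻¹ = dConj (c ^ 2) M := by
  rw [SpFour.dElt_inv]
  refine Subtype.ext ?_
  rw [Matrix.SpecialLinearGroup.coe_mul, Matrix.SpecialLinearGroup.coe_mul, dConj_val]
  ext i j
  fin_cases i <;> fin_cases j <;> simp [dElt, dMat, Matrix.mul_apply, Fin.sum_univ_two, Matrix.vecMul, dotProduct] <;> field_simp <;> ring

theorem toGL_mul (A B : Matrix.SpecialLinearGroup ι F) :
    (Matrix.SpecialLinearGroup.toGL (A * B) : GL ι F) =
      Matrix.SpecialLinearGroup.toGL A * Matrix.SpecialLinearGroup.toGL B := map_mul _ _ _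

theorem toGL_inj {A B : Matrix.SpecialLinearGroup ι F}
    (h : (Matrix.SpecialLinearGroup.toGL A : GL ι F) = Matrix.SpecialLinearGroup.toGL B) : A = B :=
  Subtype.ext (congrArg (fun g : GL ι F => (g : Matrix ι ι F)) h)

/-- The rank-one torus inside `GL`. -/
theorem emb_dElt {k o : ι} (h : k ≠ o) (c : Fˣ) :
    (Matrix.SpecialLinearGroup.toGL (emb h (dElt c)) : GL ι F) = dg k c * (dg o c)⁻¹ := by
  rw [← map_inv]
  refine Units.ext ?_
  rw [Units.val_mul, dg_val, dg_val, Matrix.diagonal_mul_diagonal]
  show (emb h (dElt c) : Matrix ι ι F) = _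
  ext i j
  rw [emb_entry, Matrix.diagonal_apply]
  simp only [Function.update_apply, Pi.one_apply, Matrix.one_apply, dElt]
  by_cases h1 : i = k <;> by_cases h2 : j = k <;> by_cases h3 : i = o <;> by_cases h4 : j = o <;>
    simp_all [h, h.symm, eq_comm]

/-- The Levi part. -/
def lam (o : ι) {φ : Matrix.SpecialLinearGroup ι F →* G} {ψ : SL(2, F) →* G} (R : SpRels o φ ψ) : GL ι F →* G :=
  MonoidHom.mk' (fun A => φ (slPart o A) * ψ (dElt (Matrix.GeneralLinearGroup.det A))) fun A B => by
    set a := Matrix.GeneralLinearGroup.det A with ha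
    set b := Matrix.GeneralLinearGroup.det B with hb
    have h1 : ((slPart o A)⁻¹ * slPart o (A * B) : Matrix.SpecialLinearGroup ι F) =
        ((slPart o A)⁻¹ * slPart o (A * B)) := rfl
    have h2 := R.conjD a (slPart o B) ((slPart o A)⁻¹ * slPart o (A * B)) (by
      rw [toGL_mul, map_inv, slPart_toGL, slPart_toGL, slPart_toGL, map_mul, ← ha, ← hb, map_mul]
      group)
    rw [map_mul φ, map_inv, eq_inv_mul_iff_mul_eq] at h2
    rw [← h2, map_mul, ← ha, ← hb, ← SpFour.dElt_mul, map_mul]
    group

variable {o : ι} {φ : Matrix.SpecialLinearGroup ι F →* G} {ψ : SL(2, F) →* G} (R : SpRels o φ ψ)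

theorem lam_apply (A : GL ι F) :
    lam o R A = φ (slPart o A) * ψ (dElt (Matrix.GeneralLinearGroup.det A)) := rfl

theorem dElt_one : dElt (1 : Fˣ) = (1 : SL(2, F)) := Subtype.ext (by
  ext i j
  fin_cases i <;> fin_cases j <;> simp [dElt])

theorem lam_sl (B : Matrix.SpecialLinearGroup ι F) : lam o R (Matrix.SpecialLinearGroup.toGL B) = φ B := by
  have hdet : Matrix.GeneralLinearGroup.det (Matrix.SpecialLinearGroup.toGL B : GL ι F) = 1 :=
    Units.ext B.2
  have hsl : slPart o (Matrix.SpecialLinearGroup.toGL B : GL ι F) = B := toGL_inj (by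
    rw [slPart_toGL, hdet, map_one, inv_one, mul_one])
  rw [lam_apply, hsl, hdet, dElt_one, map_one, mul_one]

theorem lam_dg (c : Fˣ) : lam o R (dg o c) = ψ (dElt c) := by
  have hsl : slPart o (dg o c : GL ι F) = 1 := toGL_inj (by
    rw [slPart_toGL, dg_det, mul_inv_cancel, map_one])
  rw [lam_apply, hsl, map_one, one_mul, dg_det]

theorem lam_emb {k : ι} (h : k ≠ o) (M : SL(2, F)) :
    lam o R (Matrix.SpecialLinearGroup.toGL (emb h M)) = φ (emb h M) := lam_sl R _

/-- The block diagonal part centralises the long root subgroup. -/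
theorem comm_blk {A : GL ι F} (hA : Blk o A) (M : SL(2, F)) : Commute (lam o R A) (ψ M) := by
  by_cases hk : ∃ k, k ≠ o
  · obtain ⟨k, hk⟩ := hk
    set c := Matrix.GeneralLinearGroup.det A with hc
    have hB : Blk o (dg k c : GL ι F) := by
      refine ⟨?_, ?_⟩ <;> funext i <;>
        rcases eq_or_ne i o with rfl | hi <;>
        simp [dg_val, Matrix.mulVec_diagonal, Matrix.vecMul_diagonal, Pi.single_apply, Function.update_apply, hk.symm, *]
    obtain ⟨S, hS⟩ : ∃ S : Matrix.SpecialLinearGroup ι F,
        (Matrix.SpecialLinearGroup.toGL S : GL ι F) = A * (dg k c)⁻¹ :=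
      ⟨⟨((A * (dg k c)⁻¹ : GL ι F) : Matrix ι ι F), by
        rw [← Matrix.GeneralLinearGroup.val_det_apply, map_mul, map_inv, dg_det, ← hc, mul_inv_cancel,
          Units.val_one]⟩, Units.ext rfl⟩
    have hd : (dg k c : GL ι F) = Matrix.SpecialLinearGroup.toGL (emb hk (dElt c)) * dg o c := by
      rw [emb_dElt, inv_mul_cancel_right]
    rw [show A = Matrix.SpecialLinearGroup.toGL S * dg k c by rw [hS, inv_mul_cancel_right], hd, map_mul, map_mul,
      lam_sl, lam_sl, lam_dg]
    refine (R.comm S M (hS ▸ hA.mul hB.inv)).mul_left ?_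
    have h1 : ψ (dElt c) * ψ M * (ψ (dElt c))⁻¹ = ψ (dConj (c ^ 2) M) := by
      rw [← map_inv, ← map_mul, ← map_mul, dElt_conj_all]
    have h2 := (R.pair k hk).ha_b c (dConj (c ^ 2) M)
    rw [MonoidHom.comp_apply, SpFour.dConj_dConj, inv_mul_cancel, SpFour.dConj_one, ← h1] at h2
    show φ (emb hk (dElt c)) * ψ (dElt c) * ψ M = ψ M * (φ (emb hk (dElt c)) * ψ (dElt c))
    conv_rhs => rw [← h2]
    group
  · simp only [not_exists, not_not] at hk
    have h1 : A = 1 := by
      refine Units.ext ?_
      ext i j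
      rw [hk i, hk j]
      have := congrFun hA.1 o
      rw [Matrix.mulVec_single_one] at this
      simpa [Matrix.col_apply] using this
    rw [h1, map_one]
    exact Commute.one_left _

/-- The row transvections at `o` centralise the long root group. -/
theorem comm_lo {r : ι → F} (hr : r o = 0) (t : F) :
    Commute (lam o R (loG o r)) (SpFour.X ψ t) := by
  have key : ∀ s : Finset ι, Commute (lam o R (loG o (∑ k ∈ s, Pi.single k (r k)))) (SpFour.X ψ t) := by
    intro s
    induction s using Finset.induction_on with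
    | empty => rw [Finset.sum_empty, loG_zero, map_one]; exact Commute.one_left _
    | insert k s hks ih =>
      have h0 : (∑ j ∈ s, Pi.single j (r j) : ι → F) o = 0 := by
        rw [Finset.sum_apply]
        refine Finset.sum_eq_zero fun j _ => ?_
        rcases eq_or_ne j o with rfl | hj
        · simp [hr]
        · simp [hj]
      rw [Finset.sum_insert hks]
      rcases eq_or_ne k o with rfl | hk
      · rwa [hr, Pi.single_zero, zero_add]
      rw [loG_add (by simp [hk]) h0, map_mul]
      refine Commute.mul_left ?_ ih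
      rw [loG_single hk, lam_sl]
      set Rl := R.pair k hk
      set wa := (φ.comp (emb hk)) (wElt F) with hwa
      have h1 := Rl.cAR (-(r k)) t
      have e1 : wa⁻¹ * SpFour.X (φ.comp (emb hk)) (-(r k)) * wa = φ (emb hk (lElt (r k))) := by
        rw [hwa, SpFour.X, ← map_inv, ← map_mul, ← map_mul, wElt_inv_conj, neg_neg]
        rfl
      have e2 : wa⁻¹ * SpFour.R (φ.comp (emb hk)) ψ t * wa = SpFour.X ψ t := by
        rw [SpFour.R, hwa]; group
      rw [← e1, ← e2]
      show _ * _ = _ * _
      calc wa⁻¹ * SpFour.X (φ.comp (emb hk)) (-(r k)) * wa * (wa⁻¹ * SpFour.R (φ.comp (emb hk)) ψ t * wa)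
          = wa⁻¹ * (SpFour.X (φ.comp (emb hk)) (-(r k)) * SpFour.R (φ.comp (emb hk)) ψ t) * wa := by group
        _ = _ := by rw [h1.eq]; group
  have := key Finset.univ
  rwa [Finset.univ_sum_single] at this

/-- An element fixing the column `o` centralises the long root group. -/
theorem comm_fix {A : GL ι F} (h : (A : Matrix ι ι F) *ᵥ e F o = e F o) (t : F) :
    Commute (lam o R A) (SpFour.X ψ t) := by
  obtain ⟨r, hr, B, hB, rfl⟩ := exists_lo_blk h
  rw [map_mul]
  exact (comm_lo R hr t).mul_left (comm_blk R hB _)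

/-- The long root elements. -/
noncomputable def rootL (v : ι → F) (t : F) : G :=
  haveI := Classical.dec (v = 0)
  if h : v = 0 then 1 else lam o R (exists_col o h).choose * SpFour.X ψ t * (lam o R (exists_col o h).choose)⁻¹

theorem rootL_zero_vec (t : F) : rootL R 0 t = 1 := by rw [rootL, dif_pos rfl]

theorem mulVec_eq_zero_iff (A : GL ι F) (v : ι → F) : (A : Matrix ι ι F) *ᵥ v = 0 ↔ v = 0 := by
  refine ⟨fun h => ?_, fun h => by rw [h, Matrix.mulVec_zero]⟩
  have := congrArg (fun w => ((A⁻¹ : GL ι F) : Matrix ι ι F) *ᵥ w) h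
  simpa [Matrix.mulVec_mulVec, ← Units.val_mul] using this

theorem rootL_eq (A : GL ι F) (t : F) :
    lam o R A * SpFour.X ψ t * (lam o R A)⁻¹ = rootL R ((A : Matrix ι ι F) *ᵥ e F o) t := by
  have hne : (A : Matrix ι ι F) *ᵥ e F o ≠ 0 := fun h =>
    one_ne_zero (α := F) (by simpa using congrFun ((mulVec_eq_zero_iff A _).1 h) o)
  rw [rootL, dif_neg hne]
  set C := (exists_col o hne).choose with hC
  have hC' := (exists_col o hne).choose_spec
  rw [← hC] at hC'
  have h := comm_fix R (A := C⁻¹ * A) (by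
    rw [Units.val_mul, ← Matrix.mulVec_mulVec, ← hC', Matrix.mulVec_mulVec, Units.inv_mul, Matrix.one_mulVec]) t
  rw [show lam o R A * SpFour.X ψ t * (lam o R A)⁻¹ =
    lam o R C * (lam o R (C⁻¹ * A) * SpFour.X ψ t * (lam o R (C⁻¹ * A))⁻¹) * (lam o R C)⁻¹ by
      rw [map_mul, map_inv]; group, h.eq, mul_inv_cancel_right]

theorem rootL_conj (A : GL ι F) (v : ι → F) (t : F) :
    lam o R A * rootL R v t * (lam o R A)⁻¹ = rootL R ((A : Matrix ι ι F) *ᵥ v) t := by
  rcases eq_or_ne v 0 with rfl | hv
  · rw [Matrix.mulVec_zero, rootL_zero_vec, mul_one, mul_inv_cancel]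
  obtain ⟨C, rfl⟩ := exists_col o hv
  rw [Matrix.mulVec_mulVec, ← Units.val_mul, ← rootL_eq R (A * C) t, ← rootL_eq R C t, map_mul]
  group

theorem rootL_o (t : F) : rootL R (e F o) t = SpFour.X ψ t := by
  have h := rootL_eq R 1 t
  rw [map_one, one_mul, inv_one, mul_one, Units.val_one, Matrix.one_mulVec] at h
  exact h.symm

theorem rootL_add (v : ι → F) (s t : F) : rootL R v (s + t) = rootL R v s * rootL R v t := by
  rcases eq_or_ne v 0 with rfl | hv
  · simp [rootL_zero_vec]
  obtain ⟨C, rfl⟩ := exists_col o hv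
  rw [← rootL_eq, ← rootL_eq, ← rootL_eq, SpFour.X_add]
  group

theorem rootL_zero (v : ι → F) : rootL R v 0 = 1 := by
  have h := rootL_add R v 0 0
  rwa [add_zero, left_eq_mul] at h

theorem rootL_smul (v : ι → F) (c t : F) : rootL R (c • v) t = rootL R v (c ^ 2 * t) := by
  rcases eq_or_ne c 0 with rfl | hc
  · rw [zero_smul, rootL_zero_vec, sq, zero_mul, zero_mul, rootL_zero]
  rcases eq_or_ne v 0 with rfl | hv
  · rw [smul_zero, rootL_zero_vec, rootL_zero_vec]
  obtain ⟨C, rfl⟩ := exists_col o hv
  have hd : ((C * dg o (Units.mk0 c hc) : GL ι F) : Matrix ι ι F) *ᵥ e F o = c • ((C : Matrix ι ι F) *ᵥ e F o) := by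
    rw [Units.val_mul, ← Matrix.mulVec_mulVec, ← Matrix.mulVec_smul]
    congr 1
    funext i
    rcases eq_or_ne i o with rfl | hi <;> simp [dg_val, Matrix.mulVec_diagonal, *]
  rw [← hd, ← rootL_eq, ← rootL_eq, map_mul, lam_dg,
    show lam o R C * ψ (dElt (Units.mk0 c hc)) * SpFour.X ψ t * (lam o R C * ψ (dElt (Units.mk0 c hc)))⁻¹ =
      lam o R C * (ψ (dElt (Units.mk0 c hc)) * SpFour.X ψ t * (ψ (dElt (Units.mk0 c hc)))⁻¹) * (lam o R C)⁻¹ by
      group,
    SpFour.X, ← map_inv, ← map_mul, ← map_mul, dElt_conj]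
  rfl

theorem wa_mulVec {k : ι} (h : k ≠ o) :
    ((Matrix.SpecialLinearGroup.toGL (emb h (wElt F)) : GL ι F) : Matrix ι ι F) *ᵥ e F o = e F k := by
  funext i
  show ((emb h (wElt F) : Matrix ι ι F) *ᵥ e F o) i = _
  rw [e, Matrix.mulVec_single_one, Matrix.col_apply, emb_entry, e, Pi.single_apply]
  by_cases h1 : i = k <;> by_cases h2 : i = o <;> simp_all [wElt, h, h.symm]

theorem rootL_k {k : ι} (h : k ≠ o) (t : F) : rootL R (e F k) t = SpFour.R (φ.comp (emb h)) ψ t := by
  rw [← wa_mulVec h, ← rootL_eq, lam_sl]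
  rfl

theorem rootL_pair {k : ι} (h : k ≠ o) (c t : F) :
    rootL R (e F o + c • e F k) t =
      SpFour.P (φ.comp (emb h)) ψ (c * t) * rootL R (e F k) (c ^ 2 * t) * rootL R (e F o) t := by
  have hA : ((Matrix.SpecialLinearGroup.toGL (emb h (uElt c)) : GL ι F) : Matrix ι ι F) *ᵥ e F o =
      e F o + c • e F k := by
    rw [← trG_single h, trG_val (by simp [h]), trM, Matrix.add_mulVec, Matrix.one_mulVec, Matrix.vecMulVec_mulVec]
    funext i
    rcases eq_or_ne i k with rfl | hi <;> simp [e, *]
  rw [← hA, ← rootL_eq, lam_sl, rootL_k R h, rootL_o]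
  show SpFour.X (φ.comp (emb h)) c * SpFour.X ψ t * (SpFour.X (φ.comp (emb h)) c)⁻¹ = _
  rw [(R.pair k h).cAB, mul_inv_cancel_right]

/-- Long root elements commute. -/
theorem rootL_comm (v w : ι → F) (s t : F) : Commute (rootL R v s) (rootL R w t) := by
  rcases eq_or_ne v 0 with rfl | hv
  · rw [rootL_zero_vec]; exact Commute.one_left _
  rcases exists_two o hv w with ⟨c, rfl⟩ | ⟨A, k, hk, hAo, hAk⟩
  · rw [rootL_smul]
    show _ * _ = _ * _
    rw [← rootL_add, ← rootL_add, add_comm]
  · rw [show v = _ from hAo.symm, show w = _ from hAk.symm, ← rootL_conj, ← rootL_conj, rootL_o, rootL_k R hk]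
    show _ * _ = _ * _
    calc lam o R A * SpFour.X ψ s * (lam o R A)⁻¹ * (lam o R A * SpFour.R (φ.comp (emb hk)) ψ t * (lam o R A)⁻¹)
        = lam o R A * (SpFour.X ψ s * SpFour.R (φ.comp (emb hk)) ψ t) * (lam o R A)⁻¹ := by group
      _ = _ := by rw [((R.pair k hk).cBR s t).eq]; group

/-- The Siegel radical. -/
noncomputable def siegel : Subgroup G := Subgroup.closure {g | ∃ v t, g = rootL R v t}

theorem rootL_mem (v : ι → F) (t : F) : rootL R v t ∈ siegel R := Subgroup.subset_closure ⟨v, t, rfl⟩

theorem siegel_comm {a b : G} (ha : a ∈ siegel R) (hb : b ∈ siegel R) : Commute a b := by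
  have h1 : siegel R ≤ Subgroup.centralizer {g | ∃ v t, g = rootL R v t} := by
    refine (Subgroup.closure_le _).2 ?_
    rintro _ ⟨v, t, rfl⟩
    rw [SetLike.mem_coe, Subgroup.mem_centralizer_iff]
    rintro _ ⟨w, u, rfl⟩
    exact (rootL_comm R w v u t).eq
  have h2 : siegel R ≤ Subgroup.centralizer (siegel R : Set G) := by
    refine (Subgroup.closure_le _).2 ?_
    rintro _ ⟨v, t, rfl⟩
    rw [SetLike.mem_coe, Subgroup.mem_centralizer_iff]
    intro x hx
    exact (Subgroup.mem_centralizer_iff.1 (h1 hx) _ ⟨v, t, rfl⟩).symm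
  exact (Subgroup.mem_centralizer_iff.1 (h2 hb) a ha)

noncomputable instance siegelCommGroup : CommGroup (siegel R) :=
  { (inferInstance : Group (siegel R)) with mul_comm := fun a b => Subtype.ext (siegel_comm R a.2 b.2).eq }

/-- A long root element in the Siegel radical. -/
noncomputable def lU (v : ι → F) (t : F) : siegel R := ⟨rootL R v t, rootL_mem R v t⟩

/-- The polar of the long root elements. -/
noncomputable def pol (v w : ι → F) (t : F) : siegel R := lU R (v + w) t / (lU R v t * lU R w t)

theorem lU_add (v : ι → F) (s t : F) : lU R v (s + t) = lU R v s * lU R v t := Subtype.ext (rootL_add R v s t)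

theorem lU_zero (v : ι → F) : lU R v 0 = 1 := Subtype.ext (rootL_zero R v)

theorem lU_zero_vec (t : F) : lU R 0 t = 1 := Subtype.ext (rootL_zero_vec R t)

theorem lU_smul (v : ι → F) (c t : F) : lU R (c • v) t = lU R v (c ^ 2 * t) := Subtype.ext (rootL_smul R v c t)

theorem pol_zero_left (w : ι → F) (t : F) : pol R 0 w t = 1 := by
  rw [pol, zero_add, lU_zero_vec, one_mul, div_self']

theorem pol_comm (v w : ι → F) (t : F) : pol R v w t = pol R w v t := by
  rw [pol, pol, add_comm v w, mul_comm (lU R v t)]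

theorem pol_add (v w : ι → F) (s t : F) : pol R v w (s + t) = pol R v w s * pol R v w t := by
  simp only [pol, lU_add, div_eq_mul_inv, _root_.mul_inv_rev]
  simp only [mul_assoc, mul_comm, mul_left_comm]

theorem pol_zero (v w : ι → F) : pol R v w 0 = 1 := by
  rw [pol, lU_zero, lU_zero, lU_zero, one_mul, div_self']

theorem pol_conj (A : GL ι F) (v w : ι → F) (t : F) :
    lam o R A * (pol R v w t : G) * (lam o R A)⁻¹ =
      (pol R ((A : Matrix ι ι F) *ᵥ v) ((A : Matrix ι ι F) *ᵥ w) t : G) := by
  simp only [pol, lU, div_eq_mul_inv, _root_.mul_inv_rev, Subgroup.coe_mul, Subgroup.coe_inv, ← Matrix.mulVec_add,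
    ← rootL_conj]
  group

theorem pol_o_k {k : ι} (h : k ≠ o) (c t : F) :
    (pol R (e F o) (c • e F k) t : G) = SpFour.P (φ.comp (emb h)) ψ (c * t) := by
  simp only [pol, lU, div_eq_mul_inv, _root_.mul_inv_rev, Subgroup.coe_mul, Subgroup.coe_inv, rootL_pair R h,
    rootL_smul]
  rw [mul_assoc _ (rootL R (e F k) _) (rootL R (e F o) _), (rootL_comm R (e F k) (e F o) (c ^ 2 * t) t).eq]
  group

/-- Scalars move into the parameter. -/
theorem pol_smul {v w : ι → F} (hv : v ≠ 0) (hw : ∀ c : F, w ≠ c • v) (c t : F) :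
    pol R v (c • w) t = pol R v w (c * t) := by
  rcases exists_two o hv w with ⟨d, hd⟩ | ⟨A, k, hk, hAo, hAk⟩
  · exact absurd hd (hw d)
  refine Subtype.ext ?_
  rw [show v = _ from hAo.symm, show w = _ from hAk.symm, ← Matrix.mulVec_smul, ← pol_conj, ← pol_conj,
    pol_o_k R hk]
  congr 2
  conv_rhs => rw [← one_smul F (Pi.single k 1 : ι → F), pol_o_k R hk, one_mul]

/-- The Weyl element of the long root turns polars at `o` into transvections. -/
theorem pol_o_single {k : ι} (h : k ≠ o) (t : F) :
    (pol R (e F o) (e F k) t : G) =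
      ψ (wElt F) * lam o R (trG o (Pi.single k (-t))) * (ψ (wElt F))⁻¹ := by
  have h1 := pol_o_k R h 1 t
  rw [one_smul, one_mul] at h1
  rw [h1, trG_single h, lam_sl]
  rfl

/-- Additivity at three basis vectors. -/
theorem pol_three {j k : ι} (hj : j ≠ o) (hk : k ≠ o) (hjk : j ≠ k) (s u : F) :
    pol R (e F o) (s • e F j + e F k) u = pol R (e F o) (e F j) (s * u) * pol R (e F o) (e F k) u := by
  set X := trG k (Pi.single j s : ι → F) with hX
  have hXB : Blk o X := by
    refine ⟨?_, ?_⟩ <;> rw [hX, trG_val (by simp [hjk.symm]), trM] <;> funext i <;>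
      simp [Matrix.add_mulVec, Matrix.vecMul_add, Matrix.vecMulVec_mulVec, Matrix.vecMul_vecMulVec, hj, hk, hj.symm, hk.symm, Matrix.one_apply, Matrix.vecMulVec_apply, Pi.single_apply, eq_comm]
  have hXo : (X : Matrix ι ι F) *ᵥ e F o = e F o := hXB.1
  have hXk : (X : Matrix ι ι F) *ᵥ e F k = s • e F j + e F k := by
    rw [hX, trG_val (by simp [hjk.symm]), trM, Matrix.add_mulVec, Matrix.one_mulVec, Matrix.vecMulVec_mulVec]
    funext i
    rcases eq_or_ne i j with rfl | hi <;> simp [e, *, add_comm]
  refine Subtype.ext ?_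
  rw [Subgroup.coe_mul, pol_o_single R hj, pol_o_single R hk]
  conv_lhs => rw [← hXo, ← hXk, ← pol_conj, pol_o_single R hk]
  have hc := (comm_blk R hXB (wElt F)).eq
  have hm : X * trG o (Pi.single k (-u)) = trG o (Pi.single j (-(s * u))) * trG o (Pi.single k (-u)) * X := by
    rw [← trG_add (by simp [hj]) (by simp [hk]), hX]
    refine Units.ext ?_
    rw [Units.val_mul, Units.val_mul, trG_val (by simp [hjk.symm]), trG_val (by simp [hk]),
      trG_val (by simp [hj, hk])]
    simp only [trM, add_mul, mul_add, one_mul, mul_one, Matrix.vecMulVec_mul_vecMulVec, Matrix.add_vecMulVec]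
    simp [hjk, hj, hk, hj.symm, hk.symm, add_assoc, add_left_comm, add_comm]
    ext a b
    simp [Matrix.vecMulVec_apply, Pi.single_apply]
    split_ifs <;> ring
  calc lam o R X * (ψ (wElt F) * lam o R (trG o (Pi.single k (-u))) * (ψ (wElt F))⁻¹) * (lam o R X)⁻¹
      = (lam o R X * ψ (wElt F)) * lam o R (trG o (Pi.single k (-u))) * (lam o R X * ψ (wElt F))⁻¹ := by group
    _ = ψ (wElt F) * (lam o R (X * trG o (Pi.single k (-u))) * (lam o R X)⁻¹) * (ψ (wElt F))⁻¹ := by
      rw [hc, map_mul]; group
    _ = _ := by rw [hm, map_mul, map_mul]; group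

/-- Additivity on the part away from a coordinate. -/
theorem pol_add_single {v : ι → F} {i k : ι} (hik : i ≠ k) (hvi : v i = 0) (hvk : v k = 0) (c t : F) :
    pol R (v + c • e F i) (e F k) t = pol R v (e F k) t * pol R (e F i) (e F k) (c * t) := by
  have hki : ∀ d : F, e F k ≠ d • e F i := fun d hd => one_ne_zero (α := F) (by
    simpa [hik.symm] using congrFun hd k)
  have hik' : ∀ d : F, e F i ≠ d • e F k := fun d hd => one_ne_zero (α := F) (by
    simpa [hik] using congrFun hd i)
  have hne : ∀ j : ι, e F j ≠ (0 : ι → F) := fun j hd => one_ne_zero (α := F) (by simpa using congrFun hd j)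
  rcases eq_or_ne v 0 with rfl | hv
  · rw [zero_add, pol_zero_left, one_mul, pol_comm R (c • e F i), pol_smul R (hne k) hik' c t, pol_comm R (e F k)]
  set τ := permG (F := F) (Equiv.swap o k) with hτ
  have hτo : (τ : Matrix ι ι F) *ᵥ e F o = e F k := permG_swap_mulVec o k
  have hτ2 : ∀ w : ι → F, (τ : Matrix ι ι F) *ᵥ ((τ : Matrix ι ι F) *ᵥ w) = w := fun w => by
    rw [hτ, permG_mulVec, permG_mulVec]; funext x; simp
  set v' := (τ : Matrix ι ι F) *ᵥ v with hv'
  set i' := Equiv.swap o k i with hi'
  have hτi : (τ : Matrix ι ι F) *ᵥ e F i = e F i' := by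
    funext x
    rw [hτ, permG_mulVec, Function.comp_apply, e, e, Pi.single_apply, Pi.single_apply]
    refine if_congr ?_ rfl rfl
    rw [← Equiv.eq_symm_apply, Equiv.symm_swap]
  have hi'o : i' ≠ o := fun h => hik (by
    have := congrArg (Equiv.swap o k) h
    rwa [hi', Equiv.swap_apply_self, Equiv.swap_apply_left] at this)
  have hv'o : v' o = 0 := by simp [hv', hτ, permG_mulVec, hvk]
  have hv'i : v' i' = 0 := by simp [hv', hτ, permG_mulVec, hi', hvi]
  obtain ⟨j, hj⟩ : ∃ j, v' j ≠ 0 := Function.ne_iff.1 (fun h => hv ((mulVec_eq_zero_iff τ v).1 h))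
  have hjo : j ≠ o := fun h => hj (h ▸ hv'o)
  have hji : j ≠ i' := fun h => hj (h ▸ hv'i)
  set B := colG j v' with hB
  have hBo : (B : Matrix ι ι F) *ᵥ e F o = e F o := colG_mulVec_ne hj hjo.symm
  have hBj : (B : Matrix ι ι F) *ᵥ e F j = v' := colG_mulVec_self hj
  have hBi : (B : Matrix ι ι F) *ᵥ e F i' = e F i' := colG_mulVec_ne hj hji.symm
  have h3 := pol_three R (j := i') (k := j) hi'o hjo hji.symm c t
  have h4 := congrArg (fun x : siegel R => lam o R (τ * B) * (x : G) * (lam o R (τ * B))⁻¹) h3
  simp only [Subgroup.coe_mul] at h4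
  rw [pol_conj] at h4
  rw [show lam o R (τ * B) * ((pol R (e F o) (e F i') (c * t) : G) * (pol R (e F o) (e F j) t : G)) * (lam o R (τ * B))⁻¹ =
    (lam o R (τ * B) * (pol R (e F o) (e F i') (c * t) : G) * (lam o R (τ * B))⁻¹) *
      (lam o R (τ * B) * (pol R (e F o) (e F j) t : G) * (lam o R (τ * B))⁻¹) by group, pol_conj, pol_conj] at h4
  have hτi' : (τ : Matrix ι ι F) *ᵥ e F i' = e F i := by rw [← hτi, hτ2]
  simp only [Units.val_mul, ← Matrix.mulVec_mulVec, Matrix.mulVec_add, Matrix.mulVec_smul, hBo, hBj, hBi, hτo,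
    hτi', hv', hτ2] at h4
  refine Subtype.ext ?_
  rw [Subgroup.coe_mul, pol_comm R (v + c • e F i), pol_comm R v, pol_comm R (e F i), add_comm v, h4]
  exact (siegel_comm R (Subtype.mem _) (Subtype.mem _)).eq

theorem pol_sum {v : ι → F} {k : ι} (hvk : v k = 0) (t : F) :
    pol R v (e F k) t = ∏ i, pol R (e F i) (e F k) (v i * t) := by
  have key : ∀ s : Finset ι, pol R (∑ i ∈ s, Pi.single i (v i)) (e F k) t =
      ∏ i ∈ s, pol R (e F i) (e F k) (v i * t) := by
    intro s
    induction s using Finset.induction_on with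
    | empty => rw [Finset.sum_empty, Finset.prod_empty, pol_zero_left]
    | insert i s his ih =>
      rw [Finset.sum_insert his, Finset.prod_insert his]
      rcases eq_or_ne i k with rfl | hik
      · rw [hvk, Pi.single_zero, zero_add, zero_mul, pol_zero, one_mul, ih]
      rw [show Pi.single i (v i) = v i • e F i by rw [e, ← Pi.single_smul, smul_eq_mul, mul_one], add_comm,
        pol_add_single R hik ?_ ?_, ih, mul_comm]
      · rw [Finset.sum_apply]
        exact Finset.sum_eq_zero fun j hj => Pi.single_eq_of_ne (fun h => his (by rw [h]; exact hj)) _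
      · rw [Finset.sum_apply]
        refine Finset.sum_eq_zero fun j _ => ?_
        rcases eq_or_ne j k with rfl | hj
        · simp [hvk]
        · simp [hj.symm]
  have := key Finset.univ
  rwa [Finset.univ_sum_single] at this

/-- One entry of a symmetric matrix. -/
noncomputable def term (p : ι × ι) (t : F) : siegel R :=
  if p.1 = p.2 then lU R (e F p.1) t
  else if Fintype.equivFin ι p.1 < Fintype.equivFin ι p.2 then pol R (e F p.1) (e F p.2) t else 1

theorem term_add (p : ι × ι) (s t : F) : term R p (s + t) = term R p s * term R p t := by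
  simp only [term]
  split_ifs
  · exact lU_add R _ s t
  · exact pol_add R _ _ s t
  · rw [one_mul]

theorem term_zero (p : ι × ι) : term R p 0 = 1 := by
  simp only [term]
  split_ifs
  · exact lU_zero R _
  · exact pol_zero R _ _
  · rfl

/-- The Siegel radical, coordinatised by symmetric matrices. -/
noncomputable def sU (S : Matrix ι ι F) : siegel R := ∏ p : ι × ι, term R p (S p.1 p.2)

theorem sU_add (S T : Matrix ι ι F) : sU R (S + T) = sU R S * sU R T := by
  simp only [sU, Matrix.add_apply, term_add, Finset.prod_mul_distrib]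

theorem sU_zero : sU R (0 : Matrix ι ι F) = 1 := by simp [sU, term_zero]

theorem sU_single (i j : ι) (t : F) : sU R (Matrix.single i j t) = term R (i, j) t := by
  rw [sU, Finset.prod_eq_single (i, j)]
  · simp
  · rintro ⟨a, b⟩ _ hab
    rw [Matrix.single_apply, if_neg]
    · exact term_zero R _
    · rintro ⟨rfl, rfl⟩; exact hab rfl
  · exact fun h => absurd (Finset.mem_univ _) h

theorem sU_sym {i j : ι} (hij : i ≠ j) (t : F) :
    sU R (Matrix.single i j t + Matrix.single j i t) = pol R (e F i) (e F j) t := by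
  rw [sU_add, sU_single, sU_single, term, term, if_neg hij, if_neg hij.symm]
  rcases lt_or_gt_of_ne (fun h => hij ((Fintype.equivFin ι).injective h)) with h | h
  · rw [if_pos h, if_neg (not_lt.2 h.le), mul_one]
  · rw [if_neg (not_lt.2 h.le), if_pos h, one_mul, pol_comm]

theorem sU_diag (i : ι) (t : F) : sU R (Matrix.single i i t) = lU R (e F i) t := by
  rw [sU_single, term, if_pos rfl]

theorem sU_sum {α : Type*} (s : Finset α) (f : α → Matrix ι ι F) :
    sU R (∑ a ∈ s, f a) = ∏ a ∈ s, sU R (f a) := by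
  classical
  induction s using Finset.induction_on with
  | empty => rw [Finset.sum_empty, Finset.prod_empty, sU_zero]
  | insert a s ha ih => rw [Finset.sum_insert ha, Finset.prod_insert ha, sU_add, ih]

theorem sU_col {v : ι → F} {k : ι} (hvk : v k = 0) (t : F) :
    sU R (Matrix.vecMulVec v (Pi.single k t) + Matrix.vecMulVec (Pi.single k t) v) = pol R v (e F k) t := by
  rw [pol_sum R hvk, show Matrix.vecMulVec v (Pi.single k t) + Matrix.vecMulVec (Pi.single k t) v =
    ∑ i, (Matrix.single i k (v i * t) + Matrix.single k i (v i * t)) by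
    ext a b
    simp only [Matrix.sum_apply, Matrix.add_apply, Matrix.vecMulVec_apply, Matrix.single_apply, Pi.single_apply,
      Finset.sum_add_distrib]
    congr 1
    · rw [Finset.sum_eq_single a (fun i _ hi => by simp [hi]) (fun h => absurd (Finset.mem_univ _) h)]
      simp [eq_comm]
    · rw [Finset.sum_eq_single b (fun i _ hi => by simp [hi]) (fun h => absurd (Finset.mem_univ _) h)]
      simp [eq_comm, mul_comm],
    sU_sum]
  refine Finset.prod_congr rfl fun i _ => ?_
  rcases eq_or_ne i k with rfl | hik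
  · rw [hvk, zero_mul, Matrix.single_zero, add_zero, sU_zero, pol_zero]
  · exact sU_sym R hik _

theorem sU_sq (v : ι → F) (t : F) : sU R (t • Matrix.vecMulVec v v) = lU R v t := by
  have key : ∀ s : Finset ι, sU R (t • Matrix.vecMulVec (∑ i ∈ s, Pi.single i (v i)) (∑ i ∈ s, Pi.single i (v i))) =
      lU R (∑ i ∈ s, Pi.single i (v i)) t := by
    intro s
    induction s using Finset.induction_on with
    | empty => rw [Finset.sum_empty, lU_zero_vec]; simp [sU_zero]
    | insert k s hks ih =>
      rw [Finset.sum_insert hks]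
      set w := ∑ i ∈ s, Pi.single i (v i) with hw
      have hwk : w k = 0 := by
        rw [hw, Finset.sum_apply]
        exact Finset.sum_eq_zero fun j hj => Pi.single_eq_of_ne (fun h => hks (by rw [h]; exact hj)) _
      set c := v k with hc
      rw [show t • Matrix.vecMulVec (Pi.single k c + w) (Pi.single k c + w) =
        Matrix.single k k (c ^ 2 * t) + ((Matrix.vecMulVec w (Pi.single k (c * t)) +
          Matrix.vecMulVec (Pi.single k (c * t)) w) + t • Matrix.vecMulVec w w) by
        ext a b
        simp only [Matrix.vecMulVec_apply, Matrix.single_apply, Pi.single_apply, Matrix.smul_apply, Matrix.add_apply,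
          Pi.add_apply, smul_eq_mul, eq_comm (a := k)]
        split_ifs <;> first | ring1 | simp_all,
        sU_add, sU_add, sU_diag, sU_col R hwk, ih]
      have hsingle : Pi.single k c = c • e F k := by rw [e, ← Pi.single_smul, smul_eq_mul, mul_one]
      rw [hsingle]
      rcases eq_or_ne w 0 with h0 | h0
      · rw [h0, pol_zero_left, lU_zero_vec, add_zero, lU_smul, one_mul, mul_one]
      · rw [← pol_smul R h0 (fun d hd => one_ne_zero (α := F) (by simpa [hwk] using congrFun hd k)) c t, pol,
          add_comm (c • e F k) w, lU_smul, mul_comm (lU R w t) (lU R (e F k) _)]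
        rw [← mul_assoc, mul_comm (lU R (e F k) _), mul_assoc, div_mul_cancel]
  have := key Finset.univ
  rwa [Finset.univ_sum_single] at this

/-- The coordinates as elements of `G`. -/
noncomputable def sG (S : Matrix ι ι F) : G := sU R S

theorem sG_add (S T : Matrix ι ι F) : sG R (S + T) = sG R S * sG R T := by
  rw [sG, sU_add]; rfl

theorem sG_zero : sG R (0 : Matrix ι ι F) = 1 := by rw [sG, sU_zero]; rfl

theorem sG_neg (S : Matrix ι ι F) : sG R (-S) = (sG R S)⁻¹ :=
  eq_inv_of_mul_eq_one_left (by rw [← sG_add, neg_add_cancel, sG_zero])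

theorem sG_sq (v : ι → F) (t : F) : sG R (t • Matrix.vecMulVec v v) = rootL R v t := by rw [sG, sU_sq]; rfl

/-- Symmetric matrices are sums of scaled squares. -/
theorem sym_induction {P : Matrix ι ι F → Prop} (h0 : P 0) (hadd : ∀ A B, P A → P B → P (A + B))
    (hsq : ∀ (v : ι → F) (t : F), P (t • Matrix.vecMulVec v v)) {S : Matrix ι ι F} (hS : Sᵀ = S) : P S := by
  classical
  let T : ι × ι → Matrix ι ι F := fun p =>
    if p.1 = p.2 then S p.1 p.1 • Matrix.vecMulVec (e F p.1) (e F p.1)
    else if Fintype.equivFin ι p.1 < Fintype.equivFin ι p.2 then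
      S p.1 p.2 • Matrix.vecMulVec (e F p.1 + e F p.2) (e F p.1 + e F p.2) +
        ((-S p.1 p.2) • Matrix.vecMulVec (e F p.1) (e F p.1) + (-S p.1 p.2) • Matrix.vecMulVec (e F p.2) (e F p.2))
    else 0
  have hT : ∀ p, P (T p) := fun p => by
    simp only [T]
    split_ifs
    · exact hsq _ _
    · exact hadd _ _ (hsq _ _) (hadd _ _ (hsq _ _) (hsq _ _))
    · exact h0
  have hsum : ∀ s : Finset (ι × ι), P (∑ p ∈ s, T p) := fun s => by
    induction s using Finset.induction_on with
    | empty => rw [Finset.sum_empty]; exact h0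
    | insert p s hp ih => rw [Finset.sum_insert hp]; exact hadd _ _ (hT p) ih
  have hTeq : ∀ p, T p = if p.1 = p.2 then Matrix.single p.1 p.1 (S p.1 p.1)
      else if Fintype.equivFin ι p.1 < Fintype.equivFin ι p.2 then
        Matrix.single p.1 p.2 (S p.1 p.2) + Matrix.single p.2 p.1 (S p.1 p.2)
      else 0 := fun p => by
    simp only [T]
    split_ifs
    · ext a b
      simp only [Matrix.vecMulVec_apply, Matrix.single_apply, Pi.single_apply, Matrix.smul_apply, smul_eq_mul,
        eq_comm (a := p.1)]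
      by_cases h1 : a = p.1 <;> by_cases h2 : b = p.1 <;> simp [h1, h2]
    · rename_i hne _
      ext a b
      simp only [Matrix.vecMulVec_apply, Matrix.single_apply, Pi.single_apply, Matrix.smul_apply, smul_eq_mul,
        Matrix.add_apply, Pi.add_apply, eq_comm (a := p.1), eq_comm (a := p.2)]
      by_cases h1 : a = p.1 <;> by_cases h2 : b = p.1 <;> by_cases h3 : a = p.2 <;> by_cases h4 : b = p.2 <;>
        first
          | exact absurd (h1.symm.trans h3) hne
          | exact absurd (h2.symm.trans h4) hne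
          | (simp only [h1, h2, h3, h4, hne, Ne.symm hne, if_true, if_false, and_self, and_true, true_and, false_and, and_false]
             <;> ring1)
    · rfl
  have e1 : S = ∑ p, T p := by
    ext a b
    rw [Matrix.sum_apply]
    simp only [hTeq]
    rcases eq_or_ne a b with rfl | hab
    · rw [Finset.sum_eq_single (a, a)]
      · simp
      · rintro ⟨i, j⟩ _ hne
        split_ifs with h h'
        · simp only at h; subst h
          rw [Matrix.single_apply, if_neg]; rintro ⟨rfl, -⟩; exact hne rfl
        · simp only at h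
          rw [Matrix.add_apply, Matrix.single_apply, Matrix.single_apply, if_neg, if_neg, add_zero] <;>
            rintro ⟨rfl, e⟩
          · exact h e
          · exact h e.symm
        · rfl
      · exact fun h => absurd (Finset.mem_univ _) h
    · have hsym : S b a = S a b := congrFun (congrFun hS a) b
      rcases lt_or_gt_of_ne (fun h => hab ((Fintype.equivFin ι).injective h)) with h | h
      · rw [Finset.sum_eq_single (a, b)]
        · simp [hab, h]
        · rintro ⟨i, j⟩ _ hne
          split_ifs with h1 h'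
          · simp only at h1; subst h1
            rw [Matrix.single_apply, if_neg]; rintro ⟨rfl, rfl⟩; exact hab rfl
          · simp only at h'
            rw [Matrix.add_apply, Matrix.single_apply, Matrix.single_apply, if_neg, if_neg, add_zero] <;>
              rintro ⟨rfl, rfl⟩
            · exact lt_asymm h h'
            · exact hne rfl
          · rfl
        · exact fun hh => absurd (Finset.mem_univ _) hh
      · rw [Finset.sum_eq_single (b, a)]
        · simp [hab, hab.symm, h, hsym]
        · rintro ⟨i, j⟩ _ hne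
          split_ifs with h1 h'
          · simp only at h1; subst h1
            rw [Matrix.single_apply, if_neg]; rintro ⟨rfl, rfl⟩; exact hab rfl
          · simp only at h'
            rw [Matrix.add_apply, Matrix.single_apply, Matrix.single_apply, if_neg, if_neg, add_zero] <;>
              rintro ⟨rfl, rfl⟩
            · exact hne rfl
            · exact lt_asymm h h'
          · rfl
        · exact fun hh => absurd (Finset.mem_univ _) hh
  rw [e1]
  exact hsum _

/-- The Levi part acts on the Siegel radical by congruence. -/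
theorem sG_conj (A : GL ι F) {S : Matrix ι ι F} (hS : Sᵀ = S) :
    lam o R A * sG R S * (lam o R A)⁻¹ = sG R ((A : Matrix ι ι F) * S * (A : Matrix ι ι F)ᵀ) := by
  refine sym_induction (P := fun S => lam o R A * sG R S * (lam o R A)⁻¹ =
    sG R ((A : Matrix ι ι F) * S * (A : Matrix ι ι F)ᵀ)) ?_ (fun X Y hX hY => ?_) (fun v t => ?_) hS
  · simp [sG_zero]
  · rw [mul_add, add_mul, sG_add, sG_add, ← hX, ← hY]; group
  · rw [Matrix.mul_smul, Matrix.smul_mul, Matrix.mul_vecMulVec, Matrix.vecMulVec_mul, Matrix.vecMul_transpose,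
      sG_sq, sG_sq, rootL_conj]

theorem sG_o (t : F) : sG R (Matrix.single o o t) = SpFour.X ψ t := by
  rw [sG, sU_diag]; exact rootL_o R t

end CfsgLib.Pres.SpN
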